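import Mathlib

/-!
Elementary facts on pairs of involutions and the dihedral group that they generate.
-/

namespace Cfsg.Agent.Involutions.Basic

open Subgroup

variable {G : Type*} [Group G]

theorem inv_sq_one {t : G} (ht : orderOf t = 2) : t * t = 1 := by
  have := pow_orderOf_eq_one t
  rwa [ht, pow_two] at this

theorem inv_eq {t : G} (ht : orderOf t = 2) : t⁻¹ = t :=
  inv_eq_of_mul_eq_one_left (inv_sq_one ht)

theorem ne_one {t : G} (ht : orderOf t = 2) : t ≠ 1 := by
  rintro rfl; simp at ht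

theorem orderOf_two_iff {t : G} : orderOf t = 2 ↔ t * t = 1 ∧ t ≠ 1 := by
  have : Fact (Nat.Prime 2) := ⟨Nat.prime_two⟩
  rw [orderOf_eq_prime_iff, pow_two]

theorem orderOf_conj (g t : G) : orderOf (g * t * g⁻¹) = orderOf t :=
  orderOf_injective (MulAut.conj g).toMonoidHom (MulAut.conj g).injective t

theorem conj_prod_left {x y : G} (hx : orderOf x = 2) (hy : orderOf y = 2) :
    x * (x * y) * x⁻¹ = (x * y)⁻¹ := by
  rw [mul_inv_rev, inv_eq hy, inv_eq hx, ← mul_assoc, inv_sq_one hx, one_mul]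

theorem conj_prod_right {x y : G} (hx : orderOf x = 2) (hy : orderOf y = 2) :
    y * (x * y) * y⁻¹ = (x * y)⁻¹ := by
  rw [mul_inv_rev, inv_eq hy, inv_eq hx, mul_assoc, mul_assoc x y y, inv_sq_one hy, mul_one]

theorem conj_zpow_left {x y : G} (hx : orderOf x = 2) (hy : orderOf y = 2) (k : ℤ) :
    x * (x * y) ^ k * x⁻¹ = (x * y) ^ (-k) := by
  rw [← conj_zpow, conj_prod_left hx hy, inv_zpow, ← zpow_neg]

theorem conj_zpow_right {x y : G} (hx : orderOf x = 2) (hy : orderOf y = 2) (k : ℤ) :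
    y * (x * y) ^ k * y⁻¹ = (x * y) ^ (-k) := by
  rw [← conj_zpow, conj_prod_right hx hy, inv_zpow, ← zpow_neg]

theorem zpow_mul_left {x y : G} (hx : orderOf x = 2) (hy : orderOf y = 2) (k : ℤ) :
    (x * y) ^ k * x = x * (x * y) ^ (-k) := by
  have h := conj_zpow_left hx hy k
  rw [← h, inv_eq hx, mul_assoc, ← mul_assoc x x, inv_sq_one hx, one_mul]

theorem zpow_conj_left {x y : G} (hx : orderOf x = 2) (hy : orderOf y = 2) (k : ℤ) :
    (x * y) ^ k * x * ((x * y) ^ k)⁻¹ = x * (x * y) ^ (-2 * k) := by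
  rw [zpow_mul_left hx hy, ← zpow_neg, mul_assoc, ← zpow_add]
  congr 2; ring

theorem sq_of_mul_zpow {x y : G} (hx : orderOf x = 2) (hy : orderOf y = 2) (k : ℤ) :
    (x * (x * y) ^ k) * (x * (x * y) ^ k) = 1 := by
  rw [mul_assoc x, ← mul_assoc ((x * y) ^ k), zpow_mul_left hx hy, ← mul_assoc, ← mul_assoc,
    inv_sq_one hx, one_mul, ← zpow_add, neg_add_cancel, zpow_zero]

theorem mul_zpow_one {x y : G} (hx : orderOf x = 2) : x * (x * y) ^ (1 : ℤ) = y := by
  rw [zpow_one, ← mul_assoc, inv_sq_one hx, one_mul]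

theorem mem_closure_pair {x y : G} (hx : orderOf x = 2) (hy : orderOf y = 2) {d : G} :
    d ∈ Subgroup.closure ({x, y} : Set G) ↔
      ∃ k : ℤ, d = (x * y) ^ k ∨ d = x * (x * y) ^ k := by
  constructor
  · intro hd
    induction hd using Subgroup.closure_induction with
    | mem z hz =>
      rcases hz with h | h
      · exact ⟨0, Or.inr (by rw [zpow_zero, mul_one]; exact h)⟩
      · exact ⟨1, Or.inr (by rw [mul_zpow_one hx]; exact h)⟩
    | one => exact ⟨0, Or.inl (zpow_zero _).symm⟩
    | mul a b _ _ ha hb =>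
      obtain ⟨k, ha | ha⟩ := ha <;> obtain ⟨l, hb | hb⟩ := hb <;> subst ha <;> subst hb
      · exact ⟨k + l, Or.inl (zpow_add _ _ _).symm⟩
      · exact ⟨-k + l, Or.inr (by rw [← mul_assoc, zpow_mul_left hx hy, mul_assoc, ← zpow_add])⟩
      · exact ⟨k + l, Or.inr (by rw [mul_assoc, ← zpow_add])⟩
      · refine ⟨-k + l, Or.inl ?_⟩
        rw [mul_assoc x, ← mul_assoc ((x * y) ^ k), zpow_mul_left hx hy, ← mul_assoc,
          ← mul_assoc, inv_sq_one hx, one_mul, ← zpow_add]
    | inv a _ ha =>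
      obtain ⟨k, ha | ha⟩ := ha <;> subst ha
      · exact ⟨-k, Or.inl (zpow_neg _ _).symm⟩
      · exact ⟨k, Or.inr (inv_eq_of_mul_eq_one_left (sq_of_mul_zpow hx hy k))⟩
  · have hxm : x ∈ Subgroup.closure ({x, y} : Set G) := subset_closure (Set.mem_insert _ _)
    have hym : y ∈ Subgroup.closure ({x, y} : Set G) :=
      subset_closure (Set.mem_insert_of_mem _ rfl)
    rintro ⟨k, rfl | rfl⟩
    · exact zpow_mem (mul_mem hxm hym) k
    · exact mul_mem hxm (zpow_mem (mul_mem hxm hym) k)

/-- An involution is never a power of a product `x * y` inverted by it, unless that power has order two. -/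
theorem notMem_zpowers_left {x y : G} (hx : orderOf x = 2) (hy : orderOf y = 2) (hxy : x ≠ y) :
    x ∉ Subgroup.zpowers (x * y) := by
  rintro ⟨k, hk⟩
  simp only at hk
  -- `x` commutes with `x * y`, so `(x * y) ^ 2 = 1`
  have hc : x * (x * y) * x⁻¹ = x * y := by
    have : Commute x (x * y) := by
      have h2 : Commute ((x * y) ^ k) (x * y) := (Commute.refl _).zpow_left k
      rwa [hk] at h2
    rw [this.eq, mul_assoc, mul_inv_cancel, mul_one]
  have h2 : (x * y) ^ (2 : ℤ) = 1 := by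
    rw [zpow_two]
    nth_rw 1 [← hc]
    rw [conj_prod_left hx hy, inv_mul_cancel]
  rcases Int.even_or_odd' k with ⟨m, rfl | rfl⟩
  · rw [zpow_mul, h2, one_zpow] at hk
    exact ne_one hx hk.symm
  · rw [zpow_add, zpow_mul, h2, one_zpow, one_mul, zpow_one] at hk
    exact ne_one hy (mul_eq_left.mp hk)

theorem orderOf_mul_zpow {x y : G} (hx : orderOf x = 2) (hy : orderOf y = 2) (hxy : x ≠ y) (k : ℤ) :
    orderOf (x * (x * y) ^ k) = 2 := by
  rw [orderOf_two_iff]
  refine ⟨sq_of_mul_zpow hx hy k, fun h => notMem_zpowers_left hx hy hxy ?_⟩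
  have h' : x = (x * y) ^ (-k) := by rw [zpow_neg]; exact eq_inv_of_mul_eq_one_left h
  exact Subgroup.mem_zpowers_iff.mpr ⟨-k, h'.symm⟩

/-- Two involutions whose product has odd order are conjugate in the subgroup they generate. -/
theorem exists_conj_of_odd {x y : G} (hx : orderOf x = 2) (hy : orderOf y = 2)
    (hodd : Odd (orderOf (x * y))) :
    ∃ d ∈ Subgroup.zpowers (x * y), d * x * d⁻¹ = y := by
  obtain ⟨m, hm⟩ := hodd
  refine ⟨(x * y) ^ (m : ℤ), zpow_mem (mem_zpowers _) _, ?_⟩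
  rw [zpow_conj_left hx hy]
  have h1 : (x * y) ^ (2 * (m : ℤ) + 1) = 1 := by
    have := pow_orderOf_eq_one (x * y)
    rw [hm, ← zpow_natCast] at this
    simpa using this
  have h2 : (x * y) ^ (-2 * (m : ℤ)) = x * y := by
    have e : (-2 * (m : ℤ)) = 1 - (2 * m + 1) := by ring
    rw [e, zpow_sub, h1, inv_one, mul_one, zpow_one]
  rw [h2, ← mul_assoc, inv_sq_one hx, one_mul]

/-- Two involutions that are not conjugate have product of even order. -/
theorem even_orderOf_mul_of_not_isConj {x y : G} (hx : orderOf x = 2) (hy : orderOf y = 2)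
    (h : ¬ IsConj x y) : Even (orderOf (x * y)) := by
  by_contra hc
  obtain ⟨d, -, hd⟩ := exists_conj_of_odd hx hy (Nat.not_even_iff_odd.mp hc)
  exact h (isConj_iff.mpr ⟨d, hd⟩)

/-- If the product of two involutions has even order `n`, then its `n / 2`-th power is an involution
commuting with both. -/
theorem middle_involution [Finite G] {x y : G} (hx : orderOf x = 2) (hy : orderOf y = 2)
    (heven : Even (orderOf (x * y))) :
    orderOf ((x * y) ^ (orderOf (x * y) / 2)) = 2 ∧
      Commute ((x * y) ^ (orderOf (x * y) / 2)) x ∧ Commute ((x * y) ^ (orderOf (x * y) / 2)) y := by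
  obtain ⟨m, hm⟩ := heven
  have hpos := orderOf_pos (x * y)
  have hm2 : orderOf (x * y) / 2 = m := by omega
  have hinv : ((x * y) ^ m)⁻¹ = (x * y) ^ m := by
    apply inv_eq_of_mul_eq_one_right
    rw [← pow_add, ← hm, pow_orderOf_eq_one]
  rw [hm2]
  refine ⟨?_, ?_, ?_⟩
  · rw [orderOf_two_iff]
    refine ⟨by rw [← pow_add, ← hm, pow_orderOf_eq_one], fun h => ?_⟩
    have := Nat.le_of_dvd (by omega) (orderOf_dvd_of_pow_eq_one h)
    omega
  · have := conj_zpow_left hx hy (m : ℤ)
    rw [zpow_neg, zpow_natCast, hinv] at this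
    exact (mul_inv_eq_iff_eq_mul.mp this).symm
  · have := conj_zpow_right hx hy (m : ℤ)
    rw [zpow_neg, zpow_natCast, hinv] at this
    exact (mul_inv_eq_iff_eq_mul.mp this).symm

/-- Involutions `x`, `y` with product of even order are not conjugate in the subgroup they generate. -/
theorem not_conj_of_even {x y : G} (hx : orderOf x = 2) (hy : orderOf y = 2)
    (heven : Even (orderOf (x * y))) {d : G} (hd : d ∈ Subgroup.closure ({x, y} : Set G)) :
    d * x * d⁻¹ ≠ y := by
  intro h
  have key : ∃ l : ℤ, x * (x * y) ^ (2 * l) = x * (x * y) ^ (1 : ℤ) := by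
    rw [mul_zpow_one hx]
    obtain ⟨k, rfl | rfl⟩ := (mem_closure_pair hx hy).mp hd
    · refine ⟨-k, ?_⟩
      conv_rhs => rw [← h]
      rw [zpow_conj_left hx hy]
      congr 2
      ring
    · refine ⟨k, ?_⟩
      conv_rhs => rw [← h]
      rw [mul_inv_rev, inv_eq hx]
      have e : x * (x * y) ^ k * x * (((x * y) ^ k)⁻¹ * x) =
          x * ((x * y) ^ k * x * ((x * y) ^ k)⁻¹) * x := by group
      rw [e, zpow_conj_left hx hy, ← mul_assoc x x, inv_sq_one hx, one_mul, zpow_mul_left hx hy]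
      congr 2; ring
  obtain ⟨l, hl⟩ := key
  have h1 : (x * y) ^ (2 * l - 1) = 1 := by
    rw [zpow_sub, mul_left_cancel hl, mul_inv_cancel]
  have h2 := orderOf_dvd_iff_zpow_eq_one.mpr h1
  obtain ⟨m, hm⟩ := heven
  obtain ⟨c, hc⟩ := h2
  rw [hm] at hc
  push_cast at hc
  have : (2 : ℤ) ∣ 1 := ⟨l - m * c, by linarith⟩
  omega

/-- The homomorphism from the dihedral group to the group generated by two involutions. -/
noncomputable def dihedralHom (x y : G) (hx : orderOf x = 2) (hy : orderOf y = 2) :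
    DihedralGroup (orderOf (x * y)) →* G where
  toFun
    | .r i => (x * y) ^ (i.cast : ℤ)
    | .sr i => x * (x * y) ^ (i.cast : ℤ)
  map_one' := by
    rw [DihedralGroup.one_def]
    show (x * y) ^ ((0 : ZMod (orderOf (x * y))).cast : ℤ) = 1
    simp
  map_mul' := by
    have hc : ∀ a b : ℤ, ((a : ZMod (orderOf (x * y))) = b) → (x * y) ^ a = (x * y) ^ b := by
      intro a b h
      have h2 := (ZMod.intCast_eq_intCast_iff_dvd_sub a b _).mp h
      have h3 := orderOf_dvd_iff_zpow_eq_one.mp h2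
      rw [zpow_sub, mul_inv_eq_one] at h3
      exact h3.symm
    rintro (i | i) (j | j)
    · simp only [DihedralGroup.r_mul_r]
      rw [← zpow_add]
      exact hc _ _ (by simp)
    · simp only [DihedralGroup.r_mul_sr]
      rw [← mul_assoc, zpow_mul_left hx hy, mul_assoc, ← zpow_add]
      congr 1
      exact hc _ _ (by push_cast; simp [sub_eq_neg_add])
    · simp only [DihedralGroup.sr_mul_r]
      rw [mul_assoc, ← zpow_add]
      congr 1
      exact hc _ _ (by simp)
    · simp only [DihedralGroup.sr_mul_sr]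
      rw [mul_assoc x, ← mul_assoc ((x * y) ^ _), zpow_mul_left hx hy, ← mul_assoc,
        ← mul_assoc, inv_sq_one hx, one_mul, ← zpow_add]
      exact hc _ _ (by push_cast; simp [sub_eq_neg_add])

theorem dihedralHom_range (x y : G) (hx : orderOf x = 2) (hy : orderOf y = 2) :
    (dihedralHom x y hx hy).range = Subgroup.closure ({x, y} : Set G) := by
  ext d
  rw [mem_closure_pair hx hy]
  constructor
  · rintro ⟨i | i, rfl⟩
    · exact ⟨_, Or.inl rfl⟩
    · exact ⟨_, Or.inr rfl⟩
  · have hk : ∀ k : ℤ, (x * y) ^ ((k : ZMod (orderOf (x * y))).cast : ℤ) = (x * y) ^ k := by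
      intro k
      rw [zpow_eq_zpow_iff_modEq, ← ZMod.intCast_eq_intCast_iff]
      simp
    rintro ⟨k, rfl | rfl⟩
    · exact ⟨.r k, hk k⟩
    · exact ⟨.sr k, congrArg (x * ·) (hk k)⟩

theorem dihedralHom_injective (x y : G) (hx : orderOf x = 2) (hy : orderOf y = 2) (hxy : x ≠ y) :
    Function.Injective (dihedralHom x y hx hy) := by
  rw [injective_iff_map_eq_one]
  rintro (i | i) h
  · have h2 := orderOf_dvd_iff_zpow_eq_one.mpr (show (x * y) ^ (i.cast : ℤ) = 1 from h)
    rw [← ZMod.intCast_zmod_eq_zero_iff_dvd] at h2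
    rw [DihedralGroup.one_def]
    congr 1
    simpa using h2
  · exfalso
    have h2 : x * (x * y) ^ (i.cast : ℤ) = 1 := h
    have := orderOf_mul_zpow hx hy hxy (i.cast : ℤ)
    rw [h2, orderOf_one] at this
    omega

end Cfsg.Agent.Involutions.Basic
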