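import Mathlib
import Cfsg.Agent.Lib.Involutions.Basic

/-!
The Baer-Suzuki theorem (Alperin-Lyons proof) and its consequence for involutions.
-/

namespace Cfsg.Agent.Involutions.BaerSuzuki

open Subgroup

variable {G : Type*} [Group G]

theorem map_conj_map_conj (X : Subgroup G) (a b : G) :
    (X.map (MulAut.conj a).toMonoidHom).map (MulAut.conj b).toMonoidHom =
      X.map (MulAut.conj (b * a)).toMonoidHom := by
  rw [Subgroup.map_map]; congr 1; ext x; simp [mul_assoc]

/-- If `X` and each of its conjugates generate a `p`-group, then `X` lies in a normal `p`-subgroup. -/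
theorem baer_suzuki [Finite G] {p : ℕ} [Fact p.Prime] (X : Subgroup G) (hX : IsPGroup p X)
    (h : ∀ g : G, IsPGroup p ↥(X ⊔ X.map (MulAut.conj g).toMonoidHom)) :
    ∃ N : Subgroup G, N.Normal ∧ IsPGroup p N ∧ X ≤ N := by
  classical
  let C : Set (Subgroup G) := Set.range fun g => X.map (MulAut.conj g).toMonoidHom
  have hXC : X ∈ C := ⟨1, by ext; simp⟩
  have hCconj : ∀ Y ∈ C, ∀ g : G, Y.map (MulAut.conj g).toMonoidHom ∈ C := by
    rintro _ ⟨a, rfl⟩ g
    exact ⟨g * a, (map_conj_map_conj X a g).symm⟩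
  -- two members of `C` generate a `p`-group
  have hpair : ∀ Y ∈ C, ∀ Z ∈ C, IsPGroup p ↥(Y ⊔ Z) := by
    rintro _ ⟨a, rfl⟩ _ ⟨b, rfl⟩
    have := (h (a⁻¹ * b)).map (MulAut.conj a).toMonoidHom
    rwa [Subgroup.map_sup, map_conj_map_conj, mul_inv_cancel_left] at this
  let F : Subgroup G → Set (Subgroup G) := fun P => {Y ∈ C | Y ≤ P}
  have hFconj : ∀ (P : Subgroup G) (g : G), F (P.map (MulAut.conj g).toMonoidHom) =
      (fun Y => Y.map (MulAut.conj g).toMonoidHom) '' F P := by
    intro P g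
    ext Y
    constructor
    · rintro ⟨hY, hle⟩
      refine ⟨Y.map (MulAut.conj g⁻¹).toMonoidHom, ⟨hCconj Y hY _, ?_⟩, ?_⟩
      · refine (Subgroup.map_mono hle).trans (le_of_eq ?_)
        rw [map_conj_map_conj, inv_mul_cancel]; ext; simp
      · show (Y.map (MulAut.conj g⁻¹).toMonoidHom).map (MulAut.conj g).toMonoidHom = Y
        rw [map_conj_map_conj, mul_inv_cancel]; ext; simp
    · rintro ⟨Z, ⟨hZ, hle⟩, rfl⟩
      exact ⟨hCconj Z hZ g, Subgroup.map_mono hle⟩
  by_cases hall : ∀ P Q : Sylow p G, F P = F Q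
  · -- the common set generates a normal `p`-subgroup
    obtain ⟨P, hP⟩ := hX.exists_le_sylow
    refine ⟨sSup (F P), ⟨fun n hn g => ?_⟩, P.2.to_le (sSup_le fun Y hY => hY.2),
      le_sSup ⟨hXC, hP⟩⟩
    have h1 : (sSup (F P)).map (MulAut.conj g).toMonoidHom = sSup (F P) := by
      rw [(Subgroup.gc_map_comap _).l_sSup]
      have h2 : F P = (fun Y => Y.map (MulAut.conj g).toMonoidHom) '' F P := by
        rw [← hFconj]
        exact hall P (g • P)
      conv_rhs => rw [h2]
      rw [sSup_image]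
    rw [← h1]
    exact ⟨n, hn, rfl⟩
  · exfalso
    push Not at hall
    obtain ⟨P₀, Q₀, hne⟩ := hall
    let pairs := {PQ : Sylow p G × Sylow p G | F PQ.1 ≠ F PQ.2}
    obtain ⟨⟨P, Q⟩, hPQ, hmax⟩ := Set.exists_max_image pairs
      (fun PQ => (F PQ.1 ∩ F PQ.2).ncard) (Set.toFinite _) ⟨(P₀, Q₀), hne⟩
    have hcard : ∀ R S : Sylow p G, (F R).ncard = (F S).ncard := by
      intro R S
      obtain ⟨g, hg⟩ := MulAction.exists_smul_eq G R S
      rw [← hg]
      show (F R).ncard = (F ((R : Subgroup G).map (MulAut.conj g).toMonoidHom)).ncard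
      rw [hFconj, Set.ncard_image_of_injective _ (Subgroup.map_injective (MulAut.conj g).injective)]
    have hnsub : ∀ R S : Sylow p G, F R ≠ F S → ∃ Y ∈ F R, Y ∉ F S := by
      intro R S hRS
      by_contra hc; push Not at hc
      exact hRS (Set.eq_of_subset_of_ncard_le hc (le_of_eq (hcard S R)) (Set.toFinite _))
    -- the intersection is nonempty
    have hpos : 0 < (F P ∩ F Q).ncard := by
      obtain ⟨Y, hY, -⟩ := hnsub P Q hPQ
      obtain ⟨Z, hZ, -⟩ := hnsub Q P (Ne.symm hPQ)
      obtain ⟨R, hR⟩ := (hpair Y hY.1 Z hZ.1).exists_le_sylow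
      by_cases hRP : F R = F P
      · have h1 : F R ≠ F Q := fun e => hPQ (hRP.symm.trans e)
        have := hmax (R, Q) h1
        have h2 : Z ∈ F R ∩ F Q := ⟨⟨hZ.1, le_sup_right.trans hR⟩, hZ⟩
        exact lt_of_lt_of_le ((Set.ncard_pos (Set.toFinite _)).mpr ⟨Z, h2⟩) this
      · have := hmax (R, P) hRP
        have h2 : Y ∈ F R ∩ F P := ⟨⟨hY.1, le_sup_left.trans hR⟩, hY⟩
        exact lt_of_lt_of_le ((Set.ncard_pos (Set.toFinite _)).mpr ⟨Y, h2⟩) this
    set D := F P ∩ F Q with hD
    set M := sSup D with hM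
    have hMP : M ≤ P := sSup_le fun Y hY => hY.1.2
    have hMQ : M ≤ Q := sSup_le fun Y hY => hY.2.2
    -- each of `P`, `Q` has a member outside `D` normalizing `M`
    have key : ∀ R : Sylow p G, M ≤ R → D ⊆ F R → D ≠ F R → (∀ Y ∈ C, Y ≤ M → Y ∈ D) →
        ∃ Y ∈ F R, Y ∉ D ∧ Y ≤ Subgroup.normalizer (M : Set G) := by
      intro R hMR hDR hDne hMD
      by_contra hc
      push Not at hc
      set M1 := (R : Subgroup G) ⊓ Subgroup.normalizer (M : Set G) with hM1
      have hF1 : F M1 = D := by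
        apply Set.Subset.antisymm
        · intro Y hY
          by_contra hYD
          exact hc Y ⟨hY.1, hY.2.trans inf_le_left⟩ hYD (hY.2.trans inf_le_right)
        · intro Y hY
          exact ⟨hY.1.1, le_inf (hDR hY).2 ((le_sSup hY).trans Subgroup.le_normalizer)⟩
      have hM1R : M1 = R := by
        by_contra hlt
        have hlt' : M1 < R := lt_of_le_of_ne inf_le_left hlt
        have hnil : Group.IsNilpotent (R : Subgroup G) := R.2.isNilpotent
        obtain ⟨x, hxn, hx⟩ : ∃ x ∈ Subgroup.normalizer ((M1.subgroupOf R : Subgroup R) : Set R),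
            x ∉ M1.subgroupOf R :=
          SetLike.exists_of_lt (Group.normalizerCondition_of_isNilpotent (G := (R : Subgroup G))
            (M1.subgroupOf R) (lt_top_iff_ne_top.mpr fun e => hlt'.not_ge
              (Subgroup.subgroupOf_eq_top.mp e)))
        apply hx
        show (x : G) ∈ M1
        refine ⟨x.2, ?_⟩
        have hx1 : M1.map (MulAut.conj (x : G)).toMonoidHom = M1 := by
          apply Subgroup.eq_of_le_of_card_ge
          · rintro _ ⟨m, hm, rfl⟩
            exact (Subgroup.mem_normalizer_iff.mp hxn ⟨m, inf_le_left (a := (R : Subgroup G)) hm⟩).mp hm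
          · exact le_of_eq (Nat.card_congr
              (M1.equivMapOfInjective _ (MulAut.conj (x : G)).injective).toEquiv)
        refine Subgroup.mem_normalizer_iff_map_conj_eq.mpr ?_
        show M.map (MulAut.conj (x : G)).toMonoidHom = M
        rw [hM, (Subgroup.gc_map_comap _).l_sSup]
        have h2 : D = (fun Y => Y.map (MulAut.conj (x : G)).toMonoidHom) '' D := by
          rw [← hF1, ← hFconj, hx1]
        conv_rhs => rw [h2]
        rw [sSup_image]
      exact hDne (hF1.symm.trans (by rw [hM1R]))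
    have hMD : ∀ Y ∈ C, Y ≤ M → Y ∈ D := fun Y hY hle =>
      ⟨⟨hY, hle.trans hMP⟩, ⟨hY, hle.trans hMQ⟩⟩
    obtain ⟨Y, hY, hYD, hYn⟩ := key P hMP Set.inter_subset_left
      (fun e => hPQ (Set.eq_of_subset_of_ncard_le (e ▸ Set.inter_subset_right)
        (le_of_eq (hcard Q P)) (Set.toFinite _))) hMD
    obtain ⟨Z, hZ, hZD, hZn⟩ := key Q hMQ Set.inter_subset_right
      (fun e => hPQ (Set.eq_of_subset_of_ncard_le (e ▸ Set.inter_subset_left)
        (le_of_eq (hcard P Q)) (Set.toFinite _)).symm) hMD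
    obtain ⟨R, hR⟩ :=
      ((hpair Y hY.1 Z hZ.1).to_sup_of_normal_right' (P.2.to_le hMP) (sup_le hYn hZn)).exists_le_sylow
    have hDR : D ⊆ F R := fun W hW => ⟨hW.1.1, (le_sSup hW).trans (le_sup_right.trans hR)⟩
    have hYR : Y ∈ F R := ⟨hY.1, (le_sup_left.trans le_sup_left).trans hR⟩
    have hZR : Z ∈ F R := ⟨hZ.1, (le_sup_right.trans le_sup_left).trans hR⟩
    have hRP : F R = F P := by
      by_contra hne'
      have h1 := hmax (R, P) hne'
      have h2 : insert Y D ⊆ F R ∩ F P :=
        Set.insert_subset ⟨hYR, hY⟩ (fun W hW => ⟨hDR hW, hW.1⟩)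
      have h3 := Set.ncard_le_ncard h2 (Set.toFinite _)
      rw [Set.ncard_insert_of_notMem hYD (Set.toFinite _)] at h3
      exact absurd h1 (by simp only at *; omega)
    have hRQ : F R = F Q := by
      by_contra hne'
      have h1 := hmax (R, Q) hne'
      have h2 : insert Z D ⊆ F R ∩ F Q :=
        Set.insert_subset ⟨hZR, hZ⟩ (fun W hW => ⟨hDR hW, hW.2⟩)
      have h3 := Set.ncard_le_ncard h2 (Set.toFinite _)
      rw [Set.ncard_insert_of_notMem hZD (Set.toFinite _)] at h3
      exact absurd h1 (by simp only at *; omega)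
    exact hPQ (hRP.symm.trans hRQ)

/-- An involution outside every normal 2-subgroup inverts a non-identity element of odd order. -/
theorem exists_inverted_odd [Finite G] (t : G) (ht : orderOf t = 2)
    (hO : ∀ N : Subgroup G, N.Normal → IsPGroup 2 N → t ∉ N) :
    ∃ h : G, h ≠ 1 ∧ Odd (orderOf h) ∧ t * h * t⁻¹ = h⁻¹ := by
  have : Fact (Nat.Prime 2) := ⟨Nat.prime_two⟩
  by_contra hno
  push Not at hno
  have hz : IsPGroup 2 (Subgroup.zpowers t) :=
    IsPGroup.of_card (n := 1) (by rw [Nat.card_zpowers, ht, pow_one])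
  obtain ⟨N, hN, hN2, htN⟩ := baer_suzuki (Subgroup.zpowers t) hz fun g => by
    have hu : orderOf (g * t * g⁻¹) = 2 := by rw [Basic.orderOf_conj, ht]
    rw [MonoidHom.map_zpowers, Subgroup.zpowers_eq_closure, Subgroup.zpowers_eq_closure,
      ← Subgroup.closure_union, Set.singleton_union]
    set u := g * t * g⁻¹ with hudef
    show IsPGroup 2 ↥(Subgroup.closure ({t, u} : Set G))
    obtain ⟨k, m, hm, hkm⟩ := Nat.exists_eq_two_pow_mul_odd (orderOf_pos (t * u)).ne'
    have hm1 : m = 1 := by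
      by_contra hne
      have ho : orderOf ((t * u) ^ (2 ^ k)) = m := by
        rw [orderOf_pow' _ (by positivity), hkm, Nat.gcd_mul_right_left,
          Nat.mul_div_cancel_left m (by positivity)]
      refine hno ((t * u) ^ (2 ^ k)) (fun e => hne (by rw [← ho, e, orderOf_one])) (ho.symm ▸ hm) ?_
      rw [← conj_pow, Basic.conj_prod_left ht hu, inv_pow]
    rw [hm1, mul_one] at hkm
    intro x
    obtain ⟨i, hx | hx⟩ := (Basic.mem_closure_pair ht hu).mp x.2
    · refine ⟨k, Subtype.ext ?_⟩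
      push_cast
      rw [hx, ← zpow_natCast, ← zpow_mul, mul_comm, zpow_mul, zpow_natCast, ← hkm, pow_orderOf_eq_one,
        one_zpow]
    · refine ⟨1, Subtype.ext ?_⟩
      push_cast
      rw [hx, pow_two]
      exact Basic.sq_of_mul_zpow ht hu i
  exact hO N hN hN2 (htN (Subgroup.mem_zpowers t))

end Cfsg.Agent.Involutions.BaerSuzuki
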