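import Mathlib
import Cfsg.Agent.Lib.Involutions.Basic

/-!
The Thompson transfer lemma and groups with cyclic Sylow 2-subgroups.
-/

namespace Cfsg.Agent.Involutions.ThompsonTransfer

open Subgroup

variable {G : Type*} [Group G] [Finite G]

/-- If `M` has index twice an odd number and no conjugate of the involution `t` lies in `M`, then `G`
has a subgroup of index two. -/
theorem exists_index_two_of_no_conj (M : Subgroup G) (hM : M.index % 4 = 2) (t : G) (ht : orderOf t = 2)
    (hno : ∀ g : G, g * t * g⁻¹ ∉ M) : ∃ K : Subgroup G, K.index = 2 ∧ t ∉ K := by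
  classical
  have : Fintype (G ⧸ M) := Fintype.ofFinite _
  let φ : G →* ℤˣ := Equiv.Perm.sign.comp (MulAction.toPermHom G (G ⧸ M))
  set σ := MulAction.toPermHom G (G ⧸ M) t with hσ
  have hσ2 : σ ^ 2 = 1 := by
    rw [hσ, ← map_pow, pow_two, Basic.inv_sq_one ht, map_one]
  have hnofix : σ.support = Finset.univ := by
    rw [Finset.eq_univ_iff_forall]
    intro c
    rw [Equiv.Perm.mem_support]
    obtain ⟨g, rfl⟩ := QuotientGroup.mk_surjective c
    intro e
    have e' : ((t * g : G) : G ⧸ M) = (g : G ⧸ M) := e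
    rw [QuotientGroup.eq] at e'
    apply hno g⁻¹
    have := inv_mem e'
    rw [show g⁻¹ * t * g⁻¹⁻¹ = ((t * g)⁻¹ * g)⁻¹ by group]
    exact this
  have hneg : φ t = -1 := by
    show Equiv.Perm.sign σ = -1
    have hct : σ.cycleType = Multiset.replicate σ.cycleType.card 2 := by
      refine Multiset.eq_replicate_card.mpr fun n hn => ?_
      have h1 := Equiv.Perm.dvd_of_mem_cycleType hn
      have h2 := Equiv.Perm.two_le_of_mem_cycleType hn
      have h3 : orderOf σ ∣ 2 := orderOf_dvd_of_pow_eq_one hσ2
      have := Nat.le_of_dvd two_pos (h1.trans h3)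
      omega
    have hsum := Equiv.Perm.sum_cycleType σ
    rw [hnofix, Finset.card_univ, hct, Multiset.sum_replicate, smul_eq_mul,
      ← Nat.card_eq_fintype_card] at hsum
    have hidx : Nat.card (G ⧸ M) = M.index := rfl
    rw [Equiv.Perm.sign_of_cycleType, hct, Multiset.sum_replicate, Multiset.card_replicate,
      smul_eq_mul]
    rw [hidx] at hsum
    apply Odd.neg_one_pow
    rw [Nat.odd_iff]
    omega
  refine ⟨φ.ker, ?_, ?_⟩
  · rw [Subgroup.index_ker]
    have : φ.range = ⊤ := by
      rw [eq_top_iff]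
      intro u _
      rcases Int.units_eq_one_or u with rfl | rfl
      · exact one_mem _
      · exact ⟨t, hneg⟩
    rw [this, Nat.card_congr Subgroup.topEquiv.toEquiv, Nat.card_eq_fintype_card]
    rfl
  · rw [MonoidHom.mem_ker, hneg]; decide

/-- A subgroup of index two of a subgroup of odd index has index twice an odd number. -/
theorem index_mod_four {M S : Subgroup G} (hMS : M ≤ S) (hrel : M.relIndex S = 2) (hS : Odd S.index) :
    M.index % 4 = 2 := by
  rw [← Subgroup.relIndex_mul_index hMS, hrel]
  obtain ⟨m, hm⟩ := hS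
  omega

/-- Thompson's transfer lemma: with no subgroup of index two, every involution has a conjugate in any
index-two subgroup of a Sylow 2-subgroup. -/
theorem exists_conj_mem (hG : ∀ H : Subgroup G, H.index ≠ 2) (S : Sylow 2 G) (M : Subgroup G)
    (hMS : M ≤ S) (hrel : M.relIndex S = 2) (t : G) (ht : orderOf t = 2) : ∃ g : G, g * t * g⁻¹ ∈ M := by
  have : Fact (Nat.Prime 2) := ⟨Nat.prime_two⟩
  by_contra hno
  push Not at hno
  obtain ⟨K, hK, -⟩ := exists_index_two_of_no_conj M
    (index_mod_four hMS hrel (Nat.odd_iff.mpr (Nat.two_dvd_ne_zero.mp S.not_dvd_index))) t ht hno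
  exact hG K hK

/-- A group of even order with cyclic Sylow 2-subgroups has a subgroup of index two. -/
theorem exists_index_two_of_isCyclic_sylow (heven : Even (Nat.card G)) (T : Sylow 2 G)
    (hT : IsCyclic (T : Subgroup G)) : ∃ H : Subgroup G, H.index = 2 := by
  have : Fact (Nat.Prime 2) := ⟨Nat.prime_two⟩
  have hmin : (Nat.card G).minFac = 2 := Nat.minFac_eq_two_iff _ |>.mpr (even_iff_two_dvd.mp heven)
  have hcompl := IsCyclic.isComplement' (P := T) hmin hT
  set φ := MonoidHom.transferSylow T (IsCyclic.normalizer_le_centralizer hmin hT)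
  have hpos : 2 ∣ Nat.card (T : Subgroup G) := T.dvd_card_of_dvd_card (even_iff_two_dvd.mp heven)
  have hidx : φ.ker.index = Nat.card (T : Subgroup G) := hcompl.symm.index_eq_card
  have hsurj : Function.Surjective φ := by
    rw [← MonoidHom.range_eq_top]
    exact Subgroup.eq_top_of_card_eq _ (by rw [← Subgroup.index_ker, hidx])
  have : Fact (Nat.Prime 2) := ⟨Nat.prime_two⟩
  obtain ⟨n, hn⟩ := IsPGroup.iff_card.mp T.2
  have hn0 : n ≠ 0 := by rintro rfl; rw [hn] at hpos; simp at hpos
  obtain ⟨M, hM⟩ := Sylow.exists_subgroup_card_pow_prime (G := (T : Subgroup G)) 2 (n := n - 1)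
    (by rw [hn]; exact pow_dvd_pow 2 (Nat.sub_le n 1))
  refine ⟨M.comap φ, ?_⟩
  rw [Subgroup.index_comap_of_surjective M hsurj]
  have h := M.index_mul_card
  rw [hM, hn] at h
  obtain ⟨m, rfl⟩ := Nat.exists_eq_succ_of_ne_zero hn0
  rw [Nat.succ_eq_add_one, Nat.add_sub_cancel, pow_succ', ] at h
  exact Nat.eq_of_mul_eq_mul_right (by positivity) h

end Cfsg.Agent.Involutions.ThompsonTransfer
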