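import Mathlib
import Cfsg.Agent.Lib.Involutions.Basic

/-!
Four-groups inside 2-groups.
-/

namespace Cfsg.Agent.Involutions.TwoGroups

open Subgroup Involutions.Basic

variable {G : Type*} [Group G]

theorem isKleinFour_iff (E : Subgroup G) :
    IsKleinFour E ↔ Nat.card E = 4 ∧ ∀ e ∈ E, e * e = 1 := by
  constructor
  · intro h
    refine ⟨IsKleinFour.card_four, fun e he => ?_⟩
    have := IsKleinFour.mul_self (⟨e, he⟩ : E)
    exact congrArg Subtype.val this
  · rintro ⟨h4, h2⟩
    refine ⟨h4, ?_⟩
    have hdvd : Monoid.exponent E ∣ 2 := Monoid.exponent_dvd_of_forall_pow_eq_one fun e => by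
      ext; rw [pow_two]; exact h2 _ e.2
    rcases (Nat.dvd_prime Nat.prime_two).mp hdvd with h | h
    · have : Subsingleton E := Monoid.exp_eq_one_iff.mp h
      rw [Nat.card_of_subsingleton (1 : E)] at h4
      omega
    · exact h

/-- The subgroup generated by two distinct commuting involutions is `{1, a, b, a * b}`. -/
theorem four_group {a b : G} (ha : orderOf a = 2) (hb : orderOf b = 2) (hab : Commute a b) (hne : a ≠ b) :
    IsKleinFour ↥(Subgroup.closure ({a, b} : Set G)) ∧
      ∀ d ∈ Subgroup.closure ({a, b} : Set G), d = 1 ∨ d = a ∨ d = b ∨ d = a * b := by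
  have hsq : (a * b) ^ (2 : ℤ) = 1 := by
    rw [zpow_two, hab.symm.mul_mul_mul_comm, inv_sq_one ha, one_mul, inv_sq_one hb]
  have h2 : ∀ d ∈ Subgroup.closure ({a, b} : Set G), d = 1 ∨ d = a ∨ d = b ∨ d = a * b := by
    intro d hd
    obtain ⟨k, hk | hk⟩ := (mem_closure_pair ha hb).mp hd <;>
      rcases Int.even_or_odd' k with ⟨j, rfl | rfl⟩
    · left; rw [hk, zpow_mul, hsq, one_zpow]
    · right; right; right; rw [hk, zpow_add, zpow_mul, hsq, one_zpow, one_mul, zpow_one]
    · right; left; rw [hk, zpow_mul, hsq, one_zpow, mul_one]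
    · right; right; left
      rw [hk, zpow_add, zpow_mul, hsq, one_zpow, one_mul, mul_zpow_one ha]
  refine ⟨(isKleinFour_iff _).mpr ⟨?_, ?_⟩, h2⟩
  · have hs : (Subgroup.closure ({a, b} : Set G) : Set G) = {1, a, b, a * b} := by
      ext d
      constructor
      · intro hd; simpa using h2 d hd
      · rintro (rfl | rfl | rfl | rfl)
        · exact one_mem _
        · exact subset_closure (Set.mem_insert _ _)
        · exact subset_closure (Set.mem_insert_of_mem _ rfl)
        · exact mul_mem (subset_closure (Set.mem_insert _ _)) (subset_closure (Set.mem_insert_of_mem _ rfl))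
    rw [← SetLike.coe_sort_coe, Nat.card_coe_set_eq, hs]
    have n1 := ne_one ha
    have n2 := ne_one hb
    have n3 : a * b ≠ 1 := fun e => hne (by rw [eq_inv_of_mul_eq_one_left e, inv_eq hb])
    have n4 : a * b ≠ a := fun e => n2 (mul_eq_left.mp e)
    have n5 : a * b ≠ b := fun e => n1 (mul_eq_right.mp e)
    rw [Set.ncard_insert_of_notMem (by simp [n1.symm, n2.symm, n3.symm]),
      Set.ncard_insert_of_notMem (by simp [hne, n4.symm]),
      Set.ncard_insert_of_notMem (by simp [n5.symm]), Set.ncard_singleton]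
  · intro d hd
    rcases h2 d hd with rfl | rfl | rfl | rfl
    · rw [one_mul]
    · exact inv_sq_one ha
    · exact inv_sq_one hb
    · rw [← zpow_two]; exact hsq

/-- A finite nontrivial 2-group has a central involution. -/
theorem exists_central_involution [Finite G] [Nontrivial G] (hG : IsPGroup 2 G) :
    ∃ z : G, orderOf z = 2 ∧ ∀ g : G, g * z = z * g := by
  have : Fact (Nat.Prime 2) := ⟨Nat.prime_two⟩
  have := hG.center_nontrivial
  obtain ⟨n, hn0, hn⟩ := IsPGroup.nontrivial_iff_card (hG.to_subgroup (center G)) |>.mp this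
  obtain ⟨⟨z, hz⟩, hz2⟩ := exists_prime_orderOf_dvd_card' (G := center G) 2
    (hn ▸ dvd_pow_self 2 (by omega))
  exact ⟨z, by simpa using hz2, fun g => mem_center_iff.mp hz g⟩

theorem four_dvd_of_fibres {α β : Type*} [Fintype α] [DecidableEq β] (f : α → β)
    (h : ∀ a, 4 ∣ Nat.card {b // f b = f a}) : 4 ∣ Fintype.card α := by
  classical
  rw [← Finset.card_univ, Finset.card_eq_sum_card_image f Finset.univ]
  refine Finset.dvd_sum fun y hy => ?_
  obtain ⟨a, -, rfl⟩ := Finset.mem_image.mp hy
  have := h a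
  rwa [Nat.card_eq_fintype_card, Fintype.card_subtype] at this

theorem four_dvd_of_pow {n m : ℕ} (h : n ∣ 2 ^ m) (hn : 2 < n) : 4 ∣ n := by
  obtain ⟨k, -, rfl⟩ := (Nat.dvd_prime_pow Nat.prime_two).mp h
  rcases k with _ | _ | k
  · simp at hn
  · simp at hn
  · exact ⟨2 ^ k, by ring⟩

/-- In a 2-group with an elementary abelian subgroup of order at least eight, the number of solutions of
`x * x = 1` is divisible by four. -/
theorem four_dvd_card_sq_eq_one [Finite G] (hG : IsPGroup 2 G) (F : Subgroup G)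
    (hFc : ∀ a ∈ F, ∀ b ∈ F, a * b = b * a) (hF2 : ∀ a ∈ F, a * a = 1) (hF8 : 8 ≤ Nat.card F)
    {z : G} (hz : orderOf z = 2) (hzc : ∀ g : G, g * z = z * g) (hzF : z ∈ F) :
    4 ∣ Nat.card {x : G // x * x = 1} := by
  classical
  have : Fintype G := Fintype.ofFinite G
  have hzz := inv_sq_one hz
  let X := {x : G // x * x = 1}
  let Special : G → Prop := fun x => ∀ f ∈ F, f * x * f⁻¹ = x ∨ f * x * f⁻¹ = x * z
  let O : G → Set G := fun x => {y | ∃ f ∈ F, y = f * x * f⁻¹ ∨ y = f * x * f⁻¹ * z}
  let K : G → Subgroup G := fun x => F ⊓ Subgroup.centralizer ({x} : Set G)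
  let φ : X → Set G := fun x => if Special x.1 then (fun k => x.1 * k) '' (K x.1 : Set G) else O x.1
  have hzcx : ∀ f : G, f * z * f⁻¹ = z := fun f => by rw [hzc, mul_inv_cancel_right]
  have O_self : ∀ x, x ∈ O x := fun x => ⟨1, one_mem _, Or.inl (by group)⟩
  have sqz : ∀ y : G, y * y = 1 → y * z * (y * z) = 1 := fun y hy => by
    rw [mul_assoc y, ← mul_assoc z, ← hzc, mul_assoc y z z, hzz, mul_one, hy]
  have O_sq : ∀ x : X, ∀ y ∈ O x.1, y * y = 1 := by
    rintro ⟨x, hx⟩ y ⟨f, hf, rfl | rfl⟩
    · simp only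
      rw [show f * x * f⁻¹ * (f * x * f⁻¹) = f * (x * x) * f⁻¹ by group, hx]; group
    · exact sqz _ (by rw [show f * x * f⁻¹ * (f * x * f⁻¹) = f * (x * x) * f⁻¹ by group, hx]; group)
  have O_eq : ∀ x : G, ∀ y ∈ O x, O y = O x := by
    have sub : ∀ x y : G, y ∈ O x → O y ⊆ O x := by
      rintro x y ⟨f, hf, rfl | rfl⟩ w ⟨e, he, rfl | rfl⟩
      · exact ⟨e * f, mul_mem he hf, Or.inl (by group)⟩
      · exact ⟨e * f, mul_mem he hf, Or.inr (by group)⟩
      · refine ⟨e * f, mul_mem he hf, Or.inr ?_⟩
        rw [show e * (f * x * f⁻¹ * z) * e⁻¹ = (e * f * x * (e * f)⁻¹) * (e * z * e⁻¹) by group, hzcx]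
      · refine ⟨e * f, mul_mem he hf, Or.inl ?_⟩
        rw [show e * (f * x * f⁻¹ * z) * e⁻¹ * z = (e * f * x * (e * f)⁻¹) * (e * z * e⁻¹ * z) by group,
          hzcx, hzz, mul_one]
    intro x y hy
    refine Set.Subset.antisymm (sub x y hy) (sub y x ?_)
    obtain ⟨f, hf, rfl | rfl⟩ := hy
    · exact ⟨f⁻¹, inv_mem hf, Or.inl (by group)⟩
    · refine ⟨f⁻¹, inv_mem hf, Or.inr ?_⟩
      rw [show f⁻¹ * (f * x * f⁻¹ * z) * f⁻¹⁻¹ * z = x * (f⁻¹ * z * f⁻¹⁻¹ * z) by group, hzcx, hzz,
        mul_one]
  have Special_iff : ∀ x : G, Special x ↔ ∀ y ∈ O x, y = x ∨ y = x * z := by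
    intro x
    constructor
    · rintro h y ⟨f, hf, rfl | rfl⟩
      · exact h f hf
      · rcases h f hf with e | e <;> rw [e]
        · exact Or.inr rfl
        · left; rw [mul_assoc, hzz, mul_one]
    · exact fun h f hf => h _ ⟨f, hf, Or.inl rfl⟩
  have O_card : ∀ x : G, ¬ Special x → 4 ∣ (O x).ncard := by
    intro x hx
    let _ : MulAction (↥F × ↥(Subgroup.zpowers z)) G :=
      { smul := fun p y => (p.1 : G) * y * (p.1 : G)⁻¹ * p.2
        one_smul := fun y => by
          show (1 : G) * y * (1 : G)⁻¹ * 1 = y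
          group
        mul_smul := fun p q y => by
          show ((p.1 * q.1 : F) : G) * y * ((p.1 * q.1 : F) : G)⁻¹ * ((p.2 * q.2 : Subgroup.zpowers z) : G) =
            (p.1 : G) * ((q.1 : G) * y * (q.1 : G)⁻¹ * q.2) * (p.1 : G)⁻¹ * p.2
          obtain ⟨i, hi⟩ := Subgroup.mem_zpowers_iff.mp q.2.2
          obtain ⟨j, hj⟩ := Subgroup.mem_zpowers_iff.mp p.2.2
          have hcq : ∀ g : G, g * (q.2 : G) = (q.2 : G) * g := fun g => by
            rw [← hi]; exact ((show Commute g z from hzc g).zpow_right i).eq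
          push_cast
          rw [show (p.1 : G) * ((q.1 : G) * y * (q.1 : G)⁻¹ * q.2) * (p.1 : G)⁻¹ * p.2 =
            (p.1 : G) * ((q.1 : G) * y * (q.1 : G)⁻¹) * ((q.2 : G) * (p.1 : G)⁻¹) * p.2 by group,
            ← hcq, show ((p.1 : G)⁻¹ * (q.2 : G)) = (p.1 : G)⁻¹ * (q.2 : G) from rfl,
            hcq (p.2 : G)]
          group }
    have horb : MulAction.orbit (↥F × ↥(Subgroup.zpowers z)) x = O x := by
      ext y
      constructor
      · rintro ⟨⟨f, c, hc⟩, rfl⟩
        obtain ⟨i, rfl⟩ := Subgroup.mem_zpowers_iff.mp hc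
        rcases Int.even_or_odd' i with ⟨j, rfl | rfl⟩
        · refine ⟨f, f.2, Or.inl ?_⟩
          show (f : G) * x * (f : G)⁻¹ * z ^ (2 * j) = _
          rw [zpow_mul, zpow_two, hzz, one_zpow, mul_one]
        · refine ⟨f, f.2, Or.inr ?_⟩
          show (f : G) * x * (f : G)⁻¹ * z ^ (2 * j + 1) = _
          rw [zpow_add, zpow_mul, zpow_two, hzz, one_zpow, one_mul, zpow_one]
      · rintro ⟨f, hf, rfl | rfl⟩
        · exact ⟨(⟨f, hf⟩, 1), by show f * x * f⁻¹ * 1 = _; rw [mul_one]⟩
        · exact ⟨(⟨f, hf⟩, ⟨z, mem_zpowers z⟩), rfl⟩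
    obtain ⟨m, hm⟩ := IsPGroup.iff_card.mp (hG.to_subgroup F)
    have hd : Nat.card (MulAction.orbit (↥F × ↥(Subgroup.zpowers z)) x) ∣ 2 ^ (m + 1) := by
      rw [pow_succ, ← hm, ← hz, ← Nat.card_zpowers, ← Nat.card_prod,
        Nat.card_congr (MulAction.orbitEquivQuotientStabilizer _ x)]
      exact Subgroup.card_quotient_dvd_card _
    rw [horb, Nat.card_coe_set_eq] at hd
    refine four_dvd_of_pow hd ?_
    by_contra hle
    push Not at hle
    apply hx
    rw [Special_iff]
    intro y hy
    by_contra hne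
    push Not at hne
    have hxz : x ≠ x * z := fun e => ne_one hz (mul_eq_left.mp e.symm)
    have h3 : ({y, x, x * z} : Set G) ⊆ O x := by
      rintro w (rfl | rfl | rfl)
      · exact hy
      · exact O_self _
      · exact ⟨1, one_mem _, Or.inr (by group)⟩
    have := Set.ncard_le_ncard h3 (Set.toFinite _)
    rw [Set.ncard_insert_of_notMem (by simp [hne.1, hne.2]),
      Set.ncard_insert_of_notMem (by simp [hxz]), Set.ncard_singleton] at this
    omega
  have K_card : ∀ x : G, Special x → 4 ∣ Nat.card (K x) := by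
    intro x hx
    obtain ⟨m, hm⟩ := IsPGroup.iff_card.mp (hG.to_subgroup (K x))
    refine four_dvd_of_pow (dvd_of_eq hm) ?_
    rw [← SetLike.coe_sort_coe, Nat.card_coe_set_eq]
    rw [← SetLike.coe_sort_coe, Nat.card_coe_set_eq] at hF8
    suffices (F : Set G).ncard ≤ 2 * (K x : Set G).ncard by omega
    by_cases hc : ∀ f ∈ F, f * x * f⁻¹ = x
    · have : (F : Set G) ⊆ K x := fun f hf =>
        ⟨hf, Subgroup.mem_centralizer_singleton_iff.mpr (mul_inv_eq_iff_eq_mul.mp (hc f hf))⟩
      have := Set.ncard_le_ncard this (Set.toFinite _)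
      omega
    · push Not at hc
      obtain ⟨f₀, hf₀, hf₀x⟩ := hc
      have h0 := (hx f₀ hf₀).resolve_left hf₀x
      have hsub : (F : Set G) ⊆ (K x : Set G) ∪ (fun k => f₀ * k) '' (K x : Set G) := by
        intro f hf
        rcases hx f hf with h | h
        · exact Or.inl ⟨hf, Subgroup.mem_centralizer_singleton_iff.mpr (mul_inv_eq_iff_eq_mul.mp h)⟩
        · refine Or.inr ⟨f₀⁻¹ * f, ⟨F.mul_mem (F.inv_mem hf₀) hf,
            Subgroup.mem_centralizer_singleton_iff.mpr ?_⟩, by group⟩
          rw [← mul_inv_eq_iff_eq_mul]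
          calc f₀⁻¹ * f * x * (f₀⁻¹ * f)⁻¹ = f₀⁻¹ * (f * x * f⁻¹) * f₀ := by group
            _ = f₀⁻¹ * (f₀ * x * f₀⁻¹) * f₀ := by rw [h, ← h0]
            _ = x := by group
      have h1 := (Set.ncard_le_ncard hsub (Set.toFinite _)).trans (Set.ncard_union_le _ _)
      rw [Set.ncard_image_of_injective _ (mul_right_injective f₀)] at h1
      omega
  -- the fibres of `φ`
  have hfib : ∀ x : X, Set.image (Subtype.val : X → G) {y | φ y = φ x} = φ x ∧ 4 ∣ (φ x).ncard := by
    intro x
    have mem_self : ∀ y : X, y.1 ∈ φ y := by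
      intro y
      by_cases hy : Special y.1
      · simp only [φ, if_pos hy]
        exact ⟨1, one_mem _, mul_one _⟩
      · simp only [φ, if_neg hy]
        exact O_self _
    by_cases hx : Special x.1
    · have hφ : φ x = (fun k => x.1 * k) '' (K x.1 : Set G) := if_pos hx
      refine ⟨?_, ?_⟩
      · ext y
        constructor
        · rintro ⟨w, hw, rfl⟩
          change φ w = φ x at hw
          rw [← hw]; exact mem_self w
        · rw [hφ]
          rintro ⟨k, hk, rfl⟩
          have hkF : k ∈ F := hk.1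
          have hkx : k * x.1 = x.1 * k := Subgroup.mem_centralizer_singleton_iff.mp hk.2
          have hsq : x.1 * k * (x.1 * k) = 1 := by
            rw [mul_assoc, ← mul_assoc k, hkx, mul_assoc x.1 k k, hF2 k hkF, mul_one, x.2]
          refine ⟨⟨x.1 * k, hsq⟩, ?_, rfl⟩
          have hsp : Special (x.1 * k) := by
            intro f hf
            have e : f * (x.1 * k) * f⁻¹ = f * x.1 * f⁻¹ * k := by
              rw [show f * (x.1 * k) * f⁻¹ = f * x.1 * f⁻¹ * (f * k * f⁻¹) by group,
                hFc f hf k hkF, mul_inv_cancel_right]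
            rw [e]
            rcases hx f hf with h | h <;> rw [h]
            · exact Or.inl rfl
            · right; rw [mul_assoc x.1 z k, ← hzc, ← mul_assoc]
          have hK : K (x.1 * k) = K x.1 := by
            ext f
            simp only [K, Subgroup.mem_inf, Subgroup.mem_centralizer_singleton_iff]
            refine and_congr_right fun hf => ?_
            rw [← mul_assoc f, mul_assoc x.1 k f, ← hFc f hf k hkF, ← mul_assoc x.1]
            exact mul_left_inj k
          rw [Set.mem_setOf_eq]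
          simp only [φ, if_pos hsp]
          rw [hK]
          ext w
          constructor
          · rintro ⟨l, hl, rfl⟩
            exact ⟨k * l, mul_mem ⟨hkF, Subgroup.mem_centralizer_singleton_iff.mpr hkx⟩ hl, by
              simp [mul_assoc]⟩
          · rintro ⟨l, hl, rfl⟩
            exact ⟨k⁻¹ * l, mul_mem (inv_mem ⟨hkF, Subgroup.mem_centralizer_singleton_iff.mpr hkx⟩) hl,
              by simp [mul_assoc]⟩
      · rw [hφ, Set.ncard_image_of_injective _ (mul_right_injective x.1), ← Nat.card_coe_set_eq]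
        exact K_card _ hx
    · have hφ : φ x = O x.1 := if_neg hx
      refine ⟨?_, hφ ▸ O_card _ hx⟩
      ext y
      constructor
      · rintro ⟨w, hw, rfl⟩
        change φ w = φ x at hw
        rw [← hw]; exact mem_self w
      · rw [hφ]
        intro hy
        refine ⟨⟨y, O_sq x y hy⟩, ?_, rfl⟩
        have hns : ¬ Special y := by
          intro h
          apply hx
          rw [Special_iff] at h ⊢
          rw [O_eq _ _ hy] at h
          intro w hw
          rcases h _ (O_self x.1) with e | e <;> rcases h w hw with e' | e'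
          · exact Or.inl (e'.trans e.symm)
          · exact Or.inr (e'.trans (by rw [e]))
          · right; rw [e', e, mul_assoc, hzz, mul_one]
          · exact Or.inl (e'.trans e.symm)
        rw [Set.mem_setOf_eq]
        simp only [φ, if_neg hns]
        exact O_eq _ _ hy
  rw [Nat.card_eq_fintype_card]
  refine four_dvd_of_fibres φ fun x => ?_
  show 4 ∣ Nat.card ↥{y : X | φ y = φ x}
  rw [Nat.card_coe_set_eq,
    ← Set.ncard_image_of_injective _ Subtype.val_injective, (hfib x).1]
  exact (hfib x).2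

/-- A 2-group with an elementary abelian subgroup of order at least eight has a normal four-group. -/
theorem exists_normal_four_group [Finite G] (hG : IsPGroup 2 G) (E : Subgroup G)
    (hEc : ∀ a ∈ E, ∀ b ∈ E, a * b = b * a) (hE2 : ∀ a ∈ E, a * a = 1) (hE8 : 8 ≤ Nat.card E) :
    ∃ W : Subgroup G, W.Normal ∧ IsKleinFour W := by
  classical
  have : Fintype G := Fintype.ofFinite G
  have : Fact (Nat.Prime 2) := ⟨Nat.prime_two⟩
  have : Nontrivial G := by
    rw [← Finite.one_lt_card_iff_nontrivial]
    have := Subgroup.card_le_card_group E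
    omega
  obtain ⟨z, hz, hzc⟩ := exists_central_involution hG
  set F := Subgroup.closure ((E : Set G) ∪ {z}) with hF
  have hFc : ∀ a ∈ F, ∀ b ∈ F, a * b = b * a := by
    have hgen : ∀ a ∈ (E : Set G) ∪ {z}, ∀ b ∈ (E : Set G) ∪ {z}, a * b = b * a := by
      rintro a (ha | rfl) b (hb | rfl)
      · exact hEc a ha b hb
      · exact hzc a
      · exact (hzc b).symm
      · rfl
    have := Subgroup.isMulCommutative_closure hgen
    intro a ha b hb
    exact congrArg Subtype.val (mul_comm' (⟨a, ha⟩ : F) ⟨b, hb⟩)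
  have hF2 : ∀ a ∈ F, a * a = 1 := by
    intro a ha
    induction ha using Subgroup.closure_induction with
    | mem x hx =>
      rcases hx with hx | rfl
      · exact hE2 x hx
      · exact inv_sq_one hz
    | one => exact one_mul 1
    | mul a b ha hb iha ihb =>
      rw [(show Commute b a from hFc b hb a ha).mul_mul_mul_comm, iha, ihb, one_mul]
    | inv a _ iha => rw [← mul_inv_rev, iha, inv_one]
  have hEF : E ≤ F := fun x hx => subset_closure (Or.inl hx)
  have hX := four_dvd_card_sq_eq_one hG F hFc hF2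
    (hE8.trans (Nat.le_of_dvd Nat.card_pos (Subgroup.card_dvd_of_le hEF))) hz hzc
    (subset_closure (Or.inr rfl))
  by_contra hno
  push Not at hno
  -- central solutions are `1` and `z`
  have hcent : ∀ x : G, x * x = 1 → (∀ g, g * x = x * g) → x = 1 ∨ x = z := by
    intro x hx hxc
    by_contra hne
    push Not at hne
    obtain ⟨hK, hmem⟩ := four_group (orderOf_two_iff.mpr ⟨hx, hne.1⟩) hz (hzc x) hne.2
    refine hno (Subgroup.closure {x, z}) ⟨fun n hn g => ?_⟩ hK
    have : ∀ g, g * n = n * g := by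
      rcases hmem n hn with rfl | rfl | rfl | rfl
      · simp
      · exact hxc
      · exact hzc
      · exact fun g => ((show Commute g x from hxc g).mul_right (hzc g)).eq
    rw [this g, mul_inv_cancel_right]
    exact hn
  -- other classes have size divisible by four
  let S := {x : G // x * x = 1 ∧ x ≠ 1 ∧ x ≠ z}
  have hS : 4 ∣ Fintype.card S := by
    refine four_dvd_of_fibres (fun x : S => ConjClasses.mk x.1) fun x => ?_
    obtain ⟨x, hx2, hx1, hxz⟩ := x
    have hoa : orderOf x = 2 := orderOf_two_iff.mpr ⟨hx2, hx1⟩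
    have hmem : ∀ y, IsConj x y → y * y = 1 ∧ y ≠ 1 ∧ y ≠ z := by
      intro y hy
      obtain ⟨g, rfl⟩ := isConj_iff.mp hy
      refine ⟨by rw [show g * x * g⁻¹ * (g * x * g⁻¹) = g * (x * x) * g⁻¹ by group, hx2]; group,
        fun e => hx1 (by simpa using e), fun e => hxz ?_⟩
      calc x = g⁻¹ * (g * x * g⁻¹) * g := by group
        _ = g⁻¹ * z * g := by rw [e]
        _ = z := by rw [mul_assoc, ← hzc, ← mul_assoc, inv_mul_cancel, one_mul]
    have hcard : Nat.card {b : S // ConjClasses.mk b.1 = ConjClasses.mk x} =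
        Nat.card (MulAction.orbit (ConjAct G) x) := by
      refine Nat.card_congr
        { toFun := fun b => ⟨b.1.1, ConjAct.mem_orbit_conjAct.mpr (ConjClasses.mk_eq_mk_iff_isConj.mp b.2)⟩
          invFun := fun y => ⟨⟨y.1, hmem _ (ConjAct.mem_orbit_conjAct.mp y.2).symm⟩,
            ConjClasses.mk_eq_mk_iff_isConj.mpr (ConjAct.mem_orbit_conjAct.mp y.2)⟩
          left_inv := fun b => rfl
          right_inv := fun y => rfl }
    show 4 ∣ Nat.card {b : S // ConjClasses.mk b.1 = ConjClasses.mk x}
    rw [hcard]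
    obtain ⟨m, hm⟩ := IsPGroup.iff_card.mp hG
    have hd : Nat.card (MulAction.orbit (ConjAct G) x) ∣ 2 ^ m := by
      rw [← hm, Nat.card_congr (MulAction.orbitEquivQuotientStabilizer (ConjAct G) x)]
      exact Subgroup.card_quotient_dvd_card _
    refine four_dvd_of_pow hd ?_
    rw [Nat.card_coe_set_eq]
    by_contra hle
    push Not at hle
    set Ox := MulAction.orbit (ConjAct G) x
    have hmov : ∃ g : G, g * x * g⁻¹ ≠ x := by
      by_contra hc; push Not at hc
      rcases hcent x hx2 (fun g => mul_inv_eq_iff_eq_mul.mp (hc g)) with e | e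
      · exact hx1 e
      · exact hxz e
    obtain ⟨g₀, hg₀⟩ := hmov
    set y := g₀ * x * g₀⁻¹ with hy
    have hsub : ∀ g : G, g * x * g⁻¹ = x ∨ g * x * g⁻¹ = y := by
      intro g
      by_contra hne; push Not at hne
      have h3 : ({g * x * g⁻¹, x, y} : Set G) ⊆ Ox := by
        rintro w (rfl | rfl | rfl) <;> refine ConjAct.mem_orbit_conjAct.mpr (IsConj.symm (isConj_iff.mpr ?_))
        · exact ⟨g, rfl⟩
        · exact ⟨1, by group⟩
        · exact ⟨g₀, rfl⟩
      have := Set.ncard_le_ncard h3 (Set.toFinite _)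
      rw [Set.ncard_insert_of_notMem (by simp [hne.1, hne.2]),
        Set.ncard_insert_of_notMem (by simpa using hg₀.symm), Set.ncard_singleton] at this
      omega
    have hoy : orderOf y = 2 := by rw [hy, orderOf_conj, hoa]
    have hperm : ∀ g : G, g * y * g⁻¹ = x ∨ g * y * g⁻¹ = y := by
      intro g
      rw [hy, show g * (g₀ * x * g₀⁻¹) * g⁻¹ = g * g₀ * x * (g * g₀)⁻¹ by group]
      exact hsub _
    have hcomm : Commute x y := by
      -- `x` and `y` have the same centralizer
      have h1 : x * y * x⁻¹ = y := by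
        rcases hperm x with h | h
        · exfalso
          apply hg₀
          calc y = x⁻¹ * (x * y * x⁻¹) * x := by group
            _ = x := by rw [h]; group
        · exact h
      exact mul_inv_eq_iff_eq_mul.mp h1
    obtain ⟨hK, hcl⟩ := four_group hoa hoy hcomm (Ne.symm hg₀)
    refine hno (Subgroup.closure {x, y}) ⟨fun n hn g => ?_⟩ hK
    have hxm : x ∈ Subgroup.closure ({x, y} : Set G) := subset_closure (Set.mem_insert _ _)
    have hym : y ∈ Subgroup.closure ({x, y} : Set G) := subset_closure (Set.mem_insert_of_mem _ rfl)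
    have gx : g * x * g⁻¹ ∈ Subgroup.closure ({x, y} : Set G) := by
      rcases hsub g with h | h <;> rw [h] <;> assumption
    have gy : g * y * g⁻¹ ∈ Subgroup.closure ({x, y} : Set G) := by
      rcases hperm g with h | h <;> rw [h] <;> assumption
    rcases hcl n hn with rfl | rfl | rfl | rfl
    · simp
    · exact gx
    · exact gy
    · rw [show g * (x * y) * g⁻¹ = g * x * g⁻¹ * (g * y * g⁻¹) by group]
      exact mul_mem gx gy
  have hz1 := ne_one hz
  have hins : {x : G | x * x = 1} = insert 1 (insert z {x : G | x * x = 1 ∧ x ≠ 1 ∧ x ≠ z}) := by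
    ext x
    simp only [Set.mem_setOf_eq, Set.mem_insert_iff]
    constructor
    · intro h; tauto
    · rintro (rfl | rfl | h)
      · simp
      · exact inv_sq_one hz
      · exact h.1
  have hc : Nat.card {x : G // x * x = 1} = Fintype.card S + 2 := by
    rw [← Nat.card_eq_fintype_card]
    show Nat.card ↥{x : G | x * x = 1} = Nat.card ↥{x : G | x * x = 1 ∧ x ≠ 1 ∧ x ≠ z} + 2
    rw [Nat.card_coe_set_eq, Nat.card_coe_set_eq, hins,
      Set.ncard_insert_of_notMem (by simp [hz1.symm]) (Set.toFinite _),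
      Set.ncard_insert_of_notMem (by simp) (Set.toFinite _)]
  omega

end Cfsg.Agent.Involutions.TwoGroups
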