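import Mathlib
import Cfsg.Agent.Lib.Involutions.TwoGroups
import Cfsg.Agent.Lib.Transfer.Fusion

/-!
Involution classes in groups with Klein four Sylow 2-subgroups.
-/

namespace Cfsg.Agent.Involutions.KleinSylow

open Subgroup

variable {G : Type*} [Group G] [Finite G]

theorem mul_self_of_mem (P : Sylow 2 G) (hP : IsKleinFour (P : Subgroup G)) {x : G} (hx : x ∈ P) :
    x * x = 1 := ((TwoGroups.isKleinFour_iff _).mp hP).2 x hx

/-- Involutions of `P` conjugate in `G` are conjugate in `N(P)`. -/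
theorem exists_normalizer_conj (P : Sylow 2 G) (hP : IsKleinFour (P : Subgroup G)) {a : G} (ha : a ∈ P)
    {g : G} (hg : g * a * g⁻¹ ∈ P) :
    ∃ n ∈ Subgroup.normalizer (P : Set G), n * a * n⁻¹ = g * a * g⁻¹ := by
  have : Fact (Nat.Prime 2) := ⟨Nat.prime_two⟩
  have hfix : ∀ b ∈ P, ∀ x ∈ P, (fun y => x * y * x⁻¹) '' ({b} : Set G) = {b} := by
    intro b hb x hx
    rw [Set.image_singleton]
    have := IsKleinFour.isMulCommutative (G := (P : Subgroup G))
    have h := congrArg Subtype.val (mul_comm' (⟨x, hx⟩ : (P : Subgroup G)) ⟨b, hb⟩)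
    change x * b = b * x at h
    rw [h, mul_inv_cancel_right]
  obtain ⟨n, hn, he⟩ := Transfer.Fusion.burnside_fusion_set P (X := {a}) (Y := {g * a * g⁻¹})
    (hfix a ha) (hfix _ hg) (g := g) (by rw [Set.image_singleton])
  rw [Set.image_singleton, Set.singleton_eq_singleton_iff] at he
  exact ⟨n, hn, he⟩

/-- An orbit of `N(P)` on the involutions of `P` has odd size. -/
theorem conj_dichotomy (P : Sylow 2 G) (hP : IsKleinFour (P : Subgroup G)) :
    (∀ a ∈ P, ∀ g : G, g * a * g⁻¹ ∈ P → g * a * g⁻¹ = a) ∨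
    (∀ a ∈ P, a ≠ 1 → ∀ b ∈ P, b ≠ 1 → IsConj a b) := by
  classical
  have : Fact (Nat.Prime 2) := ⟨Nat.prime_two⟩
  by_cases h : ∀ a ∈ P, ∀ g : G, g * a * g⁻¹ ∈ P → g * a * g⁻¹ = a
  · exact Or.inl h
  right
  push Not at h
  obtain ⟨a, ha, g, hg, hne⟩ := h
  obtain ⟨n, hn, hna⟩ := exists_normalizer_conj P hP ha hg
  have ha1 : a ≠ 1 := by rintro rfl; simp at hne
  -- every involution of `P` is conjugate to `a`
  have key : ∀ b ∈ P, b ≠ 1 → IsConj a b := by
    intro b hb hb1
    by_contra hnb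
    -- then `n` fixes `b` and swaps the two others
    set b' := g * a * g⁻¹ with hb'
    have hab' : IsConj a b' := isConj_iff.mpr ⟨g, rfl⟩
    have hbb' : b ≠ b' := fun e => hnb (e ▸ hab')
    have hba : b ≠ a := fun e => hnb (e ▸ IsConj.refl a)
    have h1' : b' ≠ 1 := fun e => ha1 (by simpa [hb'] using e)
    have hcard : (P : Set G).ncard = 4 := by
      rw [← Nat.card_coe_set_eq]
      exact ((TwoGroups.isKleinFour_iff _).mp hP).1
    have hsub : ({1, a, b', b} : Set G) ⊆ (P : Set G) := by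
      rintro w (rfl | rfl | rfl | rfl)
      · exact one_mem _
      · exact ha
      · exact hg
      · exact hb
    have hall : (P : Set G) = {1, a, b', b} := by
      refine (Set.eq_of_subset_of_ncard_le hsub ?_ (Set.toFinite _)).symm
      rw [hcard, Set.ncard_insert_of_notMem (by simp [ha1.symm, h1'.symm, hb1.symm]),
        Set.ncard_insert_of_notMem (by simp [hne.symm, hba.symm]),
        Set.ncard_insert_of_notMem (by simp [hbb'.symm]), Set.ncard_singleton]
    have memP : ∀ x ∈ P, n * x * n⁻¹ ∈ P := fun x hx => (Subgroup.mem_normalizer_iff.mp hn x).mp hx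
    have hnb' : n * b' * n⁻¹ = a := by
      have h1 : n * b' * n⁻¹ ∈ (P : Set G) := memP b' hg
      rw [hall] at h1
      rcases h1 with e | e | e | e
      · exact absurd e (by simp only [mul_inv_eq_one, mul_eq_left]; exact h1')
      · exact e
      · rw [← hna] at e
        exact absurd (mul_left_cancel (mul_right_cancel e)) (hna.symm ▸ hne)
      · exact absurd (hab'.trans (isConj_iff.mpr ⟨n, e⟩)) hnb
    have hev : ∀ k : ℕ, n ^ (2 * k + 1) * a * (n ^ (2 * k + 1))⁻¹ = b' := by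
      intro k
      induction k with
      | zero => simpa using hna
      | succ k ih =>
        calc n ^ (2 * (k + 1) + 1) * a * (n ^ (2 * (k + 1) + 1))⁻¹
            = n * (n * (n ^ (2 * k + 1) * a * (n ^ (2 * k + 1))⁻¹) * n⁻¹) * n⁻¹ := by
              rw [show 2 * (k + 1) + 1 = (2 * k + 1) + 1 + 1 by ring, pow_succ' n (2 * k + 1 + 1),
                pow_succ' n (2 * k + 1)]
              group
          _ = b' := by rw [ih, hnb', hna]
    -- so the order of `n` modulo the stabiliser is even, contradicting that `P` is Sylow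
    obtain ⟨k, m, hm, hkm⟩ := Nat.exists_eq_two_pow_mul_odd (orderOf_pos n).ne'
    set n' := n ^ m with hn'
    obtain ⟨j, hj⟩ := hm
    have hn'a : n' * a * n'⁻¹ = b' := by rw [hn', hj]; exact hev j
    have hn'N : n' ∈ Subgroup.normalizer (P : Set G) := pow_mem hn m
    have hp : IsPGroup 2 (Subgroup.zpowers n') := IsPGroup.of_card (n := k) (by
      rw [Nat.card_zpowers, hn', orderOf_pow' _ (by omega), hkm, Nat.gcd_mul_left_left,
        Nat.mul_div_cancel _ (by omega)])
    have hsup := hp.to_sup_of_normal_right' P.2 (Subgroup.zpowers_le.mpr hn'N)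
    have hle := P.3 hsup le_sup_right
    have hn'P : n' ∈ P := by
      show n' ∈ (P : Subgroup G)
      rw [← hle]
      exact le_sup_left (a := Subgroup.zpowers n') (Subgroup.mem_zpowers n')
    have := IsKleinFour.isMulCommutative (G := (P : Subgroup G))
    have h := congrArg Subtype.val (mul_comm' (⟨n', hn'P⟩ : (P : Subgroup G)) ⟨a, ha⟩)
    change n' * a = a * n' at h
    rw [h, mul_inv_cancel_right] at hn'a
    exact hne hn'a.symm
  intro x hx hx1 y hy hy1
  exact (key x hx hx1).symm.trans (key y hy hy1)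

/-- The map from the involutions of `P` onto the involution classes. -/
theorem card_classes (P : Sylow 2 G) (hP : IsKleinFour (P : Subgroup G)) :
    ((∀ a ∈ P, ∀ g : G, g * a * g⁻¹ ∈ P → g * a * g⁻¹ = a) →
      Nat.card {C : ConjClasses G // ∃ t : G, orderOf t = 2 ∧ ConjClasses.mk t = C} = 3) ∧
    ((∀ a ∈ P, a ≠ 1 → ∀ b ∈ P, b ≠ 1 → IsConj a b) →
      Nat.card {C : ConjClasses G // ∃ t : G, orderOf t = 2 ∧ ConjClasses.mk t = C} = 1) := by
  classical
  have : Fact (Nat.Prime 2) := ⟨Nat.prime_two⟩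
  let f : {a : G // a ∈ P ∧ a ≠ 1} →
      {C : ConjClasses G // ∃ t : G, orderOf t = 2 ∧ ConjClasses.mk t = C} :=
    fun a => ⟨ConjClasses.mk a.1, a.1,
      Basic.orderOf_two_iff.mpr ⟨mul_self_of_mem P hP a.2.1, a.2.2⟩, rfl⟩
  have hsurj : Function.Surjective f := by
    rintro ⟨C, t, ht, rfl⟩
    have hp : IsPGroup 2 (Subgroup.zpowers t) :=
      IsPGroup.of_card (n := 1) (by rw [Nat.card_zpowers, ht, pow_one])
    obtain ⟨Q, hQ⟩ := hp.exists_le_sylow
    obtain ⟨c, hc⟩ := MulAction.exists_smul_eq G Q P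
    have hmem : c * t * c⁻¹ ∈ P := by
      rw [← hc, ← SetLike.mem_coe, Sylow.coe_smul]
      exact ⟨t, hQ (Subgroup.mem_zpowers t), rfl⟩
    refine ⟨⟨c * t * c⁻¹, hmem, fun e => Basic.ne_one ht (by simpa using e)⟩, ?_⟩
    exact Subtype.ext (ConjClasses.mk_eq_mk_iff_isConj.mpr (IsConj.symm (isConj_iff.mpr ⟨c, rfl⟩)))
  have hcard : Nat.card {a : G // a ∈ P ∧ a ≠ 1} = 3 := by
    have h := ((TwoGroups.isKleinFour_iff _).mp hP).1
    rw [← SetLike.coe_sort_coe, Nat.card_coe_set_eq] at h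
    show Nat.card ↥({a : G | a ∈ P ∧ a ≠ 1}) = 3
    rw [Nat.card_coe_set_eq, show ({a : G | a ∈ P ∧ a ≠ 1}) = (((P : Subgroup G) : Set G) \ {1}) from rfl,
      Set.ncard_sdiff (Set.singleton_subset_iff.mpr (one_mem _)) (Set.toFinite _), h,
      Set.ncard_singleton]
  constructor
  · intro h
    rw [← hcard]
    refine (Nat.card_congr (Equiv.ofBijective f ⟨?_, hsurj⟩)).symm
    rintro ⟨a, ha⟩ ⟨b, hb⟩ e
    obtain ⟨g, hg⟩ := isConj_iff.mp (ConjClasses.mk_eq_mk_iff_isConj.mp (congrArg Subtype.val e))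
    simp only at hg
    exact Subtype.ext ((h a ha.1 g (hg.symm ▸ hb.1)).symm.trans hg)
  · intro h
    rw [Nat.card_eq_one_iff_unique]
    refine ⟨⟨fun C D => ?_⟩, ?_⟩
    · obtain ⟨a, rfl⟩ := hsurj C
      obtain ⟨b, rfl⟩ := hsurj D
      exact Subtype.ext (ConjClasses.mk_eq_mk_iff_isConj.mpr (h a.1 a.2.1 a.2.2 b.1 b.2.1 b.2.2))
    · have : Nonempty {a : G // a ∈ P ∧ a ≠ 1} := (Nat.card_pos_iff.mp (by omega)).1
      exact this.map f

end Cfsg.Agent.Involutions.KleinSylow
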