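import Mathlib
import Cfsg.Agent.Lib.Involutions.Basic

/-!
Counting involutions, real elements and pairs of involutions with a given product.
-/

namespace Cfsg.Agent.Involutions.Counting

open Subgroup Involutions.Basic

variable {G : Type*} [Group G]

/-- Pairs of involutions with product `x` correspond to the involutions `t` with `t * x` an involution. -/
theorem card_pairs (x : G) :
    Nat.card {p : G × G // orderOf p.1 = 2 ∧ orderOf p.2 = 2 ∧ p.1 * p.2 = x} =
      Nat.card {t : G // orderOf t = 2 ∧ orderOf (t * x) = 2} :=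
  Nat.card_congr
    { toFun := fun p => ⟨p.1.1, p.2.1, by
        obtain ⟨⟨u, v⟩, hu, hv, huv⟩ := p
        dsimp only at hu hv huv ⊢
        rw [← huv, ← mul_assoc, inv_sq_one hu, one_mul]
        exact hv⟩
      invFun := fun t => ⟨(t.1, t.1 * x), t.2.1, t.2.2, by
        rw [← mul_assoc, inv_sq_one t.2.1, one_mul]⟩
      left_inv := fun p => by
        obtain ⟨⟨a, b⟩, ha, hb, hab⟩ := p
        simp only [Subtype.mk.injEq, Prod.mk.injEq, true_and]
        rw [← hab, ← mul_assoc, inv_sq_one ha, one_mul]
      right_inv := fun t => rfl }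

theorem mul_involution_iff {t x : G} (ht : orderOf t = 2) :
    orderOf (t * x) = 2 ↔ t * x * t⁻¹ = x⁻¹ ∧ t ≠ x := by
  rw [orderOf_two_iff]
  constructor
  · rintro ⟨h, hne⟩
    refine ⟨?_, fun e => hne ?_⟩
    · rw [inv_eq ht]
      exact eq_inv_of_mul_eq_one_left (by rw [mul_assoc (t * x), h])
    · rw [← e]; exact inv_sq_one ht
  · rintro ⟨h, hne⟩
    refine ⟨?_, fun e => hne ?_⟩
    · rw [inv_eq ht] at h
      rw [← mul_assoc, h, inv_mul_cancel]
    · rw [← inv_eq ht]; exact inv_eq_of_mul_eq_one_right e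

/-- The number of involutions of a group of even order is odd. -/
theorem odd_card_involutions [Finite G] (heven : Even (Nat.card G)) :
    Odd (Nat.card {t : G // orderOf t = 2}) := by
  have : Fact (Nat.Prime 2) := ⟨Nat.prime_two⟩
  classical
  have : Fintype G := Fintype.ofFinite G
  let σ : Equiv.Perm G := Equiv.inv G
  have hσ : σ ^ 2 ^ 1 = 1 := by ext g; simp [σ, pow_two]
  rw [Nat.card_eq_fintype_card] at heven ⊢
  have h1 := Equiv.Perm.card_compl_support_modEq hσ
  have h2 : (σ.supportᶜ) = insert (1 : G) (Finset.univ.filter fun t : G => orderOf t = 2) := by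
    ext g
    simp only [Finset.mem_compl, Equiv.Perm.mem_support, Finset.mem_insert, Finset.mem_filter,
      Finset.mem_univ, true_and, not_not, orderOf_two_iff]
    simp only [σ, Equiv.inv_apply]
    rw [inv_eq_iff_mul_eq_one]
    constructor
    · intro h; by_cases hg : g = 1 <;> tauto
    · rintro (rfl | ⟨h, -⟩) <;> simp_all
  rw [h2, Finset.card_insert_of_notMem (by simp), ← Fintype.card_subtype] at h1
  rw [Nat.even_iff] at heven
  rw [Nat.odd_iff]
  unfold Nat.ModEq at h1
  omega

/-- A real element is conjugated to its inverse by exactly a coset of its centralizer. -/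
theorem card_inverting (x : G) (hreal : IsConj x x⁻¹) :
    Nat.card {g : G // g * x * g⁻¹ = x⁻¹} = Nat.card (Subgroup.centralizer ({x} : Set G)) := by
  obtain ⟨c, hc⟩ := isConj_iff.mp hreal
  apply Nat.card_congr
  refine Equiv.subtypeEquiv (Equiv.mulLeft c⁻¹) fun g => ?_
  rw [Equiv.coe_mulLeft, mem_centralizer_singleton_iff]
  constructor
  · intro h
    have : c⁻¹ * (g * x * g⁻¹) * c = x := by rw [h, ← hc]; group
    have e : c⁻¹ * g * x = (c⁻¹ * (g * x * g⁻¹) * c) * (c⁻¹ * g) := by group
    rw [e, this]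
  · intro h
    have e : g * x * g⁻¹ = c * ((c⁻¹ * g * x) * (c⁻¹ * g)⁻¹) * c⁻¹ := by group
    rw [e, h, mul_inv_cancel_right, hc]

/-- In a group of odd order only the identity is conjugate to its inverse. -/
theorem even_card_of_real [Finite G] (x : G) (hx : x ≠ 1) (hreal : IsConj x x⁻¹) :
    Even (Nat.card G) := by
  by_contra hodd
  rw [Nat.not_even_iff_odd] at hodd
  obtain ⟨c, hc⟩ := isConj_iff.mp hreal
  have hcop : (Nat.card G).Coprime 2 := Nat.coprime_two_right.mpr hodd
  have hc2 : c ^ 2 ∈ Subgroup.centralizer ({x} : Set G) := by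
    rw [mem_centralizer_singleton_iff, pow_two]
    have h1 : c * (c * x * c⁻¹) * c⁻¹ = x := by
      rw [hc, ← MulAut.conj_apply, map_inv, MulAut.conj_apply, hc, inv_inv]
    calc c * c * x = (c * (c * x * c⁻¹) * c⁻¹) * (c * c) := by group
      _ = x * (c * c) := by rw [h1]
  obtain ⟨k, hk⟩ : ∃ k : ℕ, c = (c ^ 2) ^ k := by
    obtain ⟨m, hm⟩ := hodd
    refine ⟨m + 1, ?_⟩
    rw [← pow_mul, show 2 * (m + 1) = Nat.card G + 1 by omega, pow_succ, pow_card_eq_one', one_mul]
  have hcm : c ∈ Subgroup.centralizer ({x} : Set G) := hk ▸ pow_mem hc2 k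
  rw [mem_centralizer_singleton_iff] at hcm
  rw [hcm, mul_inv_cancel_right] at hc
  apply hx
  have : x ^ 2 = 1 := by rw [pow_two]; exact mul_eq_one_iff_eq_inv.mpr hc
  exact (powCoprime hcop).injective (by simp [powCoprime, this])

/-- A real element with centralizer of odd order is inverted by an involution. -/
theorem exists_involution_inverting [Finite G] (x : G) (hx : x ≠ 1) (hreal : IsConj x x⁻¹)
    (hodd : Odd (Nat.card (Subgroup.centralizer ({x} : Set G)))) :
    ∃ t : G, orderOf t = 2 ∧ t * x * t⁻¹ = x⁻¹ := by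
  obtain ⟨c, hc⟩ := isConj_iff.mp hreal
  set n := Nat.card (Subgroup.centralizer ({x} : Set G)) with hn
  have hc2 : c * c ∈ Subgroup.centralizer ({x} : Set G) := by
    rw [mem_centralizer_singleton_iff]
    have h1 : c * (c * x * c⁻¹) * c⁻¹ = x := by
      rw [hc, ← MulAut.conj_apply, map_inv, MulAut.conj_apply, hc, inv_inv]
    calc c * c * x = (c * (c * x * c⁻¹) * c⁻¹) * (c * c) := by group
      _ = x * (c * c) := by rw [h1]
  refine ⟨c ^ n, ?_, ?_⟩
  · rw [orderOf_two_iff]
    constructor
    · have : (⟨c * c, hc2⟩ : Subgroup.centralizer ({x} : Set G)) ^ n = 1 := pow_card_eq_one'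
      have h := congrArg Subtype.val this
      simp only [SubmonoidClass.coe_pow, OneMemClass.coe_one] at h
      rw [← pow_add, ← h, ← pow_two, ← pow_mul, two_mul]
    · intro h1
      obtain ⟨m, hm⟩ := hodd
      have hcm : c ∈ Subgroup.centralizer ({x} : Set G) := by
        have e : c = (c * c) ^ m.succ := by
          rw [← pow_two, ← pow_mul, show 2 * m.succ = n + 1 by omega, pow_succ, h1, one_mul]
        rw [e]; exact pow_mem hc2 _
      rw [mem_centralizer_singleton_iff] at hcm
      rw [hcm, mul_inv_cancel_right] at hc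
      have hx2 : orderOf x = 2 := orderOf_two_iff.mpr ⟨mul_eq_one_iff_eq_inv.mpr hc, hx⟩
      have hd : orderOf (⟨x, mem_centralizer_singleton_iff.mpr rfl⟩ :
          Subgroup.centralizer ({x} : Set G)) ∣ n := orderOf_dvd_natCard _
      rw [Subgroup.orderOf_mk, hx2] at hd
      omega
  · have key : ∀ k : ℕ, Odd k → c ^ k * x * (c ^ k)⁻¹ = x⁻¹ := by
      rintro k ⟨m, rfl⟩
      have hm := pow_mem hc2 m
      rw [mem_centralizer_singleton_iff] at hm
      rw [pow_succ', pow_mul, pow_two, mul_inv_rev]
      calc c * (c * c) ^ m * x * (((c * c) ^ m)⁻¹ * c⁻¹)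
          = c * ((c * c) ^ m * x) * ((c * c) ^ m)⁻¹ * c⁻¹ := by group
        _ = c * x * c⁻¹ := by rw [hm]; group
        _ = x⁻¹ := hc
    exact key n hodd

/-- If no non-identity element of `H` is inverted by an involution, involutions lie in distinct cosets. -/
theorem exists_inverted [Finite G] (H : Subgroup G)
    (hH : Nat.card G < Nat.card H * (Nat.card {t : G // orderOf t = 2} + 1)) :
    ∃ h : G, h ∈ H ∧ h ≠ 1 ∧ ∃ t : G, orderOf t = 2 ∧ t * h * t⁻¹ = h⁻¹ := by
  by_contra hno
  push Not at hno
  have hni : ∀ t : G, orderOf t = 2 → t ∉ H := fun t ht htH =>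
    hno t htH (ne_one ht) t ht (by rw [mul_inv_cancel_right, inv_eq ht])
  let f : Option {t : G // orderOf t = 2} → G ⧸ H := fun o =>
    ((o.elim (1 : G) Subtype.val : G) : G ⧸ H)
  have hf : Function.Injective f := by
    rintro (_ | ⟨a, ha⟩) (_ | ⟨b, hb⟩) h
    · rfl
    · exact absurd (by simpa [f, QuotientGroup.eq] using h) (hni b hb)
    · exact absurd (by simpa [f, QuotientGroup.eq] using h) (hni a ha)
    · have hab : a⁻¹ * b ∈ H := by simpa [f, QuotientGroup.eq] using h
      by_contra hne
      refine hno _ hab (fun e => hne ?_) a ha ?_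
      · congr; exact inv_mul_eq_one.mp e
      · rw [inv_eq ha]
        have h3 := conj_prod_left ha hb
        rw [inv_eq ha] at h3
        exact h3
  have := Nat.card_le_card_of_injective f hf
  rw [Finite.card_option] at this
  have h2 := H.card_eq_card_quotient_mul_card_subgroup
  have : Nat.card H * (Nat.card {t : G // orderOf t = 2} + 1) ≤ Nat.card H * Nat.card (G ⧸ H) :=
    Nat.mul_le_mul_left _ this
  rw [h2, mul_comm (Nat.card (G ⧸ H))] at hH
  omega

end Cfsg.Agent.Involutions.Counting
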