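import Mathlib
import Cfsg.Agent.Lib.Involutions.Counting
import Cfsg.Agent.Lib.Involutions.ThompsonTransfer

/-!
The Brauer-Fowler inequalities.
-/

namespace Cfsg.Agent.Involutions.BrauerFowler

open Subgroup Involutions.Basic Involutions.Counting

variable {G : Type*} [Group G] [Finite G]

/-- Number of ordered pairs of involutions with product `x`. -/
noncomputable def pairsWith (x : G) : ℕ :=
  Nat.card {p : G × G // orderOf p.1 = 2 ∧ orderOf p.2 = 2 ∧ p.1 * p.2 = x}

theorem sum_pairsWith [Fintype G] :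
    ∑ x : G, pairsWith x = Nat.card {t : G // orderOf t = 2} ^ 2 := by
  unfold pairsWith
  rw [← Nat.card_sigma, pow_two, ← Nat.card_prod]
  exact Nat.card_congr
    { toFun := fun s => (⟨s.2.1.1, s.2.2.1⟩, ⟨s.2.1.2, s.2.2.2.1⟩)
      invFun := fun q => ⟨q.1.1 * q.2.1, (q.1.1, q.2.1), q.1.2, q.2.2, rfl⟩
      left_inv := by rintro ⟨x, ⟨u, v⟩, hu, hv, rfl⟩; rfl
      right_inv := fun q => rfl }

theorem pairsWith_one : pairsWith (1 : G) = Nat.card {t : G // orderOf t = 2} := by
  unfold pairsWith
  rw [card_pairs]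
  exact Nat.card_congr (Equiv.subtypeEquivRight fun t => by simp)

theorem inverted_of_pair (x : G) (t : {t : G // orderOf t = 2 ∧ orderOf (t * x) = 2}) :
    t.1 * x * t.1⁻¹ = x⁻¹ :=
  ((mul_involution_iff t.2.1).mp t.2.2).1

theorem pairsWith_le (x : G) : pairsWith x ≤ Nat.card (Subgroup.centralizer ({x} : Set G)) := by
  unfold pairsWith
  rw [card_pairs]
  rcases isEmpty_or_nonempty {t : G // orderOf t = 2 ∧ orderOf (t * x) = 2} with h | ⟨⟨u⟩⟩
  · simp
  · refine Nat.card_le_card_of_injective (fun t => ⟨u.1 * t.1, ?_⟩) fun a b h => ?_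
    · rw [mem_centralizer_singleton_iff, ← mul_inv_eq_iff_eq_mul,
        show u.1 * t.1 * x * (u.1 * t.1)⁻¹ = u.1 * (t.1 * x * t.1⁻¹) * u.1⁻¹ by group,
        inverted_of_pair x t, show u.1 * x⁻¹ * u.1⁻¹ = (u.1 * x * u.1⁻¹)⁻¹ by group,
        inverted_of_pair x u, inv_inv]
    · exact Subtype.ext (mul_left_cancel (congrArg Subtype.val h))

theorem pairsWith_add_two_le {x : G} (hx : orderOf x = 2) :
    pairsWith x + 2 ≤ Nat.card (Subgroup.centralizer ({x} : Set G)) := by
  unfold pairsWith
  rw [card_pairs]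
  have hxi := inv_eq hx
  set A : Set G := {t | orderOf t = 2 ∧ orderOf (t * x) = 2} with hAdef
  have hAC : insert (1 : G) (insert x A) ⊆ (Subgroup.centralizer ({x} : Set G) : Set G) := by
    rintro t (rfl | rfl | ht)
    · exact one_mem _
    · exact mem_centralizer_singleton_iff.mpr rfl
    · have h := inverted_of_pair x ⟨t, ht⟩
      rw [hxi, mul_inv_eq_iff_eq_mul] at h
      exact mem_centralizer_singleton_iff.mpr h
  have hx1 : x ∉ A := fun h => ((mul_involution_iff h.1).mp h.2).2 rfl
  have h1 : (1 : G) ∉ insert x A := by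
    rintro (h | ⟨h, -⟩)
    · exact ne_one hx h.symm
    · simp at h
  have h := Set.ncard_le_ncard hAC (Set.toFinite _)
  rw [Set.ncard_insert_of_notMem h1 (Set.toFinite _), Set.ncard_insert_of_notMem hx1 (Set.toFinite _),
    ← Nat.card_coe_set_eq, ← Nat.card_coe_set_eq] at h
  exact h

/-- The Brauer-Fowler index inequality, for a lower bound `m` on the indices of proper subgroups. -/
theorem index_bound (heven : Even (Nat.card G)) (hZ : Odd (Nat.card (Subgroup.center G)))
    (hno2 : ∀ H : Subgroup G, H.index ≠ 2) (m : ℕ) (hm : ∀ H : Subgroup G, H ≠ ⊤ → m ≤ H.index) :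
    2 * m * Nat.card {t : G // orderOf t = 2} ^ 2 <
      Nat.card G * (Nat.card G + Nat.card {t : G // orderOf t = 2}) := by
  classical
  have : Fintype G := Fintype.ofFinite G
  set g := Nat.card G with hg
  set n := Nat.card {t : G // orderOf t = 2} with hn
  have hn1 : 0 < n := (Counting.odd_card_involutions heven).pos
  have hg0 : 0 < g := Nat.card_pos
  have hzodd : ∀ x ∈ Subgroup.center G, x * x = 1 → x = 1 := by
    intro x hx h2
    by_contra h1
    have hd : orderOf (⟨x, hx⟩ : Subgroup.center G) ∣ Nat.card (Subgroup.center G) :=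
      orderOf_dvd_natCard _
    rw [Subgroup.orderOf_mk, orderOf_two_iff.mpr ⟨h2, h1⟩] at hd
    obtain ⟨k, hk⟩ := hZ
    omega
  have hinvB : ∀ x : G, orderOf x = 2 → m * (pairsWith x + 2) ≤ g := by
    intro x hx
    have hC : Subgroup.centralizer ({x} : Set G) ≠ ⊤ := by
      intro h
      refine ne_one hx (hzodd x (mem_center_iff.mpr fun y => ?_) (inv_sq_one hx))
      exact mem_centralizer_singleton_iff.mp (h ▸ mem_top y)
    calc m * (pairsWith x + 2)
        ≤ (Subgroup.centralizer ({x} : Set G)).index * Nat.card (Subgroup.centralizer ({x} : Set G)) :=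
          Nat.mul_le_mul (hm _ hC) (pairsWith_add_two_le hx)
      _ = g := Subgroup.index_mul_card _
  have hothB : ∀ x : G, x ≠ 1 → orderOf x ≠ 2 → 2 * m * pairsWith x ≤ g := by
    intro x hx1 hx2
    by_cases h0 : pairsWith x = 0
    · simp [h0]
    have hne : Nonempty {t : G // orderOf t = 2 ∧ orderOf (t * x) = 2} := by
      unfold pairsWith at h0
      rw [card_pairs] at h0
      exact (Nat.card_ne_zero.mp h0).1
    obtain ⟨u⟩ := hne
    have hxx : x⁻¹ ≠ x := fun e => hx2 (orderOf_two_iff.mpr ⟨by
      nth_rw 2 [← e]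
      exact mul_inv_cancel x, hx1⟩)
    -- the extended centralizer
    let Cs : Subgroup G :=
      { carrier := {y | y * x * y⁻¹ = x ∨ y * x * y⁻¹ = x⁻¹}
        mul_mem' := by
          rintro a b (ha | ha) (hb | hb)
          · left; rw [show a * b * x * (a * b)⁻¹ = a * (b * x * b⁻¹) * a⁻¹ by group, hb, ha]
          · right; rw [show a * b * x * (a * b)⁻¹ = a * (b * x * b⁻¹) * a⁻¹ by group, hb,
              show a * x⁻¹ * a⁻¹ = (a * x * a⁻¹)⁻¹ by group, ha]
          · right; rw [show a * b * x * (a * b)⁻¹ = a * (b * x * b⁻¹) * a⁻¹ by group, hb, ha]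
          · left; rw [show a * b * x * (a * b)⁻¹ = a * (b * x * b⁻¹) * a⁻¹ by group, hb,
              show a * x⁻¹ * a⁻¹ = (a * x * a⁻¹)⁻¹ by group, ha, inv_inv]
        one_mem' := Or.inl (by group)
        inv_mem' := by
          rintro a (ha | ha)
          · left
            nth_rw 1 [← ha]
            group
          · right
            have h : x⁻¹ = (a * x * a⁻¹) := ha.symm
            calc a⁻¹ * x * a⁻¹⁻¹ = a⁻¹ * (x⁻¹)⁻¹ * a := by group
              _ = a⁻¹ * (a * x * a⁻¹)⁻¹ * a := by rw [← h]
              _ = x⁻¹ := by group }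
    have hCCs : Subgroup.centralizer ({x} : Set G) ≤ Cs := fun y hy =>
      Or.inl (mul_inv_eq_iff_eq_mul.mpr (mem_centralizer_singleton_iff.mp hy))
    have hrel : (Subgroup.centralizer ({x} : Set G)).relIndex Cs = 2 := by
      rw [Subgroup.relIndex, Subgroup.index_eq_two_iff]
      refine ⟨⟨u.1, Or.inr (inverted_of_pair x u)⟩, fun b => ?_⟩
      simp only [mem_subgroupOf, mem_centralizer_singleton_iff, coe_mul, ← mul_inv_eq_iff_eq_mul]
      have e : (b : G) * u.1 * x * ((b : G) * u.1)⁻¹ = ((b : G) * x * (b : G)⁻¹)⁻¹ := by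
        rw [show (b : G) * u.1 * x * ((b : G) * u.1)⁻¹ = (b : G) * (u.1 * x * u.1⁻¹) * (b : G)⁻¹ by group,
          inverted_of_pair x u]
        group
      rw [e]
      rcases b.2 with h | h <;> rw [h]
      · exact Or.inr ⟨rfl, fun e' => hxx e'⟩
      · exact Or.inl ⟨inv_inv x, hxx⟩
    have hCs : Cs ≠ ⊤ := by
      intro h
      apply hno2 (Subgroup.centralizer ({x} : Set G))
      rw [← hrel, h, Subgroup.relIndex_top_right]
    have hidx : 2 * m ≤ (Subgroup.centralizer ({x} : Set G)).index := by
      rw [← Subgroup.relIndex_mul_index hCCs, hrel]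
      exact Nat.mul_le_mul_left 2 (hm _ hCs)
    calc 2 * m * pairsWith x
        ≤ (Subgroup.centralizer ({x} : Set G)).index * Nat.card (Subgroup.centralizer ({x} : Set G)) :=
          Nat.mul_le_mul hidx (pairsWith_le x)
      _ = g := Subgroup.index_mul_card _
  set I : Finset G := Finset.univ.filter fun x => orderOf x = 2 with hI
  have hIcard : I.card = n := by rw [hn, Nat.card_eq_fintype_card, Fintype.card_subtype]
  have h1I : (1 : G) ∉ I := by simp [hI]
  set R : Finset G := Finset.univ \ insert 1 I with hR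
  have hRcard : R.card + (n + 1) = g := by
    rw [hR, Finset.card_sdiff_of_subset (Finset.subset_univ _), Finset.card_insert_of_notMem h1I, hIcard,
      Finset.card_univ, ← Nat.card_eq_fintype_card, ← hg]
    have : n + 1 ≤ g := by
      rw [← hIcard, ← Finset.card_insert_of_notMem h1I, hg, Nat.card_eq_fintype_card]
      exact Finset.card_le_univ _
    omega
  have htot : (∑ x ∈ R, pairsWith x) + (n + ∑ x ∈ I, pairsWith x) = n ^ 2 := by
    rw [hn, ← sum_pairsWith (G := G), ← Finset.sum_sdiff (Finset.subset_univ (insert (1 : G) I)),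
      Finset.sum_insert h1I, pairsWith_one]
  have hIsum : m * ((∑ x ∈ I, pairsWith x) + 2 * n) ≤ n * g := by
    calc m * ((∑ x ∈ I, pairsWith x) + 2 * n) = ∑ x ∈ I, m * (pairsWith x + 2) := by
          rw [← Finset.mul_sum, Finset.sum_add_distrib, Finset.sum_const, hIcard, smul_eq_mul]; ring
      _ ≤ I.card • g := Finset.sum_le_card_nsmul _ _ _ fun x hx => hinvB x (Finset.mem_filter.mp hx).2
      _ = n * g := by rw [hIcard, smul_eq_mul]
  have hRsum : 2 * m * (∑ x ∈ R, pairsWith x) ≤ R.card * g := by
    rw [Finset.mul_sum, ← smul_eq_mul (R.card) g]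
    refine Finset.sum_le_card_nsmul _ _ _ fun x hx => ?_
    rw [hR, Finset.mem_sdiff, Finset.mem_insert] at hx
    push Not at hx
    exact hothB x hx.2.1 (by simpa [hI] using hx.2.2)
  nlinarith

/-- Every group of even order with centre of odd order has a small-index proper subgroup. -/
theorem exists_small_index (heven : Even (Nat.card G)) (hZ : Odd (Nat.card (Subgroup.center G))) :
    ∃ H : Subgroup G, H ≠ ⊤ ∧ (H.index = 2 ∨
      2 * H.index * Nat.card {t : G // orderOf t = 2} ^ 2 <
        Nat.card G * (Nat.card G + Nat.card {t : G // orderOf t = 2})) := by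
  by_cases h2 : ∃ H : Subgroup G, H.index = 2
  · obtain ⟨H, hH⟩ := h2
    exact ⟨H, fun e => by rw [e, Subgroup.index_top] at hH; omega, Or.inl hH⟩
  push Not at h2
  have : Nontrivial G := by
    rw [← Finite.one_lt_card_iff_nontrivial]
    obtain ⟨k, hk⟩ := heven
    have := Nat.card_pos (α := G)
    omega
  obtain ⟨H, hH, hmin⟩ := Set.exists_min_image {H : Subgroup G | H ≠ ⊤} Subgroup.index (Set.toFinite _)
    ⟨⊥, bot_ne_top⟩
  exact ⟨H, hH, Or.inr (index_bound heven hZ h2 H.index fun K hK => hmin K hK)⟩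

/-- A conjugacy class of an involution has at most as many members as there are involutions. -/
theorem index_centralizer_le {t : G} (ht : orderOf t = 2) :
    (Subgroup.centralizer ({t} : Set G)).index ≤ Nat.card {x : G // orderOf x = 2} := by
  refine Nat.card_le_card_of_injective
    (fun q : G ⧸ Subgroup.centralizer ({t} : Set G) => (⟨q.out * t * q.out⁻¹,
      by rw [orderOf_conj, ht]⟩ : {x : G // orderOf x = 2})) fun a b h => ?_
  have h' : a.out * t * a.out⁻¹ = b.out * t * b.out⁻¹ := congrArg Subtype.val h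
  rw [← a.out_eq, ← b.out_eq, QuotientGroup.eq, mem_centralizer_singleton_iff]
  calc a.out⁻¹ * b.out * t = a.out⁻¹ * (b.out * t * b.out⁻¹) * b.out := by group
    _ = a.out⁻¹ * (a.out * t * a.out⁻¹) * b.out := by rw [h']
    _ = t * (a.out⁻¹ * b.out) := by group

/-- The order of a simple group divides `i!` for a proper subgroup of index `i`. -/
theorem card_dvd_factorial [IsSimpleGroup G] {H : Subgroup G} (hH : H ≠ ⊤) :
    Nat.card G ∣ H.index.factorial := by
  classical
  have : Fintype (G ⧸ H) := Fintype.ofFinite _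
  have hinj : Function.Injective (MulAction.toPermHom G (G ⧸ H)) := by
    rw [← MonoidHom.ker_eq_bot_iff, ← Subgroup.normalCore_eq_ker]
    rcases H.normalCore_normal.eq_bot_or_eq_top with h | h
    · exact h
    · exact absurd (top_le_iff.mp (h ▸ Subgroup.normalCore_le H)) hH
  have := Subgroup.card_dvd_of_injective _ hinj
  rwa [Nat.card_eq_fintype_card (α := Equiv.Perm (G ⧸ H)), Fintype.card_perm,
    ← Nat.card_eq_fintype_card] at this

theorem no_index_two [IsSimpleGroup G] (hgt : 2 < Nat.card G) (H : Subgroup G) : H.index ≠ 2 := by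
  intro h
  have := card_dvd_factorial (H := H) (fun e => by rw [e, Subgroup.index_top] at h; omega)
  rw [h, Nat.factorial_two] at this
  have := Nat.le_of_dvd (by norm_num) this
  omega

theorem center_odd [IsSimpleGroup G] (heven : Even (Nat.card G)) (hgt : 2 < Nat.card G) :
    Odd (Nat.card (Subgroup.center G)) := by
  rcases (show (Subgroup.center G).Normal from inferInstance).eq_bot_or_eq_top with h | h
  · rw [h, Subgroup.card_bot]; exact odd_one
  · exfalso
    have hcomm : ∀ a b : G, a * b = b * a := fun a b => Subgroup.mem_center_iff.mp (h ▸ mem_top b) a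
    obtain ⟨t, ht⟩ : ∃ t : G, orderOf t = 2 := by
      obtain ⟨x, hx⟩ := (Counting.odd_card_involutions heven).pos |> Nat.card_pos_iff.mp |>.1
      exact ⟨x, hx⟩
    have hn : (Subgroup.zpowers t).Normal := ⟨fun x hx g => by rwa [hcomm g x, mul_inv_cancel_right]⟩
    rcases hn.eq_bot_or_eq_top with h' | h'
    · rw [Subgroup.zpowers_eq_bot] at h'; exact ne_one ht h'
    · have := Nat.card_zpowers t
      rw [h', Subgroup.card_top] at this
      omega

end Cfsg.Agent.Involutions.BrauerFowler
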