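import Mathlib
import Cfsg.Prelude.Def_Involutions
import Cfsg.Agent.Lib.Involutions.Basic
import Cfsg.Agent.Lib.Involutions.Counting

/-!
Basic properties of strongly embedded subgroups.
-/

namespace Cfsg.Agent.Involutions.StronglyEmbedded

open Subgroup Involutions.Basic

variable {G : Type*} [Group G] [Finite G] {H : Subgroup G}

theorem exists_involution_mem (heven : Even (Nat.card H)) : ∃ t ∈ H, orderOf t = 2 := by
  have : Fact (Nat.Prime 2) := ⟨Nat.prime_two⟩
  obtain ⟨⟨t, ht⟩, h⟩ := exists_prime_orderOf_dvd_card' (G := H) 2 (even_iff_two_dvd.mp heven)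
  exact ⟨t, ht, by simpa using h⟩

/-- An element conjugating an involution of `H` into `H` lies in `H`. -/
theorem mem_of_conj (hH : Cfsg.IsStronglyEmbedded H) {t g : G} (ht : t ∈ H) (ht2 : orderOf t = 2)
    (hg : g * t * g⁻¹ ∈ H) : g ∈ H := by
  by_contra hg'
  have h := hH.2.2 g hg'
  have hm : g * t * g⁻¹ ∈ H ⊓ H.map (MulAut.conj g).toMonoidHom :=
    ⟨hg, ⟨t, ht, rfl⟩⟩
  have hd : orderOf (⟨_, hm⟩ : ↥(H ⊓ H.map (MulAut.conj g).toMonoidHom)) ∣
      Nat.card ↥(H ⊓ H.map (MulAut.conj g).toMonoidHom) := orderOf_dvd_natCard _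
  rw [Subgroup.orderOf_mk, orderOf_conj, ht2] at hd
  obtain ⟨m, hm'⟩ := h
  omega

theorem of_conj (hne : H ≠ ⊤) (heven : Even (Nat.card H))
    (h : ∀ t ∈ H, orderOf t = 2 → ∀ g : G, g * t * g⁻¹ ∈ H → g ∈ H) : Cfsg.IsStronglyEmbedded H := by
  refine ⟨hne, heven, fun g hg => ?_⟩
  by_contra ho
  rw [Nat.not_odd_iff_even] at ho
  obtain ⟨s, ⟨hsH, t, ht, hts⟩, hs⟩ := exists_involution_mem ho
  change g * t * g⁻¹ = s at hts
  exact hg (h t ht (by rw [← orderOf_conj g t, hts, hs]) g (by rw [hts]; exact hsH))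

theorem centralizer_le (hH : Cfsg.IsStronglyEmbedded H) {t : G} (ht : t ∈ H) (ht2 : orderOf t = 2) :
    Subgroup.centralizer ({t} : Set G) ≤ H := fun g hg =>
  mem_of_conj hH ht ht2 (by rw [mem_centralizer_singleton_iff.mp hg, mul_inv_cancel_right]; exact ht)

theorem mem_of_commute (hH : Cfsg.IsStronglyEmbedded H) {t g : G} (ht : t ∈ H) (ht2 : orderOf t = 2)
    (hg : Commute g t) : g ∈ H :=
  centralizer_le hH ht ht2 (mem_centralizer_singleton_iff.mpr hg)

/-- An involution of `H` and an involution outside `H` have product of odd order. -/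
theorem odd_orderOf_mul (hH : Cfsg.IsStronglyEmbedded H) {t u : G} (ht : orderOf t = 2) (htH : t ∈ H)
    (hu : orderOf u = 2) (huH : u ∉ H) : Odd (orderOf (t * u)) := by
  by_contra hodd
  rw [Nat.not_odd_iff_even] at hodd
  obtain ⟨hz2, hzt, hzu⟩ := middle_involution ht hu hodd
  exact huH (mem_of_commute hH (mem_of_commute hH htH ht hzt) hz2 hzu.symm)

theorem exists_involution_notMem (hH : Cfsg.IsStronglyEmbedded H) : ∃ u ∉ H, orderOf u = 2 := by
  obtain ⟨t, ht, ht2⟩ := exists_involution_mem hH.2.1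
  obtain ⟨g, hg⟩ : ∃ g, g ∉ H := by
    by_contra h; push Not at h
    exact hH.1 (eq_top_iff.mpr fun x _ => h x)
  exact ⟨g * t * g⁻¹, fun h => hg (mem_of_conj hH ht ht2 h), by rw [orderOf_conj, ht2]⟩

/-- All involutions of a group with a strongly embedded subgroup are conjugate. -/
theorem isConj_involutions (hH : Cfsg.IsStronglyEmbedded H) {a b : G} (ha : orderOf a = 2)
    (hb : orderOf b = 2) : IsConj a b := by
  obtain ⟨u, huH, hu⟩ := exists_involution_notMem hH
  obtain ⟨t, htH, ht⟩ := exists_involution_mem hH.2.1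
  have key : ∀ {x : G}, orderOf x = 2 → IsConj x t := by
    intro x hx
    have htu : IsConj t u := by
      obtain ⟨d, -, hd⟩ := exists_conj_of_odd ht hu (odd_orderOf_mul hH ht htH hu huH)
      exact isConj_iff.mpr ⟨d, hd⟩
    by_cases hxH : x ∈ H
    · obtain ⟨d, -, hd⟩ := exists_conj_of_odd hx hu (odd_orderOf_mul hH hx hxH hu huH)
      exact (isConj_iff.mpr ⟨d, hd⟩).trans htu.symm
    · obtain ⟨d, -, hd⟩ := exists_conj_of_odd ht hx (odd_orderOf_mul hH ht htH hx hxH)
      exact (isConj_iff.mpr ⟨d, hd⟩).symm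
  exact (key ha).trans (key hb).symm

/-- Each involution fixes exactly one coset of `H`. -/
theorem existsUnique_fixed (hH : Cfsg.IsStronglyEmbedded H) {i : G} (hi : orderOf i = 2) :
    ∃! c : G ⧸ H, i • c = c := by
  obtain ⟨t, htH, ht⟩ := exists_involution_mem hH.2.1
  obtain ⟨g, hg⟩ := isConj_iff.mp (isConj_involutions hH ht hi)
  refine ⟨(g : G ⧸ H), ?_, ?_⟩
  · rw [← hg]
    show ((g * t * g⁻¹ * g : G) : G ⧸ H) = g
    rw [QuotientGroup.eq, show (g * t * g⁻¹ * g)⁻¹ * g = t⁻¹ by group]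
    exact inv_mem htH
  · intro c hc
    obtain ⟨k, rfl⟩ := QuotientGroup.mk_surjective c
    have hk : (i * k)⁻¹ * k ∈ H := QuotientGroup.eq.mp hc
    have h2 := mem_of_conj hH htH ht (g := k⁻¹ * g) (by
      have := inv_mem hk
      rw [← hg] at this
      rw [show k⁻¹ * g * t * (k⁻¹ * g)⁻¹ = ((g * t * g⁻¹ * k)⁻¹ * k)⁻¹ by group]
      exact this)
    exact QuotientGroup.eq.mpr h2

/-- The involutions interchanging `H` and `gH` number at most those of `H`; in fact if `u` is one of them,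
`D = H ∩ uHu` moves any involution `s` of `H` to as many places as there are such involutions. -/
theorem swap_map_injective (hH : Cfsg.IsStronglyEmbedded H) {s u a b : G} (hs : orderOf s = 2) (hsH : s ∈ H)
    (ha : orderOf a = 2) (haH : a ∉ H) (hb : orderOf b = 2)
    (h : (u * a) * s * (u * a)⁻¹ = (u * b) * s * (u * b)⁻¹) : a = b := by
  have hc : Commute (a⁻¹ * b) s := by
    show a⁻¹ * b * s = s * (a⁻¹ * b)
    calc a⁻¹ * b * s = a⁻¹ * u⁻¹ * ((u * b) * s * (u * b)⁻¹) * (u * b) := by group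
      _ = a⁻¹ * u⁻¹ * ((u * a) * s * (u * a)⁻¹) * (u * b) := by rw [h]
      _ = _ := by group
  rw [inv_eq ha] at hc
  -- `a * b` is inverted by `a` and centralized by `s`
  obtain ⟨d, hd, hda⟩ := exists_conj_of_odd hs ha (odd_orderOf_mul hH hs hsH ha haH)
  obtain ⟨i, rfl⟩ := Subgroup.mem_zpowers_iff.mp hd
  set c := a * b with hcdef
  have hsc : s * c * s⁻¹ = c := mul_inv_eq_iff_eq_mul.mpr hc.symm.eq
  have hac : a * c * a⁻¹ = c⁻¹ := conj_prod_left ha hb
  -- both normalize `⟨c⟩`, hence so does `s * a`, and `s`, `a` act alike on `c`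
  have hsa : (s * a) * c * (s * a)⁻¹ = c⁻¹ := by
    rw [mul_inv_rev, show s * a * c * (a⁻¹ * s⁻¹) = s * (a * c * a⁻¹) * s⁻¹ by group, hac,
      show s * c⁻¹ * s⁻¹ = (s * c * s⁻¹)⁻¹ by group, hsc]
  have hn : ∀ n : ℕ, (s * a) ^ n * c * ((s * a) ^ n)⁻¹ = if Even n then c else c⁻¹ := by
    intro n
    induction n with
    | zero => simp
    | succ n ih =>
      rw [pow_succ', mul_inv_rev, show s * a * (s * a) ^ n * c * (((s * a) ^ n)⁻¹ * (s * a)⁻¹) =
        (s * a) * ((s * a) ^ n * c * ((s * a) ^ n)⁻¹) * (s * a)⁻¹ by group, ih]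
      by_cases he : Even n
      · rw [if_pos he, if_neg (by simpa [Nat.even_add_one] using he), hsa]
      · rw [if_neg he, if_pos (by simpa [Nat.even_add_one] using he),
          show s * a * c⁻¹ * (s * a)⁻¹ = (s * a * c * (s * a)⁻¹)⁻¹ by group, hsa, inv_inv]
  have h1 := hn (orderOf (s * a))
  rw [pow_orderOf_eq_one, if_neg (Nat.not_even_iff_odd.mpr (odd_orderOf_mul hH hs hsH ha haH))] at h1
  simp only [one_mul, inv_one, mul_one] at h1
  by_contra hne
  have hc1 : c ≠ 1 := fun e => hne (by rw [eq_inv_of_mul_eq_one_left e, inv_eq hb])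
  have hc2 : orderOf c = 2 := orderOf_two_iff.mpr ⟨mul_eq_one_iff_eq_inv.mpr h1, hc1⟩
  have hcH : c ∈ H := mem_of_commute hH hsH hs hc
  refine haH (mem_of_commute hH hcH hc2 ?_)
  show a * c = c * a
  rw [← mul_inv_eq_iff_eq_mul, hac, ← h1]

theorem swap_map_mem {s u a : G} (hsH : s ∈ H) {g : G} (huy : u • ((1 : G) : G ⧸ H) = (g : G ⧸ H))
    (hu : orderOf u = 2) (hay : a • ((1 : G) : G ⧸ H) = (g : G ⧸ H)) :
    u * a ∈ H ∧ (u * a) * s * (u * a)⁻¹ ∈ H := by
  have h : u * a ∈ H := by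
    rw [← inv_eq hu, ← QuotientGroup.eq]
    simpa using huy.trans hay.symm
  exact ⟨h, mul_mem (mul_mem h hsH) (inv_mem h)⟩

/-- For two distinct cosets the interchanging involutions are as many as the involutions of `H`. -/
theorem card_swap (hH : Cfsg.IsStronglyEmbedded H) (x y : G ⧸ H) (hxy : x ≠ y) :
    Nat.card {i : G // orderOf i = 2 ∧ i • x = y} = Nat.card {t : G // orderOf t = 2 ∧ t ∈ H} := by
  classical
  have : Fintype G := Fintype.ofFinite G
  have : Fintype (G ⧸ H) := Fintype.ofFinite _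
  -- each involution fixes exactly one coset
  let I := {i : G // orderOf i = 2}
  let fixc : I → G ⧸ H := fun i => (existsUnique_fixed hH i.2).exists.choose
  have fix_spec : ∀ i : I, ∀ c, (i : G) • c = c ↔ fixc i = c := fun i c => by
    have h := (existsUnique_fixed hH i.2).exists.choose_spec
    exact ⟨fun hc => (existsUnique_fixed hH i.2).unique h hc, fun e => e ▸ h⟩
  let f : G ⧸ H → G ⧸ H → ℕ := fun a b => Nat.card {i : G // orderOf i = 2 ∧ i • a = b}
  have conj_card : ∀ (g : G) (a b : G ⧸ H), f a b = f (g • a) (g • b) := by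
    intro g a b
    refine Nat.card_congr (Equiv.subtypeEquiv (MulAut.conj g).toEquiv fun i => ?_)
    simp [MulAut.conj_apply, orderOf_conj, mul_smul]
  set m := Nat.card {t : G // orderOf t = 2 ∧ t ∈ H} with hm
  set o : G ⧸ H := ((1 : G) : G ⧸ H) with ho
  have stab : ∀ t : G, t • o = o ↔ t ∈ H := fun t => by
    rw [ho]
    show ((t * 1 : G) : G ⧸ H) = _ ↔ _
    rw [mul_one, QuotientGroup.eq, mul_one, inv_mem_iff]
  have hoo : f o o = m := Nat.card_congr (Equiv.subtypeEquivRight fun t => by rw [stab])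
  have hdiag : ∀ a, f a a = m := by
    intro a
    obtain ⟨g, rfl⟩ := QuotientGroup.mk_surjective a
    have := conj_card g o o
    rw [hoo] at this
    rw [this, ho]
    simp
  have hle : ∀ b, f o b ≤ m := by
    intro b
    by_cases hb : b = o
    · rw [hb, hoo]
    · rcases isEmpty_or_nonempty {i : G // orderOf i = 2 ∧ i • o = b} with he | ⟨⟨u, hu, hub⟩⟩
      · simp only [f]; rw [Nat.card_of_isEmpty]; omega
      · obtain ⟨s, hsH, hs⟩ := exists_involution_mem hH.2.1
        obtain ⟨g, rfl⟩ := QuotientGroup.mk_surjective b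
        refine Nat.card_le_card_of_injective
          (fun a => (⟨(u * a.1) * s * (u * a.1)⁻¹, by rw [orderOf_conj, hs],
            (swap_map_mem hsH hub hu a.2.2).2⟩ : {t : G // orderOf t = 2 ∧ t ∈ H})) ?_
        rintro ⟨a, ha, hay⟩ ⟨c, hc, hcy⟩ h
        apply Subtype.ext
        refine swap_map_injective hH hs hsH ha (fun haH => hb ?_) hc (congrArg Subtype.val h)
        rw [← hay, (stab a).mpr haH]
  -- the total count
  have htot : ∑ b, f o b = Nat.card I := by
    rw [show (∑ b, f o b) = Nat.card (Σ b, {i : G // orderOf i = 2 ∧ i • o = b}) by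
      rw [Nat.card_sigma]]
    exact Nat.card_congr
      { toFun := fun p => ⟨p.2.1, p.2.2.1⟩
        invFun := fun i => ⟨i.1 • o, i.1, i.2, rfl⟩
        left_inv := by rintro ⟨b, i, hi, rfl⟩; rfl
        right_inv := fun i => rfl }
  have htot2 : Nat.card I = ∑ _a : G ⧸ H, m := by
    rw [← Finset.sum_congr rfl (fun a _ => hdiag a),
      show (∑ a : G ⧸ H, f a a) = Nat.card (Σ a : G ⧸ H, {i : G // orderOf i = 2 ∧ i • a = a}) by
        rw [Nat.card_sigma]]
    exact Nat.card_congr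
      { toFun := fun i => ⟨fixc i, i.1, i.2, (fix_spec i _).mpr rfl⟩
        invFun := fun p => ⟨p.2.1, p.2.2.1⟩
        left_inv := fun i => rfl
        right_inv := by
          rintro ⟨a, i, hi, hia⟩
          obtain rfl := (fix_spec ⟨i, hi⟩ a).mp hia
          rfl }
  have heq := (Finset.sum_eq_sum_iff_of_le (s := Finset.univ) (f := f o) (g := fun _ => m) (fun b _ => hle b)).mp (htot.trans htot2)
  obtain ⟨g, rfl⟩ := QuotientGroup.mk_surjective x
  show f _ y = m
  rw [conj_card g⁻¹]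
  have : g⁻¹ • ((g : G) : G ⧸ H) = o := by rw [ho]; simp
  rw [this]
  exact heq _ (Finset.mem_univ _)

/-- `H ∩ uHu` is transitive on the involutions of `H`. -/
theorem exists_conj_in_inter (hH : Cfsg.IsStronglyEmbedded H) {u : G} (hu : orderOf u = 2) (huH : u ∉ H)
    {s t : G} (hs : orderOf s = 2) (hsH : s ∈ H) (ht : orderOf t = 2) (htH : t ∈ H) :
    ∃ d ∈ H ⊓ H.map (MulAut.conj u).toMonoidHom, d * s * d⁻¹ = t := by
  set o : G ⧸ H := ((1 : G) : G ⧸ H) with ho
  have hou : o ≠ u • o := by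
    intro e
    have e' : (((1 : G)) : G ⧸ H) = ((u * 1 : G) : G ⧸ H) := e
    rw [QuotientGroup.eq] at e'
    simp at e'
    exact huH e'
  have hinj : Function.Injective
      (fun a : {i : G // orderOf i = 2 ∧ i • o = u • o} => (⟨(u * a.1) * s * (u * a.1)⁻¹,
        by rw [orderOf_conj, hs], (swap_map_mem (g := u * 1) hsH rfl hu a.2.2).2⟩ :
        {t : G // orderOf t = 2 ∧ t ∈ H})) := by
    rintro ⟨a, ha, hay⟩ ⟨c, hc, hcy⟩ h
    apply Subtype.ext
    refine swap_map_injective hH hs hsH ha (fun haH => hou ?_) hc (congrArg Subtype.val h)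
    rw [← hay]
    show ((1 : G) : G ⧸ H) = ((a * 1 : G) : G ⧸ H)
    rw [QuotientGroup.eq]; simpa using haH
  obtain ⟨⟨a, ha, hay⟩, hat⟩ :=
    ((Nat.bijective_iff_injective_and_card _).mpr ⟨hinj, card_swap hH o (u • o) hou⟩).2 ⟨t, ht, htH⟩
  refine ⟨u * a, ⟨(swap_map_mem (g := u * 1) hsH rfl hu hay).1, a * u, ?_, ?_⟩, congrArg Subtype.val hat⟩
  · show a * u ∈ H
    rw [show a * u = (u * a)⁻¹ by rw [mul_inv_rev, inv_eq hu, inv_eq ha]]
    exact inv_mem (swap_map_mem (g := u * 1) hsH rfl hu hay).1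
  · show u * (a * u) * u⁻¹ = u * a
    group

end Cfsg.Agent.Involutions.StronglyEmbedded
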