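import Mathlib
import Cfsg.Prelude.Def_TwoFusion
import Cfsg.Agent.Lib.Involutions.Basic

/-!
Isolated involutions: the equivalent forms, and the decomposition `G = K * C_G(z)`.
-/

namespace Cfsg.Agent.Involutions.Isolated

open Subgroup Involutions.Basic

variable {G : Type*} [Group G]

/-- The commutator of an involution with `g` is its product with a conjugate. -/
theorem commutator_eq {z : G} (hz : orderOf z = 2) (g : G) :
    z * g * z⁻¹ * g⁻¹ = z * (g * z * g⁻¹) := by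
  rw [inv_eq hz]; group

theorem conj_of_isConj {z a : G} (h : IsConj z a) : ∃ g : G, g * z * g⁻¹ = a := isConj_iff.mp h

/-- An isolated involution commutes with no other conjugate, in the form used below. -/
theorem eq_of_commute {z a b : G} (hz : Cfsg.IsIsolatedInvolution z) (ha : IsConj z a) (hb : IsConj z b)
    (h : Commute a b) : a = b := by
  obtain ⟨g, rfl⟩ := isConj_iff.mp ha
  obtain ⟨k, rfl⟩ := isConj_iff.mp hb
  have h1 : g⁻¹ * k * z * (g⁻¹ * k)⁻¹ = g⁻¹ * (k * z * k⁻¹) * g := by group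
  have h2 := hz.2 (g⁻¹ * k) <| by
    rw [h1]
    show z * _ = _ * z
    calc z * (g⁻¹ * (k * z * k⁻¹) * g) = g⁻¹ * ((g * z * g⁻¹) * (k * z * k⁻¹)) * g := by group
      _ = g⁻¹ * ((k * z * k⁻¹) * (g * z * g⁻¹)) * g := by rw [h.eq]
      _ = _ := by group
  rw [h1] at h2
  calc g * z * g⁻¹ = g * (g⁻¹ * (k * z * k⁻¹) * g) * g⁻¹ := by rw [h2]
    _ = k * z * k⁻¹ := by group

/-- The product of any two conjugates of an isolated involution has odd order. -/
theorem odd_orderOf_mul [Finite G] {z a b : G} (hz : Cfsg.IsIsolatedInvolution z) (ha : IsConj z a)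
    (hb : IsConj z b) : Odd (orderOf (a * b)) := by
  obtain ⟨g, hg⟩ := isConj_iff.mp ha
  obtain ⟨k, hk⟩ := isConj_iff.mp hb
  have oa : orderOf a = 2 := by rw [← hg, orderOf_conj, hz.1]
  have ob : orderOf b = 2 := by rw [← hk, orderOf_conj, hz.1]
  by_contra hodd
  rw [Nat.not_odd_iff_even] at hodd
  have hpos := orderOf_pos (a * b)
  obtain ⟨m, hm⟩ := hodd
  obtain ⟨hm2, hca, hcb⟩ := middle_involution oa ob ⟨m, hm⟩
  rw [show orderOf (a * b) / 2 = m by omega] at hm2 hca hcb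
  have hmm : (a * b) ^ ((m : ℤ) + m) = 1 := by
    rw [← Nat.cast_add, zpow_natCast, ← hm, pow_orderOf_eq_one]
  rcases Nat.even_or_odd' m with ⟨j, hj | hj⟩
  · -- `a` and `a * (a * b) ^ m` are commuting conjugates
    have hconj : (a * b) ^ (-(j : ℤ)) * a * ((a * b) ^ (-(j : ℤ)))⁻¹ = a * (a * b) ^ m := by
      rw [zpow_conj_left oa ob, ← zpow_natCast (a * b) m, hj]
      congr 2; push_cast; ring
    have hc : Commute a (a * (a * b) ^ m) := (Commute.refl a).mul_right hca.symm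
    have h := eq_of_commute hz ha (ha.trans (isConj_iff.mpr ⟨_, hconj⟩)) hc
    exact ne_one hm2 (mul_eq_left.mp h.symm)
  · -- `a` commutes with a conjugate of `b`, which is distinct from `a`
    have hconj : (a * b) ^ (-(j : ℤ)) * b * ((a * b) ^ (-(j : ℤ)))⁻¹ = a * (a * b) ^ m := by
      nth_rw 2 [← mul_zpow_one oa (y := b)]
      rw [← mul_assoc ((a * b) ^ (-(j : ℤ))), zpow_mul_left oa ob, mul_assoc a, mul_assoc a,
        ← zpow_neg, ← zpow_add, ← zpow_add, ← zpow_natCast (a * b) m, hj]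
      congr 2; push_cast; ring
    have hc : Commute a (a * (a * b) ^ m) := (Commute.refl a).mul_right hca.symm
    have h := eq_of_commute hz ha (hb.trans (isConj_iff.mpr ⟨_, hconj⟩)) hc
    exact ne_one hm2 (mul_eq_left.mp h.symm)

theorem iff_odd_commutators [Finite G] {z : G} (hz : orderOf z = 2) :
    Cfsg.IsIsolatedInvolution z ↔ ∀ g : G, Odd (orderOf (z * g * z⁻¹ * g⁻¹)) := by
  constructor
  · intro h g
    rw [commutator_eq hz]
    exact odd_orderOf_mul h (IsConj.refl z) (isConj_iff.mpr ⟨g, rfl⟩)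
  · intro h
    refine ⟨hz, fun g hg => ?_⟩
    have h1 := h g
    rw [commutator_eq hz] at h1
    have hsq : (z * (g * z * g⁻¹)) ^ 2 = 1 := by
      rw [pow_two, hg.symm.mul_mul_mul_comm, inv_sq_one hz, one_mul,
        inv_sq_one (by rw [orderOf_conj, hz])]
    have h2 := Nat.dvd_one.mp ((Nat.coprime_two_right.mpr h1) ▸
      Nat.dvd_gcd dvd_rfl (orderOf_dvd_of_pow_eq_one hsq))
    have h3 : z * (g * z * g⁻¹) = 1 := orderOf_eq_one_iff.mp h2
    rw [← inv_eq_of_mul_eq_one_right h3, inv_eq hz]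

/-- Being the only conjugate of itself in a Sylow 2-subgroup is the same as being isolated. -/
theorem iff_unique_in_sylow [Finite G] (P : Sylow 2 G) {u : G} (hu : orderOf u = 2) (huP : u ∈ P) :
    Cfsg.IsIsolatedInvolution u ↔ ∀ g : G, g * u * g⁻¹ ∈ P → g * u * g⁻¹ = u := by
  have : Fact (Nat.Prime 2) := ⟨Nat.prime_two⟩
  constructor
  · intro h g hg
    have hodd := odd_orderOf_mul h (IsConj.refl u) (isConj_iff.mpr ⟨g, rfl⟩)
    obtain ⟨k, hk⟩ := P.2 ⟨u * (g * u * g⁻¹), mul_mem huP hg⟩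
    have hk' : (u * (g * u * g⁻¹)) ^ 2 ^ k = 1 := congrArg Subtype.val hk
    have h2 := Nat.dvd_one.mp ((Nat.Coprime.pow_right k (Nat.coprime_two_right.mpr hodd)) ▸
      Nat.dvd_gcd dvd_rfl (orderOf_dvd_of_pow_eq_one hk'))
    have h3 : u * (g * u * g⁻¹) = 1 := orderOf_eq_one_iff.mp h2
    rw [← inv_eq_of_mul_eq_one_right h3, inv_eq hu]
  · intro h
    refine ⟨hu, fun g hg => ?_⟩
    -- both lie in a common Sylow 2-subgroup
    have hog : orderOf (g * u * g⁻¹) = 2 := by rw [orderOf_conj, hu]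
    have hp : IsPGroup 2 ↥(Subgroup.closure ({u, g * u * g⁻¹} : Set G)) := by
      intro x
      refine ⟨1, ?_⟩
      ext
      push_cast
      rw [pow_two]
      have hsq : (u * (g * u * g⁻¹)) ^ (2 : ℤ) = 1 := by
        rw [zpow_two, hg.symm.mul_mul_mul_comm, inv_sq_one hu, one_mul, inv_sq_one hog]
      obtain ⟨k, hk | hk⟩ := (mem_closure_pair hu hog).mp x.2
      · rw [hk, ← zpow_add, show k + k = 2 * k by ring, zpow_mul, hsq, one_zpow]
      · rw [hk]; exact sq_of_mul_zpow hu hog k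
    obtain ⟨Q, hQ⟩ := hp.exists_le_sylow
    obtain ⟨c, hc⟩ := MulAction.exists_smul_eq G Q P
    have mem : ∀ x ∈ Q, c * x * c⁻¹ ∈ P := by
      intro x hx
      rw [← hc, ← SetLike.mem_coe, Sylow.coe_smul]
      exact ⟨x, hx, rfl⟩
    have h1 := h c (mem _ (hQ (subset_closure (Set.mem_insert _ _))))
    have h2 := mem _ (hQ (subset_closure (Set.mem_insert_of_mem _ rfl)))
    have e : c * (g * u * g⁻¹) * c⁻¹ = c * g * u * (c * g)⁻¹ := by group
    rw [e] at h2
    have h3 := h _ h2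
    rw [← e] at h3
    exact mul_left_cancel (mul_right_cancel (h3.trans h1.symm))

/-- A square root in the cyclic group of an element of odd order. -/
theorem exists_sqrt {k : G} (hk : Odd (orderOf k)) : ∃ n : ℕ, (k ^ n) ^ 2 = k ∧ Odd (orderOf (k ^ n)) := by
  obtain ⟨m, hm⟩ := hk
  refine ⟨m + 1, ?_, Odd.of_dvd_nat ⟨m, hm⟩ (orderOf_pow_dvd _)⟩
  rw [← pow_mul, show (m + 1) * 2 = orderOf k + 1 by omega, pow_succ, pow_orderOf_eq_one, one_mul]

/-- Elements of odd order are determined by their squares. -/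
theorem sq_injective {a b : G} (ha : Odd (orderOf a)) (hb : Odd (orderOf b)) (h : a ^ 2 = b ^ 2) :
    a = b := by
  obtain ⟨m, hm⟩ := ha
  obtain ⟨n, hn⟩ := hb
  have hd : orderOf a = orderOf b := by
    have e1 : orderOf (a ^ 2) = orderOf a := (Nat.coprime_two_right.mpr ⟨m, hm⟩).orderOf_pow
    have e2 : orderOf (b ^ 2) = orderOf b := (Nat.coprime_two_right.mpr ⟨n, hn⟩).orderOf_pow
    rw [← e1, ← e2, h]
  calc a = (a ^ 2) ^ (m + 1) := by
        rw [← pow_mul, show 2 * (m + 1) = orderOf a + 1 by omega, pow_succ, pow_orderOf_eq_one, one_mul]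
    _ = (b ^ 2) ^ (m + 1) := by rw [h]
    _ = b := by
        rw [← pow_mul, show 2 * (m + 1) = orderOf b + 1 by omega, pow_succ, pow_orderOf_eq_one, one_mul]

theorem pow_inverted {z k : G} (h : z * k * z⁻¹ = k⁻¹) (n : ℕ) : z * k ^ n * z⁻¹ = (k ^ n)⁻¹ := by
  rw [← conj_pow, h, inv_pow]

theorem conj_eq_sq_mul {z k : G} (hz : orderOf z = 2) (h : z * k * z⁻¹ = k⁻¹) :
    k * z * k⁻¹ = k ^ 2 * z := by
  rw [← h, inv_eq hz, pow_two]
  calc k * z * (z * k * z) = k * (z * z) * (k * z) := by group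
    _ = k * k * z := by rw [inv_sq_one hz]; group

/-- For conjugate involutions `z`, `w` with product of odd order, the half-way element. -/
theorem exists_transporter {z w : G} (hz : orderOf z = 2) (hw : orderOf w = 2)
    (hodd : Odd (orderOf (w * z))) :
    ∃ k : G, k ∈ Subgroup.zpowers (w * z) ∧ Odd (orderOf k) ∧ z * k * z⁻¹ = k⁻¹ ∧ k * z * k⁻¹ = w := by
  obtain ⟨n, hn, hn'⟩ := exists_sqrt hodd
  have hi : z * (w * z) * z⁻¹ = (w * z)⁻¹ := conj_prod_right hw hz
  refine ⟨(w * z) ^ n, pow_mem (mem_zpowers _) n, hn', pow_inverted hi n, ?_⟩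
  rw [conj_eq_sq_mul hz (pow_inverted hi n), hn, mul_assoc, inv_sq_one hz, mul_one]

/-- Every coset of the centralizer of an isolated involution contains exactly one inverted element of
odd order. -/
theorem existsUnique_inverted [Finite G] {z : G} (hz : Cfsg.IsIsolatedInvolution z) (g : G) :
    ∃! k : G, (Odd (orderOf k) ∧ z * k * z⁻¹ = k⁻¹) ∧ g⁻¹ * k ∈ Subgroup.centralizer ({z} : Set G) := by
  have hmem : ∀ k : G, g⁻¹ * k ∈ Subgroup.centralizer ({z} : Set G) ↔ k * z * k⁻¹ = g * z * g⁻¹ := by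
    intro k
    rw [mem_centralizer_singleton_iff]
    constructor
    · intro h
      calc k * z * k⁻¹ = g * (g⁻¹ * k * z) * k⁻¹ := by group
        _ = g * (z * (g⁻¹ * k)) * k⁻¹ := by rw [h]
        _ = g * z * g⁻¹ := by group
    · intro h
      calc g⁻¹ * k * z = g⁻¹ * (k * z * k⁻¹) * k := by group
        _ = g⁻¹ * (g * z * g⁻¹) * k := by rw [h]
        _ = z * (g⁻¹ * k) := by group
  obtain ⟨k, -, hk1, hk2, hk3⟩ := exists_transporter hz.1 (w := g * z * g⁻¹)
    (by rw [orderOf_conj, hz.1]) (odd_orderOf_mul hz (isConj_iff.mpr ⟨g, rfl⟩) (IsConj.refl z))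
  refine ⟨k, ⟨⟨hk1, hk2⟩, (hmem k).mpr hk3⟩, ?_⟩
  rintro l ⟨⟨hl1, hl2⟩, hl3⟩
  rw [hmem, conj_eq_sq_mul hz.1 hl2] at hl3
  rw [conj_eq_sq_mul hz.1 hk2] at hk3
  exact sq_injective hl1 hk1 (mul_right_cancel (hl3.trans hk3.symm))

/-- A conjugate of an isolated involution lying in `H` is `H`-conjugate to it. -/
theorem conj_within [Finite G] {z : G} (hz : Cfsg.IsIsolatedInvolution z) (H : Subgroup G) (hzH : z ∈ H)
    (g : G) (hg : g * z * g⁻¹ ∈ H) : ∃ h ∈ H, h * z * h⁻¹ = g * z * g⁻¹ := by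
  obtain ⟨k, hkm, -, -, hk⟩ := exists_transporter hz.1 (w := g * z * g⁻¹)
    (by rw [orderOf_conj, hz.1]) (odd_orderOf_mul hz (isConj_iff.mpr ⟨g, rfl⟩) (IsConj.refl z))
  exact ⟨k, (Subgroup.zpowers_le.mpr (mul_mem hg hzH)) hkm, hk⟩

/-- An element inverted by a conjugate of `z` and centralized by `z` is trivial, if it has odd order. -/
theorem eq_one_of_inverted_commute [Finite G] {z a c : G} (hz : Cfsg.IsIsolatedInvolution z)
    (ha : IsConj z a) (hc : Odd (orderOf c)) (hac : a * c * a⁻¹ = c⁻¹) (hzc : Commute z c) : c = 1 := by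
  obtain ⟨g, hg⟩ := isConj_iff.mp ha
  let N : Subgroup G := Subgroup.normalizer ((Subgroup.zpowers c : Subgroup G) : Set G)
  have inN : ∀ t : G, (t * c * t⁻¹ = c ∨ t * c * t⁻¹ = c⁻¹) → t ∈ N := by
    intro t ht
    refine Subgroup.mem_normalizer_fintype fun n hn => ?_
    obtain ⟨i, rfl⟩ := Subgroup.mem_zpowers_iff.mp hn
    rw [← conj_zpow]
    rcases ht with ht | ht <;> rw [ht]
    · exact zpow_mem (mem_zpowers _) _
    · rw [inv_zpow, ← zpow_neg]; exact zpow_mem (mem_zpowers _) _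
  have hzc' : z * c * z⁻¹ = c := mul_inv_eq_iff_eq_mul.mpr hzc.eq
  have haN : a ∈ N := inN a (Or.inr hac)
  have hzN : z ∈ N := inN z (Or.inl hzc')
  obtain ⟨h, hh, hha⟩ := conj_within hz N hzN g (hg ▸ haN)
  rw [hg] at hha
  -- `h` maps `c` to a power of `c`, which `z` fixes
  have hh' : h⁻¹ * c * h⁻¹⁻¹ ∈ Subgroup.zpowers c :=
    (Subgroup.mem_normalizer_iff.mp (inv_mem hh) c).mp (mem_zpowers _)
  rw [inv_inv] at hh'
  obtain ⟨i, hi⟩ := Subgroup.mem_zpowers_iff.mp hh'
  have hz_fix : z * (h⁻¹ * c * h) * z⁻¹ = h⁻¹ * c * h := by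
    rw [← hi]; exact mul_inv_eq_iff_eq_mul.mpr (hzc.zpow_right i).eq
  have hfix : a * c * a⁻¹ = c := by
    rw [← hha]
    calc h * z * h⁻¹ * c * (h * z * h⁻¹)⁻¹ = h * (z * (h⁻¹ * c * h) * z⁻¹) * h⁻¹ := by group
      _ = h * (h⁻¹ * c * h) * h⁻¹ := by rw [hz_fix]
      _ = c := by group
  rw [hfix] at hac
  refine sq_injective hc (by simp) ?_
  rw [pow_two, one_pow]
  exact mul_eq_one_iff_eq_inv.mpr hac

/-- The product of two distinct conjugates of an isolated involution does not commute with it. -/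
theorem not_commute_mul [Finite G] {z a b : G} (hz : Cfsg.IsIsolatedInvolution z) (ha : IsConj z a)
    (hb : IsConj z b) (hne : a ≠ b) : ¬ Commute (a * b) z := by
  intro h
  obtain ⟨g, hg⟩ := isConj_iff.mp ha
  obtain ⟨k, hk⟩ := isConj_iff.mp hb
  have oa : orderOf a = 2 := by rw [← hg, orderOf_conj, hz.1]
  have ob : orderOf b = 2 := by rw [← hk, orderOf_conj, hz.1]
  have h1 := eq_one_of_inverted_commute hz ha (odd_orderOf_mul hz ha hb) (conj_prod_left oa ob) h.symm
  exact hne (by rw [eq_inv_of_mul_eq_one_left h1, inv_eq ob])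

/-- Passing to a quotient by a normal subgroup not containing the isolated involution. -/
theorem quotient [Finite G] {z : G} (hz : Cfsg.IsIsolatedInvolution z) (N : Subgroup G) [N.Normal]
    (hzN : z ∉ N) :
    Cfsg.IsIsolatedInvolution (QuotientGroup.mk z : G ⧸ N) ∧
    Subgroup.centralizer ({(QuotientGroup.mk z : G ⧸ N)} : Set (G ⧸ N)) =
      (Subgroup.centralizer ({z} : Set G)).map (QuotientGroup.mk' N) := by
  have oz : orderOf (QuotientGroup.mk z : G ⧸ N) = 2 := by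
    rw [orderOf_two_iff, ← QuotientGroup.mk_mul, inv_sq_one hz.1, QuotientGroup.mk_one,
      Ne, QuotientGroup.eq_one_iff]
    exact ⟨rfl, hzN⟩
  refine ⟨(iff_odd_commutators oz).mpr fun q => ?_, ?_⟩
  · obtain ⟨g, rfl⟩ := QuotientGroup.mk_surjective q
    exact ((iff_odd_commutators hz.1).mp hz g).of_dvd_nat
      (orderOf_map_dvd (QuotientGroup.mk' N) (z * g * z⁻¹ * g⁻¹))
  · ext q
    obtain ⟨g, rfl⟩ := QuotientGroup.mk_surjective q
    rw [mem_centralizer_singleton_iff, Subgroup.mem_map]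
    constructor
    · intro h
      obtain ⟨k, hkm, -, -, hk⟩ := exists_transporter hz.1 (w := g * z * g⁻¹)
        (by rw [orderOf_conj, hz.1]) (odd_orderOf_mul hz (isConj_iff.mpr ⟨g, rfl⟩) (IsConj.refl z))
      have hkN : k ∈ N := by
        refine (Subgroup.zpowers_le.mpr ?_) hkm
        rw [← QuotientGroup.eq_one_iff, QuotientGroup.mk_mul, QuotientGroup.mk_mul,
          QuotientGroup.mk_mul, QuotientGroup.mk_inv, h, mul_inv_cancel_right, ← QuotientGroup.mk_mul, inv_sq_one hz.1, QuotientGroup.mk_one]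
      refine ⟨k⁻¹ * g, ?_, ?_⟩
      · rw [mem_centralizer_singleton_iff]
        calc k⁻¹ * g * z = k⁻¹ * (g * z * g⁻¹) * g := by group
          _ = k⁻¹ * (k * z * k⁻¹) * g := by rw [hk]
          _ = z * (k⁻¹ * g) := by group
      · simp [(QuotientGroup.eq_one_iff k).mpr hkN]
    · rintro ⟨c, hc, e⟩
      rw [← e, QuotientGroup.mk'_apply, ← QuotientGroup.mk_mul, mem_centralizer_singleton_iff.mp hc]
      rfl

/-- Elements of `H ∩ C(z)` conjugate in a `z`-invariant `H` are conjugate in `H ∩ C(z)`. -/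
theorem controls_fusion [Finite G] {z : G} (hz : Cfsg.IsIsolatedInvolution z) (H : Subgroup G)
    (hzH : z ∈ Subgroup.normalizer (H : Set G)) {x y h : G} (hxz : Commute x z) (hyz : Commute y z)
    (hh : h ∈ H) (hconj : h * x * h⁻¹ = y) : ∃ c ∈ H, Commute c z ∧ c * x * c⁻¹ = y := by
  set w := h⁻¹ * z * h with hw
  have hwc : IsConj z w := isConj_iff.mpr ⟨h⁻¹, by rw [inv_inv]⟩
  have hwx : Commute w x := by
    show w * x = x * w
    calc w * x = h⁻¹ * (z * (h * x * h⁻¹)) * h := by rw [hw]; group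
      _ = h⁻¹ * (h * x * h⁻¹ * z) * h := by rw [hconj, hyz.eq]
      _ = x * w := by rw [hw]; group
  obtain ⟨k, hkm, -, -, hk⟩ := exists_transporter hz.1 (w := w)
    (by rw [hw]; nth_rw 2 [← inv_inv h]; rw [orderOf_conj, hz.1])
    (odd_orderOf_mul hz hwc (IsConj.refl z))
  have hwH : w * z ∈ H := by
    rw [show w * z = h⁻¹ * (z * h * z) by rw [hw]; group]
    refine mul_mem (inv_mem hh) ?_
    have := (Subgroup.mem_normalizer_iff.mp hzH h).mp hh
    rwa [inv_eq hz.1] at this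
  obtain ⟨i, rfl⟩ := Subgroup.mem_zpowers_iff.mp hkm
  refine ⟨h * (w * z) ^ i, mul_mem hh (zpow_mem hwH i), ?_, ?_⟩
  · show h * (w * z) ^ i * z = z * (h * (w * z) ^ i)
    calc h * (w * z) ^ i * z = h * ((w * z) ^ i * z * ((w * z) ^ i)⁻¹) * (w * z) ^ i := by group
      _ = h * w * (w * z) ^ i := by rw [hk]
      _ = z * (h * (w * z) ^ i) := by rw [hw]; group
  · have hkx : (w * z) ^ i * x * ((w * z) ^ i)⁻¹ = x :=
      mul_inv_eq_iff_eq_mul.mpr ((hwx.mul_left hxz.symm).zpow_left i).eq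
    calc h * (w * z) ^ i * x * (h * (w * z) ^ i)⁻¹
        = h * ((w * z) ^ i * x * ((w * z) ^ i)⁻¹) * h⁻¹ := by group
      _ = y := by rw [hkx, hconj]

end Cfsg.Agent.Involutions.Isolated
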