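import Mathlib
import Cfsg.Prelude.Def_CaseTheorems
import Cfsg.Agent.Lib.Classical.CyclicExt

/-!
# Quasi-dihedral 2-groups: normal form

Elements are `P i` or `q i = P i * y`, with `i : ZMod (2 ^ n)`.
-/

namespace Cfsg.Agent.Involutions.QuasiDihedral

open Cfsg.Agent.Classical.CyclicExt

section zmod

variable {n : ℕ}

theorem two_pow_self : (2 : ZMod (2 ^ n)) ^ n = 0 := by
  have h := ZMod.natCast_self (2 ^ n)
  push_cast at h
  exact h

theorem intCast_eq_zero (a : ℤ) : (a : ZMod (2 ^ n)) = 0 ↔ (2 : ℤ) ^ n ∣ a := by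
  rw [ZMod.intCast_zmod_eq_zero_iff_dvd]
  push_cast
  rfl

theorem even_or_even_sub_one (i : ZMod (2 ^ n)) : Even i ∨ Even (i - 1) := by
  obtain ⟨a, rfl⟩ := ZMod.intCast_surjective i
  rcases Int.even_or_odd' a with ⟨b, rfl | rfl⟩
  · exact Or.inl ⟨b, by push_cast; ring⟩
  · exact Or.inr ⟨b, by push_cast; ring⟩

theorem half_add_half (hn : 1 ≤ n) :
    (2 : ZMod (2 ^ n)) ^ (n - 1) + 2 ^ (n - 1) = 0 := by
  rw [← two_mul, ← pow_succ', Nat.sub_add_cancel hn, two_pow_self]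

theorem half_ne_zero (hn : 1 ≤ n) : (2 : ZMod (2 ^ n)) ^ (n - 1) ≠ 0 := by
  intro h
  have : ((2 ^ (n - 1) : ℤ) : ZMod (2 ^ n)) = 0 := by push_cast; exact h
  rw [intCast_eq_zero, pow_dvd_pow_iff two_ne_zero (by norm_num [Int.isUnit_iff])] at this
  omega

theorem half_mul_even (hn : 1 ≤ n) {i : ZMod (2 ^ n)} (hi : Even i) : 2 ^ (n - 1) * i = 0 := by
  obtain ⟨j, rfl⟩ := hi
  rw [mul_add, ← add_mul, half_add_half hn, zero_mul]

theorem half_mul_odd (hn : 1 ≤ n) {i : ZMod (2 ^ n)} (hi : ¬ Even i) :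
    2 ^ (n - 1) * i = 2 ^ (n - 1) := by
  have h := half_mul_even hn ((even_or_even_sub_one i).resolve_left hi)
  rw [mul_sub, mul_one, sub_eq_zero] at h
  exact h

theorem half_mul_eq_zero_iff (hn : 1 ≤ n) {i : ZMod (2 ^ n)} :
    2 ^ (n - 1) * i = 0 ↔ Even i :=
  ⟨fun h => by_contra fun hi => half_ne_zero hn (half_mul_odd hn hi ▸ h), half_mul_even hn⟩

theorem not_even_one (hn : 1 ≤ n) : ¬ Even (1 : ZMod (2 ^ n)) := fun h =>
  half_ne_zero hn (by simpa using half_mul_even hn h)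

theorem even_half (hn : 2 ≤ n) : Even ((2 : ZMod (2 ^ n)) ^ (n - 1)) :=
  ⟨2 ^ (n - 2), by rw [← two_mul, ← pow_succ']; congr 1; omega⟩

theorem even_quarter (hn : 3 ≤ n) : Even ((2 : ZMod (2 ^ n)) ^ (n - 2)) :=
  ⟨2 ^ (n - 3), by rw [← two_mul, ← pow_succ']; congr 1; omega⟩

theorem quarter_add_quarter (hn : 2 ≤ n) :
    (2 : ZMod (2 ^ n)) ^ (n - 2) + 2 ^ (n - 2) = 2 ^ (n - 1) := by
  rw [← two_mul, ← pow_succ']; congr 1; omega

theorem add_self_eq_zero_iff (hn : 1 ≤ n) {i : ZMod (2 ^ n)} :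
    i + i = 0 ↔ i = 0 ∨ i = 2 ^ (n - 1) := by
  constructor
  · intro h
    obtain ⟨a, rfl⟩ := ZMod.intCast_surjective i
    rw [← Int.cast_add, intCast_eq_zero, ← two_mul,
      show (2 : ℤ) ^ n = 2 * 2 ^ (n - 1) by rw [← pow_succ']; congr 1; omega,
      mul_dvd_mul_iff_left (by norm_num)] at h
    obtain ⟨b, rfl⟩ := h
    push_cast
    by_cases hb : Even (b : ZMod (2 ^ n))
    · exact Or.inl (half_mul_even hn hb)
    · exact Or.inr (half_mul_odd hn hb)
  · rintro (rfl | rfl)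
    · exact add_zero 0
    · exact half_add_half hn

theorem four_mul_eq_zero_iff (hn : 2 ≤ n) {i : ZMod (2 ^ n)} :
    4 * i = 0 ↔ i = 0 ∨ i = 2 ^ (n - 2) ∨ i = 2 ^ (n - 1) ∨ i = -2 ^ (n - 2) := by
  have hhh := half_add_half (n := n) (by omega)
  have hcc := quarter_add_quarter (n := n) hn
  constructor
  · intro h
    have h2 : (i + i) + (i + i) = 0 := by rw [← h]; ring
    rcases (add_self_eq_zero_iff (by omega)).1 h2 with h | h
    · rcases (add_self_eq_zero_iff (by omega)).1 h with h | h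
      · exact Or.inl h
      · exact Or.inr (Or.inr (Or.inl h))
    · have h3 : (i - 2 ^ (n - 2)) + (i - 2 ^ (n - 2)) = 0 := by
        linear_combination h - hcc
      rcases (add_self_eq_zero_iff (by omega)).1 h3 with h | h
      · exact Or.inr (Or.inl (sub_eq_zero.1 h))
      · refine Or.inr (Or.inr (Or.inr ?_))
        linear_combination h + hcc + hhh
  · rintro (rfl | rfl | rfl | rfl)
    · exact mul_zero 4
    · linear_combination 2 * hcc + hhh
    · linear_combination 2 * hhh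
    · linear_combination -2 * hcc - hhh

theorem eq_neg_iff_add_half (hn : 2 ≤ n) :
    -(2 : ZMod (2 ^ n)) ^ (n - 2) = 2 ^ (n - 2) + 2 ^ (n - 1) := by
  linear_combination (-1 : ZMod (2 ^ n)) * quarter_add_quarter hn - half_add_half (n := n) (by omega)

end zmod

/-- Generators of a quasi-dihedral group. -/
structure Gens (S : Type*) [Group S] where
  n : ℕ
  hn : 3 ≤ n
  hcard : Nat.card S = 2 ^ (n + 1)
  x : S
  y : S
  hx : orderOf x = 2 ^ n
  hy : orderOf y = 2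
  hxy : y * x * y⁻¹ = x ^ (2 ^ (n - 1) - 1)

variable {S : Type*} [Group S]

theorem exists_gens (hS : Cfsg.IsQuasiDihedral S) : Nonempty (Gens S) := by
  obtain ⟨n, hn, hc, x, y, hx, hy, hxy⟩ := hS
  exact ⟨⟨n, hn, hc, x, y, hx, hy, hxy⟩⟩

theorem finite_of_gens (D : Gens S) : Finite S :=
  Nat.finite_of_card_ne_zero (by rw [D.hcard]; positivity)

namespace Gens

variable (D : Gens S)

/-- Half of the modulus. -/
def h : ZMod (2 ^ D.n) := 2 ^ (D.n - 1)

/-- A quarter of the modulus. -/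
def c : ZMod (2 ^ D.n) := 2 ^ (D.n - 2)

/-- The exponent by which `y` acts on `x`. -/
def r : ZMod (2 ^ D.n) := D.h - 1

theorem pow_card : D.x ^ 2 ^ D.n = 1 := D.hx ▸ pow_orderOf_eq_one D.x

/-- The power of `x`. -/
def P (i : ZMod (2 ^ D.n)) : S := pw D.x D.pow_card i

/-- The element outside the cyclic subgroup. -/
def q (i : ZMod (2 ^ D.n)) : S := D.P i * D.y

/-- The central involution. -/
def z : S := D.P D.h

theorem n1 : 1 ≤ D.n := by have := D.hn; omega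

theorem n2 : 2 ≤ D.n := by have := D.hn; omega

theorem h_add_h : D.h + D.h = 0 := half_add_half D.n1

theorem h_ne_zero : D.h ≠ 0 := half_ne_zero D.n1

theorem even_h : Even D.h := even_half D.n2

theorem even_c : Even D.c := even_quarter D.hn

theorem c_add_c : D.c + D.c = D.h := quarter_add_quarter D.n2

theorem h_mul_even {i : ZMod (2 ^ D.n)} (hi : Even i) : D.h * i = 0 := half_mul_even D.n1 hi

theorem h_mul_odd {i : ZMod (2 ^ D.n)} (hi : ¬ Even i) : D.h * i = D.h := half_mul_odd D.n1 hi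

theorem h_mul_iff {i : ZMod (2 ^ D.n)} : D.h * i = 0 ↔ Even i := half_mul_eq_zero_iff D.n1

theorem not_even_one : ¬ Even (1 : ZMod (2 ^ D.n)) :=
  QuasiDihedral.not_even_one D.n1

theorem r_mul (i : ZMod (2 ^ D.n)) : D.r * i = D.h * i - i := by
  rw [r, sub_mul, one_mul]

theorem r_mul_even {i : ZMod (2 ^ D.n)} (hi : Even i) : D.r * i = -i := by
  rw [r_mul, D.h_mul_even hi, zero_sub]

theorem even_r_mul_iff {i : ZMod (2 ^ D.n)} : Even (D.r * i) ↔ Even i := by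
  rw [r_mul]
  constructor
  · intro h'
    have := (D.even_h.mul_right i).sub h'
    rwa [sub_sub_cancel] at this
  · exact fun hi => (D.even_h.mul_right i).sub hi

theorem r_mul_c : D.r * D.c = -D.c := D.r_mul_even D.even_c

theorem r_mul_h : D.r * D.h = D.h := by
  rw [D.r_mul_even D.even_h]; exact neg_eq_of_add_eq_zero_left D.h_add_h

theorem r_mul_r : D.r * D.r = 1 := by
  have h1 : D.h * D.h = 0 := D.h_mul_even D.even_h
  rw [r]; linear_combination h1 - D.h_add_h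

theorem one_sub_r_mul_eq_zero {k : ZMod (2 ^ D.n)} :
    (1 - D.r) * k = 0 ↔ k = 0 ∨ k = D.h := by
  show (1 - D.r) * k = 0 ↔ k = 0 ∨ k = 2 ^ (D.n - 1)
  rw [← add_self_eq_zero_iff D.n1 (i := k)]
  constructor
  · intro h'
    have h4 : 4 * k = 0 := by
      have h1 : D.h * D.h = 0 := D.h_mul_even D.even_h
      rw [r] at h'
      linear_combination (2 + D.h) * h' + k * h1
    have hk : Even k := by
      rcases (four_mul_eq_zero_iff D.n2).1 h4 with h5 | h5 | h5 | h5 <;> rw [h5]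
      · exact ⟨0, (add_zero 0).symm⟩
      · exact D.even_c
      · exact D.even_h
      · exact D.even_c.neg
    have := D.h_mul_even hk
    rw [r] at h'
    linear_combination h' + this
  · intro h'
    have hk : D.h * k = 0 := by
      rcases (add_self_eq_zero_iff D.n1).1 h' with h5 | h5 <;> rw [h5]
      · exact mul_zero _
      · exact D.h_mul_even D.even_h
    rw [r]; linear_combination h' - hk

theorem exists_one_sub_r_mul {d : ZMod (2 ^ D.n)} (hd : Even d) :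
    ∃ k, (1 - D.r) * k = d := by
  obtain ⟨m, rfl⟩ := hd
  have hu : IsUnit (1 - D.c) := by
    refine IsNilpotent.isUnit_one_sub ⟨D.n, ?_⟩
    rw [c, ← pow_mul]
    have : D.n ≤ (D.n - 2) * D.n := Nat.le_mul_of_pos_left _ (by have := D.hn; omega)
    rw [show (D.n - 2) * D.n = D.n + ((D.n - 2) * D.n - D.n) by omega, pow_add,
      two_pow_self, zero_mul]
  obtain ⟨u, hu⟩ := hu
  refine ⟨↑u⁻¹ * m, ?_⟩
  have : (1 - D.r) = 2 * (↑u : ZMod (2 ^ D.n)) := by
    rw [hu, r]; linear_combination D.c_add_c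
  rw [this, mul_assoc, Units.mul_inv_cancel_left, two_mul]

/-! ### Multiplication -/

theorem P_add (i j : ZMod (2 ^ D.n)) : D.P (i + j) = D.P i * D.P j := pw_add _ _ i j

theorem P_zero : D.P 0 = 1 := pw_zero _ _

theorem P_one : D.P 1 = D.x := pw_one _ _

theorem P_natCast (k : ℕ) : D.P k = D.x ^ k := pw_natCast _ _ k

theorem P_mem (i : ZMod (2 ^ D.n)) : D.P i ∈ Subgroup.zpowers D.x := pw_mem _ _ i

theorem P_inj {i j : ZMod (2 ^ D.n)} : D.P i = D.P j ↔ i = j :=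
  (pw_injective D.x D.pow_card D.hx).eq_iff

theorem P_eq_one {i : ZMod (2 ^ D.n)} : D.P i = 1 ↔ i = 0 := by
  rw [← D.P_zero, P_inj]

theorem P_neg (i : ZMod (2 ^ D.n)) : D.P (-i) = (D.P i)⁻¹ :=
  eq_inv_of_mul_eq_one_left (by rw [← P_add, neg_add_cancel, P_zero])

theorem P_pow (i : ZMod (2 ^ D.n)) : ∀ k : ℕ, D.P i ^ k = D.P (k * i)
  | 0 => by simp [P_zero]
  | k + 1 => by rw [pow_succ, P_pow i k, ← P_add]; push_cast; ring_nf

theorem P_comm (i j : ZMod (2 ^ D.n)) : D.P i * D.P j = D.P j * D.P i := by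
  rw [← P_add, ← P_add, add_comm]

theorem exists_eq_P {s : S} (hs : s ∈ Subgroup.zpowers D.x) : ∃ i, s = D.P i := by
  obtain ⟨k, rfl⟩ := hs
  exact ⟨(k : ℤ), (pw_intCast _ _ k).symm⟩

theorem x_conj : D.y * D.x * D.y⁻¹ = D.P D.r := by
  rw [D.hxy, ← P_natCast, Nat.cast_sub Nat.one_le_two_pow, r, h]
  push_cast
  rfl

theorem y_mul_y : D.y * D.y = 1 := by
  rw [← sq, ← D.hy, pow_orderOf_eq_one]

theorem y_inv : D.y⁻¹ = D.y := inv_eq_of_mul_eq_one_left D.y_mul_y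

theorem y_mul_P (i : ZMod (2 ^ D.n)) : D.y * D.P i = D.P (D.r * i) * D.y := by
  obtain ⟨k, rfl⟩ := ZMod.intCast_surjective i
  obtain ⟨e, he⟩ := ZMod.intCast_surjective D.r
  have h1 : D.y * D.P k * D.y⁻¹ = D.P (D.r * k) := by
    rw [← he, ← Int.cast_mul, P, P, pw_intCast, pw_intCast, ← conj_zpow, D.x_conj, ← he,
      P, pw_intCast, zpow_mul]
  rw [← h1, inv_mul_cancel_right]

theorem y_notMem : D.y ∉ Subgroup.zpowers D.x := by
  intro hy
  obtain ⟨i, hi⟩ := D.exists_eq_P hy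
  have h1 : D.P D.r = D.P 1 := by
    rw [← x_conj, P_one, hi, ← P_one, P_comm, mul_inv_cancel_right]
  rw [P_inj, r] at h1
  have h2 : Even (1 : ZMod (2 ^ D.n)) := by
    have h3 : (D.c - 1) + (D.c - 1) = 0 := by linear_combination h1 + D.c_add_c
    rcases (add_self_eq_zero_iff D.n1).1 h3 with h4 | h4
    · rw [sub_eq_zero] at h4
      exact h4 ▸ D.even_c
    · have h5 : (1 : ZMod (2 ^ D.n)) = D.c - D.h := by rw [h]; linear_combination -h4
      exact h5 ▸ D.even_c.sub D.even_h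
  exact D.not_even_one h2

theorem P_ne_q (i j : ZMod (2 ^ D.n)) : D.P i ≠ D.q j := fun e =>
  D.y_notMem (by
    have : D.y = (D.P j)⁻¹ * D.P i := by rw [e, q, inv_mul_cancel_left]
    rw [this]; exact mul_mem (inv_mem (D.P_mem j)) (D.P_mem i))

theorem q_inj {i j : ZMod (2 ^ D.n)} : D.q i = D.q j ↔ i = j := by
  rw [q, q, mul_left_inj, P_inj]

theorem q_ne_one (i : ZMod (2 ^ D.n)) : D.q i ≠ 1 := fun e =>
  D.P_ne_q 0 i (by rw [P_zero, e])

theorem q_zero : D.q 0 = D.y := by rw [q, P_zero, one_mul]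

theorem index_zpowers : (Subgroup.zpowers D.x).index = 2 := by
  have := (Subgroup.zpowers D.x).card_mul_index
  rw [Nat.card_zpowers, D.hx, D.hcard, pow_succ] at this
  exact Nat.eq_of_mul_eq_mul_left (by positivity) this

theorem forms (s : S) : (∃ i, s = D.P i) ∨ ∃ i, s = D.q i := by
  by_cases hs : s ∈ Subgroup.zpowers D.x
  · exact Or.inl (D.exists_eq_P hs)
  · refine Or.inr ?_
    have hm : s * D.y ∈ Subgroup.zpowers D.x :=
      (Subgroup.mul_mem_iff_of_index_two D.index_zpowers).2 ⟨fun h' => absurd h' hs,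
        fun h' => absurd h' D.y_notMem⟩
    obtain ⟨i, hi⟩ := D.exists_eq_P hm
    exact ⟨i, by rw [q, ← hi, mul_assoc, y_mul_y, mul_one]⟩

theorem P_mul_q (i j : ZMod (2 ^ D.n)) : D.P i * D.q j = D.q (i + j) := by
  rw [q, q, P_add, mul_assoc]

theorem q_mul_P (i j : ZMod (2 ^ D.n)) : D.q i * D.P j = D.q (i + D.r * j) := by
  rw [q, q, P_add, mul_assoc, y_mul_P, ← mul_assoc]

theorem q_mul_q (i j : ZMod (2 ^ D.n)) : D.q i * D.q j = D.P (i + D.r * j) := by
  nth_rw 2 [q]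
  rw [← mul_assoc, q_mul_P, q, mul_assoc, y_mul_y, mul_one]

theorem q_sq (i : ZMod (2 ^ D.n)) : D.q i * D.q i = D.P (D.h * i) := by
  rw [q_mul_q, r_mul, add_sub_cancel]

theorem q_inv (i : ZMod (2 ^ D.n)) : (D.q i)⁻¹ = D.q (-(D.r * i)) := by
  refine inv_eq_of_mul_eq_one_right ?_
  rw [q_mul_q, P_eq_one]
  linear_combination -i * D.r_mul_r

theorem conj_P_q (k i : ZMod (2 ^ D.n)) :
    D.P k * D.q i * (D.P k)⁻¹ = D.q (i + (1 - D.r) * k) := by
  rw [← P_neg, P_mul_q, q_mul_P, q_inj]; ring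

theorem conj_q_P (i k : ZMod (2 ^ D.n)) :
    D.q i * D.P k * (D.q i)⁻¹ = D.P (D.r * k) := by
  rw [q_inv, q_mul_P, q_mul_q, P_inj]
  linear_combination -i * D.r_mul_r

theorem conj_q_q (j i : ZMod (2 ^ D.n)) :
    D.q j * D.q i * (D.q j)⁻¹ = D.q (j + D.r * i - D.r * j) := by
  rw [q_inv, q_mul_q, P_mul_q, q_inj]; ring

theorem conj_P_P (i k : ZMod (2 ^ D.n)) : D.P i * D.P k * (D.P i)⁻¹ = D.P k := by
  rw [P_comm, mul_inv_cancel_right]

theorem commute_P_q {k i : ZMod (2 ^ D.n)} :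
    Commute (D.P k) (D.q i) ↔ k = 0 ∨ k = D.h := by
  rw [← one_sub_r_mul_eq_zero]
  rw [Commute, SemiconjBy, P_mul_q, q_mul_P, q_inj]
  constructor <;> intro e <;> linear_combination e

theorem commute_q_q {i j : ZMod (2 ^ D.n)} :
    Commute (D.q i) (D.q j) ↔ i = j ∨ i = j + D.h := by
  rw [← sub_eq_zero (a := i), ← sub_eq_iff_eq_add' (a := i), ← one_sub_r_mul_eq_zero]
  rw [Commute, SemiconjBy, q_mul_q, q_mul_q, P_inj]
  constructor <;> intro e <;> linear_combination e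

/-! ### Orders -/

theorem z_ne_one : D.z ≠ 1 := fun e => D.h_ne_zero (D.P_eq_one.1 e)

theorem orderOf_z : orderOf D.z = 2 :=
  orderOf_eq_prime (by rw [z, P_pow, P_eq_one]; push_cast; linear_combination D.h_add_h) D.z_ne_one

theorem q_mul_self_even {i : ZMod (2 ^ D.n)} (hi : Even i) : D.q i * D.q i = 1 := by
  rw [q_sq, D.h_mul_even hi, P_zero]

theorem q_mul_self_odd {i : ZMod (2 ^ D.n)} (hi : ¬ Even i) : D.q i * D.q i = D.z := by
  rw [q_sq, D.h_mul_odd hi, z]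

theorem orderOf_q_even {i : ZMod (2 ^ D.n)} (hi : Even i) : orderOf (D.q i) = 2 :=
  orderOf_eq_prime (by rw [sq, q_mul_self_even D hi]) (D.q_ne_one i)

theorem orderOf_q_odd {i : ZMod (2 ^ D.n)} (hi : ¬ Even i) : orderOf (D.q i) = 4 := by
  have h2 : D.q i ^ 2 = D.z := by rw [sq, q_mul_self_odd D hi]
  refine orderOf_eq_prime_pow (p := 2) (n := 1) ?_ ?_
  · rw [pow_one, h2]; exact D.z_ne_one
  · rw [show (2 : ℕ) ^ (1 + 1) = 2 * 2 from rfl, pow_mul, h2, ← D.orderOf_z, pow_orderOf_eq_one]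

theorem orderOf_P_odd {i : ZMod (2 ^ D.n)} (hi : ¬ Even i) : orderOf (D.P i) = 2 ^ D.n := by
  have hn : D.n = (D.n - 1) + 1 := by have := D.hn; omega
  rw [hn]
  refine orderOf_eq_prime_pow (p := 2) ?_ ?_
  · rw [P_pow, P_eq_one]; push_cast; exact fun e => hi (D.h_mul_iff.1 e)
  · rw [← hn, P_pow, P_eq_one]; push_cast; rw [two_pow_self, zero_mul]

theorem mul_self_eq_one {s : S} (hs : s * s = 1) :
    s = 1 ∨ s = D.z ∨ ∃ i, Even i ∧ s = D.q i := by
  rcases D.forms s with ⟨i, rfl⟩ | ⟨i, rfl⟩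
  · rw [← P_add, P_eq_one] at hs
    rcases (add_self_eq_zero_iff D.n1).1 hs with rfl | rfl
    · exact Or.inl D.P_zero
    · exact Or.inr (Or.inl rfl)
  · rw [q_sq, P_eq_one] at hs
    exact Or.inr (Or.inr ⟨i, D.h_mul_iff.1 hs, rfl⟩)

theorem eq_of_orderOf_two {s : S} (hs : orderOf s = 2) :
    s = D.z ∨ ∃ i, Even i ∧ s = D.q i := by
  have h1 : s * s = 1 := by rw [← sq, ← hs, pow_orderOf_eq_one]
  rcases D.mul_self_eq_one h1 with rfl | h'
  · simp at hs
  · exact h'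

theorem orderOf_P_c : orderOf (D.P D.c) = 4 := by
  refine orderOf_eq_prime_pow (p := 2) (n := 1) ?_ ?_
  · rw [pow_one, P_pow, P_eq_one]; push_cast
    exact fun e => D.h_ne_zero (by rw [← D.c_add_c]; linear_combination e)
  · rw [P_pow, P_eq_one]; push_cast
    linear_combination 2 * D.c_add_c + D.h_add_h

theorem orderOf_P_neg_c : orderOf (D.P (-D.c)) = 4 := by
  rw [P_neg, orderOf_inv, orderOf_P_c]

theorem eq_of_orderOf_four {s : S} (hs : orderOf s = 4) :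
    s = D.P D.c ∨ s = D.P (-D.c) ∨ ∃ i, ¬ Even i ∧ s = D.q i := by
  rcases D.forms s with ⟨i, rfl⟩ | ⟨i, rfl⟩
  · have h1 : D.P i ^ 4 = 1 := by rw [← hs, pow_orderOf_eq_one]
    rw [P_pow, P_eq_one] at h1
    push_cast at h1
    rcases (four_mul_eq_zero_iff D.n2).1 h1 with rfl | rfl | rfl | rfl
    · rw [P_zero, orderOf_one] at hs; omega
    · exact Or.inl rfl
    · rw [← h, ← z, orderOf_z] at hs; omega
    · exact Or.inr (Or.inl rfl)
  · refine Or.inr (Or.inr ⟨i, fun hi => ?_, rfl⟩)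
    rw [D.orderOf_q_even hi] at hs; omega

theorem P_of_orderOf_ge {s : S} (hs : 8 ≤ orderOf s) : ∃ i, s = D.P i := by
  rcases D.forms s with h' | ⟨i, rfl⟩
  · exact h'
  · by_cases hi : Even i
    · rw [D.orderOf_q_even hi] at hs; omega
    · rw [D.orderOf_q_odd hi] at hs; omega

theorem odd_P_of_orderOf {s : S} (hs : orderOf s = 2 ^ D.n) : ∃ i, ¬ Even i ∧ s = D.P i := by
  have h8 : 8 ≤ orderOf s := by
    rw [hs]; calc 8 = 2 ^ 3 := rfl
      _ ≤ 2 ^ D.n := Nat.pow_le_pow_right two_pos D.hn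
  obtain ⟨i, rfl⟩ := D.P_of_orderOf_ge h8
  refine ⟨i, fun hi => ?_, rfl⟩
  have h1 : D.P i ^ 2 ^ (D.n - 1) = 1 := by
    rw [P_pow, P_eq_one]; push_cast; exact D.h_mul_even hi
  have h2 := Nat.le_of_dvd (Nat.two_pow_pos _) (orderOf_dvd_of_pow_eq_one h1)
  rw [hs] at h2
  have := Nat.pow_le_pow_iff_right (Nat.lt_succ_self 1) |>.1 h2
  have := D.hn
  omega

/-! ### Conjugacy -/

theorem mem_center_z (s : S) : Commute D.z s := by
  rcases D.forms s with ⟨i, rfl⟩ | ⟨i, rfl⟩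
  · exact D.P_comm _ i
  · exact (D.commute_P_q).2 (Or.inr rfl)

theorem eq_center {s : S} (hs : ∀ a, Commute s a) : s = 1 ∨ s = D.z := by
  rcases D.forms s with ⟨i, rfl⟩ | ⟨i, rfl⟩
  · rcases D.commute_P_q.1 (hs (D.q 0)) with rfl | rfl
    · exact Or.inl D.P_zero
    · exact Or.inr rfl
  · rcases D.commute_P_q.1 (hs (D.P 1)).symm with e | e
    · exact absurd ⟨0, by rw [e, add_zero]⟩ D.not_even_one
    · exact absurd (e ▸ D.even_h) D.not_even_one

theorem isConj_q {i j : ZMod (2 ^ D.n)} (hij : Even (j - i)) :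
    ∃ k, D.P k * D.q i * (D.P k)⁻¹ = D.q j := by
  obtain ⟨k, hk⟩ := D.exists_one_sub_r_mul hij
  exact ⟨k, by rw [conj_P_q, hk, add_sub_cancel]⟩

theorem conj_P_eq (s : S) (i : ZMod (2 ^ D.n)) :
    s * D.P i * s⁻¹ = D.P i ∨ s * D.P i * s⁻¹ = D.P (D.r * i) := by
  rcases D.forms s with ⟨k, rfl⟩ | ⟨k, rfl⟩
  · exact Or.inl (D.conj_P_P k i)
  · exact Or.inr (D.conj_q_P k i)

theorem conj_q_eq (s : S) (i : ZMod (2 ^ D.n)) :
    ∃ j, Even (j - i) ∧ s * D.q i * s⁻¹ = D.q j := by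
  rcases D.forms s with ⟨k, rfl⟩ | ⟨k, rfl⟩
  · refine ⟨_, ?_, D.conj_P_q k i⟩
    rw [add_sub_cancel_left, r]
    exact ⟨(1 - D.c) * k, by linear_combination k * D.c_add_c⟩
  · refine ⟨_, ?_, D.conj_q_q k i⟩
    rw [r]
    exact ⟨(1 - D.c) * (k - i), by linear_combination (k - i) * D.c_add_c⟩

end Gens

end Cfsg.Agent.Involutions.QuasiDihedral
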