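import Mathlib
import Cfsg.Agent.Lib.Involutions.QuasiDihedral

/-!
# Subgroups of quasi-dihedral groups
-/

namespace Cfsg.Agent.Involutions.QuasiDihedral.Gens

open Cfsg.Agent.Classical.CyclicExt
open scoped commutatorElement

variable {S : Type*} [Group S] (D : Gens S)

/-- The subgroup of index 2 containing `x ^ 2` and `q a`. -/
def half (a : ZMod (2 ^ D.n)) : Subgroup S where
  carrier := {s | (∃ i, Even i ∧ s = D.P i) ∨ ∃ i, Even (i - a) ∧ s = D.q i}
  one_mem' := Or.inl ⟨0, ⟨0, (add_zero 0).symm⟩, D.P_zero.symm⟩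
  mul_mem' := by
    rintro _ _ (⟨i, hi, rfl⟩ | ⟨i, hi, rfl⟩) (⟨j, hj, rfl⟩ | ⟨j, hj, rfl⟩)
    · exact Or.inl ⟨i + j, hi.add hj, (D.P_add i j).symm⟩
    · exact Or.inr ⟨i + j, by rw [add_sub_assoc]; exact hi.add hj, D.P_mul_q i j⟩
    · exact Or.inr ⟨i + D.r * j, by
        rw [add_sub_right_comm]; exact hi.add (D.even_r_mul_iff.2 hj), D.q_mul_P i j⟩
    · refine Or.inl ⟨i + D.r * j, ?_, D.q_mul_q i j⟩
      have : i + D.r * j = (i - a) - (j - a) + D.h * j := by rw [r_mul]; ring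
      rw [this]; exact (hi.sub hj).add (D.even_h.mul_right j)
  inv_mem' := by
    rintro _ (⟨i, hi, rfl⟩ | ⟨i, hi, rfl⟩)
    · exact Or.inl ⟨-i, hi.neg, (D.P_neg i).symm⟩
    · refine Or.inr ⟨-(D.r * i), ?_, D.q_inv i⟩
      have : -(D.r * i) - a = (i - a) - D.h * i := by rw [r_mul]; ring
      rw [this]; exact hi.sub (D.even_h.mul_right i)

theorem P_mem_half {a i : ZMod (2 ^ D.n)} : D.P i ∈ D.half a ↔ Even i :=
  ⟨fun h => h.elim (fun ⟨j, hj, e⟩ => D.P_inj.1 e ▸ hj)
    fun ⟨j, _, e⟩ => absurd e (D.P_ne_q i j), fun hi => Or.inl ⟨i, hi, rfl⟩⟩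

theorem q_mem_half {a i : ZMod (2 ^ D.n)} : D.q i ∈ D.half a ↔ Even (i - a) :=
  ⟨fun h => h.elim (fun ⟨j, _, e⟩ => absurd e.symm (D.P_ne_q j i))
    fun ⟨j, hj, e⟩ => D.q_inj.1 e ▸ hj, fun hi => Or.inr ⟨i, hi, rfl⟩⟩

theorem index_half (a : ZMod (2 ^ D.n)) : (D.half a).index = 2 := by
  rw [Subgroup.index_eq_two_iff']
  refine ⟨D.x, fun b => ?_⟩
  rw [← P_one]
  rcases D.forms b with ⟨i, rfl⟩ | ⟨i, rfl⟩
  · rw [← P_add, P_mem_half, P_mem_half]
    rcases QuasiDihedral.even_or_even_sub_one i with hi | hi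
    · exact Or.inr ⟨hi, fun h => D.not_even_one (by simpa using h.sub hi)⟩
    · refine Or.inl ⟨?_, fun h => D.not_even_one (by simpa using h.sub hi)⟩
      have : 1 + i = (i - 1) + (1 + 1) := by ring
      rw [this]; exact hi.add ⟨1, rfl⟩
  · rw [P_mul_q, q_mem_half, q_mem_half]
    rcases QuasiDihedral.even_or_even_sub_one (i - a) with hi | hi
    · refine Or.inr ⟨hi, fun h => D.not_even_one ?_⟩
      have := h.sub hi
      rwa [show 1 + i - a - (i - a) = 1 by ring] at this
    · refine Or.inl ⟨?_, fun h => D.not_even_one (by simpa using h.sub hi)⟩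
      have : 1 + i - a = (i - a - 1) + (1 + 1) := by ring
      rw [this]; exact hi.add ⟨1, rfl⟩

theorem isCoatom_of_index_two {H : Subgroup S} (h : H.index = 2) : IsCoatom H := by
  refine ⟨fun e => by rw [e, Subgroup.index_top] at h; omega, fun K hK => ?_⟩
  by_contra hne
  have h1 := Subgroup.relIndex_mul_index hK.le
  rw [h] at h1
  have h2 : K.index ≠ 1 := fun e => hne (Subgroup.index_eq_one.1 e)
  have h3 : H.relIndex K ≠ 1 := fun e => not_le_of_gt hK (Subgroup.relIndex_eq_one.1 e)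
  rcases (Nat.dvd_prime Nat.prime_two).1 (Dvd.intro _ h1) with h4 | h4
  · exact h3 h4
  · rw [h4] at h1; omega

theorem isCoatom_half (a : ZMod (2 ^ D.n)) : IsCoatom (D.half a) :=
  isCoatom_of_index_two (D.index_half a)

theorem isCoatom_zpowers : IsCoatom (Subgroup.zpowers D.x) :=
  isCoatom_of_index_two D.index_zpowers

include D in
theorem finite : Finite S := finite_of_gens D

include D in
theorem isPGroup : IsPGroup 2 S := IsPGroup.of_card D.hcard

include D in
theorem index_two_of_isCoatom {M : Subgroup S} (hM : IsCoatom M) : M.index = 2 := by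
  have := D.finite
  have := D.isPGroup.isNilpotent
  have hn : M.Normal :=
    Subgroup.NormalizerCondition.normal_of_coatom M Group.normalizerCondition_of_isNilpotent hM
  obtain ⟨k, hk⟩ := IsPGroup.iff_card.1 (D.isPGroup.to_quotient M)
  rw [← Subgroup.index_eq_card] at hk
  have hk0 : k ≠ 0 := fun e => hM.1 (Subgroup.index_eq_one.1 (by rw [hk, e, pow_zero]))
  obtain ⟨a, ha⟩ := exists_prime_orderOf_dvd_card' (G := S ⧸ M) 2
    (by rw [← Subgroup.index_eq_card, hk]; exact dvd_pow_self 2 hk0)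
  have hlt : M < (Subgroup.zpowers a).comap (QuotientGroup.mk' M) := by
    refine lt_of_le_of_ne (fun s hs => ?_) fun e => ?_
    · rw [Subgroup.mem_comap, QuotientGroup.mk'_apply, (QuotientGroup.eq_one_iff s).2 hs]
      exact one_mem _
    · obtain ⟨s, rfl⟩ := QuotientGroup.mk_surjective a
      have hs : s ∈ M := by
        rw [e]; exact Subgroup.mem_comap.2 (Subgroup.mem_zpowers _)
      rw [(QuotientGroup.eq_one_iff s).2 hs, orderOf_one] at ha
      omega
  have h1 : Subgroup.zpowers a = ⊤ :=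
    Subgroup.comap_injective (QuotientGroup.mk'_surjective M)
      ((hM.2 _ hlt).trans (Subgroup.comap_top _).symm)
  rw [Subgroup.index_eq_card, ← Subgroup.card_top (G := S ⧸ M), ← h1, Nat.card_zpowers, ha]

include D in
theorem sq_mem {M : Subgroup S} (hM : IsCoatom M) (s : S) : s * s ∈ M :=
  Subgroup.mul_self_mem_of_index_two (D.index_two_of_isCoatom hM) s

theorem P_mem_of_isCoatom {M : Subgroup S} (hM : IsCoatom M) {i : ZMod (2 ^ D.n)} (hi : Even i) :
    D.P i ∈ M := by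
  obtain ⟨j, rfl⟩ := hi
  rw [P_add]; exact D.sq_mem hM _

theorem eq_of_isCoatom {M : Subgroup S} (hM : IsCoatom M) :
    M = Subgroup.zpowers D.x ∨ M = D.half 1 ∨ M = D.half 0 := by
  have key : ∀ K : Subgroup S, IsCoatom K → K ≤ M → M = K := fun K hK h =>
    (hK.le_iff.1 h).resolve_left hM.1
  by_cases hq : ∃ i, D.q i ∈ M
  · obtain ⟨i, hi⟩ := hq
    refine Or.inr ?_
    have hle : ∀ a, Even (i - a) → D.half a ≤ M := by
      rintro a ha s (⟨j, hj, rfl⟩ | ⟨j, hj, rfl⟩)
      · exact D.P_mem_of_isCoatom hM hj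
      · have h1 : D.q j = D.P (j - i) * D.q i := by rw [P_mul_q, sub_add_cancel]
        rw [h1]; refine mul_mem (D.P_mem_of_isCoatom hM ?_) hi
        rw [show j - i = (j - a) - (i - a) by ring]; exact hj.sub ha
    rcases QuasiDihedral.even_or_even_sub_one i with h | h
    · exact Or.inr (key _ (D.isCoatom_half 0) (hle 0 (by rwa [sub_zero])))
    · exact Or.inl (key _ (D.isCoatom_half 1) (hle 1 h))
  · have hsub : M ≤ Subgroup.zpowers D.x := fun s hs => by
      rcases D.forms s with ⟨i, rfl⟩ | ⟨i, rfl⟩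
      · exact D.P_mem i
      · exact absurd ⟨i, hs⟩ hq
    exact Or.inl ((hM.le_iff.1 hsub).resolve_left D.isCoatom_zpowers.1).symm

theorem half_zero_ne_one : D.half 0 ≠ D.half 1 := fun e => by
  have h1 : D.q 0 ∈ D.half 0 := D.q_mem_half.2 (by simp)
  rw [e, q_mem_half, zero_sub] at h1
  exact D.not_even_one (by simpa using h1.neg)

theorem zpowers_ne_half (a : ZMod (2 ^ D.n)) : Subgroup.zpowers D.x ≠ D.half a := fun e => by
  have h1 : D.P 1 ∈ D.half a := e ▸ D.P_mem 1
  exact D.not_even_one (D.P_mem_half.1 h1)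

theorem card_half (a : ZMod (2 ^ D.n)) : Nat.card (D.half a) = 2 ^ D.n := by
  have := (D.half a).card_mul_index
  rw [index_half, D.hcard, pow_succ] at this
  exact Nat.eq_of_mul_eq_mul_right two_pos this

theorem orderOf_P_two : orderOf (D.P 2) = 2 ^ (D.n - 1) := by
  have hn := D.hn
  rw [show (2 : ZMod (2 ^ D.n)) = ((2 : ℕ) : ZMod (2 ^ D.n)) by simp, P_natCast,
    orderOf_pow_of_dvd two_ne_zero (by rw [D.hx]; exact dvd_pow_self 2 (by omega)), D.hx]
  obtain ⟨m, hm⟩ : ∃ m, D.n = m + 1 := ⟨D.n - 1, by omega⟩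
  rw [hm, pow_succ, Nat.mul_div_left _ two_pos, Nat.add_sub_cancel]

theorem half_one_equiv : Nonempty (D.half 1 ≃* QuaternionGroup (2 ^ (D.n - 2))) := by
  have hn := D.hn
  have := D.finite
  haveI : NeZero (2 ^ (D.n - 2)) := ⟨by positivity⟩
  obtain ⟨f, hf⟩ := exists_quaternion_hom (n := 2 ^ (D.n - 2))
    (⟨D.P 2, D.P_mem_half.2 ⟨1, by ring⟩⟩ : D.half 1) ⟨D.q 1, D.q_mem_half.2 (by simp)⟩
    (by rw [Subgroup.orderOf_mk, orderOf_P_two, ← pow_succ']; congr 1; omega)
    (Subtype.ext (by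
      simp only [Subgroup.coe_mul, Subgroup.coe_pow]
      rw [D.q_mul_self_odd D.not_even_one, P_pow, z, P_inj, h]
      push_cast
      rw [← pow_succ]; congr 1; omega))
    (Subtype.ext (by
      simp only [Subgroup.coe_mul, Subgroup.coe_inv]
      rw [conj_q_P, ← P_neg, P_inj, D.r_mul_even ⟨1, by ring⟩]))
    (by
      rintro ⟨k, hk⟩
      have h1 : D.q 1 ∈ Subgroup.zpowers D.x := by
        have : D.P 2 ^ k = D.q 1 := congrArg Subtype.val hk
        rw [← this]; exact zpow_mem (D.P_mem 2) k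
      obtain ⟨i, hi⟩ := D.exists_eq_P h1
      exact D.P_ne_q i 1 hi.symm)
  refine ⟨(MulEquiv.ofBijective f ((Nat.bijective_iff_injective_and_card f).2 ⟨hf, ?_⟩)).symm⟩
  rw [Nat.card_eq_fintype_card, QuaternionGroup.card, card_half, show (4 : ℕ) = 2 ^ 2 from rfl, ← pow_add]
  congr 1; omega

theorem half_zero_equiv : Nonempty (D.half 0 ≃* DihedralGroup (2 ^ (D.n - 1))) := by
  have hn := D.hn
  have := D.finite
  haveI : NeZero (2 ^ (D.n - 1)) := ⟨by positivity⟩
  obtain ⟨f, hf, -, -⟩ := exists_dihedral_hom (n := 2 ^ (D.n - 1))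
    (⟨D.P 2, D.P_mem_half.2 ⟨1, by ring⟩⟩ : D.half 0) ⟨D.q 0, D.q_mem_half.2 (by simp)⟩
    (by rw [Subgroup.orderOf_mk, orderOf_P_two])
    (Subtype.ext (by
      simp only [Subgroup.coe_mul, Subgroup.coe_one]
      exact D.q_mul_self_even ⟨0, by simp⟩))
    (Subtype.ext (by
      simp only [Subgroup.coe_mul, Subgroup.coe_inv]
      rw [conj_q_P, ← P_neg, P_inj, D.r_mul_even ⟨1, by ring⟩]))
    (by
      rintro ⟨k, hk⟩
      have h1 : D.q 0 ∈ Subgroup.zpowers D.x := by
        have : D.P 2 ^ k = D.q 0 := congrArg Subtype.val hk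
        rw [← this]; exact zpow_mem (D.P_mem 2) k
      obtain ⟨i, hi⟩ := D.exists_eq_P h1
      exact D.P_ne_q i 0 hi.symm)
  refine ⟨(MulEquiv.ofBijective f ((Nat.bijective_iff_injective_and_card f).2 ⟨hf, ?_⟩)).symm⟩
  rw [DihedralGroup.nat_card, card_half, ← pow_succ']
  congr 1; omega

theorem closure_involutions : Subgroup.closure {s : S | orderOf s = 2} = D.half 0 := by
  apply le_antisymm
  · rw [Subgroup.closure_le]
    intro s hs
    rcases D.eq_of_orderOf_two hs with rfl | ⟨i, hi, rfl⟩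
    · exact D.P_mem_half.2 D.even_h
    · exact D.q_mem_half.2 (by rwa [sub_zero])
  · have hq : ∀ i, Even i → D.q i ∈ Subgroup.closure {s : S | orderOf s = 2} := fun i hi =>
      Subgroup.subset_closure (D.orderOf_q_even hi)
    rintro s (⟨i, hi, rfl⟩ | ⟨i, hi, rfl⟩)
    · have : D.P i = D.q i * D.q 0 := by rw [q_mul_q, mul_zero, add_zero]
      rw [this]; exact mul_mem (hq i hi) (hq 0 ⟨0, by simp⟩)
    · exact hq i (by rwa [sub_zero] at hi)

/-! ### The squares -/

/-- The subgroup of the even powers of `x`. -/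
def evens : Subgroup S := Subgroup.zpowers D.x ⊓ D.half 0

theorem mem_evens {s : S} : s ∈ D.evens ↔ ∃ i, Even i ∧ s = D.P i := by
  constructor
  · rintro ⟨h1, h2⟩
    obtain ⟨i, rfl⟩ := D.exists_eq_P h1
    exact ⟨i, D.P_mem_half.1 h2, rfl⟩
  · rintro ⟨i, hi, rfl⟩
    exact ⟨D.P_mem i, D.P_mem_half.2 hi⟩

theorem evens_le {M : Subgroup S} (hM : IsCoatom M) : D.evens ≤ M := fun s hs => by
  obtain ⟨i, hi, rfl⟩ := D.mem_evens.1 hs
  exact D.P_mem_of_isCoatom hM hi

theorem frattini_eq : frattini S = D.evens := by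
  apply le_antisymm
  · exact le_inf (frattini_le_coatom D.isCoatom_zpowers) (frattini_le_coatom (D.isCoatom_half 0))
  · rw [frattini, Order.radical]
    exact le_iInf₂ fun M hM => D.evens_le hM

theorem commutator_eq : commutator S = D.evens := by
  apply le_antisymm
  · rw [commutator_def, Subgroup.commutator_le]
    intro a _ b _
    have key : ∀ H : Subgroup S, H.index = 2 → ⁅a, b⁆ ∈ H := fun H hH => by
      simp [commutatorElement_def, Subgroup.mul_mem_iff_of_index_two hH]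
      tauto
    exact ⟨key _ D.index_zpowers, key _ (D.index_half 0)⟩
  · intro s hs
    obtain ⟨i, hi, rfl⟩ := D.mem_evens.1 hs
    obtain ⟨k, hk⟩ := D.exists_one_sub_r_mul hi
    have : D.P i = ⁅D.P k, D.q 0⁆ := by
      rw [commutatorElement_def, conj_P_q, hk, zero_add, q_inv, mul_zero, neg_zero, q_mul_q,
        mul_zero, add_zero]
    rw [this]; rw [commutator_def]; exact Subgroup.commutator_mem_commutator (Subgroup.mem_top _) (Subgroup.mem_top _)

theorem card_evens : Nat.card D.evens = 2 ^ (D.n - 1) := by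
  have h1 : D.evens = Subgroup.zpowers (D.P 2) := by
    apply le_antisymm
    · intro s hs
      obtain ⟨i, ⟨j, rfl⟩, rfl⟩ := D.mem_evens.1 hs
      obtain ⟨a, rfl⟩ := ZMod.intCast_surjective j
      refine Subgroup.mem_zpowers_iff.2 ⟨a, ?_⟩
      rw [P, P, show (2 : ZMod (2 ^ D.n)) = ((2 : ℤ) : ZMod (2 ^ D.n)) by simp, ← Int.cast_add,
        pw_intCast, pw_intCast, ← zpow_mul]
      ring_nf
    · rw [Subgroup.zpowers_le, mem_evens]; exact ⟨2, ⟨1, by ring⟩, rfl⟩
  rw [h1, Nat.card_zpowers, orderOf_P_two]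

theorem isCyclic_of_le {H : Subgroup S} (h : H ≤ Subgroup.zpowers D.x) : IsCyclic H :=
  Subgroup.isCyclic_of_le h

theorem center_eq : Subgroup.center S = Subgroup.zpowers D.z := by
  apply le_antisymm
  · intro s hs
    rcases D.eq_center (fun a => ((Subgroup.mem_center_iff.1 hs) a).symm) with rfl | rfl
    · exact one_mem _
    · exact Subgroup.mem_zpowers _
  · rw [Subgroup.zpowers_le, Subgroup.mem_center_iff]
    exact fun a => (D.mem_center_z a).symm.eq

include D in
theorem card_center : Nat.card (Subgroup.center S) = 2 := by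
  rw [D.center_eq, Nat.card_zpowers, D.orderOf_z]

/-! ### Four-groups -/

theorem four_forms {T : Subgroup S} (hT : IsKleinFour T) :
    ∃ i, Even i ∧ ∀ s, s ∈ T ↔ s = 1 ∨ s = D.z ∨ s = D.q i ∨ s = D.q (i + D.h) := by
  have := D.finite
  have hsq : ∀ s ∈ T, s * s = 1 := fun s hs =>
    congrArg Subtype.val (IsKleinFour.mul_self (G := T) ⟨s, hs⟩)
  have hq : ∃ i, Even i ∧ D.q i ∈ T := by
    by_contra hne
    push Not at hne
    have hsub : (T : Set S) ⊆ {1, D.z} := fun s hs => by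
      rcases D.mul_self_eq_one (hsq s hs) with rfl | rfl | ⟨i, hi, rfl⟩
      · exact Or.inl rfl
      · exact Or.inr rfl
      · exact absurd hs (hne i hi)
    have h1 := Set.ncard_le_ncard hsub (Set.toFinite _)
    have h2 : ({1, D.z} : Set S).ncard ≤ 2 := (Set.ncard_insert_le _ _).trans (by simp)
    rw [← Nat.card_coe_set_eq] at h1
    have h3 : Nat.card (T : Set S) = 4 := IsKleinFour.card_four (G := T)
    omega
  obtain ⟨i, hi, hiT⟩ := hq
  have hmul : ∀ j, D.q j ∈ T → j = i ∨ j = i + D.h := fun j hj => by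
    have h1 := hsq _ (mul_mem hj hiT)
    rw [q_mul_q, D.r_mul_even hi, ← sub_eq_add_neg, ← P_add, P_eq_one] at h1
    rcases (add_self_eq_zero_iff D.n1).1 h1 with h2 | h2
    · exact Or.inl (sub_eq_zero.1 h2)
    · exact Or.inr (by rw [h]; linear_combination h2)
  have hzT : D.z ∈ T := by
    by_contra hz
    have hsub : (T : Set S) ⊆ {1, D.q i, D.q (i + D.h)} := fun s hs => by
      rcases D.mul_self_eq_one (hsq s hs) with rfl | rfl | ⟨j, -, rfl⟩
      · exact Or.inl rfl
      · exact absurd hs hz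
      · rcases hmul j hs with rfl | rfl
        · exact Or.inr (Or.inl rfl)
        · exact Or.inr (Or.inr rfl)
    have h1 := Set.ncard_le_ncard hsub (Set.toFinite _)
    have h2 : ({1, D.q i, D.q (i + D.h)} : Set S).ncard ≤ 3 :=
      (Set.ncard_insert_le _ _).trans (by
        have := Set.ncard_insert_le (D.q i) {D.q (i + D.h)}
        rw [Set.ncard_singleton] at this
        omega)
    rw [← Nat.card_coe_set_eq] at h1
    have h3 : Nat.card (T : Set S) = 4 := IsKleinFour.card_four (G := T)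
    omega
  refine ⟨i, hi, fun s => ⟨fun hs => ?_, ?_⟩⟩
  · rcases D.mul_self_eq_one (hsq s hs) with rfl | rfl | ⟨j, -, rfl⟩
    · exact Or.inl rfl
    · exact Or.inr (Or.inl rfl)
    · rcases hmul j hs with rfl | rfl
      · exact Or.inr (Or.inr (Or.inl rfl))
      · exact Or.inr (Or.inr (Or.inr rfl))
  · rintro (rfl | rfl | rfl | rfl)
    · exact one_mem T
    · exact hzT
    · exact hiT
    · have := mul_mem hiT hzT
      rwa [z, q_mul_P, r_mul_h] at this

include D in
theorem four_conj {T₁ T₂ : Subgroup S} (h₁ : IsKleinFour T₁) (h₂ : IsKleinFour T₂) :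
    ∃ k, T₁.map (MulAut.conj (D.P k)).toMonoidHom = T₂ := by
  have := D.finite
  obtain ⟨i, hi, hT₁⟩ := D.four_forms h₁
  obtain ⟨j, hj, hT₂⟩ := D.four_forms h₂
  obtain ⟨k, hk⟩ := D.isConj_q (hj.sub hi)
  refine ⟨k, Subgroup.eq_of_le_of_card_ge ?_ ?_⟩
  · rintro _ ⟨s, hs, rfl⟩
    simp only [MulEquiv.coe_toMonoidHom, MulAut.conj_apply]
    rw [hT₂]
    rcases (hT₁ s).1 hs with rfl | rfl | rfl | rfl
    · simp
    · exact Or.inr (Or.inl (D.conj_P_P k D.h))
    · exact Or.inr (Or.inr (Or.inl hk))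
    · refine Or.inr (Or.inr (Or.inr ?_))
      rw [conj_P_q] at hk ⊢
      rw [q_inj] at hk ⊢
      linear_combination hk
  · rw [Subgroup.card_map_of_injective (MulEquiv.injective _), IsKleinFour.card_four (G := T₁),
      IsKleinFour.card_four (G := T₂)]

include D in
theorem mem_four_of_centralizer {T : Subgroup S} (hT : IsKleinFour T) {s : S}
    (hs : ∀ t ∈ T, Commute s t) : s ∈ T := by
  obtain ⟨i, hi, hT'⟩ := D.four_forms hT
  have h1 : Commute s (D.q i) := hs _ ((hT' _).2 (Or.inr (Or.inr (Or.inl rfl))))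
  rw [hT']
  rcases D.forms s with ⟨k, rfl⟩ | ⟨k, rfl⟩
  · rcases D.commute_P_q.1 h1 with rfl | rfl
    · exact Or.inl D.P_zero
    · exact Or.inr (Or.inl rfl)
  · rcases D.commute_q_q.1 h1 with rfl | rfl
    · exact Or.inr (Or.inr (Or.inl rfl))
    · exact Or.inr (Or.inr (Or.inr rfl))

theorem conj_P_c_q (i : ZMod (2 ^ D.n)) :
    D.P D.c * D.q i * (D.P D.c)⁻¹ = D.q (i + D.h) := by
  rw [conj_P_q, q_inj, sub_mul, one_mul, r_mul_c]; linear_combination D.c_add_c

theorem four_normalizer {T : Subgroup S} (hT : IsKleinFour T) :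
    D.P D.c ∈ Subgroup.normalizer (T : Set S) ∧ D.P D.c ∉ T ∧
      ∀ g ∈ Subgroup.normalizer (T : Set S), g ∈ T ∨ g * D.P D.c ∈ T := by
  obtain ⟨i, hi, hT'⟩ := D.four_forms hT
  have hih : i + D.h + D.h = i := by rw [add_assoc, h_add_h, add_zero]
  have hnot : D.P D.c ∉ T := fun hc => by
    have h1 := congrArg Subtype.val (IsKleinFour.mul_self (G := T) ⟨_, hc⟩)
    simp only [Subgroup.coe_mul, Subgroup.coe_one] at h1
    rw [← P_add, c_add_c] at h1
    exact D.z_ne_one h1
  have hc : ∀ s ∈ T, D.P D.c * s * (D.P D.c)⁻¹ ∈ T := fun s hs => by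
    rw [hT']
    rcases (hT' s).1 hs with rfl | rfl | rfl | rfl
    · simp
    · exact Or.inr (Or.inl (D.conj_P_P _ _))
    · exact Or.inr (Or.inr (Or.inr (D.conj_P_c_q i)))
    · exact Or.inr (Or.inr (Or.inl (by rw [conj_P_c_q, hih])))
  have hn : D.P D.c ∈ Subgroup.normalizer (T : Set S) := by
    have := D.finite
    rw [Subgroup.mem_normalizer_iff]
    refine fun s => ⟨hc s, fun hs => ?_⟩
    have h2 : (T.map (MulAut.conj (D.P D.c)).toMonoidHom) = T := by
      refine Subgroup.eq_of_le_of_card_ge ?_ ?_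
      · rintro _ ⟨t, ht, rfl⟩; exact hc t ht
      · rw [Subgroup.card_map_of_injective (MulEquiv.injective _)]
    obtain ⟨t, ht, he⟩ := h2.symm.le hs
    simp only [MulEquiv.coe_toMonoidHom, MulAut.conj_apply] at he
    exact mul_left_cancel (mul_right_cancel he) ▸ ht
  refine ⟨hn, hnot, fun g hg => ?_⟩
  have hqi : D.q i ∈ T := (hT' _).2 (Or.inr (Or.inr (Or.inl rfl)))
  have h1 := (Subgroup.mem_normalizer_iff.1 hg (D.q i)).1 hqi
  have hcz : Commute g D.z := (D.mem_center_z g).symm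
  have key : ∀ a : S, a * D.q i * a⁻¹ = D.q i → a ∈ T := fun a ha =>
    D.mem_four_of_centralizer hT fun t ht => by
      rcases (hT' t).1 ht with rfl | rfl | rfl | rfl
      · exact Commute.one_right a
      · exact (D.mem_center_z a).symm
      · exact mul_inv_eq_iff_eq_mul.1 ha
      · have h2 : D.q (i + D.h) = D.q i * D.z := by rw [z, q_mul_P, r_mul_h]
        rw [h2]
        exact Commute.mul_right (mul_inv_eq_iff_eq_mul.1 ha) (D.mem_center_z a).symm
  rcases (hT' _).1 h1 with e | e | e | e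
  · exact absurd (conj_eq_one_iff.1 e) (D.q_ne_one i)
  · exfalso
    have h3 : g * D.q i * g⁻¹ = g * D.z * g⁻¹ := by rw [e, hcz.eq, mul_inv_cancel_right]
    exact D.P_ne_q _ _ (mul_left_cancel (mul_right_cancel h3)).symm
  · exact Or.inl (key g e)
  · refine Or.inr ?_
    have h4 : (g * D.P D.c) * D.q i * (g * D.P D.c)⁻¹ = D.q i := by
      rw [mul_inv_rev, show g * D.P D.c * D.q i * ((D.P D.c)⁻¹ * g⁻¹) =
        g * (D.P D.c * D.q i * (D.P D.c)⁻¹) * g⁻¹ by group, conj_P_c_q]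
      have h2 : D.q (i + D.h) = D.q i * D.z := by rw [z, q_mul_P, r_mul_h]
      rw [h2, show g * (D.q i * D.z) * g⁻¹ = (g * D.q i * g⁻¹) * (g * D.z * g⁻¹) by group,
        e, hcz.eq, mul_inv_cancel_right, z, q_mul_P, r_mul_h, hih]
    exact key _ h4

/-! ### Quaternion subgroups of order 8 -/

theorem quaternion_two_facts :
    (∀ a : QuaternionGroup 2, a ^ 4 = 1) ∧
      (∀ a b : QuaternionGroup 2, a * a = 1 → b * b = 1 → a ≠ 1 → b ≠ 1 → a = b) := by
  constructor <;> decide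

theorem quaternion_forms {Q : Subgroup S} (e : Q ≃* QuaternionGroup 2) :
    ∃ j, ¬ Even j ∧ ∀ s, s ∈ Q ↔ ∃ k, 4 * k = 0 ∧ (s = D.P k ∨ s = D.q (k + j)) := by
  have := D.finite
  have h4 : ∀ s ∈ Q, s ^ 4 = 1 := fun s hs => by
    have h1 : (⟨s, hs⟩ : Q) ^ 4 = 1 := e.injective (by
      rw [map_pow, map_one]; exact quaternion_two_facts.1 _)
    exact congrArg Subtype.val h1
  have huniq : ∀ s ∈ Q, ∀ t ∈ Q, s * s = 1 → t * t = 1 → s ≠ 1 → t ≠ 1 → s = t := by
    intro s hs t ht h1 h2 h3 h5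
    have := quaternion_two_facts.2 (e ⟨s, hs⟩) (e ⟨t, ht⟩)
      (by rw [← map_mul, ← map_one e]; exact congrArg e (Subtype.ext h1))
      (by rw [← map_mul, ← map_one e]; exact congrArg e (Subtype.ext h2))
      (fun h => h3 (congrArg Subtype.val (e.injective (h.trans (map_one e).symm))))
      (fun h => h5 (congrArg Subtype.val (e.injective (h.trans (map_one e).symm))))
    exact congrArg Subtype.val (e.injective this)
  have hcard : Nat.card Q = 8 := by
    rw [Nat.card_congr e.toEquiv, Nat.card_eq_fintype_card, QuaternionGroup.card]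
  have hP : ∀ k, D.P k ∈ Q → 4 * k = 0 := fun k hk => by
    have := h4 _ hk
    rw [P_pow, P_eq_one] at this
    push_cast at this
    exact this
  have hA : (Q : Set S) ∩ Set.range D.P ⊆ D.P '' {0, D.c, D.h, -D.c} := by
    rintro s ⟨hs, k, rfl⟩
    refine ⟨k, ?_, rfl⟩
    simpa [h, c] using (four_mul_eq_zero_iff D.n2).1 (hP k hs)
  have hAcard : ((Q : Set S) ∩ Set.range D.P).ncard ≤ 4 := by
    refine (Set.ncard_le_ncard hA (Set.toFinite _)).trans
      ((Set.ncard_image_le (Set.toFinite _)).trans ?_)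
    refine (Set.ncard_insert_le _ _).trans ?_
    have h1 := Set.ncard_insert_le D.c {D.h, -D.c}
    have h2 := Set.ncard_insert_le D.h {-D.c}
    rw [Set.ncard_singleton] at h2
    omega
  obtain ⟨j, hjQ⟩ : ∃ j, D.q j ∈ Q := by
    by_contra hne
    push Not at hne
    have hsub : (Q : Set S) ⊆ (Q : Set S) ∩ Set.range D.P := fun s hs => by
      rcases D.forms s with ⟨i, rfl⟩ | ⟨i, rfl⟩
      · exact ⟨hs, i, rfl⟩
      · exact absurd hs (hne i)
    have h1 := (Set.ncard_le_ncard hsub (Set.toFinite _)).trans hAcard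
    rw [← Nat.card_coe_set_eq] at h1
    exact absurd (hcard ▸ h1 : (8 : ℕ) ≤ 4) (by norm_num)
  -- every element of the cyclic part
  have hall : ∀ k, 4 * k = 0 → D.P k ∈ Q := by
    have hcase : (Q : Set S) ⊆ ((Q : Set S) ∩ Set.range D.P) ∪
        (fun s => s * D.q j) '' ((Q : Set S) ∩ Set.range D.P) := fun s hs => by
      rcases D.forms s with ⟨i, rfl⟩ | ⟨i, rfl⟩
      · exact Or.inl ⟨hs, i, rfl⟩
      · refine Or.inr ⟨D.q i * (D.q j)⁻¹, ⟨mul_mem hs (inv_mem hjQ), ?_⟩, by simp⟩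
        exact ⟨i + D.r * -(D.r * j), by rw [q_inv, q_mul_q]⟩
    have h1 := (Set.ncard_le_ncard hcase (Set.toFinite _)).trans (Set.ncard_union_le _ _)
    have h2 := Set.ncard_image_le (f := fun s => s * D.q j)
      (Set.toFinite ((Q : Set S) ∩ Set.range D.P))
    rw [← Nat.card_coe_set_eq] at h1
    have h3 : Nat.card (Q : Set S) = 8 := hcard
    have heq : (Q : Set S) ∩ Set.range D.P = D.P '' {0, D.c, D.h, -D.c} := by
      refine Set.eq_of_subset_of_ncard_le hA ?_ (Set.toFinite _)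
      refine le_trans ((Set.ncard_image_le (Set.toFinite _)).trans ?_) (by omega :
        4 ≤ ((Q : Set S) ∩ Set.range D.P).ncard)
      refine (Set.ncard_insert_le _ _).trans ?_
      have h1 := Set.ncard_insert_le D.c {D.h, -D.c}
      have h2 := Set.ncard_insert_le D.h {-D.c}
      rw [Set.ncard_singleton] at h2
      omega
    intro k hk
    have : D.P k ∈ (Q : Set S) ∩ Set.range D.P := by
      rw [heq]; exact ⟨k, by simpa [h, c] using (four_mul_eq_zero_iff D.n2).1 hk, rfl⟩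
    exact this.1
  have hj : ¬ Even j := fun hj => by
    have hzQ : D.z ∈ Q := hall _ (by linear_combination 2 * D.h_add_h)
    have hz1 : D.z * D.z = 1 := by rw [← sq, ← D.orderOf_z, pow_orderOf_eq_one]
    exact D.P_ne_q _ _ (huniq _ hzQ _ hjQ hz1 (D.q_mul_self_even hj) D.z_ne_one (D.q_ne_one j))
  refine ⟨j, hj, fun s => ⟨fun hs => ?_, ?_⟩⟩
  · rcases D.forms s with ⟨i, rfl⟩ | ⟨i, rfl⟩
    · exact ⟨i, hP i hs, Or.inl rfl⟩
    · refine ⟨i - j, hP _ ?_, Or.inr (by rw [sub_add_cancel])⟩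
      have : D.P (i - j) = D.q i * (D.q j)⁻¹ := by
        rw [eq_mul_inv_iff_mul_eq, P_mul_q, sub_add_cancel]
      rw [this]; exact mul_mem hs (inv_mem hjQ)
  · rintro ⟨k, hk, rfl | rfl⟩
    · exact hall k hk
    · rw [← P_mul_q]; exact mul_mem (hall k hk) hjQ

include D in
theorem quaternion_conj {Q₁ Q₂ : Subgroup S} (e₁ : Q₁ ≃* QuaternionGroup 2)
    (e₂ : Q₂ ≃* QuaternionGroup 2) :
    ∃ k, Q₁.map (MulAut.conj (D.P k)).toMonoidHom = Q₂ := by
  have := D.finite
  obtain ⟨i, hi, h₁⟩ := D.quaternion_forms e₁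
  obtain ⟨j, hj, h₂⟩ := D.quaternion_forms e₂
  have hij : Even (j - i) := by
    have h1 := ((QuasiDihedral.even_or_even_sub_one j).resolve_left hj).sub
      ((QuasiDihedral.even_or_even_sub_one i).resolve_left hi)
    rwa [sub_sub_sub_cancel_right] at h1
  obtain ⟨k, hk⟩ := D.isConj_q hij
  refine ⟨k, Subgroup.eq_of_le_of_card_ge ?_ ?_⟩
  · rintro _ ⟨s, hs, rfl⟩
    simp only [MulEquiv.coe_toMonoidHom, MulAut.conj_apply]
    rw [h₂]
    obtain ⟨l, hl, rfl | rfl⟩ := (h₁ s).1 hs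
    · exact ⟨l, hl, Or.inl (D.conj_P_P k l)⟩
    · refine ⟨l, hl, Or.inr ?_⟩
      rw [conj_P_q] at hk ⊢
      rw [q_inj] at hk ⊢
      linear_combination hk
  · rw [Subgroup.card_map_of_injective (MulEquiv.injective _), Nat.card_congr e₁.toEquiv,
      Nat.card_congr e₂.toEquiv]

include D in
theorem quaternion_centralizer {Q : Subgroup S} (e : Q ≃* QuaternionGroup 2) {s : S}
    (hs : ∀ t ∈ Q, Commute s t) : s = 1 ∨ s = D.z := by
  obtain ⟨j, hj, hQ⟩ := D.quaternion_forms e
  have hc : D.P D.c ∈ Q := (hQ _).2 ⟨D.c, by linear_combination 2 * D.c_add_c + D.h_add_h,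
    Or.inl rfl⟩
  have hq : D.q j ∈ Q := (hQ _).2 ⟨0, mul_zero 4, Or.inr (by rw [zero_add])⟩
  rcases D.forms s with ⟨k, rfl⟩ | ⟨k, rfl⟩
  · rcases D.commute_P_q.1 (hs _ hq) with rfl | rfl
    · exact Or.inl D.P_zero
    · exact Or.inr rfl
  · rcases D.commute_P_q.1 (hs _ hc).symm with e | e
    · exact absurd (by rw [← D.c_add_c, e, add_zero]) D.h_ne_zero
    · have : D.c + D.c = 0 := by rw [e, h_add_h]
      exact absurd (D.c_add_c ▸ this) D.h_ne_zero

/-- An eighth of the modulus. -/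
def d : ZMod (2 ^ D.n) := 2 ^ (D.n - 3)

theorem d_add_d : D.d + D.d = D.c := by
  have := D.hn
  rw [d, c, ← two_mul, ← pow_succ']; congr 1; omega

/-- In the normaliser of `Q ≅ Q₈`: the element `P d` is outside `Q`, and the
elements outside `Q` fix only `P (± c)` up to inversion. -/
theorem quaternion_normalizer {Q : Subgroup S} (e : Q ≃* QuaternionGroup 2) :
    D.P D.d ∈ Subgroup.normalizer (Q : Set S) ∧ D.P D.d ∉ Q ∧
      (∀ g ∈ Subgroup.normalizer (Q : Set S), g ∈ Q ∨ g * D.P D.d ∈ Q) ∧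
      (∀ g ∈ Subgroup.normalizer (Q : Set S), g ∉ Q → ∀ t ∈ Q, orderOf t = 4 →
        (g * t * g⁻¹ = t ∨ g * t * g⁻¹ = t⁻¹) → t = D.P D.c ∨ t = D.P (-D.c)) := by
  have := D.finite
  obtain ⟨j, hj, hQ⟩ := D.quaternion_forms e
  have hdd := D.d_add_d
  have h4d : 4 * D.d = D.h := by linear_combination 2 * hdd + D.c_add_c
  have hnot : D.P D.d ∉ Q := fun hd => by
    obtain ⟨k, hk, h' | h'⟩ := (hQ _).1 hd
    · rw [P_inj] at h'
      rw [← h', h4d] at hk
      exact D.h_ne_zero hk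
    · exact D.P_ne_q _ _ h'
  -- conjugation by `P k`
  have hconj : ∀ k l, D.P k * D.q (l + j) * (D.P k)⁻¹ = D.q ((l + (1 - D.r) * k) + j) :=
    fun k l => by rw [conj_P_q, q_inj]; ring
  have hshift : 4 * ((1 - D.r) * D.d) = 0 := by
    have h1 : D.h * D.h = 0 := D.h_mul_even D.even_h
    rw [mul_left_comm, h4d, r]
    linear_combination D.h_add_h - h1
  have hc : ∀ s ∈ Q, D.P D.d * s * (D.P D.d)⁻¹ ∈ Q := fun s hs => by
    obtain ⟨l, hl, rfl | rfl⟩ := (hQ s).1 hs
    · rw [conj_P_P]; exact hs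
    · rw [hconj, hQ]
      exact ⟨_, by rw [mul_add, hl, hshift, add_zero], Or.inr rfl⟩
  have hn : D.P D.d ∈ Subgroup.normalizer (Q : Set S) := by
    rw [Subgroup.mem_normalizer_iff]
    refine fun s => ⟨hc s, fun hs => ?_⟩
    have h2 : (Q.map (MulAut.conj (D.P D.d)).toMonoidHom) = Q := by
      refine Subgroup.eq_of_le_of_card_ge ?_ ?_
      · rintro _ ⟨t, ht, rfl⟩; exact hc t ht
      · rw [Subgroup.card_map_of_injective (MulEquiv.injective _)]
    obtain ⟨t, ht, he⟩ := h2.symm.le hs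
    simp only [MulEquiv.coe_toMonoidHom, MulAut.conj_apply] at he
    exact mul_left_cancel (mul_right_cancel he) ▸ ht
  have hQN : Q ≤ Subgroup.normalizer (Q : Set S) := Subgroup.le_normalizer
  have hj0 : D.q j ∈ Q := (hQ _).2 ⟨0, mul_zero 4, Or.inr (by rw [zero_add])⟩
  -- the powers of `x` normalising `Q`
  have hP : ∀ k, D.P k ∈ Subgroup.normalizer (Q : Set S) → D.P k ∈ Q ∨ D.P (k + D.d) ∈ Q := by
    intro k hk
    have h1 := (Subgroup.mem_normalizer_iff.1 hk (D.q j)).1 hj0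
    have h2 : D.q j = D.q (0 + j) := by rw [zero_add]
    rw [h2, hconj, zero_add] at h1
    obtain ⟨l, hl, h' | h'⟩ := (hQ _).1 h1
    · exact absurd h'.symm (D.P_ne_q _ _)
    rw [q_inj, add_left_inj] at h'
    have h8 : 4 * (2 * k) = 0 := by
      have h1 : D.h * D.h = 0 := D.h_mul_even D.even_h
      rw [← h', r] at hl
      have h9 : 4 * D.h = 0 := by linear_combination 2 * D.h_add_h
      linear_combination hl + k * h9
    have h10 : (4 * k) + (4 * k) = 0 := by linear_combination h8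
    rcases (add_self_eq_zero_iff D.n1).1 h10 with h11 | h11
    · exact Or.inl ((hQ _).2 ⟨k, h11, Or.inl rfl⟩)
    · refine Or.inr ((hQ _).2 ⟨_, ?_, Or.inl rfl⟩)
      rw [mul_add, h11, h4d, h]; exact D.h_add_h
  have hdich : ∀ g ∈ Subgroup.normalizer (Q : Set S), g ∈ Q ∨ g * D.P D.d ∈ Q := by
    intro g hg
    rcases D.forms g with ⟨k, rfl⟩ | ⟨k, rfl⟩
    · rw [← P_add]; exact hP k hg
    · have h1 : D.q k = D.P (k - j) * D.q j := by rw [P_mul_q, sub_add_cancel]
      have h2 : D.P (k - j) ∈ Subgroup.normalizer (Q : Set S) := by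
        have := mul_mem hg (inv_mem (hQN hj0))
        rwa [h1, mul_inv_cancel_right] at this
      rcases hP _ h2 with h3 | h3
      · exact Or.inl (h1 ▸ mul_mem h3 hj0)
      · refine Or.inr ?_
        have h5 : D.P D.d * (D.P D.d * D.q j * (D.P D.d)⁻¹) = D.q (2 * D.d + (1 - D.r) * D.d + j - D.d) := by
          rw [conj_P_q, P_mul_q, q_inj]; ring
        have h4 : D.q k * D.P D.d = D.P (k - j + D.d) * ((D.P D.d)⁻¹ * D.q j * D.P D.d) := by
          rw [h1, P_add]; group
        rw [h4]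
        refine mul_mem h3 ?_
        have h6 := (Subgroup.mem_normalizer_iff.1 (inv_mem hn) (D.q j)).1 hj0
        rwa [inv_inv] at h6
  refine ⟨hn, hnot, hdich, fun g hg hgQ t ht ht4 hgt => ?_⟩
  rcases D.eq_of_orderOf_four ht4 with rfl | rfl | ⟨i, hi, rfl⟩
  · exact Or.inl rfl
  · exact Or.inr rfl
  exfalso
  -- `g ∈ (Q ∪ Q P d)` moves `q i` out of `{q i, (q i)⁻¹}`
  obtain ⟨l, hl, h' | h'⟩ := (hQ _).1 ht
  · exact D.P_ne_q _ _ h'.symm
  rw [q_inj] at h'
  have hgd : g * D.P D.d ∈ Q := (hdich g hg).resolve_left hgQ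
  have hinv : (D.q i)⁻¹ = D.q (i + D.h) := by
    rw [q_inv, q_inj, r_mul, D.h_mul_odd hi]; linear_combination (-1 : ZMod (2 ^ D.n)) * D.h_add_h
  -- elements of `Q` send `q i` to itself or its inverse
  have hin : ∀ u ∈ Q, u * D.q i * u⁻¹ = D.q i ∨ u * D.q i * u⁻¹ = D.q (i + D.h) := by
    intro u hu
    have hk2 : ∀ k, 4 * k = 0 → (1 - D.r) * k = 0 ∨ (1 - D.r) * k = D.h := by
      intro k hk
      rcases (four_mul_eq_zero_iff D.n2).1 hk with rfl | rfl | rfl | rfl
      · exact Or.inl (mul_zero _)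
      · exact Or.inr (by rw [← c, sub_mul, one_mul, r_mul_c]; linear_combination D.c_add_c)
      · exact Or.inl (by rw [← h, one_sub_r_mul_eq_zero]; exact Or.inr rfl)
      · exact Or.inr (by
          rw [← c, sub_mul, one_mul, D.r_mul_even D.even_c.neg]
          linear_combination (-1 : ZMod (2 ^ D.n)) * D.c_add_c - D.h_add_h)
    obtain ⟨k, hk, rfl | rfl⟩ := (hQ u).1 hu
    · rw [conj_P_q]
      rcases hk2 k hk with h9 | h9 <;> rw [h9]
      · exact Or.inl (by rw [add_zero])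
      · exact Or.inr rfl
    · rw [conj_q_q]
      have : k + j + D.r * i - D.r * (k + j) = i + (1 - D.r) * (k - l) := by rw [h']; ring
      rw [this]
      rcases hk2 (k - l) (by rw [mul_sub, hk, hl, sub_zero]) with h9 | h9 <;> rw [h9]
      · exact Or.inl (by rw [add_zero])
      · exact Or.inr rfl
  -- undo `P d`
  have hback : g * D.q i * g⁻¹ = (g * D.P D.d) * D.q (i - (1 - D.r) * D.d) * (g * D.P D.d)⁻¹ := by
    have : D.P D.d * D.q (i - (1 - D.r) * D.d) * (D.P D.d)⁻¹ = D.q i := by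
      rw [conj_P_q, sub_add_cancel]
    rw [← this]; group
  have hu : ∀ v, g * D.q i * g⁻¹ = v →
      (g * D.P D.d)⁻¹ * v * (g * D.P D.d) = D.q (i - (1 - D.r) * D.d) := fun v hv => by
    rw [← hv, hback]; group
  have hid : D.q (i - (1 - D.r) * D.d) = D.q i ∨ D.q (i - (1 - D.r) * D.d) = D.q (i + D.h) := by
    have hu' := inv_mem hgd
    rcases hgt with e' | e'
    · have := hu _ e'
      rw [← this]
      simpa using hin _ hu'
    · rw [hinv] at e'
      have := hu _ e'
      rw [← this]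
      have hz : D.q (i + D.h) = D.q i * D.z := by rw [z, q_mul_P, r_mul_h]
      have hz' : (g * D.P D.d)⁻¹ * D.q (i + D.h) * (g * D.P D.d) =
          ((g * D.P D.d)⁻¹ * D.q i * (g * D.P D.d)) * D.z := by
        rw [hz, mul_assoc, mul_assoc, (D.mem_center_z (g * D.P D.d)).eq]; group
      rw [hz']
      rcases hin _ hu' with h9 | h9 <;> rw [inv_inv] at h9 <;> rw [h9, z, q_mul_P, r_mul_h]
      · exact Or.inr rfl
      · exact Or.inl (by rw [add_assoc, h_add_h, add_zero])
  rw [q_inj, q_inj, r] at hid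
  have h13 : D.c = 0 ∨ D.c = D.h := by
    have h14 : D.h * D.d = D.h * D.d := rfl
    rcases hid with h9 | h9
    · by_cases hde : Even D.d
      · exact Or.inl (by linear_combination -h9 + D.h_mul_even hde - hdd)
      · exact Or.inr (by linear_combination -h9 + D.h_mul_odd hde - hdd)
    · by_cases hde : Even D.d
      · exact Or.inr (by linear_combination -h9 + D.h_mul_even hde - hdd - D.h_add_h)
      · exact Or.inl (by linear_combination -h9 + D.h_mul_odd hde - hdd)
  rcases h13 with h9 | h9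
  · exact D.h_ne_zero (by rw [← D.c_add_c, h9, add_zero])
  · exact D.h_ne_zero (by rw [← D.c_add_c, h9, h_add_h])

end Cfsg.Agent.Involutions.QuasiDihedral.Gens
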