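import Mathlib
import Cfsg.Prelude.Def_CaseTheorems
import Cfsg.Agent.Lib.Classical.DihedralO2
import Cfsg.Agent.Lib.Classical.SylowSL2

/-!
# Sylow 2-subgroups of `GL₂` in odd characteristic
-/

namespace Cfsg.Agent.Involutions.SylowGLTwo

open Matrix
open scoped MatrixGroups

/-- The predicate of a semidihedral group read off from two elements of a 2-subgroup. -/
theorem isQuasiDihedral_of_le {G : Type*} [Group G] [Finite G] (P : Sylow 2 G) {n : ℕ} (hn : 3 ≤ n)
    (hcard : (Nat.card G).factorization 2 = n + 1) {K : Subgroup G} (hK : IsPGroup 2 K) {x y : G}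
    (hx : x ∈ K) (hy : y ∈ K) (hox : orderOf x = 2 ^ n) (hoy : orderOf y = 2)
    (hxy : y * x * y⁻¹ = x ^ (2 ^ (n - 1) - 1)) : Cfsg.IsQuasiDihedral (P : Subgroup G) := by
  have : Fact (Nat.Prime 2) := ⟨Nat.prime_two⟩
  obtain ⟨Q, hQ⟩ := hK.exists_le_sylow
  let e : (Q : Subgroup G) ≃* (P : Subgroup G) := Q.equiv P
  refine ⟨n, hn, ?_, e ⟨x, hQ hx⟩, e ⟨y, hQ hy⟩, ?_, ?_, ?_⟩
  · rw [P.card_eq_multiplicity, hcard]
  · rw [MulEquiv.orderOf_eq, Subgroup.orderOf_mk, hox]
  · rw [MulEquiv.orderOf_eq, Subgroup.orderOf_mk, hoy]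
  · rw [← map_inv, ← map_mul, ← map_mul, ← map_pow]
    exact congrArg e (Subtype.ext hxy)

/-- The predicate of a wreathed group read off from three elements of a 2-subgroup. -/
theorem isWreathed_of_le {G : Type*} [Group G] [Finite G] (P : Sylow 2 G) {n : ℕ} (hn : 2 ≤ n)
    (hcard : (Nat.card G).factorization 2 = 2 * n + 1) {K : Subgroup G} (hK : IsPGroup 2 K) {x y z : G}
    (hx : x ∈ K) (hy : y ∈ K) (hz : z ∈ K) (hox : orderOf x = 2 ^ n) (hxy : x * y = y * x)
    (hinf : Subgroup.zpowers x ⊓ Subgroup.zpowers y = ⊥) (hoz : orderOf z = 2)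
    (hzx : z * x * z⁻¹ = y) : Cfsg.IsWreathed (P : Subgroup G) := by
  have : Fact (Nat.Prime 2) := ⟨Nat.prime_two⟩
  obtain ⟨Q, hQ⟩ := hK.exists_le_sylow
  let e : (Q : Subgroup G) ≃* (P : Subgroup G) := Q.equiv P
  refine ⟨n, hn, ?_, e ⟨x, hQ hx⟩, e ⟨y, hQ hy⟩, e ⟨z, hQ hz⟩, ?_, ?_, ?_, ?_, ?_⟩
  · rw [P.card_eq_multiplicity, hcard]
  · rw [MulEquiv.orderOf_eq, Subgroup.orderOf_mk, hox]
  · rw [← map_mul, ← map_mul]
    exact congrArg e (Subtype.ext hxy)
  · rw [Subgroup.eq_bot_iff_forall]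
    intro w hw
    obtain ⟨⟨i, hi⟩, ⟨j, hj⟩⟩ := hw
    simp only at hi hj
    rw [← map_zpow] at hi hj
    have h1 : (⟨x, hQ hx⟩ : (Q : Subgroup G)) ^ i = ⟨y, hQ hy⟩ ^ j := e.injective (hi.trans hj.symm)
    have h2 : x ^ i = 1 := by
      have h3 : x ^ i ∈ Subgroup.zpowers x ⊓ Subgroup.zpowers y := by
        refine ⟨⟨i, rfl⟩, ⟨j, ?_⟩⟩
        have := congrArg Subtype.val h1
        simpa using this.symm
      rwa [hinf, Subgroup.mem_bot] at h3
    rw [← hi, show (⟨x, hQ hx⟩ : (Q : Subgroup G)) ^ i = 1 from Subtype.ext (by simpa using h2), map_one]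
  · rw [MulEquiv.orderOf_eq, Subgroup.orderOf_mk, hoz]
  · rw [← map_inv, ← map_mul, ← map_mul]
    exact congrArg e (Subtype.ext hzx)

variable {F : Type*} [Field F] [Fintype F]

theorem isQuasiDihedral_GL (hq : Fintype.card F % 4 = 3) (P : Sylow 2 (GL (Fin 2) F)) :
    Cfsg.IsQuasiDihedral (P : Subgroup (GL (Fin 2) F)) := by
  have : Fact (Nat.Prime 2) := ⟨Nat.prime_two⟩
  obtain ⟨A, hA⟩ := Classical.Torus.exists_irreducible F
  have : Fact (∀ r : F, r ^ 2 ≠ A + 1 * r) := ⟨hA⟩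
  have h1 := Fintype.one_lt_card (α := F)
  set q := Fintype.card F with hqdef
  set m := (q + 1).factorization 2 with hm
  have hm2 : 2 ≤ m :=
    (Nat.Prime.pow_dvd_iff_le_factorization Nat.prime_two (by omega)).1 (by omega)
  have hv1 : (q - 1).factorization 2 = 1 := by
    have a : 1 ≤ (q - 1).factorization 2 :=
      (Nat.Prime.pow_dvd_iff_le_factorization Nat.prime_two (by omega)).1 (by omega)
    by_contra hne
    have := (Nat.Prime.pow_dvd_iff_le_factorization Nat.prime_two (show q - 1 ≠ 0 by omega)).2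
      (by omega : 2 ≤ (q - 1).factorization 2)
    omega
  have hcard : (Nat.card (GL (Fin 2) F)).factorization 2 = m + 1 + 1 := by
    rw [Classical.GL2.natCard_GL_two, ← hqdef,
      Nat.factorization_mul (by omega) (mul_ne_zero (pow_ne_zero _ (by omega)) (by omega)),
      Nat.factorization_mul (pow_ne_zero _ (by omega)) (by omega), Nat.factorization_pow]
    simp only [Finsupp.add_apply, Finsupp.smul_apply, smul_eq_mul, hv1, ← hm,
      Nat.factorization_eq_zero_of_not_dvd (show ¬ 2 ∣ q by omega)]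
    omega
  have hdvd : 2 ^ (m + 1) ∣ Nat.card (QuadraticAlgebra F A 1)ˣ := by
    rw [Classical.Torus.natCard_quad_units, ← one_pow 2, Nat.sq_sub_sq, pow_succ, ← hqdef]
    exact Nat.mul_dvd_mul (Nat.ordProj_dvd _ 2) (by omega)
  obtain ⟨g, hg⟩ := IsCyclic.exists_ofOrder_eq_natCard (α := (QuadraticAlgebra F A 1)ˣ)
  obtain ⟨c, hc⟩ := hdvd
  have hc0 : c ≠ 0 := by
    rintro rfl
    exact (Nat.card_pos (α := (QuadraticAlgebra F A 1)ˣ)).ne' (by simpa using hc)
  set ζ := g ^ c with hζ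
  have hoζ : orderOf ζ = 2 ^ (m + 1) := by
    rw [hζ, orderOf_pow_of_dvd hc0 (hg ▸ hc ▸ Dvd.intro_left _ rfl), hg, hc,
      Nat.mul_div_cancel _ (Nat.pos_of_ne_zero hc0)]
  have hinj : Function.Injective (Classical.Torus.unitMat (A := A) (B := (1 : F))) := fun a b h =>
    Units.ext (Classical.Torus.mulMat_injective (congrArg Units.val h))
  set x := Classical.Torus.unitMat (A := A) (B := (1 : F)) ζ with hx
  have hox : orderOf x = 2 ^ (m + 1) := by rw [hx, orderOf_injective _ hinj, hoζ]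
  set y := Classical.DihedralO2.starGL (1 : F) with hy
  have hyy : y * y = 1 := Units.ext (Classical.Torus.starMat_mul_starMat 1)
  have h2 : (2 : F) ≠ 0 := Classical.SylowSL2.two_ne_zero_of_odd (Nat.odd_iff.2 (by omega))
  have hoy : orderOf y = 2 := by
    refine orderOf_eq_prime (by rw [sq, hyy]) fun h => h2 ?_
    have e : Classical.Torus.starMat (1 : F) 1 1 = (1 : Matrix (Fin 2) (Fin 2) F) 1 1 :=
      congrArg (fun M : GL (Fin 2) F => (M : Matrix (Fin 2) (Fin 2) F) 1 1) h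
    simp [Classical.Torus.starMat] at e
    linear_combination -e
  have hconj : y * x * y⁻¹ = x ^ q := by
    rw [hx, mul_inv_eq_iff_eq_mul, ← map_pow]
    refine Units.ext ?_
    show Classical.Torus.starMat 1 * Classical.Torus.mulMat (ζ : QuadraticAlgebra F A 1) =
      Classical.Torus.mulMat ((ζ ^ q : (QuadraticAlgebra F A 1)ˣ) : QuadraticAlgebra F A 1) *
        Classical.Torus.starMat 1
    rw [Classical.Torus.starMat_mul_mulMat, Units.val_pow_eq_pow_val ζ q,
      Classical.Torus.pow_card_eq_star]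
  have hpow : x ^ q = x ^ (2 ^ (m + 1 - 1) - 1) := by
    rw [pow_eq_pow_iff_modEq, hox, Nat.add_sub_cancel]
    obtain ⟨e, he⟩ : 2 ^ m ∣ q + 1 := Nat.ordProj_dvd _ 2
    have he2 : e % 2 = 1 := by
      rcases Nat.mod_two_eq_zero_or_one e with h | h
      · exfalso
        have : 2 ^ (m + 1) ∣ q + 1 := by
          rw [he, pow_succ]; exact Nat.mul_dvd_mul_left _ (Nat.dvd_of_mod_eq_zero h)
        have := (Nat.Prime.pow_dvd_iff_le_factorization Nat.prime_two (by omega)).1 this
        omega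
      · exact h
    have hpos := Nat.two_pow_pos m
    refine Nat.ModEq.add_right_cancel' 1 ?_
    rw [Nat.sub_add_cancel hpos, he]
    obtain ⟨f, hf⟩ : ∃ f, e = 2 * f + 1 := ⟨e / 2, by omega⟩
    rw [hf, pow_succ, mul_add, mul_one, ← mul_assoc]
    exact Nat.ModEq.symm (Nat.modEq_iff_dvd' (by omega) |>.2 (by
      rw [Nat.add_sub_cancel]; exact Dvd.intro _ rfl))
  rw [hpow] at hconj
  have hK : IsPGroup 2 (Subgroup.zpowers x ⊔ Subgroup.zpowers y : Subgroup (GL (Fin 2) F)) := by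
    refine IsPGroup.to_sup_of_normal_left' ?_ ?_ ?_
    · exact IsPGroup.of_card (n := m + 1) (by rw [Nat.card_zpowers, hox])
    · exact IsPGroup.of_card (n := 1) (by rw [Nat.card_zpowers, hoy, pow_one])
    · refine Subgroup.zpowers_le.2 (Subgroup.mem_normalizer_iff.2 fun w => ?_)
      have key : ∀ w ∈ Subgroup.zpowers x, y * w * y⁻¹ ∈ Subgroup.zpowers x := by
        rintro w ⟨k, rfl⟩
        show y * x ^ k * y⁻¹ ∈ _
        rw [← conj_zpow, hconj]
        exact zpow_mem (pow_mem (Subgroup.mem_zpowers x) _) k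
      refine ⟨key w, fun hw => ?_⟩
      have h3 := key _ hw
      have hyi : y⁻¹ = y := inv_eq_of_mul_eq_one_right hyy
      rwa [show y * (y * w * y⁻¹) * y⁻¹ = y * y * w * (y * y)⁻¹ by group, hyy, one_mul, inv_one,
        mul_one] at h3
  exact isQuasiDihedral_of_le P (by omega) hcard hK (Subgroup.mem_sup_left (Subgroup.mem_zpowers x))
    (Subgroup.mem_sup_right (Subgroup.mem_zpowers y)) hox hoy hconj

/-- The diagonal matrices. -/
def pairHom (F : Type*) [Field F] : Fˣ × Fˣ →* GL (Fin 2) F :=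
  (Units.map (Matrix.diagonalRingHom (Fin 2) F : (Fin 2 → F) →* Matrix (Fin 2) (Fin 2) F)).comp
    ((MulEquiv.piUnits (M := fun _ : Fin 2 => F)).symm.toMonoidHom.comp
      { toFun := fun p => ![p.1, p.2]
        map_one' := by ext i; fin_cases i <;> rfl
        map_mul' := fun p r => by ext i; fin_cases i <;> rfl })

theorem coe_pairHom (a b : Fˣ) :
    (pairHom F (a, b) : Matrix (Fin 2) (Fin 2) F) = !![(a : F), 0; 0, (b : F)] := by
  ext i j
  fin_cases i <;> fin_cases j <;> simp [pairHom]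

theorem isWreathed_GL (hq : Fintype.card F % 4 = 1) (P : Sylow 2 (GL (Fin 2) F)) :
    Cfsg.IsWreathed (P : Subgroup (GL (Fin 2) F)) := by
  have : Fact (Nat.Prime 2) := ⟨Nat.prime_two⟩
  have h1 := Fintype.one_lt_card (α := F)
  set q := Fintype.card F with hqdef
  set n := (q - 1).factorization 2 with hn
  have hn2 : 2 ≤ n :=
    (Nat.Prime.pow_dvd_iff_le_factorization Nat.prime_two (by omega)).1 (by omega)
  have hv1 : (q + 1).factorization 2 = 1 := by
    have a : 1 ≤ (q + 1).factorization 2 :=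
      (Nat.Prime.pow_dvd_iff_le_factorization Nat.prime_two (by omega)).1 (by omega)
    by_contra hne
    have := (Nat.Prime.pow_dvd_iff_le_factorization Nat.prime_two (show q + 1 ≠ 0 by omega)).2
      (by omega : 2 ≤ (q + 1).factorization 2)
    omega
  have hcard : (Nat.card (GL (Fin 2) F)).factorization 2 = 2 * n + 1 := by
    rw [Classical.GL2.natCard_GL_two, ← hqdef,
      Nat.factorization_mul (by omega) (mul_ne_zero (pow_ne_zero _ (by omega)) (by omega)),
      Nat.factorization_mul (pow_ne_zero _ (by omega)) (by omega), Nat.factorization_pow]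
    simp only [Finsupp.add_apply, Finsupp.smul_apply, smul_eq_mul, hv1, ← hn,
      Nat.factorization_eq_zero_of_not_dvd (show ¬ 2 ∣ q by omega)]
    omega
  have hdvd : 2 ^ n ∣ Nat.card Fˣ := by
    rw [Classical.Linear.natCard_units_eq]; exact Nat.ordProj_dvd _ 2
  obtain ⟨g, hg⟩ := IsCyclic.exists_ofOrder_eq_natCard (α := Fˣ)
  obtain ⟨c, hc⟩ := hdvd
  have hc0 : c ≠ 0 := by rintro rfl; exact (Nat.card_pos (α := Fˣ)).ne' (by simpa using hc)
  set a := g ^ c with ha
  have hoa : orderOf a = 2 ^ n := by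
    rw [ha, orderOf_pow_of_dvd hc0 (hg ▸ hc ▸ Dvd.intro_left _ rfl), hg, hc,
      Nat.mul_div_cancel _ (Nat.pos_of_ne_zero hc0)]
  have hinj : Function.Injective (pairHom F) := by
    rintro ⟨b, b'⟩ ⟨d, d'⟩ h
    have e := congrArg Units.val h
    rw [coe_pairHom, coe_pairHom] at e
    have e0 := congrFun (congrFun e 0) 0
    have e1 := congrFun (congrFun e 1) 1
    simp at e0 e1
    rw [Units.ext e0, Units.ext e1]
  set x := pairHom F (a, 1) with hx
  set y := pairHom F (1, a) with hy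
  set z := (Classical.DihedralO2.swapMat : GL (Fin 2) F) with hz
  have hox : orderOf x = 2 ^ n := by
    rw [hx, orderOf_injective _ hinj, Prod.orderOf, orderOf_one, Nat.lcm_one_right, hoa]
  have hxy : x * y = y * x := by rw [hx, hy, ← map_mul, ← map_mul, mul_comm]
  have hinf : Subgroup.zpowers x ⊓ Subgroup.zpowers y = ⊥ := by
    rw [Subgroup.eq_bot_iff_forall]
    rintro w ⟨⟨i, hi⟩, ⟨j, hj⟩⟩
    simp only [hx, hy, ← map_zpow] at hi hj
    have e := hinj (hi.trans hj.symm)
    simp only [Prod.pow_mk, _root_.one_zpow, Prod.mk.injEq] at e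
    rw [← hi, Prod.pow_mk, e.1, _root_.one_zpow, Prod.mk_one_one, map_one]
  have hzz : z * z = 1 := Classical.DihedralO2.swapMat_mul_self
  have hoz : orderOf z = 2 := by
    refine orderOf_eq_prime (by rw [sq, hzz]) fun h => ?_
    have e := congrArg (fun M : GL (Fin 2) F => (M : Matrix (Fin 2) (Fin 2) F) 0 0) h
    simp [hz, Classical.DihedralO2.swapMat] at e
  have hswap : ∀ b b', z * pairHom F (b, b') * z⁻¹ = pairHom F (b', b) := by
    intro b b'
    rw [mul_inv_eq_iff_eq_mul]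
    refine Units.ext ?_
    rw [Units.val_mul, Units.val_mul, coe_pairHom, coe_pairHom]
    show !![(0 : F), 1; 1, 0] * _ = _ * !![(0 : F), 1; 1, 0]
    simp
  let A := ((Subgroup.zpowers a).prod (Subgroup.zpowers a)).map (pairHom F)
  have hA : IsPGroup 2 A := by
    refine IsPGroup.map ?_ _
    refine IsPGroup.of_card (n := n + n) ?_
    rw [Nat.card_congr ((Subgroup.zpowers a).prodEquiv (Subgroup.zpowers a)).toEquiv, Nat.card_prod,
      Nat.card_zpowers, hoa, pow_add]
  have hK : IsPGroup 2 (A ⊔ Subgroup.zpowers z : Subgroup (GL (Fin 2) F)) := by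
    refine IsPGroup.to_sup_of_normal_left' hA
      (IsPGroup.of_card (n := 1) (by rw [Nat.card_zpowers, hoz, pow_one])) ?_
    refine Subgroup.zpowers_le.2 (Subgroup.mem_normalizer_iff.2 fun w => ?_)
    have key : ∀ w ∈ A, z * w * z⁻¹ ∈ A := by
      rintro w ⟨⟨b, b'⟩, hb, rfl⟩
      rw [hswap]
      exact ⟨(b', b), ⟨hb.2, hb.1⟩, rfl⟩
    refine ⟨key w, fun hw => ?_⟩
    have h3 := key _ hw
    rwa [show z * (z * w * z⁻¹) * z⁻¹ = z * z * w * (z * z)⁻¹ by group, hzz, one_mul, inv_one,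
      mul_one] at h3
  have hxA : x ∈ A := ⟨(a, 1), ⟨Subgroup.mem_zpowers a, one_mem _⟩, rfl⟩
  have hyA : y ∈ A := ⟨(1, a), ⟨one_mem _, Subgroup.mem_zpowers a⟩, rfl⟩
  exact isWreathed_of_le P hn2 hcard hK (Subgroup.mem_sup_left hxA) (Subgroup.mem_sup_left hyA)
    (Subgroup.mem_sup_right (Subgroup.mem_zpowers z)) hox hxy hinf hoz (hswap a 1)

end Cfsg.Agent.Involutions.SylowGLTwo
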