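import Mathlib
import Cfsg.Agent.Lib.Transfer.Fusion

/-!
# Groups acting on three points, and subgroups of index 2 from fusion
-/

namespace Cfsg.Agent.Involutions.ThreePoint

theorem fixes_involution : ∀ (u : Equiv.Perm (Fin 3)) (a : Fin 3), u a = a → u * u = 1 := by
  decide

/-- A group acting on three points, with an element fixing `a` and acting nontrivially. -/
theorem index_ker {N α : Type*} [Group N] (φ : N →* Equiv.Perm α) (hα : Nat.card α = 3)
    {u : N} (hu : φ u ≠ 1) {a : α} (hua : φ u a = a) :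
    ((∀ n, φ n a = a) ∧ φ.ker.index = 2) ∨ ((∃ n, φ n a ≠ a) ∧ φ.ker.index = 6) := by
  have : Finite α := Nat.finite_of_card_ne_zero (by omega)
  let e : α ≃ Fin 3 := (Finite.equivFin α).trans (finCongr hα)
  let ψ : Equiv.Perm α ≃* Equiv.Perm (Fin 3) := e.permCongrHom
  have hsq : φ u * φ u = 1 := by
    refine ψ.injective ?_
    rw [map_mul, map_one]
    refine fixes_involution _ (e a) ?_
    show e (φ u (e.symm (e a))) = e a
    rw [e.symm_apply_apply, hua]
  have hord : orderOf (⟨φ u, u, rfl⟩ : φ.range) = 2 :=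
    orderOf_eq_prime (Subtype.ext (by simpa [sq] using hsq))
      (fun h => hu (congrArg Subtype.val h))
  have h2 : 2 ∣ Nat.card φ.range := hord ▸ orderOf_dvd_natCard _
  have hperm : Nat.card (Equiv.Perm α) = 6 := by
    rw [Nat.card_congr ψ.toEquiv, Nat.card_eq_fintype_card]; rfl
  have h6 : Nat.card φ.range ∣ 6 := hperm ▸ Subgroup.card_subgroup_dvd_card _
  rw [Subgroup.index_ker]
  have h26 : Nat.card φ.range = 2 ∨ Nat.card φ.range = 6 := by
    have := Nat.le_of_dvd (by norm_num) h6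
    interval_cases h : Nat.card φ.range <;> first | omega | tauto
  rcases h26 with h | h
  · refine Or.inl ⟨fun n => ?_, h⟩
    have htop : Subgroup.zpowers (⟨φ u, u, rfl⟩ : φ.range) = ⊤ :=
      Subgroup.eq_top_of_card_eq _ (by rw [Nat.card_zpowers, hord, h])
    have h1 : (⟨φ n, n, rfl⟩ : φ.range) ∈ Subgroup.zpowers (⟨φ u, u, rfl⟩ : φ.range) :=
      htop.symm ▸ Subgroup.mem_top _
    obtain ⟨k, hk⟩ := Subgroup.mem_zpowers_iff.1 h1
    have hk' : φ u ^ k = φ n := congrArg Subtype.val hk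
    rw [← hk']
    exact Equiv.Perm.zpow_apply_eq_self_of_apply_eq_self hua k
  · refine Or.inr ⟨?_, h⟩
    classical
    have htop : φ.range = ⊤ := Subgroup.eq_top_of_card_eq _ (by rw [h, hperm])
    obtain ⟨b, hb⟩ : ∃ b, b ≠ a := by
      by_contra hne
      push Not at hne
      have : Subsingleton α := ⟨fun x y => (hne x).trans (hne y).symm⟩
      have := Nat.card_of_subsingleton a
      omega
    obtain ⟨n, hn⟩ := (htop.symm ▸ Subgroup.mem_top (Equiv.swap a b) : Equiv.swap a b ∈ φ.range)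
    exact ⟨n, by rw [hn, Equiv.swap_apply_left]; exact hb⟩

/-- The action of automorphisms on the nontrivial elements. -/
def autPerm (A : Type*) [Group A] : MulAut A →* Equiv.Perm {a : A // a ≠ 1} where
  toFun σ := σ.toEquiv.subtypeEquiv fun _ => not_congr σ.map_eq_one_iff.symm
  map_one' := rfl
  map_mul' _ _ := rfl

theorem autPerm_apply {A : Type*} [Group A] (σ : MulAut A) (a : {a : A // a ≠ 1}) :
    (autPerm A σ a : A) = σ a := rfl

theorem autPerm_eq_one {A : Type*} [Group A] {σ : MulAut A} : autPerm A σ = 1 ↔ σ = 1 := by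
  refine ⟨fun h => MulEquiv.ext fun a => ?_, fun h => by rw [h, map_one]⟩
  by_cases ha : a = 1
  · rw [ha, map_one, map_one]
  · exact (autPerm_apply σ ⟨a, ha⟩).symm.trans (by rw [h]; rfl)

theorem card_nontrivial (A : Type*) [Group A] [Finite A] :
    Nat.card {a : A // a ≠ 1} = Nat.card A - 1 := by
  have h : ({a : A | a ≠ 1}).ncard = Nat.card A - 1 := by
    rw [show {a : A | a ≠ 1} = {(1 : A)}ᶜ from rfl, Set.ncard_compl, Set.ncard_singleton]
  rw [← h, ← Nat.card_coe_set_eq]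
  rfl

open scoped commutatorElement in
/-- A subgroup of index 2 of a Sylow 2-subgroup which is a union of fusion classes comes from a
normal subgroup of index 2. -/
theorem exists_index_two {G : Type*} [Group G] [Finite G] (S : Sylow 2 G)
    (M : Subgroup (S : Subgroup G)) (hM : M.index = 2)
    (hfus : ∀ a b : (S : Subgroup G), (∃ g : G, g * a * g⁻¹ = (b : G)) → (a ∈ M ↔ b ∈ M)) :
    ∃ K : Subgroup G, K.Normal ∧ K.index = 2 ∧
      ∀ s : (S : Subgroup G), ((s : G) ∈ K ↔ s ∈ M) := by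
  obtain ⟨N, hN, hNS, hsup⟩ := Transfer.Fusion.exists_normal_inf_eq_focal S
  have hfoc : commutator G ⊓ (S : Subgroup G) ≤ M.map (S : Subgroup G).subtype := by
    refine Transfer.Fusion.focal_le_of_fusion S fun x hx g hg => ⟨g, rfl, ?_⟩
    refine ⟨⟨x, hx⟩ * ⟨g * x * g⁻¹, hg⟩⁻¹, ?_, ?_⟩
    · have := hfus ⟨x, hx⟩ ⟨g * x * g⁻¹, hg⟩ ⟨g, rfl⟩
      rw [SetLike.mem_coe, Subgroup.mul_mem_iff_of_index_two hM, inv_mem_iff]
      exact this
    · simp [commutatorElement_def, mul_assoc]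
  have hmem : ∀ s : (S : Subgroup G),
      ((s : G) ∈ N ⊔ M.map (S : Subgroup G).subtype ↔ s ∈ M) := by
    intro s
    refine ⟨fun hs => ?_, fun hs => Subgroup.mem_sup_right ⟨s, hs, rfl⟩⟩
    obtain ⟨n, hn, _, ⟨f, hf, rfl⟩, he⟩ := Subgroup.mem_sup_of_normal_left.1 hs
    have hnS : n ∈ (S : Subgroup G) := by
      rw [eq_mul_inv_of_mul_eq he]; exact mul_mem s.2 (inv_mem f.2)
    obtain ⟨m, hm, hmn⟩ := hfoc (hNS.le ⟨hn, hnS⟩)
    have hsm : s = m * f := Subtype.ext (by rw [Subgroup.coe_mul, ← he, ← hmn]; rfl)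
    rw [hsm]; exact mul_mem hm hf
  have h2 : (N ⊔ M.map (S : Subgroup G).subtype).index = 2 := by
    obtain ⟨a, ha⟩ := Subgroup.index_eq_two_iff.1 hM
    rw [Subgroup.index_eq_two_iff]
    refine ⟨(a : G), fun b => ?_⟩
    obtain ⟨n, hn, s, hs, rfl⟩ := Subgroup.mem_sup_of_normal_left.1
      (hsup.symm ▸ Subgroup.mem_top b : b ∈ N ⊔ (S : Subgroup G))
    have hn' : n ∈ N ⊔ M.map (S : Subgroup G).subtype := Subgroup.mem_sup_left hn
    rw [mul_assoc, Subgroup.mul_mem_cancel_left _ hn', Subgroup.mul_mem_cancel_left _ hn']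
    have h1 := hmem ⟨s, hs⟩
    have h3 := hmem (⟨s, hs⟩ * a)
    rcases ha ⟨s, hs⟩ with ⟨h4, h5⟩ | ⟨h4, h5⟩
    · exact Or.inl ⟨h3.2 h4, fun h => h5 (h1.1 h)⟩
    · exact Or.inr ⟨h1.2 h4, fun h => h5 (h3.1 h)⟩
  exact ⟨_, Subgroup.normal_of_index_eq_two h2, h2, hmem⟩

end Cfsg.Agent.Involutions.ThreePoint
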