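import Mathlib
import Cfsg.Agent.Lib.Involutions.QuasiDihedralSubgroups
import Cfsg.Agent.Lib.Involutions.ThreePoint

/-!
# Fusion in groups with quasi-dihedral Sylow 2-subgroups
-/

namespace Cfsg.Agent.Involutions.QuasiDihedralFusion

open Cfsg.Agent.Involutions.QuasiDihedral Cfsg.Agent.Involutions.ThreePoint
open scoped Pointwise

theorem isKleinFour_subgroupOf {G : Type*} [Group G] {T K : Subgroup G} (hT : IsKleinFour T)
    (hle : T ≤ K) : IsKleinFour (T.subgroupOf K) where
  card_four := by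
    rw [Nat.card_congr (Subgroup.subgroupOfEquivOfLe hle).toEquiv]; exact hT.card_four
  exponent_two := by
    rw [Monoid.exponent_eq_of_mulEquiv (Subgroup.subgroupOfEquivOfLe hle)]; exact hT.exponent_two

theorem isKleinFour_map {G H : Type*} [Group G] [Group H] {T : Subgroup G} (hT : IsKleinFour T)
    (f : G →* H) (hf : Function.Injective f) : IsKleinFour (T.map f) where
  card_four := by rw [Subgroup.card_map_of_injective hf]; exact hT.card_four
  exponent_two := by
    rw [Monoid.exponent_eq_of_mulEquiv (T.equivMapOfInjective f hf).symm]; exact hT.exponent_two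

/-- An element `n` of odd order permuting the three involutions of a four-group without fixed
point, and normalising a subgroup of index 2, forces the four-group into that subgroup. -/
theorem eq_top_of_fpf {V : Type*} [Group V] (hV : Nat.card V = 4) (σ : MulAut V)
    (hσ : ∀ v, v ≠ 1 → σ v ≠ v) (M : Subgroup V) (hM : ∀ v ∈ M, σ v ∈ M)
    (h2 : M.index ∣ 2) : M = ⊤ := by
  have : Finite V := Nat.finite_of_card_ne_zero (by omega)
  rcases (Nat.dvd_prime Nat.prime_two).1 h2 with h | h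
  · exact Subgroup.index_eq_one.1 h
  exfalso
  have hc := M.card_mul_index
  rw [h, hV] at hc
  obtain ⟨a, b, hab, huniv⟩ := Nat.card_eq_two_iff.1 (show Nat.card M = 2 by omega)
  obtain ⟨v, hv1⟩ : ∃ v : M, v ≠ 1 := by
    by_cases ha : a = 1
    · exact ⟨b, fun hb => hab (ha.trans hb.symm)⟩
    · exact ⟨a, ha⟩
  have hw : (⟨σ v, hM v v.2⟩ : M) = v := by
    have hmem : ∀ w : M, w = a ∨ w = b := fun w => by
      have := huniv.symm ▸ Set.mem_univ w
      simpa using this
    have h1 : (⟨σ v, hM v v.2⟩ : M) ≠ 1 := fun e =>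
      hv1 (Subtype.ext (σ.map_eq_one_iff.1 (congrArg Subtype.val e)))
    rcases hmem 1 with e1 | e1 <;> rcases hmem v with e2 | e2 <;>
      rcases hmem ⟨σ v, hM v v.2⟩ with e3 | e3 <;>
      first
      | exact e3.trans e2.symm
      | exact absurd (e2.trans e1.symm) hv1
      | exact absurd (e3.trans e1.symm) h1
  exact hσ v (fun e => hv1 (Subtype.ext e)) (congrArg Subtype.val hw)

/-- From a quotient of order 6 acting on three points: an element of odd order without fixed point. -/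
theorem exists_odd_fpf {N α : Type*} [Group N] [Finite N] (φ : N →* Equiv.Perm α)
    (hα : Nat.card α = 3) (h6 : φ.ker.index = 6) :
    ∃ n : N, Odd (orderOf n) ∧ ∀ a, φ n a ≠ a := by
  have : Finite α := Nat.finite_of_card_ne_zero (by omega)
  rw [Subgroup.index_ker] at h6
  haveI : Fact (Nat.Prime 3) := ⟨Nat.prime_three⟩
  obtain ⟨⟨_, n, rfl⟩, hn⟩ := exists_prime_orderOf_dvd_card' (G := φ.range) 3 (by rw [h6]; norm_num)
  replace hn : orderOf (φ n) = 3 := (Subgroup.orderOf_coe _).trans hn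
  refine ⟨n ^ ordProj[2] (orderOf n), ?_, fun a ha => ?_⟩
  · rw [orderOf_pow_of_dvd (pow_ne_zero _ two_ne_zero) (Nat.ordProj_dvd _ _)]
    exact Nat.not_even_iff_odd.1 fun he =>
      Nat.not_dvd_ordCompl Nat.prime_two (orderOf_pos n).ne' he.two_dvd
  · let e : α ≃ Fin 3 := (Finite.equivFin α).trans (finCongr hα)
    have h3 : orderOf (φ n ^ ordProj[2] (orderOf n)) = 3 := by
      rw [(Nat.Coprime.orderOf_pow (by rw [hn]; exact Nat.Coprime.pow_right _ (by norm_num))), hn]
    rw [← map_pow] at h3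
    have h4 := fixes_involution (e.permCongrHom (φ (n ^ ordProj[2] (orderOf n)))) (e a) (by
      show e (φ _ (e.symm (e a))) = e a
      rw [e.symm_apply_apply, ha])
    rw [← map_mul, ← map_one e.permCongrHom, e.permCongrHom.injective.eq_iff, ← sq] at h4
    have := orderOf_dvd_of_pow_eq_one h4
    rw [h3] at this
    norm_num at this

variable {G : Type*} [Group G] [Finite G] {S : Sylow 2 G} (D : Gens (S : Subgroup G))

include D in
theorem exists_conj_mem (t : G) (ht : ∃ k, orderOf t = 2 ^ k) :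
    ∃ g : G, g * t * g⁻¹ ∈ (S : Subgroup G) := by
  obtain ⟨k, hk⟩ := ht
  have hp : IsPGroup 2 (Subgroup.zpowers t) :=
    IsPGroup.of_card (n := k) (by rw [Nat.card_zpowers, hk])
  obtain ⟨g, -, hg⟩ := Transfer.Fusion.exists_conj_le_of_isPGroup (K := ⊤) S le_top hp le_top
  exact ⟨g, hg ⟨t, Subgroup.mem_zpowers t, rfl⟩⟩

theorem four_forms' {T : Subgroup G} (hT : IsKleinFour T) (hTS : T ≤ S) :
    ∃ i, Even i ∧ ∀ s : (S : Subgroup G),
      (s : G) ∈ T ↔ s = 1 ∨ s = D.z ∨ s = D.q i ∨ s = D.q (i + D.h) :=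
  D.four_forms (isKleinFour_subgroupOf hT hTS)

theorem z_mem_four {T : Subgroup G} (hT : IsKleinFour T) (hTS : T ≤ S) : (D.z : G) ∈ T := by
  obtain ⟨i, -, h⟩ := four_forms' D hT hTS
  exact (h _).2 (Or.inr (Or.inl rfl))

theorem z_mul_z : (D.z : G) * D.z = 1 := by
  have : D.z * D.z = 1 := by rw [Gens.z, ← D.P_add, D.h_add_h, D.P_zero]
  exact_mod_cast congrArg Subtype.val this

/-- Some element normalising `T` moves the central involution. -/
def TMoves (T : Subgroup G) : Prop :=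
  ∃ n ∈ Subgroup.normalizer (T : Set G), n * D.z * n⁻¹ ≠ (D.z : G)

theorem four_perm {T : Subgroup G} (hT : IsKleinFour T) (hTS : T ≤ S) :
    ∃ φ : Subgroup.normalizer (T : Set G) →* Equiv.Perm {t : T // t ≠ 1},
      (∀ n t, (((φ n t : T)) : G) = n * (t : T) * (n : G)⁻¹) ∧
      φ.ker = (Subgroup.centralizer (T : Set G)).subgroupOf (Subgroup.normalizer (T : Set G)) ∧
      Nat.card {t : T // t ≠ 1} = 3 ∧
      ((¬ TMoves D T ∧ φ.ker.index = 2) ∨ (TMoves D T ∧ φ.ker.index = 6)) := by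
  let φ := (autPerm T).comp T.normalizerMonoidHom
  have hap : ∀ n t, (((φ n t : T)) : G) = n * (t : T) * (n : G)⁻¹ := fun n t => rfl
  have hker : φ.ker =
      (Subgroup.centralizer (T : Set G)).subgroupOf (Subgroup.normalizer (T : Set G)) := by
    rw [← Subgroup.normalizerMonoidHom_ker]
    ext n
    simp only [φ, MonoidHom.mem_ker, MonoidHom.comp_apply, autPerm_eq_one]
  have hcard : Nat.card {t : T // t ≠ 1} = 3 := by
    rw [card_nontrivial, hT.card_four]
  refine ⟨φ, hap, hker, hcard, ?_⟩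
  have hTK := isKleinFour_subgroupOf hT hTS
  obtain ⟨hn, hnot, -⟩ := D.four_normalizer hTK
  have hzT := z_mem_four D hT hTS
  have hu : (D.P D.c : G) ∈ Subgroup.normalizer (T : Set G) := by
    refine Subgroup.mem_normalizer_iff.2 fun t => ⟨fun ht => ?_, fun ht => ?_⟩
    · exact (Subgroup.mem_normalizer_iff.1 hn ⟨t, hTS ht⟩).1 ht
    · have htS : t ∈ (S : Subgroup G) := by
        have := mul_mem (mul_mem (inv_mem (D.P D.c).2) (hTS ht)) (D.P D.c).2
        simpa [mul_assoc] using this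
      exact (Subgroup.mem_normalizer_iff.1 hn ⟨t, htS⟩).2 ht
  have hu1 : φ ⟨_, hu⟩ ≠ 1 := by
    intro e
    have h1 : (⟨_, hu⟩ : Subgroup.normalizer (T : Set G)) ∈ φ.ker := e
    rw [hker, Subgroup.mem_subgroupOf] at h1
    refine hnot (D.mem_four_of_centralizer hTK fun t ht => Subtype.ext ?_)
    exact ((Subgroup.mem_centralizer_iff.1 h1) (t : G) ht).symm
  have hz1 : (⟨(D.z : G), hzT⟩ : T) ≠ 1 := fun e =>
    D.z_ne_one (Subtype.ext (congrArg (fun v : T => (v : G)) e))
  have hua : φ ⟨_, hu⟩ ⟨_, hz1⟩ = ⟨_, hz1⟩ := by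
    refine Subtype.ext (Subtype.ext ?_)
    rw [hap]
    show (D.P D.c : G) * D.z * (D.P D.c : G)⁻¹ = D.z
    have := congrArg Subtype.val (D.mem_center_z (D.P D.c)).symm.eq
    simp only [Subgroup.coe_mul] at this
    rw [this, mul_inv_cancel_right]
  rcases index_ker φ hcard hu1 hua with ⟨h, hi⟩ | ⟨⟨n, hn'⟩, hi⟩
  · refine Or.inl ⟨fun ⟨n, hn1, hn2⟩ => hn2 ?_, hi⟩
    have := congrArg (fun v : {t : T // t ≠ 1} => ((v : T) : G)) (h ⟨n, hn1⟩)
    simp only [hap] at this
    exact this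
  · refine Or.inr ⟨⟨n, n.2, fun e => hn' (Subtype.ext (Subtype.ext ?_))⟩, hi⟩
    rw [hap]; exact e

theorem four_relIndex {T : Subgroup G} (hT : IsKleinFour T) (hTS : T ≤ S) :
    (¬ TMoves D T ∧
        (Subgroup.centralizer (T : Set G)).relIndex (Subgroup.normalizer (T : Set G)) = 2) ∨
      (TMoves D T ∧
        (Subgroup.centralizer (T : Set G)).relIndex (Subgroup.normalizer (T : Set G)) = 6) := by
  obtain ⟨φ, -, hker, -, h⟩ := four_perm D hT hTS
  rw [hker] at h
  exact h

theorem four_odd_fpf {T : Subgroup G} (hT : IsKleinFour T) (hTS : T ≤ S) (hm : TMoves D T) :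
    ∃ n ∈ Subgroup.normalizer (T : Set G), Odd (orderOf n) ∧
      ∀ t ∈ T, t ≠ 1 → n * t * n⁻¹ ≠ t := by
  obtain ⟨φ, hap, -, hcard, h⟩ := four_perm D hT hTS
  obtain ⟨n, hn, hf⟩ := exists_odd_fpf φ hcard (h.resolve_left (fun h' => h'.1 hm)).2
  refine ⟨n, n.2, by rwa [Subgroup.orderOf_coe], fun t ht ht1 e => ?_⟩
  refine hf ⟨⟨t, ht⟩, fun e' => ht1 (congrArg Subtype.val e')⟩ (Subtype.ext (Subtype.ext ?_))
  rw [hap]; exact e

theorem isConj_z_of_TMoves {T : Subgroup G} (hT : IsKleinFour T) (hTS : T ≤ S) (hm : TMoves D T)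
    {j : ZMod (2 ^ D.n)} (hj : Even j) : IsConj (D.z : G) (D.q j : G) := by
  obtain ⟨i, hi, hf⟩ := four_forms' D hT hTS
  obtain ⟨n, hn, hne⟩ := hm
  have h1 : n * D.z * n⁻¹ ∈ T := (Subgroup.mem_normalizer_iff.1 hn _).1 (z_mem_four D hT hTS)
  have h2 : ∃ i', Even i' ∧ n * D.z * n⁻¹ = (D.q i' : G) := by
    have := (hf ⟨_, hTS h1⟩).1 h1
    rcases this with e | e | e | e <;> replace e := congrArg Subtype.val e
    · refine absurd ?_ D.z_ne_one
      exact Subtype.ext (conj_eq_one_iff.1 e)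
    · exact absurd e hne
    · exact ⟨i, hi, e⟩
    · exact ⟨_, hi.add D.even_h, e⟩
  obtain ⟨i', hi', e⟩ := h2
  obtain ⟨k, hk⟩ := D.isConj_q (hj.sub hi')
  refine (isConj_iff.2 ⟨n, e⟩).trans (isConj_iff.2 ⟨(D.P k : G), ?_⟩)
  exact_mod_cast congrArg Subtype.val hk

theorem TMoves_of_conj {T : Subgroup G} (hT : IsKleinFour T) (hTS : T ≤ S)
    {i : ZMod (2 ^ D.n)} (hi : Even i) (hc : IsConj (D.q i : G) (D.z : G)) : TMoves D T := by
  obtain ⟨g, hg⟩ := isConj_iff.1 hc
  -- a four-group containing `q i`, inside `S`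
  obtain ⟨i₀, hi₀, hf⟩ := four_forms' D hT hTS
  obtain ⟨k₀, hk₀⟩ := D.isConj_q (hi.sub hi₀)
  set T₀ := T.map (MulAut.conj (D.P k₀ : G)).toMonoidHom with hT₀
  have hT₀4 : IsKleinFour T₀ := isKleinFour_map hT _ (MulAut.conj _).injective
  have hT₀S : T₀ ≤ S := by
    rintro _ ⟨t, ht, rfl⟩
    exact mul_mem (mul_mem (D.P k₀).2 (hTS ht)) (inv_mem (D.P k₀).2)
  have hqT : (D.q i : G) ∈ T₀ := ⟨D.q i₀, (hf _).2 (Or.inr (Or.inr (Or.inl rfl))),
    by simpa using congrArg Subtype.val hk₀⟩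
  -- move a Sylow subgroup of the centraliser of `q i` onto `T₀`
  have hR : ((g⁻¹ • S : Sylow 2 G) : Subgroup G) ≤ Subgroup.centralizer {(D.q i : G)} := by
    intro x hx
    rw [Transfer.Fusion.coe_smul_eq_map, Transfer.Fusion.mem_map_conj, inv_inv] at hx
    rw [Subgroup.mem_centralizer_iff]
    rintro _ rfl
    have h1 := congrArg Subtype.val (D.mem_center_z ⟨_, hx⟩).eq
    simp only [Subgroup.coe_mul] at h1
    rw [← hg] at h1
    have h2 := congrArg (fun v => g⁻¹ * v * g) h1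
    simpa [mul_assoc] using h2
  have hT₀C : T₀ ≤ Subgroup.centralizer {(D.q i : G)} := fun t ht => by
    rw [Subgroup.mem_centralizer_iff]
    rintro _ rfl
    haveI := hT₀4
    exact congrArg Subtype.val (mul_comm_of_exponent_two (IsKleinFour.exponent_two (G := T₀))
      ⟨_, hqT⟩ ⟨t, ht⟩)
  obtain ⟨k, hk, hkT⟩ := Transfer.Fusion.exists_conj_le_of_isPGroup (g⁻¹ • S) hR
    (S.2.to_le hT₀S) hT₀C
  set T₁ := T₀.map (MulAut.conj (g * k)).toMonoidHom with hT₁
  have hT₁4 : IsKleinFour T₁ := isKleinFour_map hT₀4 _ (MulAut.conj _).injective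
  have hT₁S : T₁ ≤ S := by
    rw [hT₁, Transfer.Fusion.map_conj_mul, Transfer.Fusion.map_conj_le_iff,
      ← Transfer.Fusion.coe_smul_eq_map]
    exact hkT
  have hqz : g * k * D.q i * (g * k)⁻¹ = D.z := by
    have h1 := Subgroup.mem_centralizer_iff.1 hk _ rfl
    rw [show g * k * D.q i * (g * k)⁻¹ = g * (k * D.q i * k⁻¹) * g⁻¹ by group, ← h1,
      mul_inv_cancel_right, hg]
  obtain ⟨k₂, hk₂⟩ := D.four_conj (isKleinFour_subgroupOf hT₁4 hT₁S)
    (isKleinFour_subgroupOf hT hTS)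
  have hT₂ : T₁.map (MulAut.conj (D.P k₂ : G)).toMonoidHom = T := by
    refine Subgroup.eq_of_le_of_card_ge ?_ ?_
    · rintro _ ⟨t, ht, rfl⟩
      have hmem : D.P k₂ * ⟨t, hT₁S ht⟩ * (D.P k₂)⁻¹ ∈ T.subgroupOf S := by
        rw [← hk₂]; exact ⟨⟨t, hT₁S ht⟩, ht, rfl⟩
      exact hmem
    · rw [Subgroup.card_map_of_injective (MulAut.conj _).injective, hT.card_four, hT₁4.card_four]
  have hnorm : (D.P k₂ : G) * (g * k) * (D.P k₀ : G) ∈ Subgroup.normalizer (T : Set G) := by
    refine Transfer.Fusion.map_conj_eq_self_iff.mp ?_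
    rw [Transfer.Fusion.map_conj_mul, ← hT₀,
      Transfer.Fusion.map_conj_mul, ← hT₁, hT₂]
  refine ⟨_, hnorm, fun e => ?_⟩
  -- it maps `q i₀` to `z`
  have h0 : (D.P k₀ : G) * D.q i₀ * (D.P k₀ : G)⁻¹ = D.q i := by
    simpa using congrArg Subtype.val hk₀
  have h2 : (D.P k₂ : G) * D.z * (D.P k₂ : G)⁻¹ = D.z := by
    simpa [Gens.z, mul_assoc] using congrArg Subtype.val (D.conj_P_P k₂ D.h)
  have h3 : (D.P k₂ : G) * (g * k) * (D.P k₀ : G) * D.q i₀ *
      ((D.P k₂ : G) * (g * k) * (D.P k₀ : G))⁻¹ = D.z := by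
    calc _ = (D.P k₂ : G) * (g * k * ((D.P k₀ : G) * D.q i₀ * (D.P k₀ : G)⁻¹) * (g * k)⁻¹) *
          (D.P k₂ : G)⁻¹ := by group
      _ = _ := by rw [h0, hqz, h2]
  exact D.P_ne_q _ _ (Subtype.ext (mul_left_cancel (mul_right_cancel (e.trans h3.symm))))

/-! ### Quaternion subgroups -/

/-- Some element normalising `Q` moves the subgroup generated by `P c`. -/
def QMoves (Q : Subgroup G) : Prop :=
  ∃ n ∈ Subgroup.normalizer (Q : Set G),
    n * D.P D.c * n⁻¹ ≠ (D.P D.c : G) ∧ n * D.P D.c * n⁻¹ ≠ (D.P D.c : G)⁻¹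

/-- The automorphism induced on the central quotient. -/
def quotAut (A : Type*) [Group A] : MulAut A →* MulAut (A ⧸ Subgroup.center A) where
  toFun σ := QuotientGroup.congr _ _ σ
    (Subgroup.characteristic_iff_map_eq.1 (inferInstance : (Subgroup.center A).Characteristic) σ)
  map_one' := MulEquiv.ext fun x => QuotientGroup.induction_on x fun _ => rfl
  map_mul' _ _ := MulEquiv.ext fun x => QuotientGroup.induction_on x fun _ => rfl

theorem quotAut_mk {A : Type*} [Group A] (σ : MulAut A) (a : A) :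
    quotAut A σ (a : A ⧸ Subgroup.center A) = (σ a : A ⧸ Subgroup.center A) := rfl

theorem quaternion_comm_central :
    ∀ a b c : QuaternionGroup 2, a * b * a⁻¹ * b⁻¹ * c = c * (a * b * a⁻¹ * b⁻¹) := by
  decide

theorem quaternion_forms' {Q : Subgroup G} (hQS : Q ≤ S) (e : Q ≃* QuaternionGroup 2) :
    ∃ j, ¬ Even j ∧ ∀ s : (S : Subgroup G),
      (s : G) ∈ Q ↔ ∃ k, 4 * k = 0 ∧ (s = D.P k ∨ s = D.q (k + j)) :=
  D.quaternion_forms ((Subgroup.subgroupOfEquivOfLe hQS).trans e)

theorem P_c_mem {Q : Subgroup G} (hQS : Q ≤ S) (e : Q ≃* QuaternionGroup 2) :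
    (D.P D.c : G) ∈ Q := by
  obtain ⟨j, -, h⟩ := quaternion_forms' D hQS e
  exact (h _).2 ⟨D.c, by linear_combination 2 * D.c_add_c + D.h_add_h, Or.inl rfl⟩

theorem z_mem_quaternion {Q : Subgroup G} (hQS : Q ≤ S) (e : Q ≃* QuaternionGroup 2) :
    (D.z : G) ∈ Q := by
  obtain ⟨j, -, h⟩ := quaternion_forms' D hQS e
  exact (h _).2 ⟨D.h, by linear_combination 2 * D.h_add_h, Or.inl rfl⟩

theorem center_quaternion {Q : Subgroup G} (hQS : Q ≤ S) (e : Q ≃* QuaternionGroup 2) (t : Q) :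
    t ∈ Subgroup.center Q ↔ (t : G) = 1 ∨ (t : G) = D.z := by
  constructor
  · intro ht
    rcases D.quaternion_centralizer ((Subgroup.subgroupOfEquivOfLe hQS).trans e)
      (s := ⟨t, hQS t.2⟩) (fun u hu => Subtype.ext
        (congrArg Subtype.val (Subgroup.mem_center_iff.1 ht ⟨u, hu⟩)).symm) with h | h
    · exact Or.inl (congrArg Subtype.val h)
    · exact Or.inr (congrArg Subtype.val h)
  · intro ht
    refine Subgroup.mem_center_iff.2 fun u => Subtype.ext ?_
    rcases ht with h | h <;> simp only [Subgroup.coe_mul, h]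
    · simp
    · exact (congrArg Subtype.val (D.mem_center_z ⟨u, hQS u.2⟩).eq).symm

theorem quaternion_perm {Q : Subgroup G} (hQS : Q ≤ S) (e : Q ≃* QuaternionGroup 2) :
    ∃ φ : Subgroup.normalizer (Q : Set G) →* Equiv.Perm {t : Q ⧸ Subgroup.center Q // t ≠ 1},
      (∀ n t, (φ n t : Q ⧸ Subgroup.center Q) =
        quotAut Q (Q.normalizerMonoidHom n) (t : Q ⧸ Subgroup.center Q)) ∧
      φ.ker = (Q ⊔ Subgroup.centralizer (Q : Set G)).subgroupOf
        (Subgroup.normalizer (Q : Set G)) ∧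
      Nat.card (Q ⧸ Subgroup.center Q) = 4 ∧
      Nat.card {t : Q ⧸ Subgroup.center Q // t ≠ 1} = 3 ∧
      ((¬ QMoves D Q ∧ φ.ker.index = 2) ∨ (QMoves D Q ∧ φ.ker.index = 6)) := by
  let φ := (autPerm (Q ⧸ Subgroup.center Q)).comp ((quotAut Q).comp Q.normalizerMonoidHom)
  have hap : ∀ n t, (φ n t : Q ⧸ Subgroup.center Q) =
      quotAut Q (Q.normalizerMonoidHom n) (t : Q ⧸ Subgroup.center Q) := fun n t => rfl
  obtain ⟨j, hj, hf⟩ := quaternion_forms' D hQS e
  have hcen := center_quaternion D hQS e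
  have hzQ := z_mem_quaternion D hQS e
  have hiQ := P_c_mem D hQS e
  have hjQ : (D.q j : G) ∈ Q := (hf _).2 ⟨0, mul_zero 4, Or.inr (by rw [zero_add])⟩
  -- classes modulo the centre
  have hclass : ∀ a b : Q, ((a : Q ⧸ Subgroup.center Q) = b) ↔
      ((b : G) = a ∨ (b : G) = a * D.z) := by
    intro a b
    rw [QuotientGroup.eq, hcen, Subgroup.coe_mul, Subgroup.coe_inv, inv_mul_eq_one,
      inv_mul_eq_iff_eq_mul, eq_comm (a := (a : G))]
  have hcardC : Nat.card (Subgroup.center Q) = 2 := by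
    have : Subgroup.center Q = Subgroup.zpowers ⟨D.z, hzQ⟩ := by
      refine le_antisymm (fun t ht => ?_) (Subgroup.zpowers_le.2 ((hcen _).2 (Or.inr rfl)))
      rcases (hcen t).1 ht with h | h
      · rw [show t = 1 from Subtype.ext h]; exact one_mem _
      · rw [show t = ⟨D.z, hzQ⟩ from Subtype.ext h]; exact Subgroup.mem_zpowers _
    rw [this, Nat.card_zpowers, Subgroup.orderOf_mk, Subgroup.orderOf_coe, D.orderOf_z]
  have hV : Nat.card (Q ⧸ Subgroup.center Q) = 4 := by
    have h1 := Subgroup.card_eq_card_quotient_mul_card_subgroup (Subgroup.center Q)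
    rw [hcardC, Nat.card_congr e.toEquiv, Nat.card_eq_fintype_card, QuaternionGroup.card] at h1
    omega
  have hV3 : Nat.card {t : Q ⧸ Subgroup.center Q // t ≠ 1} = 3 := by rw [card_nontrivial, hV]
  have hcomm : ∀ a b : Q, a * b * a⁻¹ * b⁻¹ ∈ Subgroup.center Q := fun a b =>
    Subgroup.mem_center_iff.2 fun c => e.injective (by
      simp only [map_mul, map_inv]; exact (quaternion_comm_central (e a) (e b) (e c)).symm)
  have hker : φ.ker = (Q ⊔ Subgroup.centralizer (Q : Set G)).subgroupOf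
      (Subgroup.normalizer (Q : Set G)) := by
    apply le_antisymm
    · intro n hn
      rw [MonoidHom.mem_ker] at hn
      have h1 : quotAut Q (Q.normalizerMonoidHom n) = 1 := autPerm_eq_one.1 hn
      have hfix : ∀ t : Q, (n : G) * t * (n : G)⁻¹ = t ∨ (n : G) * t * (n : G)⁻¹ = t * D.z := by
        intro t
        have h2 := quotAut_mk (Q.normalizerMonoidHom n) t
        rw [h1, MulAut.one_apply] at h2
        exact (hclass t _).1 h2
      -- correct by an element of `Q`
      have hcor : ∃ w ∈ Q, (w * n) * D.P D.c * (w * (n : G))⁻¹ = (D.P D.c : G) ∧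
          (w * n) * D.q j * (w * (n : G))⁻¹ = (D.q j : G) := by
        have hzz := z_mul_z D
        have hzc : ∀ u ∈ Q, u * (D.z : G) * u⁻¹ = D.z := fun u hu => by
          have h9 : (D.z : G) * u = u * D.z :=
            congrArg Subtype.val (D.mem_center_z ⟨u, hQS hu⟩).eq
          rw [← h9, mul_inv_cancel_right]
        -- action of `i` and `j`
        have hji : (D.q j : G) * D.P D.c * (D.q j : G)⁻¹ = D.P D.c * D.z := by
          have : D.q j * D.P D.c * (D.q j)⁻¹ = D.P D.c * D.z := by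
            rw [D.conj_q_P, Gens.z, ← D.P_add, D.P_inj, D.r_mul_c]
            linear_combination -D.c_add_c - D.h_add_h
          exact_mod_cast congrArg Subtype.val this
        have hij : (D.P D.c : G) * D.q j * (D.P D.c : G)⁻¹ = D.q j * D.z := by
          have : D.P D.c * D.q j * (D.P D.c)⁻¹ = D.q j * D.z := by
            rw [D.conj_P_c_q, Gens.z, D.q_mul_P, D.r_mul_h]
          exact_mod_cast congrArg Subtype.val this
        have hstep : ∀ w x y : G, w * n * x * (w * (n : G))⁻¹ = w * (n * x * (n : G)⁻¹) * w⁻¹ :=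
          fun w x _ => by group
        have hmulz : ∀ w x : G, w ∈ Q → w * (x * D.z) * w⁻¹ = (w * x * w⁻¹) * D.z := fun w x hw => by
          rw [show w * (x * D.z) * w⁻¹ = (w * x * w⁻¹) * (w * D.z * w⁻¹) by group, hzc w hw]
        rcases hfix ⟨_, hiQ⟩ with h2 | h2 <;> rcases hfix ⟨_, hjQ⟩ with h3 | h3 <;>
          simp only at h2 h3
        · exact ⟨1, one_mem Q, by rw [one_mul]; exact ⟨h2, h3⟩⟩
        · refine ⟨_, hiQ, ?_, ?_⟩ <;> rw [hstep _ _ 1]
          · rw [h2]; exact mul_inv_cancel_right _ _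
          · rw [h3, hmulz _ _ hiQ, hij, mul_assoc, hzz, mul_one]
        · refine ⟨_, hjQ, ?_, ?_⟩ <;> rw [hstep _ _ 1]
          · rw [h2, hmulz _ _ hjQ, hji, mul_assoc, hzz, mul_one]
          · rw [h3]; exact mul_inv_cancel_right _ _
        · refine ⟨_, mul_mem hiQ hjQ, ?_, ?_⟩ <;> rw [hstep _ _ 1]
          · rw [h2, hmulz _ _ (mul_mem hiQ hjQ),
              show (D.P D.c : G) * D.q j * D.P D.c * ((D.P D.c : G) * D.q j)⁻¹ =
                (D.P D.c : G) * ((D.q j : G) * D.P D.c * (D.q j : G)⁻¹) * (D.P D.c : G)⁻¹ by group,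
              hji, hmulz _ _ hiQ, mul_inv_cancel_right, mul_assoc, hzz, mul_one]
          · rw [h3, hmulz _ _ (mul_mem hiQ hjQ),
              show (D.P D.c : G) * D.q j * D.q j * ((D.P D.c : G) * D.q j)⁻¹ =
                (D.P D.c : G) * D.q j * (D.P D.c : G)⁻¹ by group,
              hij, mul_assoc, hzz, mul_one]
      obtain ⟨w, hw, hwi, hwj⟩ := hcor
      rw [Subgroup.mem_subgroupOf]
      have hcent : w * n ∈ Subgroup.centralizer (Q : Set G) := by
        rw [Subgroup.mem_centralizer_iff]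
        intro t ht
        have ci : Commute (w * (n : G)) (D.P D.c : G) := mul_inv_eq_iff_eq_mul.1 hwi
        have cj : Commute (w * (n : G)) (D.q j : G) := mul_inv_eq_iff_eq_mul.1 hwj
        have cP : ∀ k, 4 * k = 0 → Commute (w * (n : G)) (D.P k : G) := by
          intro k hk
          rcases (four_mul_eq_zero_iff D.n2).1 hk with rfl | rfl | rfl | rfl
          · rw [D.P_zero]; exact Commute.one_right _
          · exact ci
          · change Commute _ ((D.P D.h : (S : Subgroup G)) : G)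
            rw [← D.c_add_c, D.P_add, Subgroup.coe_mul]
            exact ci.mul_right ci
          · change Commute _ ((D.P (-D.c) : (S : Subgroup G)) : G)
            rw [D.P_neg, Subgroup.coe_inv]
            exact ci.inv_right
        obtain ⟨k, hk, h' | h'⟩ := (hf ⟨t, hQS ht⟩).1 ht
        · rw [show t = (D.P k : G) from congrArg Subtype.val h']
          exact (cP k hk).symm
        · rw [show t = (D.P k : G) * (D.q j : G) from
            (congrArg Subtype.val (h'.trans (D.P_mul_q k j).symm)).trans (Subgroup.coe_mul _ _ _)]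
          exact ((cP k hk).mul_right cj).symm
      have : (n : G) = w⁻¹ * (w * n) := by group
      rw [this]
      exact mul_mem (Subgroup.mem_sup_left (inv_mem hw)) (Subgroup.mem_sup_right hcent)
    · intro n hn
      rw [Subgroup.mem_subgroupOf] at hn
      have hle : Q ⊔ Subgroup.centralizer (Q : Set G) ≤ φ.ker.map
          (Subgroup.normalizer (Q : Set G)).subtype := by
        refine sup_le (fun w hw => ?_) (fun c hc => ?_)
        · refine ⟨⟨w, Subgroup.le_normalizer hw⟩, ?_, rfl⟩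
          refine autPerm_eq_one.2 (MulEquiv.ext fun x => QuotientGroup.induction_on x fun t => ?_)
          show quotAut Q _ (t : Q ⧸ Subgroup.center Q) = t
          rw [quotAut_mk]
          refine (QuotientGroup.eq.2 ?_).symm
          have hval : (Q.normalizerMonoidHom ⟨w, Subgroup.le_normalizer hw⟩ t) =
              ⟨w, hw⟩ * t * (⟨w, hw⟩ : Q)⁻¹ := rfl
          rw [hval]
          have h5 := hcomm t⁻¹ ⟨w, hw⟩
          rw [inv_inv] at h5
          rw [show t⁻¹ * (⟨w, hw⟩ * t * (⟨w, hw⟩ : Q)⁻¹) = t⁻¹ * ⟨w, hw⟩ * t * (⟨w, hw⟩ : Q)⁻¹ by group]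
          exact h5
        · have hcN : c ∈ Subgroup.normalizer (Q : Set G) :=
            Subgroup.centralizer_le_normalizer _ hc
          refine ⟨⟨c, hcN⟩, ?_, rfl⟩
          refine autPerm_eq_one.2 (MulEquiv.ext fun x => QuotientGroup.induction_on x fun t => ?_)
          show quotAut Q _ (t : Q ⧸ Subgroup.center Q) = t
          rw [quotAut_mk]
          congr 1
          refine Subtype.ext ?_
          show c * t * c⁻¹ = t
          rw [← (Subgroup.mem_centralizer_iff.1 hc t t.2), mul_inv_cancel_right]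
      obtain ⟨m, hm, he⟩ := hle hn
      rwa [← show m = n from Subtype.ext he]
  refine ⟨φ, hap, hker, hV, hV3, ?_⟩
  obtain ⟨hn, hnot, -⟩ := D.quaternion_normalizer ((Subgroup.subgroupOfEquivOfLe hQS).trans e)
  have hu : (D.P D.d : G) ∈ Subgroup.normalizer (Q : Set G) := by
    refine Subgroup.mem_normalizer_iff.2 fun t => ⟨fun ht => ?_, fun ht => ?_⟩
    · exact (Subgroup.mem_normalizer_iff.1 hn ⟨t, hQS ht⟩).1 ht
    · have htS : t ∈ (S : Subgroup G) := by
        have := mul_mem (mul_mem (inv_mem (D.P D.d).2) (hQS ht)) (D.P D.d).2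
        simpa [mul_assoc] using this
      exact (Subgroup.mem_normalizer_iff.1 hn ⟨t, htS⟩).2 ht
  have hu1 : φ ⟨_, hu⟩ ≠ 1 := by
    intro h
    have h1 : (⟨_, hu⟩ : Subgroup.normalizer (Q : Set G)) ∈ φ.ker := h
    rw [hker, Subgroup.mem_subgroupOf] at h1
    obtain ⟨w, hw, c, hc, he⟩ := Set.mem_mul.1
      (show (D.P D.d : G) ∈ (Q : Set G) * (Subgroup.centralizer (Q : Set G) : Set G) by
        rw [← Subgroup.coe_mul_of_right_le_normalizer_left Q _
          (Subgroup.centralizer_le_normalizer _)]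
        exact h1)
    refine hnot ?_
    have hcS : c ∈ (S : Subgroup G) := by
      rw [eq_inv_mul_of_mul_eq he]; exact mul_mem (inv_mem (hQS hw)) (D.P D.d).2
    have hcQ : c ∈ Q := by
      rcases D.quaternion_centralizer ((Subgroup.subgroupOfEquivOfLe hQS).trans e)
        (s := ⟨c, hcS⟩) (fun u hu => Subtype.ext (Subgroup.mem_centralizer_iff.1 hc _ hu).symm)
        with h2 | h2
      · rw [show c = 1 from congrArg Subtype.val h2]; exact one_mem _
      · rw [show c = (D.z : G) from congrArg Subtype.val h2]; exact hzQ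
    show (D.P D.d : G) ∈ Q
    rw [← he]; exact mul_mem hw hcQ
  have hi1 : ((⟨_, hiQ⟩ : Q) : Q ⧸ Subgroup.center Q) ≠ 1 := by
    intro h
    rcases (hcen _).1 ((QuotientGroup.eq_one_iff _).1 h) with h2 | h2
    · have h3 : D.P D.c = 1 := Subtype.ext h2
      have := D.orderOf_P_c; rw [h3, orderOf_one] at this; omega
    · have h3 : D.P D.c = D.z := Subtype.ext h2
      have := D.orderOf_P_c; rw [h3, D.orderOf_z] at this; omega
  have hua : φ ⟨_, hu⟩ ⟨_, hi1⟩ = ⟨_, hi1⟩ := by
    refine Subtype.ext ?_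
    rw [hap]
    show quotAut Q _ _ = _
    rw [quotAut_mk]
    congr 1
    refine Subtype.ext ?_
    show (D.P D.d : G) * D.P D.c * (D.P D.d : G)⁻¹ = D.P D.c
    exact_mod_cast congrArg Subtype.val (D.conj_P_P D.d D.c)
  have hinv : (D.P D.c : G) * D.z = (D.P D.c : G)⁻¹ := by
    have : D.P D.c * D.z = (D.P D.c)⁻¹ := by
      rw [Gens.z, ← D.P_add, ← D.P_neg, D.P_inj]; linear_combination D.c_add_c + D.h_add_h
    exact_mod_cast congrArg Subtype.val this
  rcases index_ker φ hV3 hu1 hua with ⟨h, hi⟩ | ⟨⟨n, hn'⟩, hi⟩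
  · refine Or.inl ⟨fun ⟨n, hn1, hn2, hn3⟩ => ?_, hi⟩
    have := congrArg Subtype.val (h ⟨n, hn1⟩)
    rw [hap, quotAut_mk] at this
    rcases (hclass _ ⟨_, hiQ⟩).1 this with h2 | h2
    · exact hn2 h2.symm
    · refine hn3 ?_
      rw [← hinv]
      change (D.P D.c : G) = n * D.P D.c * n⁻¹ * D.z at h2
      have hzz := z_mul_z D
      calc n * D.P D.c * n⁻¹ = n * D.P D.c * n⁻¹ * ((D.z : G) * D.z) := by rw [hzz, mul_one]
        _ = D.P D.c * D.z := by rw [← mul_assoc, ← h2]
  · refine Or.inr ⟨⟨n, n.2, fun h2 => hn' ?_, fun h2 => hn' ?_⟩, hi⟩ <;>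
      refine Subtype.ext ?_ <;> rw [hap, quotAut_mk] <;> refine ((hclass _ _).2 ?_).symm
    · exact Or.inl h2
    · exact Or.inr (by rw [hinv]; exact h2)

theorem quaternion_relIndex {Q : Subgroup G} (hQS : Q ≤ S) (e : Q ≃* QuaternionGroup 2) :
    (¬ QMoves D Q ∧ (Q ⊔ Subgroup.centralizer (Q : Set G)).relIndex
        (Subgroup.normalizer (Q : Set G)) = 2) ∨
      (QMoves D Q ∧ (Q ⊔ Subgroup.centralizer (Q : Set G)).relIndex
        (Subgroup.normalizer (Q : Set G)) = 6) := by
  obtain ⟨φ, -, hker, -, -, h⟩ := quaternion_perm D hQS e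
  rw [hker] at h
  exact h

end Cfsg.Agent.Involutions.QuasiDihedralFusion
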