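import Mathlib
import Cfsg.Agent.Lib.Involutions.QuasiDihedralFusion
import Cfsg.Agent.Lib.Transfer.Frobenius

/-!
# Conjugacy classes and subgroups of index 2, quasi-dihedral Sylow 2-subgroups
-/

namespace Cfsg.Agent.Involutions.QuasiDihedralClasses

open Cfsg.Agent.Involutions.QuasiDihedral Cfsg.Agent.Involutions.QuasiDihedralFusion
open Cfsg.Agent.Involutions.ThreePoint

variable {G : Type*} [Group G] [Finite G] {S : Sylow 2 G} (D : Gens (S : Subgroup G))

theorem conj_mem_normalizer {T : Subgroup G} {n s : G}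
    (hn : n ∈ Subgroup.normalizer (T : Set G)) :
    s * n * s⁻¹ ∈ Subgroup.normalizer ((T.map (MulAut.conj s).toMonoidHom : Subgroup G) : Set G) := by
  refine Transfer.Fusion.map_conj_eq_self_iff.mp ?_
  rw [← Transfer.Fusion.map_conj_mul, inv_mul_cancel_right, Transfer.Fusion.map_conj_mul,
    Transfer.Fusion.map_conj_eq_self_iff.mpr hn]

/-- Every odd-indexed `q i` lies in a quaternion subgroup of `S` conjugate to the given one. -/
theorem exists_quaternion_mem {Q : Subgroup G} (hQS : Q ≤ S) (e : Q ≃* QuaternionGroup 2)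
    {i : ZMod (2 ^ D.n)} (hi : ¬ Even i) :
    ∃ Q' : Subgroup G, Q' ≤ S ∧ Nonempty (Q' ≃* QuaternionGroup 2) ∧ (D.q i : G) ∈ Q' ∧
      (QMoves D Q → QMoves D Q') ∧ (QMoves D Q' → QMoves D Q) := by
  obtain ⟨j, hj, hf⟩ := quaternion_forms' D hQS e
  obtain ⟨k, hk⟩ := D.isConj_q (i := j) (j := i) (by
    have h1 := ((even_or_even_sub_one i).resolve_left hi).sub
      ((even_or_even_sub_one j).resolve_left hj)
    rwa [sub_sub_sub_cancel_right] at h1)
  refine ⟨Q.map (MulAut.conj (D.P k : G)).toMonoidHom, ?_, ?_, ?_, ?_, ?_⟩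
  · rintro _ ⟨t, ht, rfl⟩
    exact mul_mem (mul_mem (D.P k).2 (hQS ht)) (inv_mem (D.P k).2)
  · exact ⟨(Q.equivMapOfInjective _ (MulAut.conj _).injective).symm.trans e⟩
  · exact ⟨D.q j, (hf _).2 ⟨0, mul_zero 4, Or.inr (by rw [zero_add])⟩,
      by simpa using congrArg Subtype.val hk⟩
  all_goals
    have hfix : (D.P k : G) * D.P D.c * (D.P k : G)⁻¹ = D.P D.c := by
      simpa using congrArg Subtype.val (D.conj_P_P k D.c)
    have hfix' : (D.P k : G)⁻¹ * D.P D.c * (D.P k : G) = D.P D.c := by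
      nth_rw 1 [← hfix]; group
  · rintro ⟨n, hn, h1, h2⟩
    refine ⟨(D.P k : G) * n * (D.P k : G)⁻¹, conj_mem_normalizer hn, ?_, ?_⟩
    · intro h
      refine h1 ?_
      rw [show n * D.P D.c * n⁻¹ = (D.P k : G)⁻¹ *
        ((D.P k : G) * n * ((D.P k : G)⁻¹ * D.P D.c * (D.P k : G)) * n⁻¹ * (D.P k : G)⁻¹) *
          (D.P k : G) from by rw [hfix']; group]
      rw [show (D.P k : G) * n * ((D.P k : G)⁻¹ * D.P D.c * (D.P k : G)) * n⁻¹ * (D.P k : G)⁻¹ =
        ((D.P k : G) * n * (D.P k : G)⁻¹) * D.P D.c * ((D.P k : G) * n * (D.P k : G)⁻¹)⁻¹ by group,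
        h, hfix']
    · intro h
      refine h2 ?_
      rw [show n * D.P D.c * n⁻¹ = (D.P k : G)⁻¹ *
        ((D.P k : G) * n * ((D.P k : G)⁻¹ * D.P D.c * (D.P k : G)) * n⁻¹ * (D.P k : G)⁻¹) *
          (D.P k : G) from by rw [hfix']; group]
      rw [show (D.P k : G) * n * ((D.P k : G)⁻¹ * D.P D.c * (D.P k : G)) * n⁻¹ * (D.P k : G)⁻¹ =
        ((D.P k : G) * n * (D.P k : G)⁻¹) * D.P D.c * ((D.P k : G) * n * (D.P k : G)⁻¹)⁻¹ by group,
        h]
      nth_rw 2 [← hfix']; group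
  · rintro ⟨n, hn, h1, h2⟩
    have hn' := conj_mem_normalizer (s := (D.P k : G)⁻¹) hn
    rw [Transfer.Fusion.map_conj_inv_cancel, inv_inv] at hn'
    refine ⟨_, hn', ?_, ?_⟩
    · intro h
      refine h1 ?_
      rw [show n * D.P D.c * n⁻¹ = (D.P k : G) *
        ((D.P k : G)⁻¹ * n * ((D.P k : G) * D.P D.c * (D.P k : G)⁻¹) * n⁻¹ * (D.P k : G)) *
          (D.P k : G)⁻¹ from by rw [hfix]; group]
      rw [show (D.P k : G)⁻¹ * n * ((D.P k : G) * D.P D.c * (D.P k : G)⁻¹) * n⁻¹ * (D.P k : G) =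
        ((D.P k : G)⁻¹ * n * (D.P k : G)) * D.P D.c * ((D.P k : G)⁻¹ * n * (D.P k : G))⁻¹ by group,
        h, hfix]
    · intro h
      refine h2 ?_
      rw [show n * D.P D.c * n⁻¹ = (D.P k : G) *
        ((D.P k : G)⁻¹ * n * ((D.P k : G) * D.P D.c * (D.P k : G)⁻¹) * n⁻¹ * (D.P k : G)) *
          (D.P k : G)⁻¹ from by rw [hfix]; group]
      rw [show (D.P k : G)⁻¹ * n * ((D.P k : G) * D.P D.c * (D.P k : G)⁻¹) * n⁻¹ * (D.P k : G) =
        ((D.P k : G)⁻¹ * n * (D.P k : G)) * D.P D.c * ((D.P k : G)⁻¹ * n * (D.P k : G))⁻¹ by group,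
        h]
      nth_rw 2 [← hfix]; group

theorem isConj_P_neg_c : IsConj (D.P D.c : G) (D.P (-D.c) : G) :=
  isConj_iff.2 ⟨(D.q 0 : G), by
    have := congrArg Subtype.val (D.conj_q_P 0 D.c)
    rw [D.r_mul_c] at this
    exact this⟩

theorem isConj_q_q {i j : ZMod (2 ^ D.n)} (hij : Even (j - i)) :
    IsConj (D.q i : G) (D.q j : G) := by
  obtain ⟨k, hk⟩ := D.isConj_q hij
  exact isConj_iff.2 ⟨(D.P k : G), congrArg Subtype.val hk⟩

theorem isConj_c_of_QMoves {Q : Subgroup G} (hQS : Q ≤ S) (e : Q ≃* QuaternionGroup 2)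
    (hm : QMoves D Q) {j : ZMod (2 ^ D.n)} (hj : ¬ Even j) :
    IsConj (D.P D.c : G) (D.q j : G) := by
  obtain ⟨n, hn, h1, h2⟩ := hm
  obtain ⟨i, -, hf⟩ := quaternion_forms' D hQS e
  have hmem : n * D.P D.c * n⁻¹ ∈ Q :=
    (Subgroup.mem_normalizer_iff.1 hn _).1 (P_c_mem D hQS e)
  have hord : orderOf (⟨_, hQS hmem⟩ : (S : Subgroup G)) = 4 := by
    rw [Subgroup.orderOf_mk, ← MulAut.conj_apply,
      ← MulEquiv.coe_toMonoidHom, orderOf_injective _ (MulAut.conj n).injective,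
      Subgroup.orderOf_coe, D.orderOf_P_c]
  rcases D.eq_of_orderOf_four hord with h | h | ⟨i', hi', h⟩ <;> replace h := congrArg Subtype.val h
  · exact absurd h h1
  · refine absurd (h.trans ?_) h2
    rw [D.P_neg, Subgroup.coe_inv]
  · refine (isConj_iff.2 ⟨n, h⟩).trans (isConj_q_q D ?_)
    have h3 := ((even_or_even_sub_one j).resolve_left hj).sub
      ((even_or_even_sub_one i').resolve_left hi')
    rwa [sub_sub_sub_cancel_right] at h3

theorem QMoves_of_conj {Q : Subgroup G} (hQS : Q ≤ S) (e : Q ≃* QuaternionGroup 2)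
    {i : ZMod (2 ^ D.n)} (hi : ¬ Even i) (hc : IsConj (D.q i : G) (D.P D.c : G)) :
    QMoves D Q := by
  obtain ⟨Q₀, hQ₀S, ⟨e₀⟩, hqQ, -, hback⟩ := exists_quaternion_mem D hQS e hi
  refine hback ?_
  obtain ⟨g, hg⟩ := isConj_iff.1 hc
  set q := (D.q i : G) with hq
  -- `Q₀` normalises `⟨q⟩`
  have hzz := z_mul_z D
  have hqinv : q⁻¹ = (D.z : G) * q := by
    have h1 : (D.q i)⁻¹ = D.z * D.q i := by
      rw [D.q_inv, Gens.z, D.P_mul_q, D.q_inj, D.r_mul, D.h_mul_odd hi]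
      linear_combination (-1 : ZMod (2 ^ D.n)) * D.h_add_h
    exact congrArg Subtype.val h1
  have hQN : Q₀ ≤ Subgroup.normalizer ((Subgroup.zpowers q : Subgroup G) : Set G) := by
    intro u hu
    refine Transfer.Fusion.map_conj_eq_self_iff.mp ?_
    rw [MonoidHom.map_zpowers]
    have hcomm : (⟨u, hu⟩ : Q₀) * ⟨q, hqQ⟩ * (⟨u, hu⟩ : Q₀)⁻¹ * (⟨q, hqQ⟩ : Q₀)⁻¹ ∈
        Subgroup.center Q₀ :=
      Subgroup.mem_center_iff.2 fun c => e₀.injective (by
        simp only [map_mul, map_inv]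
        exact (quaternion_comm_central (e₀ ⟨u, hu⟩) (e₀ ⟨q, hqQ⟩) (e₀ c)).symm)
    show Subgroup.zpowers (u * q * u⁻¹) = _
    rcases (center_quaternion D hQ₀S e₀ _).1 hcomm with h | h <;>
      simp only [Subgroup.coe_mul, Subgroup.coe_inv] at h
    · rw [mul_inv_eq_one.1 h]
    · rw [mul_inv_eq_iff_eq_mul.1 h, ← hqinv, Subgroup.zpowers_inv]
  -- a larger 2-subgroup of that normaliser
  set x' := g⁻¹ * (D.x : G) * g with hx'
  have hx'M : x' ∈ Subgroup.normalizer ((Subgroup.zpowers q : Subgroup G) : Set G) := by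
    refine Transfer.Fusion.map_conj_eq_self_iff.mp ?_
    rw [MonoidHom.map_zpowers]
    show Subgroup.zpowers (x' * q * x'⁻¹) = _
    congr 1
    have h1 : (D.x : G) * D.P D.c * (D.x : G)⁻¹ = D.P D.c := by
      have := congrArg Subtype.val (D.conj_P_P 1 D.c)
      rw [D.P_one] at this
      exact this
    have h2 : q = g⁻¹ * D.P D.c * g := by rw [← hg]; group
    calc x' * q * x'⁻¹ = g⁻¹ * ((D.x : G) * D.P D.c * (D.x : G)⁻¹) * g := by
          rw [hx', h2]; group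
      _ = q := by rw [h1, h2]
  have hordx : orderOf x' = 2 ^ D.n := by
    have h1 : x' = (MulAut.conj g⁻¹).toMonoidHom (D.x : G) := by simp [hx']
    rw [h1, orderOf_injective _ (MulAut.conj g⁻¹).injective, Subgroup.orderOf_coe, D.hx]
  obtain ⟨k, hk, R, hQR, hxR⟩ := Transfer.Fusion.exists_conj_le_sylow (S.2.to_le hQ₀S) hQN
    (IsPGroup.of_card (p := 2) (G := Subgroup.zpowers x') (n := D.n)
      (by rw [Nat.card_zpowers, hordx])) (Subgroup.zpowers_le.2 hx'M)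
  set M := Subgroup.normalizer ((Subgroup.zpowers q : Subgroup G) : Set G)
  have hlt : Q₀ < (R : Subgroup G) ⊓ M := by
    refine lt_of_le_of_ne (le_inf hQR hQN) fun he => ?_
    have h1 : k * x' * k⁻¹ ∈ Q₀ := by
      rw [he]
      exact Subgroup.mem_inf.2
        ⟨hxR ⟨x', Subgroup.mem_zpowers _, rfl⟩, M.mul_mem (M.mul_mem hk hx'M) (M.inv_mem hk)⟩
    have h2 : (⟨_, h1⟩ : Q₀) ^ 4 = 1 := e₀.injective (by
      rw [map_pow, map_one]; exact (Gens.quaternion_two_facts).1 _)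
    have h3 : (k * x' * k⁻¹) ^ 4 = 1 := congrArg Subtype.val h2
    rw [conj_pow, conj_eq_one_iff] at h3
    have h4 := orderOf_dvd_of_pow_eq_one h3
    rw [hordx] at h4
    have h5 := Nat.le_of_dvd (by norm_num) h4
    have : 2 ^ 3 ≤ 2 ^ D.n := Nat.pow_le_pow_right two_pos D.hn
    omega
  obtain ⟨u, hu, huQ⟩ := SetLike.exists_of_lt
    (Transfer.Frobenius.lt_inf_normalizer (R.2.to_le inf_le_left) hlt)
  obtain ⟨⟨huR, huM⟩, huN⟩ := hu
  have huq : u * q * u⁻¹ = q ∨ u * q * u⁻¹ = q⁻¹ := by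
    have h1 : u * q * u⁻¹ ∈ Subgroup.zpowers q :=
      (Subgroup.mem_normalizer_iff.1 huM q).1 (Subgroup.mem_zpowers q)
    obtain ⟨m, hm⟩ := Subgroup.mem_zpowers_iff.1 h1
    have hq4 : orderOf q = 4 := (Subgroup.orderOf_coe _).trans (D.orderOf_q_odd hi)
    have h4 : orderOf (q ^ m) = 4 := by
      rw [hm, ← MulAut.conj_apply, ← MulEquiv.coe_toMonoidHom,
        orderOf_injective _ (MulAut.conj u).injective, hq4]
    rw [← hm, ← zpow_mod_orderOf, hq4]
    rw [← zpow_mod_orderOf, hq4] at h4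
    have hm4 : m % ((4 : ℕ) : ℤ) = 0 ∨ m % ((4 : ℕ) : ℤ) = 1 ∨ m % ((4 : ℕ) : ℤ) = 2 ∨
        m % ((4 : ℕ) : ℤ) = 3 := by omega
    rcases hm4 with h | h | h | h <;> rw [h] at h4 ⊢
    · rw [zpow_zero, orderOf_one] at h4; omega
    · exact Or.inl (zpow_one q)
    · exfalso
      rw [show (2 : ℤ) = ((2 : ℕ) : ℤ) from rfl, zpow_natCast, orderOf_pow, hq4] at h4
      norm_num at h4
    · refine Or.inr (eq_inv_of_mul_eq_one_left ?_)
      rw [show (3 : ℤ) = ((3 : ℕ) : ℤ) from rfl, zpow_natCast, ← pow_succ,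
        show 3 + 1 = orderOf q from hq4.symm, pow_orderOf_eq_one]
  obtain ⟨h, hh⟩ := MulAction.exists_smul_eq G R S
  have hRS : ∀ v ∈ (R : Subgroup G), h * v * h⁻¹ ∈ (S : Subgroup G) := fun v hv => by
    rw [← hh, Transfer.Fusion.coe_smul_eq_map]
    exact Transfer.Fusion.conj_mem_map_conj hv h
  set Q' := Q₀.map (MulAut.conj h).toMonoidHom with hQ'
  have hQ'S : Q' ≤ S := by
    rintro _ ⟨v, hv, rfl⟩
    exact hRS v (hQR hv)
  have e' : Q' ≃* QuaternionGroup 2 :=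
    (Q₀.equivMapOfInjective _ (MulAut.conj h).injective).symm.trans e₀
  obtain ⟨-, -, -, hfix⟩ :=
    D.quaternion_normalizer ((Subgroup.subgroupOfEquivOfLe hQ'S).trans e')
  have hu'N : h * u * h⁻¹ ∈ Subgroup.normalizer (Q' : Set G) := conj_mem_normalizer huN
  have hqS : q ∈ (S : Subgroup G) := (D.q i).2
  have ht := hfix ⟨_, hRS u huR⟩
    (Subgroup.mem_normalizer_iff.2 fun v => Subgroup.mem_normalizer_iff.1 hu'N (v : G))
    (fun hmem => huQ (by
      obtain ⟨v, hv, hev⟩ := (hmem : h * u * h⁻¹ ∈ Q')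
      rw [← mul_left_cancel (mul_right_cancel hev)]; exact hv))
    ⟨_, hRS q (hQR hqQ)⟩ ⟨q, hqQ, rfl⟩
    (by rw [Subgroup.orderOf_mk, ← MulAut.conj_apply, ← MulEquiv.coe_toMonoidHom,
      orderOf_injective _ (MulAut.conj h).injective]
        exact (Subgroup.orderOf_coe _).trans (D.orderOf_q_odd hi))
    (by
      rcases huq with h1 | h1
      · refine Or.inl (Subtype.ext ?_)
        simp only [Subgroup.coe_mul, Subgroup.coe_inv]
        calc _ = h * (u * q * u⁻¹) * h⁻¹ := by group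
          _ = _ := by rw [h1]
      · refine Or.inr (Subtype.ext ?_)
        simp only [Subgroup.coe_mul, Subgroup.coe_inv]
        calc _ = h * (u * q * u⁻¹) * h⁻¹ := by group
          _ = _ := by rw [h1]; group)
  obtain ⟨k', hk'⟩ := D.quaternion_conj ((Subgroup.subgroupOfEquivOfLe hQ'S).trans e')
    ((Subgroup.subgroupOfEquivOfLe hQ₀S).trans e₀)
  have hQ'Q : Q'.map (MulAut.conj (D.P k' : G)).toMonoidHom = Q₀ := by
    refine Subgroup.eq_of_le_of_card_ge ?_ ?_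
    · rintro _ ⟨v, hv, rfl⟩
      have hmem : D.P k' * ⟨v, hQ'S hv⟩ * (D.P k')⁻¹ ∈ Q₀.subgroupOf S := by
        rw [← hk']; exact ⟨⟨v, hQ'S hv⟩, hv, rfl⟩
      exact hmem
    · rw [Subgroup.card_map_of_injective (MulAut.conj _).injective, Nat.card_congr e₀.toEquiv,
        Nat.card_congr e'.toEquiv]
  have hn : ((D.P k' : G) * h)⁻¹ ∈ Subgroup.normalizer (Q₀ : Set G) := by
    refine inv_mem (Transfer.Fusion.map_conj_eq_self_iff.mp ?_)
    rw [Transfer.Fusion.map_conj_mul, ← hQ', hQ'Q]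
  refine ⟨_, hn, ?_⟩
  have hval : ∀ w : (S : Subgroup G), h * q * h⁻¹ = w →
      D.P k' * w * (D.P k')⁻¹ = w →
      ((D.P k' : G) * h)⁻¹ * w * (((D.P k' : G) * h)⁻¹)⁻¹ = q := by
    intro w hw hfw
    have hfw' : (D.P k' : G) * w * (D.P k' : G)⁻¹ = w := congrArg Subtype.val hfw
    nth_rw 1 [← hfw']
    rw [← hw]; group
  have hne : ∀ v, q ≠ (D.P v : G) := fun v hv => D.P_ne_q v i (Subtype.ext hv.symm)
  rcases ht with ht | ht
  · have h1 := hval _ (congrArg Subtype.val ht) (D.conj_P_P _ _)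
    rw [h1]
    exact ⟨hne _, by rw [← Subgroup.coe_inv, ← D.P_neg]; exact hne _⟩
  · have h1 := hval _ (congrArg Subtype.val ht) (D.conj_P_P _ _)
    rw [D.P_neg, Subgroup.coe_inv] at h1
    have h2 : ((D.P k' : G) * h)⁻¹ * D.P D.c * (((D.P k' : G) * h)⁻¹)⁻¹ = q⁻¹ := by
      rw [← h1]; group
    rw [h2]
    refine ⟨fun hv => hne (-D.c) ?_, fun hv => hne D.c (inv_injective hv)⟩
    rw [D.P_neg, Subgroup.coe_inv, ← hv, inv_inv]

/-! ### Fusion classes are contained in the maximal subgroups -/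

/-- The central involution is not conjugate to a noncentral one. -/
def TFix : Prop := ∀ i, Even i → ¬ IsConj (D.q i : G) (D.z : G)

/-- `P c` is not conjugate to an element outside the cyclic subgroup. -/
def QFix : Prop := ∀ i, ¬ Even i → ¬ IsConj (D.q i : G) (D.P D.c : G)

theorem orderOf_eq_of_conj {a b : (S : Subgroup G)} (h : IsConj (a : G) (b : G)) :
    orderOf a = orderOf b := by
  obtain ⟨g, hg⟩ := isConj_iff.1 h
  rw [← Subgroup.orderOf_coe a, ← Subgroup.orderOf_coe b, ← hg, ← MulAut.conj_apply,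
    ← MulEquiv.coe_toMonoidHom, orderOf_injective _ (MulAut.conj g).injective]

theorem eq_z_of_P {j : ZMod (2 ^ D.n)} (hj : orderOf (D.P j) = 2) : D.P j = D.z :=
  (D.eq_of_orderOf_two hj).elim id fun ⟨i, _, hi⟩ => absurd hi (D.P_ne_q j i)

theorem conj_c_of_P {j : ZMod (2 ^ D.n)} (hj : orderOf (D.P j) = 4) :
    IsConj (D.P j : G) (D.P D.c : G) := by
  rcases D.eq_of_orderOf_four hj with h | h | ⟨i, _, hi⟩
  · rw [h]
  · rw [h]; exact (isConj_P_neg_c D).symm
  · exact absurd hi (D.P_ne_q j i)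

theorem half_one_fus (hT : TFix D) {a b : (S : Subgroup G)}
    (hab : IsConj (a : G) (b : G)) (ha : a ∈ D.half 1) : b ∈ D.half 1 := by
  have ho := orderOf_eq_of_conj hab
  rcases D.forms b with ⟨j, rfl⟩ | ⟨j, rfl⟩
  · refine D.P_mem_half.2 (by_contra fun hj => ?_)
    rw [D.orderOf_P_odd hj] at ho
    obtain ⟨i, hi, rfl⟩ := D.odd_P_of_orderOf ho
    exact hi (D.P_mem_half.1 ha)
  · refine D.q_mem_half.2 ((even_or_even_sub_one j).resolve_left fun hj => ?_)
    rw [D.orderOf_q_even hj] at ho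
    rcases D.forms a with ⟨i, rfl⟩ | ⟨i, rfl⟩
    · rw [eq_z_of_P D ho] at hab
      exact hT j hj hab.symm
    · have hodd : ¬ Even i := fun h =>
        D.not_even_one (by simpa using h.sub (D.q_mem_half.1 ha))
      rw [D.orderOf_q_odd hodd] at ho; omega

theorem half_zero_fus (hQ : QFix D) {a b : (S : Subgroup G)}
    (hab : IsConj (a : G) (b : G)) (ha : a ∈ D.half 0) : b ∈ D.half 0 := by
  have ho := orderOf_eq_of_conj hab
  rcases D.forms b with ⟨j, rfl⟩ | ⟨j, rfl⟩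
  · refine D.P_mem_half.2 (by_contra fun hj => ?_)
    rw [D.orderOf_P_odd hj] at ho
    obtain ⟨i, hi, rfl⟩ := D.odd_P_of_orderOf ho
    exact hi (D.P_mem_half.1 ha)
  · refine D.q_mem_half.2 ?_
    rw [sub_zero]
    by_contra hj
    rw [D.orderOf_q_odd hj] at ho
    rcases D.forms a with ⟨i, rfl⟩ | ⟨i, rfl⟩
    · exact hQ j hj (hab.symm.trans (conj_c_of_P D ho))
    · have heven : Even i := by simpa using D.q_mem_half.1 ha
      rw [D.orderOf_q_even heven] at ho; omega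

theorem zpowers_fus (hT : TFix D) (hQ : QFix D) {a b : (S : Subgroup G)}
    (hab : IsConj (a : G) (b : G)) (ha : a ∈ Subgroup.zpowers D.x) :
    b ∈ Subgroup.zpowers D.x := by
  have ho := orderOf_eq_of_conj hab
  obtain ⟨i, rfl⟩ := D.exists_eq_P ha
  rcases D.forms b with ⟨j, rfl⟩ | ⟨j, rfl⟩
  · exact D.P_mem j
  exfalso
  by_cases hj : Even j
  · rw [D.orderOf_q_even hj] at ho
    rw [eq_z_of_P D ho] at hab
    exact hT j hj hab.symm
  · rw [D.orderOf_q_odd hj] at ho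
    exact hQ j hj (hab.symm.trans (conj_c_of_P D ho))

/-! ### Subgroups of index 2 -/

theorem mem_of_odd {H K : Subgroup G} (h2 : H.relIndex K = 2) {n : G} (hn : n ∈ K)
    (ho : Odd (orderOf n)) : n ∈ H := by
  obtain ⟨m, hm⟩ := ho
  have hsq : n * n ∈ H := Subgroup.mul_self_mem_of_index_two h2 (⟨n, hn⟩ : K)
  have : n = (n * n) ^ (m + 1) := by
    rw [← sq, ← pow_mul, show 2 * (m + 1) = (2 * m + 1) + 1 by ring, ← hm, pow_succ,
      pow_orderOf_eq_one, one_mul]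
  rw [this]; exact pow_mem hsq _

theorem relIndex_dvd_two {H K T : Subgroup G} (h2 : H.relIndex K = 2) (hTK : T ≤ K) :
    H.relIndex T ∣ 2 := by
  have : (H.subgroupOf K).Normal := Subgroup.normal_of_index_eq_two h2
  rw [← Subgroup.relIndex_subgroupOf hTK, ← h2]
  exact Subgroup.relIndex_dvd_index_of_normal _ _

theorem four_le {T : Subgroup G} (hT : IsKleinFour T) (hTS : T ≤ S) (hm : TMoves D T)
    {H K : Subgroup G} (hHK : H ≤ K) (h2 : H.relIndex K = 2) (hTK : T ≤ K)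
    (hodd : ∀ n : G, Odd (orderOf n) → n ∈ K) : T ≤ H := by
  obtain ⟨n, hn, ho, hf⟩ := four_odd_fpf D hT hTS hm
  have hnH := mem_of_odd h2 (hodd n ho) ho
  have hHn : (H.subgroupOf K).Normal := Subgroup.normal_of_index_eq_two h2
  have htop := eq_top_of_fpf hT.card_four (T.normalizerMonoidHom ⟨n, hn⟩)
    (fun v hv h => hf v v.2 (fun e => hv (Subtype.ext e)) (congrArg Subtype.val h))
    (H.subgroupOf T) (fun v hv => by
      show n * (v : G) * n⁻¹ ∈ H
      exact mul_mem (mul_mem hnH hv) (inv_mem hnH))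
    (by
      show H.relIndex T ∣ 2
      exact relIndex_dvd_two h2 hTK)
  intro t ht
  have : (⟨t, ht⟩ : T) ∈ H.subgroupOf T := htop.symm ▸ Subgroup.mem_top _
  exact this

theorem quaternion_le {Q : Subgroup G} (hQS : Q ≤ S) (e : Q ≃* QuaternionGroup 2)
    (hm : QMoves D Q) {H K : Subgroup G} (hHK : H ≤ K) (h2 : H.relIndex K = 2) (hQK : Q ≤ K)
    (hodd : ∀ n : G, Odd (orderOf n) → n ∈ K) : Q ≤ H := by
  obtain ⟨φ, hap, -, hV, hV3, hc⟩ := quaternion_perm D hQS e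
  obtain ⟨n, ho, hf⟩ := exists_odd_fpf φ hV3 (hc.resolve_left fun h => h.1 hm).2
  rw [← Subgroup.orderOf_coe] at ho
  have hnH := mem_of_odd h2 (hodd _ ho) ho
  have hidx : (H.subgroupOf Q).index ∣ 2 := by
    show H.relIndex Q ∣ 2
    exact relIndex_dvd_two h2 hQK
  have hzH : (D.z : G) ∈ H := by
    have hiQ := P_c_mem D hQS e
    have h1 : (D.P D.c : G) * D.P D.c ∈ H :=
      Subgroup.mul_self_mem_of_index_two h2 (⟨_, hQK hiQ⟩ : K)
    have h3 : D.P D.c * D.P D.c = D.z := by rw [← D.P_add, D.c_add_c]; rfl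
    rwa [← Subgroup.coe_mul, h3] at h1
  have hcen : Subgroup.center Q ≤ H.subgroupOf Q := fun t ht => by
    rw [Subgroup.mem_subgroupOf]
    rcases (center_quaternion D hQS e t).1 ht with h | h <;> rw [h]
    · exact one_mem H
    · exact hzH
  set M := (H.subgroupOf Q).map (QuotientGroup.mk' (Subgroup.center Q)) with hM
  have htop := eq_top_of_fpf hV (quotAut Q (Q.normalizerMonoidHom n))
    (fun v hv h => hf ⟨v, hv⟩ (Subtype.ext ((hap n ⟨v, hv⟩).trans h))) M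
    (by
      rintro _ ⟨t, ht, rfl⟩
      refine ⟨Q.normalizerMonoidHom n t, ?_, (quotAut_mk _ _).symm⟩
      show (n : G) * (t : G) * (n : G)⁻¹ ∈ H
      exact mul_mem (mul_mem hnH ht) (inv_mem hnH))
    ((Subgroup.index_map_dvd _ (QuotientGroup.mk'_surjective _)).trans hidx)
  intro t ht
  have h4 : (⟨t, ht⟩ : Q) ∈ M.comap (QuotientGroup.mk' (Subgroup.center Q)) := by
    rw [htop]; trivial
  rw [hM, Subgroup.comap_map_eq, QuotientGroup.ker_mk', sup_eq_left.2 hcen] at h4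
  exact h4

/-! ### The four cases -/

theorem isConj_inv_of_TMoves {T : Subgroup G} (hT : IsKleinFour T) (hTS : T ≤ S)
    (hm : TMoves D T) {t : G} (ht : orderOf t = 2) : IsConj t (D.z : G) := by
  obtain ⟨g, hg⟩ := exists_conj_mem D t ⟨1, ht⟩
  have ho : orderOf (⟨_, hg⟩ : (S : Subgroup G)) = 2 := by
    rw [Subgroup.orderOf_mk, ← MulAut.conj_apply, ← MulEquiv.coe_toMonoidHom,
      orderOf_injective _ (MulAut.conj g).injective, ht]
  refine (isConj_iff.2 ⟨g, rfl⟩ : IsConj t (g * t * g⁻¹)).trans ?_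
  rcases D.eq_of_orderOf_two ho with h | ⟨i, hi, h⟩ <;> rw [show g * t * g⁻¹ = _ from
    congrArg Subtype.val h]
  exact (isConj_z_of_TMoves D hT hTS hm hi).symm

theorem isConj_four_of_QMoves {Q : Subgroup G} (hQS : Q ≤ S) (e : Q ≃* QuaternionGroup 2)
    (hm : QMoves D Q) {t : G} (ht : orderOf t = 4) : IsConj t (D.P D.c : G) := by
  obtain ⟨g, hg⟩ := exists_conj_mem D t ⟨2, by rw [ht]; norm_num⟩
  have ho : orderOf (⟨_, hg⟩ : (S : Subgroup G)) = 4 := by
    rw [Subgroup.orderOf_mk, ← MulAut.conj_apply, ← MulEquiv.coe_toMonoidHom,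
      orderOf_injective _ (MulAut.conj g).injective, ht]
  refine (isConj_iff.2 ⟨g, rfl⟩ : IsConj t (g * t * g⁻¹)).trans ?_
  rcases D.eq_of_orderOf_four ho with h | h | ⟨i, hi, h⟩ <;> rw [show g * t * g⁻¹ = _ from
    congrArg Subtype.val h]
  · exact (isConj_P_neg_c D).symm
  · exact (isConj_c_of_QMoves D hQS e hm hi).symm

theorem inv_cases {t : G} (ht : orderOf t = 2) :
    IsConj t (D.z : G) ∨ IsConj t (D.q 0 : G) := by
  obtain ⟨g, hg⟩ := exists_conj_mem D t ⟨1, ht⟩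
  have ho : orderOf (⟨_, hg⟩ : (S : Subgroup G)) = 2 := by
    rw [Subgroup.orderOf_mk, ← MulAut.conj_apply, ← MulEquiv.coe_toMonoidHom,
      orderOf_injective _ (MulAut.conj g).injective, ht]
  have hc : ∀ v : (S : Subgroup G), (⟨_, hg⟩ : (S : Subgroup G)) = v → IsConj t (v : G) :=
    fun v hv => isConj_iff.2 ⟨g, congrArg Subtype.val hv⟩
  rcases D.eq_of_orderOf_two ho with h | ⟨i, hi, h⟩
  · exact Or.inl (hc _ h)
  · exact Or.inr ((hc _ h).trans (isConj_q_q D (by simpa using hi.neg)))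

theorem four_cases {t : G} (ht : orderOf t = 4) :
    IsConj t (D.P D.c : G) ∨ IsConj t (D.q 1 : G) := by
  obtain ⟨g, hg⟩ := exists_conj_mem D t ⟨2, by rw [ht]; norm_num⟩
  have ho : orderOf (⟨_, hg⟩ : (S : Subgroup G)) = 4 := by
    rw [Subgroup.orderOf_mk, ← MulAut.conj_apply, ← MulEquiv.coe_toMonoidHom,
      orderOf_injective _ (MulAut.conj g).injective, ht]
  have hc : ∀ v : (S : Subgroup G), (⟨_, hg⟩ : (S : Subgroup G)) = v → IsConj t (v : G) :=
    fun v hv => isConj_iff.2 ⟨g, congrArg Subtype.val hv⟩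
  rcases D.eq_of_orderOf_four ho with h | h | ⟨i, hi, h⟩
  · exact Or.inl (hc _ h)
  · exact Or.inl ((hc _ h).trans (isConj_P_neg_c D).symm)
  · exact Or.inr ((hc _ h).trans (isConj_q_q D (by
      simpa using ((even_or_even_sub_one i).resolve_left hi).neg)))

theorem orderOf_inv_reps :
    orderOf (D.z : G) = 2 ∧ orderOf (D.q 0 : G) = 2 ∧
      orderOf (D.P D.c : G) = 4 ∧ orderOf (D.q 1 : G) = 4 :=
  ⟨(Subgroup.orderOf_coe _).trans D.orderOf_z,
    (Subgroup.orderOf_coe _).trans (D.orderOf_q_even ⟨0, by simp⟩),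
    (Subgroup.orderOf_coe _).trans D.orderOf_P_c,
    (Subgroup.orderOf_coe _).trans (D.orderOf_q_odd D.not_even_one)⟩

theorem card_classes_one {m : ℕ} {a : G} (ha : orderOf a = m)
    (h : ∀ t : G, orderOf t = m → IsConj t a) :
    Nat.card {C : ConjClasses G // ∃ t : G, orderOf t = m ∧ ConjClasses.mk t = C} = 1 :=
  Nat.card_eq_one_iff_unique.2 ⟨⟨by
    rintro ⟨_, s, hs, rfl⟩ ⟨_, t, ht, rfl⟩
    exact Subtype.ext (ConjClasses.mk_eq_mk_iff_isConj.2 ((h s hs).trans (h t ht).symm))⟩,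
    ⟨⟨ConjClasses.mk a, a, ha, rfl⟩⟩⟩

theorem card_classes_two {m : ℕ} {a b : G} (ha : orderOf a = m) (hb : orderOf b = m)
    (hab : ¬ IsConj a b) (h : ∀ t : G, orderOf t = m → IsConj t a ∨ IsConj t b) :
    Nat.card {C : ConjClasses G // ∃ t : G, orderOf t = m ∧ ConjClasses.mk t = C} = 2 :=
  Nat.card_eq_two_iff.2 ⟨⟨_, a, ha, rfl⟩, ⟨_, b, hb, rfl⟩,
    fun e => hab (ConjClasses.mk_eq_mk_iff_isConj.1 (congrArg Subtype.val e)),
    Set.eq_univ_of_forall fun ⟨_, t, ht, ht'⟩ => by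
      rcases h t ht with e | e
      · exact Or.inl (Subtype.ext (ht'.symm.trans (ConjClasses.mk_eq_mk_iff_isConj.2 e)))
      · exact Or.inr (Subtype.ext (ht'.symm.trans (ConjClasses.mk_eq_mk_iff_isConj.2 e)))⟩

theorem TMoves_of_six {T : Subgroup G} (hT : IsKleinFour T) (hTS : T ≤ S)
    (h : (Subgroup.centralizer (T : Set G)).relIndex (Subgroup.normalizer (T : Set G)) = 6) :
    TMoves D T := by
  rcases four_relIndex D hT hTS with ⟨-, h'⟩ | ⟨hm, -⟩
  · omega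
  · exact hm

theorem TFix_of_two {T : Subgroup G} (hT : IsKleinFour T) (hTS : T ≤ S)
    (h : (Subgroup.centralizer (T : Set G)).relIndex (Subgroup.normalizer (T : Set G)) = 2) :
    TFix D := by
  rcases four_relIndex D hT hTS with ⟨hm, -⟩ | ⟨-, h'⟩
  · exact fun i hi hc => hm (TMoves_of_conj D hT hTS hi hc)
  · omega

theorem QMoves_of_six {Q : Subgroup G} (hQS : Q ≤ S) (e : Q ≃* QuaternionGroup 2)
    (h : (Q ⊔ Subgroup.centralizer (Q : Set G)).relIndex (Subgroup.normalizer (Q : Set G)) = 6) :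
    QMoves D Q := by
  rcases quaternion_relIndex D hQS e with ⟨-, h'⟩ | ⟨hm, -⟩
  · omega
  · exact hm

theorem QFix_of_two {Q : Subgroup G} (hQS : Q ≤ S) (e : Q ≃* QuaternionGroup 2)
    (h : (Q ⊔ Subgroup.centralizer (Q : Set G)).relIndex (Subgroup.normalizer (Q : Set G)) = 2) :
    QFix D := by
  rcases quaternion_relIndex D hQS e with ⟨hm, -⟩ | ⟨-, h'⟩
  · exact fun i hi hc => hm (QMoves_of_conj D hQS e hi hc)
  · omega

/-- All even `q i` lie in any index 2 subgroup of `K`, if `T` moves. -/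
theorem q_even_mem {T : Subgroup G} (hT : IsKleinFour T) (hTS : T ≤ S) (hm : TMoves D T)
    {H K : Subgroup G} (hHK : H ≤ K) (h2 : H.relIndex K = 2)
    (hodd : ∀ n : G, Odd (orderOf n) → n ∈ K)
    (hK : ∀ j : ZMod (2 ^ D.n), Even j → (D.q j : G) ∈ K)
    {i : ZMod (2 ^ D.n)} (hi : Even i) : (D.q i : G) ∈ H := by
  obtain ⟨i₀, hi₀, hf⟩ := four_forms' D hT hTS
  obtain ⟨k, hk⟩ := D.isConj_q (hi.sub hi₀)
  set T' := T.map (MulAut.conj (D.P k : G)).toMonoidHom with hT'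
  have hT'S : T' ≤ S := by
    rintro _ ⟨t, ht, rfl⟩
    exact mul_mem (mul_mem (D.P k).2 (hTS ht)) (inv_mem (D.P k).2)
  have hT'4 : IsKleinFour T' := isKleinFour_map hT _ (MulAut.conj _).injective
  have hm' : TMoves D T' := TMoves_of_conj D hT'4 hT'S hi₀ (isConj_z_of_TMoves D hT hTS hm hi₀).symm
  have hqT' : (D.q i : G) ∈ T' := ⟨D.q i₀, (hf _).2 (Or.inr (Or.inr (Or.inl rfl))),
    by simpa using congrArg Subtype.val hk⟩
  obtain ⟨i₁, hi₁, hf'⟩ := four_forms' D hT'4 hT'S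
  refine four_le D hT'4 hT'S hm' hHK h2 ?_ hodd hqT'
  intro t ht
  rcases (hf' ⟨t, hT'S ht⟩).1 ht with e | e | e | e <;>
    rw [show t = _ from congrArg Subtype.val e]
  · exact one_mem K
  · have h1 : D.z = D.q 0 * D.q D.h := by
      rw [D.q_mul_q, D.r_mul_h, zero_add]; rfl
    rw [h1, Subgroup.coe_mul]
    exact mul_mem (hK 0 ⟨0, by simp⟩) (hK _ D.even_h)
  · exact hK _ hi₁
  · exact hK _ (hi₁.add D.even_h)

/-- All odd `q i` lie in any index 2 subgroup of `K`, if `Q` moves. -/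
theorem q_odd_mem {Q : Subgroup G} (hQS : Q ≤ S) (e : Q ≃* QuaternionGroup 2) (hm : QMoves D Q)
    {H K : Subgroup G} (hHK : H ≤ K) (h2 : H.relIndex K = 2)
    (hodd : ∀ n : G, Odd (orderOf n) → n ∈ K)
    (hK : ∀ s : (S : Subgroup G), s ∈ D.half 1 → (s : G) ∈ K)
    {i : ZMod (2 ^ D.n)} (hi : ¬ Even i) : (D.q i : G) ∈ H := by
  obtain ⟨Q', hQ'S, ⟨e'⟩, hq, hm', -⟩ := exists_quaternion_mem D hQS e hi
  refine quaternion_le D hQ'S e' (hm' hm) hHK h2 ?_ hodd hq
  intro t ht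
  obtain ⟨j, hj, hf⟩ := quaternion_forms' D hQ'S e'
  refine hK ⟨t, hQ'S ht⟩ ?_
  have hk4 : ∀ k : ZMod (2 ^ D.n), 4 * k = 0 → Even k := fun k hk => by
    rcases (four_mul_eq_zero_iff D.n2).1 hk with rfl | rfl | rfl | rfl
    · exact ⟨0, by simp⟩
    · exact D.even_c
    · exact D.even_h
    · exact D.even_c.neg
  obtain ⟨k, hk, h | h⟩ := (hf ⟨t, hQ'S ht⟩).1 ht <;> rw [h]
  · exact D.P_mem_half.2 (hk4 k hk)
  · rw [D.q_mem_half, add_sub_assoc]
    exact (hk4 k hk).add ((even_or_even_sub_one j).resolve_left hj)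

/-- The image in `G` of an index 2 subgroup of `S`, inside `K`. -/
theorem odd_relIndex {M : Subgroup (S : Subgroup G)} (hM : M.index = 2) {K : Subgroup G}
    (hK : K.index = 2) (hMK : ∀ s : (S : Subgroup G), s ∈ M → (s : G) ∈ K) :
    M.map (S : Subgroup G).subtype ≤ K ∧
      ¬ 2 ∣ (M.map (S : Subgroup G).subtype).relIndex K := by
  have hle : M.map (S : Subgroup G).subtype ≤ K := by
    rintro _ ⟨s, hs, rfl⟩; exact hMK s hs
  refine ⟨hle, ?_⟩
  have h1 := Subgroup.relIndex_mul_index hle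
  rw [hK, Subgroup.index_map_subtype, hM, mul_comm] at h1
  rw [Nat.eq_of_mul_eq_mul_left two_pos h1]
  exact S.not_dvd_index

theorem sylow_equiv {M : Subgroup (S : Subgroup G)} (hM : M.index = 2) {K : Subgroup G}
    (hK : K.index = 2) (hMK : ∀ s : (S : Subgroup G), s ∈ M → (s : G) ∈ K) (P : Sylow 2 K) :
    Nonempty ((P : Subgroup K) ≃* M) := by
  obtain ⟨hle, hodd⟩ := odd_relIndex hM hK hMK
  have hp : IsPGroup 2 ((M.map (S : Subgroup G).subtype).subgroupOf K) :=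
    ((S.2.to_subgroup M).map _).comap_subtype
  let P₀ : Sylow 2 K := hp.toSylow hodd
  exact ⟨(P.equiv P₀).trans ((Subgroup.subgroupOfEquivOfLe hle).trans
    (M.equivMapOfInjective _ (Subgroup.subtype_injective _)).symm)⟩

theorem no_index_two {M : Subgroup (S : Subgroup G)} (hM : M.index = 2) {K : Subgroup G}
    (hK : K.index = 2) (hMK : ∀ s : (S : Subgroup G), s ∈ M → (s : G) ∈ K)
    (hgen : ∀ H : Subgroup G, H ≤ K → H.relIndex K = 2 →
      ∀ s : (S : Subgroup G), s ∈ M → (s : G) ∈ H) (H : Subgroup K) : H.index ≠ 2 := by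
  intro h2
  obtain ⟨hle, hodd⟩ := odd_relIndex hM hK hMK
  have hrel : (H.map K.subtype).relIndex K = 2 := by
    rw [Subgroup.relIndex, Subgroup.subgroupOf,
      Subgroup.comap_map_eq_self_of_injective K.subtype_injective, h2]
  refine hodd (hrel.symm.dvd.trans (Subgroup.relIndex_dvd_of_le_left _ ?_))
  rintro _ ⟨s, hs, rfl⟩
  exact hgen _ (Subgroup.map_subtype_le H) hrel s hs

end Cfsg.Agent.Involutions.QuasiDihedralClasses
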