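import Mathlib
import Cfsg.Agent.Lib.Transfer.Fusion

/-!
# Normal subgroups cut out by fusion-invariant normal subgroups of a Sylow subgroup
-/

namespace Cfsg.Agent.Involutions.FusionTransfer

open scoped commutatorElement

variable {G : Type*} [Group G] [Finite G] {p : ℕ} [Fact p.Prime] (S : Sylow p G)

/-- If fusion respects the cosets of a normal subgroup `M` of a Sylow subgroup, `M` is cut out
by a normal subgroup of the same index. -/
theorem exists_normal (M : Subgroup (S : Subgroup G)) [M.Normal]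
    (hfus : ∀ a b : (S : Subgroup G), (∃ g : G, g * a * g⁻¹ = (b : G)) → a * b⁻¹ ∈ M) :
    ∃ K : Subgroup G, K.Normal ∧ K.index = M.index ∧
      ∀ s : (S : Subgroup G), ((s : G) ∈ K ↔ s ∈ M) := by
  obtain ⟨N, hN, hNS, hsup⟩ := Transfer.Fusion.exists_normal_inf_eq_focal S
  set M' := M.map (S : Subgroup G).subtype
  have hfoc : commutator G ⊓ (S : Subgroup G) ≤ M' := by
    refine Transfer.Fusion.focal_le_of_fusion S fun x hx g hg => ⟨g, rfl, ?_⟩
    exact ⟨_, hfus ⟨x, hx⟩ ⟨g * x * g⁻¹, hg⟩ ⟨g, rfl⟩, by simp [commutatorElement_def, mul_assoc]⟩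
  have hmem : ∀ s : (S : Subgroup G), ((s : G) ∈ N ⊔ M' ↔ s ∈ M) := by
    intro s
    refine ⟨fun hs => ?_, fun hs => Subgroup.mem_sup_right ⟨s, hs, rfl⟩⟩
    obtain ⟨n, hn, _, ⟨f, hf, rfl⟩, he⟩ := Subgroup.mem_sup_of_normal_left.1 hs
    have hnS : n ∈ (S : Subgroup G) := by
      rw [eq_mul_inv_of_mul_eq he]; exact mul_mem s.2 (inv_mem f.2)
    obtain ⟨m, hm, hmn⟩ := hfoc (hNS.le ⟨hn, hnS⟩)
    have hsm : s = m * f := Subtype.ext (by rw [Subgroup.coe_mul, ← he, ← hmn]; rfl)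
    rw [hsm]; exact mul_mem hm hf
  have hnorm : (N ⊔ M').Normal := by
    rw [← Subgroup.normalizer_eq_top_iff, eq_top_iff, ← hsup]
    refine sup_le ?_ fun s hs => Transfer.Fusion.map_conj_eq_self_iff.mp ?_
    · exact le_sup_left.trans Subgroup.le_normalizer
    · rw [Subgroup.map_sup, Transfer.Fusion.map_conj_eq_self_iff.mpr (by
        rw [Subgroup.normalizer_eq_top]; trivial)]
      congr 1
      refine Subgroup.eq_of_le_of_card_ge ?_ (Transfer.Fusion.card_map_conj _ _).ge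
      rintro _ ⟨_, ⟨f, hf, rfl⟩, rfl⟩
      exact ⟨⟨s, hs⟩ * f * (⟨s, hs⟩ : (S : Subgroup G))⁻¹,
        Subgroup.Normal.conj_mem (inferInstance : M.Normal) f hf _, by simp⟩
  refine ⟨N ⊔ M', hnorm, ?_, hmem⟩
  have htop : (N ⊔ M') ⊔ (S : Subgroup G) = ⊤ :=
    eq_top_iff.2 (hsup.ge.trans (sup_le_sup_right le_sup_left _))
  rw [← Subgroup.relIndex_top_right, ← htop, sup_comm (N ⊔ M'), Subgroup.relIndex_sup_right,
    Subgroup.relIndex]
  congr 1
  ext s
  exact hmem s

/-- A subgroup `K` with `K ∩ S = M` and the index of `M`: the image of `M` is a Sylow subgroup. -/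
theorem not_dvd_relIndex {M : Subgroup (S : Subgroup G)} {K : Subgroup G}
    (hK : K.index = M.index) (hMK : ∀ s : (S : Subgroup G), s ∈ M → (s : G) ∈ K) :
    M.map (S : Subgroup G).subtype ≤ K ∧ ¬ p ∣ (M.map (S : Subgroup G).subtype).relIndex K := by
  have hle : M.map (S : Subgroup G).subtype ≤ K := by
    rintro _ ⟨s, hs, rfl⟩; exact hMK s hs
  refine ⟨hle, ?_⟩
  have h1 := Subgroup.relIndex_mul_index hle
  rw [hK, Subgroup.index_map_subtype, mul_comm] at h1
  rw [Nat.eq_of_mul_eq_mul_left (Nat.pos_of_ne_zero (Subgroup.index_ne_zero_of_finite)) h1]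
  exact S.not_dvd_index

theorem sylow_equiv {M : Subgroup (S : Subgroup G)} {K : Subgroup G}
    (hK : K.index = M.index) (hMK : ∀ s : (S : Subgroup G), s ∈ M → (s : G) ∈ K) (P : Sylow p K) :
    Nonempty ((P : Subgroup K) ≃* M) := by
  obtain ⟨hle, hodd⟩ := not_dvd_relIndex S hK hMK
  have hp : IsPGroup p ((M.map (S : Subgroup G).subtype).subgroupOf K) :=
    ((S.2.to_subgroup M).map _).comap_subtype
  let P₀ : Sylow p K := hp.toSylow hodd
  exact ⟨(P.equiv P₀).trans ((Subgroup.subgroupOfEquivOfLe hle).trans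
    (M.equivMapOfInjective _ (Subgroup.subtype_injective _)).symm)⟩

theorem no_index_prime {M : Subgroup (S : Subgroup G)} {K : Subgroup G}
    (hK : K.index = M.index) (hMK : ∀ s : (S : Subgroup G), s ∈ M → (s : G) ∈ K)
    (hgen : ∀ H : Subgroup G, H ≤ K → H.relIndex K = p →
      ∀ s : (S : Subgroup G), s ∈ M → (s : G) ∈ H) (H : Subgroup K) : H.index ≠ p := by
  intro h2
  obtain ⟨hle, hodd⟩ := not_dvd_relIndex S hK hMK
  have hrel : (H.map K.subtype).relIndex K = p := by
    rw [Subgroup.relIndex, Subgroup.subgroupOf,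
      Subgroup.comap_map_eq_self_of_injective K.subtype_injective, h2]
  refine hodd (hrel.symm.dvd.trans (Subgroup.relIndex_dvd_of_le_left _ ?_))
  rintro _ ⟨s, hs, rfl⟩
  exact hgen _ (Subgroup.map_subtype_le H) hrel s hs

theorem odd_mem {K : Subgroup G} [K.Normal] {k : ℕ} (hK : K.index = p ^ k) {g : G}
    (hg : (orderOf g).Coprime p) : g ∈ K :=
  Transfer.NormalPComplement.mem_of_pow_mem (n := p ^ k) (hg.pow_right k)
    (hK ▸ K.pow_index_mem g)

end Cfsg.Agent.Involutions.FusionTransfer
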