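import Mathlib
import Cfsg.Agent.Lib.Fusion.Alperin
import Cfsg.Agent.Lib.Fusion.Group

/-!
# Functions on a Sylow subgroup invariant under fusion, via Alperin's theorem
-/

namespace Cfsg.Agent.Involutions.FusionInvariant

open Cfsg Cfsg.FusionSystem Cfsg.Agent.Fusion.Basic

variable {G : Type*} [Group G] {p : ℕ}

/-- The maps of the fusion system of `G` on `S` which preserve `θ`. -/
def preserving (S : Subgroup G) {X : Type*} (θ : G → X)
    (hS : ∀ g ∈ S, ∀ x ∈ S, θ (g * x * g⁻¹) = θ x) : FusionSystem S where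
  Hom P := {φ | φ ∈ (groupFusionSystem S).Hom P ∧ ∀ x : P, θ (φ x) = θ x}
  le_of_mem h := (groupFusionSystem S).le_of_mem h.1
  injective_of_mem h := (groupFusionSystem S).injective_of_mem h.1
  conj_mem {P g} hP hg := ⟨(groupFusionSystem S).conj_mem hP hg, fun x => hS g hg x (hP x.2)⟩
  comp_mem := by
    rintro P Q φ ψ ⟨h1, h2⟩ ⟨h3, h4⟩ h
    refine ⟨(groupFusionSystem S).comp_mem h1 h3 h, fun x => ?_⟩
    exact (h4 (φ.codRestrict Q h x)).trans (h2 x)
  inv_mem := by
    rintro P φ ⟨h1, h2⟩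
    obtain ⟨ψ, hψ, hψφ⟩ := (groupFusionSystem S).inv_mem h1
    refine ⟨ψ, ⟨hψ, fun y => ?_⟩, hψφ⟩
    obtain ⟨_, x, rfl⟩ := y
    exact (congrArg θ (hψφ x)).trans (h2 x).symm

/-- A function on `G` which is preserved by the normalisers of `S` and of the self-centralising
subgroups of `S` with an automorphism of order prime to `p` is constant on fusion classes. -/
theorem fusion_invariant [Finite G] [Fact p.Prime] (S : Sylow p G) {X : Type*} (θ : G → X)
    (hθ : ∀ P : Subgroup G, P ≤ (S : Subgroup G) →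
      (∀ c ∈ (S : Subgroup G), c ∈ Subgroup.centralizer (P : Set G) → c ∈ P) →
      (P = (S : Subgroup G) ∨ ¬ IsPGroup p (MulAut P)) →
      ∀ n ∈ Subgroup.normalizer (P : Set G), ∀ x ∈ P, θ (n * x * n⁻¹) = θ x)
    {x : G} (hx : x ∈ (S : Subgroup G)) {g : G} (hg : g * x * g⁻¹ ∈ (S : Subgroup G)) :
    θ (g * x * g⁻¹) = θ x := by
  have hS : ∀ u ∈ (S : Subgroup G), ∀ v ∈ (S : Subgroup G), θ (u * v * u⁻¹) = θ v := fun u hu =>
    hθ S le_rfl (fun c hc _ => hc) (Or.inl rfl) u (Subgroup.le_normalizer hu)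
  set F := groupFusionSystem (S : Subgroup G)
  set E := preserving (S : Subgroup G) θ hS
  have hFE : F ≤ E := by
    refine Fusion.Alperin.alperin S.2 (Fusion.Group.group_saturated S) fun P hP α hα => ?_
    have hPS : P ≤ (S : Subgroup G) := by
      rcases hP with rfl | hP
      · exact le_rfl
      · exact (Fusion.Alperin.essential_centric hP).1
    have hmap := (mem_autGroup_iff hPS).1 hα
    rw [Fusion.Group.autGroup_group hPS, mem_autInducedBy_iff'] at hα
    obtain ⟨n, ⟨-, hn⟩, he⟩ := hα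
    have key : ∀ y ∈ P, θ (autFun α y) = θ y := by
      intro y hy
      rw [he y hy, cj_apply]
      rcases hP with rfl | hP
      · exact hθ _ le_rfl (fun c hc _ => hc) (Or.inl rfl) n hn y hy
      · refine hθ P hPS (fun c hc hc' => ?_) (Or.inr fun hp => ?_) n hn y hy
        · exact (Fusion.Alperin.essential_centric hP).2 P (isConj_refl hPS) ⟨hc, hc'⟩
        · exact Fusion.Alperin.not_isPGroup_of_essential hP (hp.to_subgroup _)
    rw [mem_autGroup_iff hPS]
    obtain ⟨φ, hφ, hφe⟩ := hmap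
    exact ⟨φ, ⟨hφ, fun y => by rw [hφe]; exact key y y.2⟩, hφe⟩
  have hz : Subgroup.zpowers x ≤ (S : Subgroup G) := Subgroup.zpowers_le.2 hx
  have hmem : conjHom (Subgroup.zpowers x) g ∈ F.Hom (Subgroup.zpowers x) := by
    refine ⟨hz, fun y => ?_, g, fun _ => rfl⟩
    obtain ⟨k, hk⟩ := Subgroup.mem_zpowers_iff.1 y.2
    show g * (y : G) * g⁻¹ ∈ (S : Subgroup G)
    rw [← hk, ← conj_zpow]
    exact zpow_mem hg k
  exact (hFE _ hmem).2 ⟨x, Subgroup.mem_zpowers x⟩

end Cfsg.Agent.Involutions.FusionInvariant
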