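import Mathlib
import Cfsg.Prelude.Def_CaseTheorems
import Cfsg.Agent.Lib.Classical.CyclicExt
import Cfsg.Agent.Lib.Involutions.QuasiDihedral

/-!
# Wreathed 2-groups: normal form

Elements are `U i j` or `w i j = U i j * z`, with `i j : ZMod (2 ^ n)`.
-/

namespace Cfsg.Agent.Involutions.Wreathed

open Cfsg.Agent.Classical.CyclicExt

/-- Generators of a wreathed group. -/
structure Gens (S : Type*) [Group S] where
  n : ℕ
  hn : 2 ≤ n
  hcard : Nat.card S = 2 ^ (2 * n + 1)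
  x : S
  y : S
  z : S
  hx : orderOf x = 2 ^ n
  hxy : x * y = y * x
  hdis : Subgroup.zpowers x ⊓ Subgroup.zpowers y = ⊥
  hz : orderOf z = 2
  hzx : z * x * z⁻¹ = y

variable {S : Type*} [Group S]

theorem exists_gens (hS : Cfsg.IsWreathed S) : Nonempty (Gens S) := by
  obtain ⟨n, hn, hc, x, y, z, h1, h2, h3, h4, h5⟩ := hS
  exact ⟨⟨n, hn, hc, x, y, z, h1, h2, h3, h4, h5⟩⟩

namespace Gens

variable (D : Gens S)

/-- Half of the modulus. -/
def h : ZMod (2 ^ D.n) := 2 ^ (D.n - 1)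

/-- A quarter of the modulus. -/
def c : ZMod (2 ^ D.n) := 2 ^ (D.n - 2)

theorem n1 : 1 ≤ D.n := le_trans one_le_two D.hn

theorem h_add_h : D.h + D.h = 0 := QuasiDihedral.half_add_half D.n1

theorem h_ne_zero : D.h ≠ 0 := QuasiDihedral.half_ne_zero D.n1

theorem neg_h : -D.h = D.h := neg_eq_of_add_eq_zero_left D.h_add_h

theorem c_add_c : D.c + D.c = D.h := QuasiDihedral.quarter_add_quarter D.hn

theorem c_ne_zero : D.c ≠ 0 := fun e => D.h_ne_zero (by rw [← D.c_add_c, e, add_zero])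

theorem c_ne_h : D.c ≠ D.h := fun e => D.h_ne_zero (by rw [← D.c_add_c, e, D.h_add_h])

theorem add_self {i : ZMod (2 ^ D.n)} : i + i = 0 ↔ i = 0 ∨ i = D.h :=
  QuasiDihedral.add_self_eq_zero_iff D.n1

theorem even_h : Even D.h := ⟨D.c, D.c_add_c.symm⟩

theorem zero_or_h_add {a b : ZMod (2 ^ D.n)} (ha : a = 0 ∨ a = D.h) (hb : b = 0 ∨ b = D.h) :
    a + b = 0 ∨ a + b = D.h := by
  rcases ha with rfl | rfl <;> rcases hb with rfl | rfl <;> simp [h_add_h]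

theorem finite (D : Gens S) : Finite S :=
  Nat.finite_of_card_ne_zero (by rw [D.hcard]; positivity)

theorem isPGroup (D : Gens S) : IsPGroup 2 S := IsPGroup.of_card D.hcard

theorem orderOf_y : orderOf D.y = 2 ^ D.n := by
  rw [← D.hzx, ← MulAut.conj_apply, ← MulEquiv.coe_toMonoidHom,
    orderOf_injective _ (MulAut.conj D.z).injective, D.hx]

theorem z_mul_z : D.z * D.z = 1 := by rw [← sq, ← D.hz, pow_orderOf_eq_one]

theorem z_inv : D.z⁻¹ = D.z := inv_eq_of_mul_eq_one_left D.z_mul_z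

theorem zyz : D.z * D.y * D.z⁻¹ = D.x := by
  rw [← D.hzx, z_inv, show D.z * (D.z * D.x * D.z) * D.z = (D.z * D.z) * D.x * (D.z * D.z) by group,
    z_mul_z, one_mul, mul_one]

theorem x_pow : D.x ^ 2 ^ D.n = 1 := D.hx ▸ pow_orderOf_eq_one D.x

theorem y_pow : D.y ^ 2 ^ D.n = 1 := D.orderOf_y ▸ pow_orderOf_eq_one D.y

/-- The element `x ^ i * y ^ j`. -/
def U (i j : ZMod (2 ^ D.n)) : S := pw D.x D.x_pow i * pw D.y D.y_pow j

/-- The element outside the abelian subgroup. -/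
def w (i j : ZMod (2 ^ D.n)) : S := D.U i j * D.z

theorem pw_comm (i j : ZMod (2 ^ D.n)) :
    Commute (pw D.x D.x_pow i) (pw D.y D.y_pow j) := by
  obtain ⟨a, rfl⟩ := ZMod.intCast_surjective i
  obtain ⟨b, rfl⟩ := ZMod.intCast_surjective j
  rw [pw_intCast, pw_intCast]
  exact (show Commute D.x D.y from D.hxy).zpow_zpow a b

theorem U_mul_U (i j k l : ZMod (2 ^ D.n)) : D.U i j * D.U k l = D.U (i + k) (j + l) := by
  simp only [U, pw_add]
  exact (D.pw_comm k j).symm.mul_mul_mul_comm _ _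

theorem U_zero : D.U 0 0 = 1 := by simp [U, pw_zero]

theorem U_inj {i j k l : ZMod (2 ^ D.n)} : D.U i j = D.U k l ↔ i = k ∧ j = l := by
  refine ⟨fun e => ?_, fun ⟨a, b⟩ => by rw [a, b]⟩
  have h1 : pw D.x D.x_pow (i - k) = pw D.y D.y_pow (l - j) := by
    have h2 := congrArg (fun v => D.U (-k) 0 * v * D.U 0 (-j)) e
    simp only [U_mul_U, add_zero, zero_add, add_neg_cancel, neg_add_cancel] at h2
    simpa [U, pw_zero, sub_eq_add_neg, add_comm] using h2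
  have h3 : pw D.x D.x_pow (i - k) ∈ Subgroup.zpowers D.x ⊓ Subgroup.zpowers D.y :=
    ⟨pw_mem _ _ _, h1 ▸ pw_mem _ _ _⟩
  rw [D.hdis, Subgroup.mem_bot] at h3
  have hi : i - k = 0 := pw_injective _ _ D.hx (h3.trans (pw_zero _ _).symm)
  have hj : l - j = 0 := pw_injective _ _ D.orderOf_y ((h1.symm.trans h3).trans (pw_zero _ _).symm)
  exact ⟨sub_eq_zero.1 hi, (sub_eq_zero.1 hj).symm⟩

theorem U_eq_one {i j : ZMod (2 ^ D.n)} : D.U i j = 1 ↔ i = 0 ∧ j = 0 := by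
  rw [← D.U_zero, U_inj]

theorem U_inv (i j : ZMod (2 ^ D.n)) : (D.U i j)⁻¹ = D.U (-i) (-j) :=
  inv_eq_of_mul_eq_one_right (by rw [U_mul_U, add_neg_cancel, add_neg_cancel, U_zero])

theorem U_comm (i j k l : ZMod (2 ^ D.n)) : D.U i j * D.U k l = D.U k l * D.U i j := by
  rw [U_mul_U, U_mul_U, add_comm i k, add_comm j l]

theorem U_pow (i j : ZMod (2 ^ D.n)) : ∀ k : ℕ, D.U i j ^ k = D.U (k * i) (k * j)
  | 0 => by simp [U_zero]
  | k + 1 => by rw [pow_succ, U_pow i j k, U_mul_U]; push_cast; ring_nf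

theorem U_zpow (i j : ZMod (2 ^ D.n)) (k : ℤ) : D.U i j ^ k = D.U (k * i) (k * j) := by
  rcases k.eq_nat_or_neg with ⟨m, rfl | rfl⟩
  · simp [U_pow]
  · simp [U_pow, U_inv]

theorem z_mul_U (i j : ZMod (2 ^ D.n)) : D.z * D.U i j = D.U j i * D.z := by
  obtain ⟨a, rfl⟩ := ZMod.intCast_surjective i
  obtain ⟨b, rfl⟩ := ZMod.intCast_surjective j
  simp only [U, pw_intCast]
  have h1 : D.z * D.x ^ a * D.z⁻¹ = D.y ^ a := by rw [← conj_zpow, D.hzx]
  have h2 : D.z * D.y ^ b * D.z⁻¹ = D.x ^ b := by rw [← conj_zpow, D.zyz]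
  have h3 : Commute (D.x ^ b) (D.y ^ a) := (show Commute D.x D.y from D.hxy).zpow_zpow b a
  rw [h3.eq, ← h1, ← h2]; group

theorem z_notMem (i j : ZMod (2 ^ D.n)) : D.z ≠ D.U i j := fun e => by
  have h1 := D.z_mul_U 1 0
  rw [e, U_comm] at h1
  have h2 := (D.U_inj).1 (mul_right_cancel h1)
  have h3 : (1 : ZMod (2 ^ D.n)) = 0 := h2.1
  exact D.h_ne_zero (by rw [← mul_one D.h, h3, mul_zero])

theorem U_ne_w (i j k l : ZMod (2 ^ D.n)) : D.U i j ≠ D.w k l := fun e =>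
  D.z_notMem (-k + i) (-l + j) (by rw [← U_mul_U, e, w, ← U_inv, inv_mul_cancel_left])

theorem w_inj {i j k l : ZMod (2 ^ D.n)} : D.w i j = D.w k l ↔ i = k ∧ j = l := by
  rw [w, w, mul_left_inj, U_inj]

theorem U_mul_w (i j k l : ZMod (2 ^ D.n)) : D.U i j * D.w k l = D.w (i + k) (j + l) := by
  rw [w, w, ← mul_assoc, U_mul_U]

theorem w_mul_U (i j k l : ZMod (2 ^ D.n)) : D.w i j * D.U k l = D.w (i + l) (j + k) := by
  rw [w, w, mul_assoc, z_mul_U, ← mul_assoc, U_mul_U]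

theorem w_mul_w (i j k l : ZMod (2 ^ D.n)) : D.w i j * D.w k l = D.U (i + l) (j + k) := by
  conv_lhs => arg 2; rw [w]
  rw [← mul_assoc, w_mul_U, w, mul_assoc, z_mul_z, mul_one]

theorem w_zero : D.w 0 0 = D.z := by rw [w, U_zero, one_mul]

theorem w_inv (i j : ZMod (2 ^ D.n)) : (D.w i j)⁻¹ = D.w (-j) (-i) :=
  inv_eq_of_mul_eq_one_right (by rw [w_mul_w, add_neg_cancel, add_neg_cancel, U_zero])

theorem w_sq (i j : ZMod (2 ^ D.n)) : D.w i j * D.w i j = D.U (i + j) (i + j) := by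
  rw [w_mul_w, add_comm j i]

theorem conj_w_U (i j k l : ZMod (2 ^ D.n)) :
    D.w i j * D.U k l * (D.w i j)⁻¹ = D.U l k := by
  rw [w_mul_U, w_inv, w_mul_w, U_inj]; constructor <;> ring

theorem conj_U_w (a b i j : ZMod (2 ^ D.n)) :
    D.U a b * D.w i j * (D.U a b)⁻¹ = D.w (i + a - b) (j + b - a) := by
  rw [U_mul_w, U_inv, w_mul_U, w_inj]; constructor <;> ring

theorem conj_w_w (a b i j : ZMod (2 ^ D.n)) :
    D.w a b * D.w i j * (D.w a b)⁻¹ = D.w (j + a - b) (i + b - a) := by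
  rw [w_mul_w, w_inv, U_mul_w, w_inj]; constructor <;> ring

theorem conj_U_U (a b i j : ZMod (2 ^ D.n)) : D.U a b * D.U i j * (D.U a b)⁻¹ = D.U i j := by
  rw [U_comm, mul_inv_cancel_right]

theorem commute_U_w {k l i j : ZMod (2 ^ D.n)} : Commute (D.U k l) (D.w i j) ↔ k = l := by
  rw [Commute, SemiconjBy, U_mul_w, w_mul_U, w_inj]
  constructor
  · rintro ⟨e, -⟩; linear_combination e
  · rintro rfl; exact ⟨add_comm _ _, add_comm _ _⟩

/-- The abelian subgroup of index 2. -/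
def base : Subgroup S where
  carrier := {s | ∃ i j, s = D.U i j}
  one_mem' := ⟨0, 0, D.U_zero.symm⟩
  mul_mem' := by rintro _ _ ⟨i, j, rfl⟩ ⟨k, l, rfl⟩; exact ⟨_, _, D.U_mul_U i j k l⟩
  inv_mem' := by rintro _ ⟨i, j, rfl⟩; exact ⟨_, _, D.U_inv i j⟩

theorem U_mem_base (i j : ZMod (2 ^ D.n)) : D.U i j ∈ D.base := ⟨i, j, rfl⟩

theorem w_notMem_base (i j : ZMod (2 ^ D.n)) : D.w i j ∉ D.base := fun ⟨k, l, e⟩ =>
  D.U_ne_w k l i j e.symm

/-- The identification of the base with `ZMod m × ZMod m`. -/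
noncomputable def baseEquiv : Multiplicative (ZMod (2 ^ D.n) × ZMod (2 ^ D.n)) ≃* D.base :=
  MulEquiv.ofBijective
    (MonoidHom.mk' (fun v : Multiplicative (ZMod (2 ^ D.n) × ZMod (2 ^ D.n)) =>
        (⟨D.U v.toAdd.1 v.toAdd.2, D.U_mem_base v.toAdd.1 v.toAdd.2⟩ : D.base))
      fun a b => Subtype.ext (D.U_mul_U _ _ _ _).symm)
    ⟨fun a b e => by
      have := (D.U_inj).1 (congrArg Subtype.val e)
      exact Multiplicative.toAdd.injective (Prod.ext this.1 this.2),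
    fun ⟨_, i, j, rfl⟩ => ⟨Multiplicative.ofAdd (i, j), rfl⟩⟩

theorem card_base : Nat.card D.base = 2 ^ (2 * D.n) := by
  rw [← Nat.card_congr D.baseEquiv.toEquiv, Nat.card_congr Multiplicative.toAdd, Nat.card_prod,
    Nat.card_zmod, ← pow_add, two_mul]

theorem index_base : D.base.index = 2 := by
  have := D.base.card_mul_index
  rw [card_base, D.hcard, pow_succ] at this
  exact Nat.eq_of_mul_eq_mul_left (by positivity) this

theorem forms (s : S) : (∃ i j, s = D.U i j) ∨ ∃ i j, s = D.w i j := by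
  by_cases hs : s ∈ D.base
  · exact Or.inl hs
  · refine Or.inr ?_
    obtain ⟨i, j, hij⟩ : s * D.z ∈ D.base :=
      (Subgroup.mul_mem_iff_of_index_two D.index_base).2 ⟨fun h' => absurd h' hs,
        fun ⟨i, j, e⟩ => absurd e (D.z_notMem i j)⟩
    exact ⟨i, j, by rw [w, ← hij, mul_assoc, z_mul_z, mul_one]⟩

theorem U_diag_central (i : ZMod (2 ^ D.n)) (s : S) : Commute (D.U i i) s := by
  rcases D.forms s with ⟨k, l, rfl⟩ | ⟨k, l, rfl⟩
  · exact D.U_comm _ _ _ _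
  · exact D.commute_U_w.2 rfl

theorem eq_central {s : S} (hs : ∀ a, Commute s a) : ∃ i, s = D.U i i := by
  rcases D.forms s with ⟨k, l, rfl⟩ | ⟨k, l, rfl⟩
  · exact ⟨k, by rw [D.commute_U_w.1 (hs (D.w 0 0))]⟩
  · refine absurd (D.commute_U_w.1 (hs (D.U 1 0)).symm) fun e => ?_
    exact D.h_ne_zero (by rw [← mul_one D.h, e, mul_zero])

theorem mul_self_eq_one {s : S} (hs : s * s = 1) :
    (∃ i j, (i = 0 ∨ i = D.h) ∧ (j = 0 ∨ j = D.h) ∧ s = D.U i j) ∨ ∃ i, s = D.w i (-i) := by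
  rcases D.forms s with ⟨i, j, rfl⟩ | ⟨i, j, rfl⟩
  · rw [U_mul_U, U_eq_one] at hs
    exact Or.inl ⟨i, j, D.add_self.1 hs.1, D.add_self.1 hs.2, rfl⟩
  · rw [w_sq, U_eq_one] at hs
    exact Or.inr ⟨i, by rw [w_inj]; exact ⟨rfl, eq_neg_of_add_eq_zero_right hs.1⟩⟩

theorem orderOf_U_two {i j : ZMod (2 ^ D.n)} (h2 : i + i = 0 ∧ j + j = 0)
    (hne : ¬ (i = 0 ∧ j = 0)) : orderOf (D.U i j) = 2 :=
  orderOf_eq_prime (by rw [sq, U_mul_U, U_eq_one]; exact h2) (fun e => hne (D.U_eq_one.1 e))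

theorem orderOf_w_neg (i : ZMod (2 ^ D.n)) : orderOf (D.w i (-i)) = 2 :=
  orderOf_eq_prime (by rw [sq, w_sq, U_eq_one]; exact ⟨add_neg_cancel i, add_neg_cancel i⟩)
    (fun e => D.w_notMem_base i (-i) (e ▸ one_mem _))

theorem conj_to_w_zero (i j : ZMod (2 ^ D.n)) (e : i + j = 0) :
    D.U i 0 * D.w 0 0 * (D.U i 0)⁻¹ = D.w i j := by
  rw [conj_U_w, w_inj]
  exact ⟨by ring, by linear_combination -e⟩

end Gens

end Cfsg.Agent.Involutions.Wreathed
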