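import Mathlib
import Cfsg.Agent.Lib.Involutions.Wreathed

/-!
# Subgroups of wreathed 2-groups
-/

namespace Cfsg.Agent.Involutions.Wreathed.Gens

open Cfsg.Agent.Classical.CyclicExt
open scoped commutatorElement

variable {S : Type*} [Group S] (D : Gens S)

/-- The subgroup of the `U i (-i)`. -/
def anti : Subgroup S where
  carrier := {s | ∃ i, s = D.U i (-i)}
  one_mem' := ⟨0, by rw [neg_zero, U_zero]⟩
  mul_mem' := by
    rintro _ _ ⟨i, rfl⟩ ⟨j, rfl⟩
    exact ⟨i + j, by rw [U_mul_U, neg_add]⟩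
  inv_mem' := by rintro _ ⟨i, rfl⟩; exact ⟨-i, D.U_inv _ _⟩

theorem anti_eq_zpowers : D.anti = Subgroup.zpowers (D.U 1 (-1)) := by
  apply le_antisymm
  · rintro _ ⟨i, rfl⟩
    obtain ⟨a, rfl⟩ := ZMod.intCast_surjective i
    exact ⟨a, by simp [U_zpow]⟩
  · exact Subgroup.zpowers_le.2 ⟨1, rfl⟩

theorem center_eq : Subgroup.center S = Subgroup.zpowers (D.U 1 1) := by
  apply le_antisymm
  · intro s hs
    obtain ⟨i, rfl⟩ := D.eq_central fun a => ((Subgroup.mem_center_iff.1 hs) a).symm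
    obtain ⟨a, rfl⟩ := ZMod.intCast_surjective i
    exact ⟨a, by simp [U_zpow]⟩
  · exact Subgroup.zpowers_le.2 (Subgroup.mem_center_iff.2 fun a => (D.U_diag_central 1 a).symm.eq)

theorem mem_center {s : S} : s ∈ Subgroup.center S ↔ ∃ i, s = D.U i i :=
  ⟨fun hs => D.eq_central fun a => ((Subgroup.mem_center_iff.1 hs) a).symm, by
    rintro ⟨i, rfl⟩; exact Subgroup.mem_center_iff.2 fun a => (D.U_diag_central i a).symm.eq⟩

theorem orderOf_U_one {j : ZMod (2 ^ D.n)} : orderOf (D.U 1 j) = 2 ^ D.n := by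
  refine (orderOf_eq_iff (Nat.two_pow_pos _)).2 ⟨?_, fun k hk hk0 e => ?_⟩
  · rw [U_pow, U_eq_one]; push_cast; rw [QuasiDihedral.two_pow_self]; simp
  · rw [U_pow, U_eq_one, mul_one, ZMod.natCast_eq_zero_iff] at e
    exact absurd (Nat.le_of_dvd hk0 e.1) (not_le.2 hk)

theorem card_center (D : Gens S) : Nat.card (Subgroup.center S) = 2 ^ D.n := by
  rw [D.center_eq, Nat.card_zpowers, D.orderOf_U_one]

theorem commutator_mem_anti (a b : S) : ⁅a, b⁆ ∈ D.anti := by
  rw [commutatorElement_def]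
  rcases D.forms a with ⟨i, j, rfl⟩ | ⟨i, j, rfl⟩ <;>
    rcases D.forms b with ⟨k, l, rfl⟩ | ⟨k, l, rfl⟩
  · rw [conj_U_U, mul_inv_cancel]; exact one_mem _
  · rw [conj_U_w, w_inv, w_mul_w]; exact ⟨i - j, by rw [U_inj]; constructor <;> ring⟩
  · rw [conj_w_U, U_inv, U_mul_U]; exact ⟨l - k, by rw [U_inj]; constructor <;> ring⟩
  · rw [conj_w_w, w_inv, w_mul_w]; exact ⟨i - j + l - k, by rw [U_inj]; constructor <;> ring⟩

theorem commutator_eq : commutator S = D.anti := by
  apply le_antisymm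
  · rw [commutator_def, Subgroup.commutator_le]
    exact fun a _ b _ => D.commutator_mem_anti a b
  · rw [anti_eq_zpowers, Subgroup.zpowers_le]
    have : D.U 1 (-1) = ⁅D.U 1 0, D.w 0 0⁆ := by
      rw [commutatorElement_def, conj_U_w, w_inv, w_mul_w, U_inj]; constructor <;> ring
    rw [this, commutator_def]
    exact Subgroup.commutator_mem_commutator (Subgroup.mem_top _) (Subgroup.mem_top _)

theorem isCyclic_commutator (D : Gens S) : IsCyclic (commutator S) := by
  rw [D.commutator_eq, D.anti_eq_zpowers]; infer_instance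

theorem isCyclic_center (D : Gens S) : IsCyclic (Subgroup.center S) := by
  rw [D.center_eq]; infer_instance

theorem card_commutator (D : Gens S) : Nat.card (commutator S) = 2 ^ D.n := by
  rw [D.commutator_eq, D.anti_eq_zpowers, Nat.card_zpowers, D.orderOf_U_one]

theorem quotient_center_equiv (D : Gens S) :
    Nonempty (S ⧸ Subgroup.center S ≃* DihedralGroup (2 ^ D.n)) := by
  have := D.finite
  haveI : NeZero (2 ^ D.n) := ⟨by positivity⟩
  set φ := QuotientGroup.mk' (Subgroup.center S)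
  have hker : ∀ s, φ s = 1 ↔ ∃ i, s = D.U i i := fun s => by
    rw [QuotientGroup.mk'_apply, QuotientGroup.eq_one_iff, D.mem_center]
  obtain ⟨f, hf, -, -⟩ := exists_dihedral_hom (n := 2 ^ D.n) (φ (D.U 1 0)) (φ D.z)
    (by
      refine (orderOf_eq_iff (Nat.two_pow_pos _)).2 ⟨?_, fun k hk hk0 e => ?_⟩
      · have h1 : D.U 1 0 ^ 2 ^ D.n = 1 := (orderOf_eq_iff (Nat.two_pow_pos _)).1 D.orderOf_U_one |>.1
        rw [← map_pow, h1, map_one]
      · rw [← map_pow, hker] at e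
        obtain ⟨i, hi⟩ := e
        rw [U_pow, U_inj, mul_one, mul_zero] at hi
        rw [← hi.2, ZMod.natCast_eq_zero_iff] at hi
        exact absurd (Nat.le_of_dvd hk0 hi.1) (not_le.2 hk))
    (by rw [← map_mul, z_mul_z, map_one])
    (by
      rw [← map_inv, ← map_inv, ← map_mul, ← map_mul, ← mul_inv_eq_one, ← map_inv, ← map_mul, hker]
      refine ⟨1, ?_⟩
      rw [inv_inv, z_mul_U, mul_assoc _ D.z, mul_inv_cancel, mul_one, U_mul_U, U_inj]
      constructor <;> ring)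
    (by
      rintro ⟨k, hk⟩
      dsimp only at hk
      rw [← map_zpow, ← mul_inv_eq_one, ← map_inv, ← map_mul, hker] at hk
      obtain ⟨i, hi⟩ := hk
      rw [U_zpow] at hi
      refine D.z_notMem (-i + (k : ZMod (2 ^ D.n))) (-i) ?_
      have h1 : D.z = (D.U i i)⁻¹ * D.U ((k : ZMod (2 ^ D.n)) * 1) ((k : ZMod (2 ^ D.n)) * 0) := by
        rw [← hi]; group
      rw [h1, U_inv, U_mul_U, U_inj]; constructor <;> ring)
  refine ⟨(MulEquiv.ofBijective f ((Nat.bijective_iff_injective_and_card f).2 ⟨hf, ?_⟩)).symm⟩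
  have h1 := Subgroup.card_eq_card_quotient_mul_card_subgroup (Subgroup.center S)
  rw [D.hcard, D.card_center, two_mul, add_assoc, add_comm D.n (_ + 1), pow_add] at h1
  rw [DihedralGroup.nat_card, ← Nat.eq_of_mul_eq_mul_right (Nat.two_pow_pos _) h1, pow_succ']

/-! ### The abelian subgroup -/

theorem base_isMulCommutative : IsMulCommutative D.base :=
  ⟨⟨by
    rintro ⟨_, i, j, rfl⟩ ⟨_, k, l, rfl⟩
    exact Subtype.ext (D.U_comm i j k l)⟩⟩

theorem eq_base {V : Subgroup S} (hV : IsMulCommutative V) (hc : Nat.card V = 2 ^ (2 * D.n)) :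
    V = D.base := by
  have := D.finite
  by_contra hne
  have hnot : ¬ V ≤ D.base := fun hle =>
    hne (Subgroup.eq_of_le_of_card_ge hle (by rw [hc, D.card_base]))
  obtain ⟨v, hv, hvb⟩ := SetLike.not_le_iff_exists.1 hnot
  obtain ⟨i, j, rfl⟩ : ∃ i j, v = D.w i j :=
    (D.forms v).resolve_left hvb
  have hsub : V ⊓ D.base ≤ Subgroup.center S := by
    rintro s ⟨hs, k, l, rfl⟩
    have h1 : Commute (D.U k l) (D.w i j) :=
      congrArg Subtype.val (hV.is_comm.comm ⟨_, hs⟩ ⟨_, hv⟩)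
    exact D.mem_center.2 ⟨k, by rw [D.commute_U_w.1 h1]⟩
  have h1 : Nat.card (V ⊓ D.base : Subgroup S) ≤ 2 ^ D.n := by
    rw [← D.card_center]; exact Subgroup.card_le_of_le hsub
  have h2 : D.base.relIndex V ∣ 2 := by
    have := D.index_base
    have hn : D.base.Normal := Subgroup.normal_of_index_eq_two this
    rw [← this]
    exact Subgroup.relIndex_dvd_index_of_normal _ _
  have h3 := Subgroup.card_mul_index (D.base.subgroupOf V)
  rw [hc, ← Subgroup.card_map_of_injective V.subtype_injective,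
    Subgroup.subgroupOf_map_subtype, inf_comm] at h3
  have h4 : (2 : ℕ) ^ (2 * D.n) ≤ 2 ^ D.n * 2 := by
    rw [← h3]; exact Nat.mul_le_mul h1 (Nat.le_of_dvd two_pos h2)
  rw [← pow_succ] at h4
  have := (Nat.pow_le_pow_iff_right (by norm_num : 1 < 2)).1 h4
  have := D.hn
  omega

/-! ### Four-groups -/

/-- The four-group in the base. -/
def omega : Subgroup S where
  carrier := {s | ∃ i j, (i = 0 ∨ i = D.h) ∧ (j = 0 ∨ j = D.h) ∧ s = D.U i j}
  one_mem' := ⟨0, 0, Or.inl rfl, Or.inl rfl, D.U_zero.symm⟩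
  mul_mem' := by
    rintro _ _ ⟨i, j, hi, hj, rfl⟩ ⟨k, l, hk, hl, rfl⟩
    exact ⟨_, _, D.zero_or_h_add hi hk, D.zero_or_h_add hj hl, D.U_mul_U i j k l⟩
  inv_mem' := by
    rintro _ ⟨i, j, hi, hj, rfl⟩
    refine ⟨i, j, hi, hj, ?_⟩
    rw [U_inv, U_inj]
    constructor
    · rcases hi with rfl | rfl <;> simp [neg_h]
    · rcases hj with rfl | rfl <;> simp [neg_h]

theorem omega_normal : D.omega.Normal := ⟨fun s hs g => by
  obtain ⟨i, j, hi, hj, rfl⟩ := hs
  rcases D.forms g with ⟨k, l, rfl⟩ | ⟨k, l, rfl⟩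
  · exact ⟨i, j, hi, hj, D.conj_U_U _ _ _ _⟩
  · exact ⟨j, i, hj, hi, D.conj_w_U _ _ _ _⟩⟩

theorem card_omega : Nat.card D.omega = 4 := by
  let f : Bool × Bool → D.omega := fun b =>
    ⟨D.U (cond b.1 D.h 0) (cond b.2 D.h 0), _, _, by cases b.1 <;> simp, by cases b.2 <;> simp, rfl⟩
  have hf : Function.Bijective f := by
    refine ⟨fun a b e => ?_, fun ⟨_, i, j, hi, hj, rfl⟩ => ?_⟩
    · have h1 := (D.U_inj).1 (congrArg Subtype.val e)
      have hne := D.h_ne_zero
      obtain ⟨a1, a2⟩ := a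
      obtain ⟨b1, b2⟩ := b
      cases a1 <;> cases a2 <;> cases b1 <;> cases b2 <;>
        first
        | rfl
        | (simp only [cond_true, cond_false] at h1; exact absurd h1.1 hne)
        | (simp only [cond_true, cond_false] at h1; exact absurd h1.1.symm hne)
        | (simp only [cond_true, cond_false] at h1; exact absurd h1.2 hne)
        | (simp only [cond_true, cond_false] at h1; exact absurd h1.2.symm hne)
    · rcases hi with rfl | rfl <;> rcases hj with rfl | rfl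
      exacts [⟨(false, false), rfl⟩, ⟨(false, true), rfl⟩, ⟨(true, false), rfl⟩, ⟨(true, true), rfl⟩]
  rw [← Nat.card_eq_of_bijective f hf]
  simp

theorem omega_kleinFour : IsKleinFour D.omega where
  card_four := D.card_omega
  exponent_two := by
    have := D.finite
    refine Nat.dvd_antisymm (Monoid.exponent_dvd_of_forall_pow_eq_one fun a => ?_) ?_
    · obtain ⟨_, i, j, hi, hj, rfl⟩ := a
      refine Subtype.ext ?_
      rw [Subgroup.coe_pow, sq]
      show D.U i j * D.U i j = 1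
      rw [U_mul_U, U_eq_one]
      exact ⟨D.add_self.2 hi, D.add_self.2 hj⟩
    · have : Fact (Nat.Prime 2) := ⟨Nat.prime_two⟩
      obtain ⟨a, ha⟩ := exists_prime_orderOf_dvd_card' (G := D.omega) 2 (by rw [D.card_omega]; norm_num)
      exact ha ▸ Monoid.order_dvd_exponent a

theorem four_forms {T : Subgroup S} (hT : IsKleinFour T) (hne : T ≠ D.omega) :
    ∃ i, ∀ s, s ∈ T ↔
      s = 1 ∨ s = D.U D.h D.h ∨ s = D.w i (-i) ∨ s = D.w (i + D.h) (-i + D.h) := by
  have := D.finite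
  have hsq : ∀ s ∈ T, s * s = 1 := fun s hs =>
    congrArg Subtype.val (IsKleinFour.mul_self (G := T) ⟨s, hs⟩)
  obtain ⟨i, hi⟩ : ∃ i, D.w i (-i) ∈ T := by
    by_contra hno
    push Not at hno
    refine hne (Subgroup.eq_of_le_of_card_ge (fun s hs => ?_)
      (by rw [IsKleinFour.card_four (G := T), D.card_omega]))
    rcases D.mul_self_eq_one (hsq s hs) with h | ⟨j, rfl⟩
    · exact h
    · exact absurd hs (hno j)
  have hcomm : ∀ s ∈ T, Commute s (D.w i (-i)) := fun s hs =>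
    congrArg Subtype.val
      (mul_comm_of_exponent_two (IsKleinFour.exponent_two (G := T)) ⟨s, hs⟩ ⟨_, hi⟩)
  have hsub : ∀ s ∈ T,
      s = 1 ∨ s = D.U D.h D.h ∨ s = D.w i (-i) ∨ s = D.w (i + D.h) (-i + D.h) := by
    intro s hs
    rcases D.mul_self_eq_one (hsq s hs) with ⟨a, b, ha, -, rfl⟩ | ⟨j, rfl⟩
    · obtain rfl := D.commute_U_w.1 (hcomm _ hs)
      rcases ha with rfl | rfl
      · exact Or.inl D.U_zero
      · exact Or.inr (Or.inl rfl)
    · have h1 := (hcomm _ hs).eq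
      rw [w_mul_w, w_mul_w, U_inj] at h1
      have h2 : (j - i) + (j - i) = 0 := by linear_combination h1.1
      rcases D.add_self.1 h2 with h3 | h3
      · exact Or.inr (Or.inr (Or.inl (by rw [sub_eq_zero.1 h3])))
      · refine Or.inr (Or.inr (Or.inr ?_))
        rw [w_inj, sub_eq_iff_eq_add'.1 h3]
        exact ⟨rfl, by linear_combination -D.h_add_h⟩
  let F : Set S := {1, D.U D.h D.h, D.w i (-i), D.w (i + D.h) (-i + D.h)}
  have hF : (T : Set S) = F := by
    refine Set.eq_of_subset_of_ncard_le (fun s hs => hsub s hs) ?_ (Set.toFinite _)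
    have h0 : (T : Set S).ncard = 4 := by
      rw [← Nat.card_coe_set_eq]; exact IsKleinFour.card_four (G := T)
    rw [h0]
    refine (Set.ncard_insert_le _ _).trans ?_
    have h1 := Set.ncard_insert_le (D.U D.h D.h) {D.w i (-i), D.w (i + D.h) (-i + D.h)}
    have h2 := Set.ncard_insert_le (D.w i (-i)) {D.w (i + D.h) (-i + D.h)}
    rw [Set.ncard_singleton] at h2
    omega
  exact ⟨i, fun s => ⟨hsub s, fun h => show s ∈ (T : Set S) from hF ▸ h⟩⟩

theorem four_conj {T₁ T₂ : Subgroup S} (h₁ : IsKleinFour T₁) (h₂ : IsKleinFour T₂)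
    (n₁ : T₁ ≠ D.omega) (n₂ : T₂ ≠ D.omega) :
    ∃ s : S, T₁.map (MulAut.conj s).toMonoidHom = T₂ := by
  have := D.finite
  obtain ⟨i, hi⟩ := D.four_forms h₁ n₁
  obtain ⟨j, hj⟩ := D.four_forms h₂ n₂
  refine ⟨D.U (j - i) 0, Subgroup.eq_of_le_of_card_ge ?_ ?_⟩
  · rintro _ ⟨s, hs, rfl⟩
    simp only [MulEquiv.coe_toMonoidHom, MulAut.conj_apply]
    rw [hj]
    rcases (hi s).1 hs with rfl | rfl | rfl | rfl
    · simp
    · exact Or.inr (Or.inl (D.conj_U_U _ _ _ _))
    · refine Or.inr (Or.inr (Or.inl ?_))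
      rw [conj_U_w, w_inj]; constructor <;> ring
    · refine Or.inr (Or.inr (Or.inr ?_))
      rw [conj_U_w, w_inj]; constructor <;> ring
  · rw [Subgroup.card_map_of_injective (MulEquiv.injective _), h₁.card_four, h₂.card_four]

theorem exists_four_ne_omega (D : Gens S) :
    ∃ T : Subgroup S, IsKleinFour T ∧ T ≠ D.omega := by
  have hc : Commute (D.U D.h D.h) (D.w 0 0) := D.commute_U_w.2 rfl
  have hh : orderOf (D.U D.h D.h) = 2 :=
    D.orderOf_U_two ⟨D.h_add_h, D.h_add_h⟩ fun e => D.h_ne_zero e.1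
  let V : Subgroup S :=
    { carrier := {1, D.U D.h D.h, D.w 0 0, D.w D.h D.h}
      one_mem' := Or.inl rfl
      mul_mem' := by
        have e1 : D.U D.h D.h * D.U D.h D.h = 1 := by
          rw [← sq, ← hh, pow_orderOf_eq_one]
        rintro _ _ (rfl | rfl | rfl | rfl) (rfl | rfl | rfl | rfl) <;>
          simp [e1, U_mul_w, w_mul_U, w_mul_w, h_add_h, U_zero, Set.mem_insert_iff]
      inv_mem' := by
        rintro _ (rfl | rfl | rfl | rfl) <;>
          simp [U_inv, w_inv, neg_h, Set.mem_insert_iff] }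
  have hsq : ∀ v ∈ V, v * v = 1 := by
    rintro _ (rfl | rfl | rfl | rfl) <;> simp [U_mul_U, w_mul_w, h_add_h, U_zero]
  have hcard : Nat.card V = 4 := by
    show Nat.card ({1, D.U D.h D.h, D.w 0 0, D.w D.h D.h} : Set S) = 4
    rw [Nat.card_coe_set_eq]
    have e1 : (1 : S) ≠ D.U D.h D.h := fun e => D.h_ne_zero (D.U_eq_one.1 e.symm).1
    have e2 : ∀ i j, (1 : S) ≠ D.w i j := fun i j e => D.U_ne_w 0 0 i j (D.U_zero.trans e)
    have e3 : D.w 0 0 ≠ D.w D.h D.h := fun e => D.h_ne_zero (D.w_inj.1 e).1.symm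
    simp [Set.ncard_insert_of_notMem, e1, e2, e3, D.U_ne_w]
  refine ⟨V, ⟨hcard, ?_⟩, fun e => ?_⟩
  · have := D.finite
    refine Nat.dvd_antisymm (Monoid.exponent_dvd_of_forall_pow_eq_one fun a => ?_) ?_
    · exact Subtype.ext (by rw [Subgroup.coe_pow, sq]; exact hsq a a.2)
    · have : Fact (Nat.Prime 2) := ⟨Nat.prime_two⟩
      obtain ⟨a, ha⟩ := exists_prime_orderOf_dvd_card' (G := V) 2 (by rw [hcard]; norm_num)
      exact ha ▸ Monoid.order_dvd_exponent a
  · obtain ⟨i, j, -, -, hij⟩ : D.w 0 0 ∈ D.omega := e ▸ (Or.inr (Or.inr (Or.inl rfl)) : D.w 0 0 ∈ V)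
    exact D.U_ne_w i j 0 0 hij.symm

/-! ### The quaternion subgroup and the subgroup generated by involutions -/

/-- The generalised quaternion subgroup of order `2 ^ (n + 1)`. -/
def quat : Subgroup S where
  carrier := {s | (∃ i, s = D.U i (-i)) ∨ ∃ i j, i + j = D.h ∧ s = D.w i j}
  one_mem' := Or.inl ⟨0, by rw [neg_zero, U_zero]⟩
  mul_mem' := by
    rintro _ _ (⟨i, rfl⟩ | ⟨i, j, h1, rfl⟩) (⟨k, rfl⟩ | ⟨k, l, h2, rfl⟩)
    · exact Or.inl ⟨i + k, by rw [U_mul_U, neg_add]⟩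
    · exact Or.inr ⟨_, _, by linear_combination h2, D.U_mul_w _ _ _ _⟩
    · exact Or.inr ⟨_, _, by linear_combination h1, D.w_mul_U _ _ _ _⟩
    · refine Or.inl ⟨i + l, ?_⟩
      rw [w_mul_w, U_inj]; exact ⟨rfl, by linear_combination h1 + h2 + D.h_add_h⟩
  inv_mem' := by
    rintro _ (⟨i, rfl⟩ | ⟨i, j, h1, rfl⟩)
    · exact Or.inl ⟨-i, D.U_inv _ _⟩
    · exact Or.inr ⟨_, _, by linear_combination -h1 - D.h_add_h, D.w_inv i j⟩

theorem quat_normal : D.quat.Normal := ⟨by
  rintro _ (⟨i, rfl⟩ | ⟨i, j, h1, rfl⟩) g <;> rcases D.forms g with ⟨k, l, rfl⟩ | ⟨k, l, rfl⟩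
  · exact Or.inl ⟨i, D.conj_U_U _ _ _ _⟩
  · exact Or.inl ⟨-i, by rw [conj_w_U, neg_neg]⟩
  · exact Or.inr ⟨_, _, by linear_combination h1, D.conj_U_w _ _ _ _⟩
  · exact Or.inr ⟨_, _, by linear_combination h1, D.conj_w_w _ _ _ _⟩⟩

theorem card_quat : Nat.card D.quat = 2 ^ (D.n + 1) := by
  haveI : NeZero (2 ^ D.n) := ⟨by positivity⟩
  let f : ZMod (2 ^ D.n) ⊕ ZMod (2 ^ D.n) → D.quat := fun
    | .inl i => ⟨D.U i (-i), Or.inl ⟨i, rfl⟩⟩
    | .inr i => ⟨D.w i (D.h - i), Or.inr ⟨i, _, by ring, rfl⟩⟩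
  have hf : Function.Bijective f := by
    refine ⟨fun a b e => ?_, fun ⟨s, hs⟩ => ?_⟩
    · have e' := congrArg Subtype.val e
      rcases a with i | i <;> rcases b with j | j
      · exact congrArg _ (D.U_inj.1 e').1
      · exact absurd e' (D.U_ne_w _ _ _ _)
      · exact absurd e'.symm (D.U_ne_w _ _ _ _)
      · exact congrArg _ (D.w_inj.1 e').1
    · rcases hs with ⟨i, rfl⟩ | ⟨i, j, h1, rfl⟩
      · exact ⟨.inl i, rfl⟩
      · exact ⟨.inr i, Subtype.ext (D.w_inj.2 ⟨rfl, by linear_combination -h1⟩)⟩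
  rw [← Nat.card_eq_of_bijective f hf, Nat.card_sum, Nat.card_zmod, pow_succ, mul_two]

theorem quat_equiv : Nonempty (D.quat ≃* QuaternionGroup (2 ^ (D.n - 1))) := by
  have hn := D.hn
  have := D.finite
  haveI : NeZero (2 ^ (D.n - 1)) := ⟨by positivity⟩
  obtain ⟨f, hf⟩ := exists_quaternion_hom (n := 2 ^ (D.n - 1))
    (⟨D.U 1 (-1), Or.inl ⟨1, rfl⟩⟩ : D.quat) ⟨D.w D.h 0, Or.inr ⟨_, _, add_zero _, rfl⟩⟩
    (by rw [← Subgroup.orderOf_coe]; show orderOf (D.U 1 (-1)) = _; rw [orderOf_U_one, ← pow_succ']; congr 1; omega)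
    (Subtype.ext (by
      simp only [Subgroup.coe_mul, Subgroup.coe_pow]
      have hNh : ((2 ^ (D.n - 1) : ℕ) : ZMod (2 ^ D.n)) = D.h := by rw [h]; push_cast; rfl
      rw [w_sq, U_pow, U_inj, hNh]
      constructor
      · ring
      · linear_combination D.h_add_h))
    (Subtype.ext (by
      simp only [Subgroup.coe_mul, Subgroup.coe_inv]
      rw [conj_w_U, U_inv, neg_neg]))
    (by
      rintro ⟨k, hk⟩
      have h1 : D.U 1 (-1) ^ k = D.w D.h 0 := congrArg Subtype.val hk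
      rw [U_zpow] at h1
      exact D.U_ne_w _ _ _ _ h1)
  refine ⟨(MulEquiv.ofBijective f ((Nat.bijective_iff_injective_and_card f).2 ⟨hf, ?_⟩)).symm⟩
  rw [Nat.card_eq_fintype_card, QuaternionGroup.card, card_quat, show (4 : ℕ) = 2 ^ 2 from rfl,
    ← pow_add]
  congr 1; omega

theorem eq_quat {Y : Subgroup S} (hc : Nat.card Y = 2 ^ (D.n + 1))
    (e : Y ≃* QuaternionGroup (2 ^ (D.n - 1))) : Y = D.quat := by
  have := D.finite
  have hn := D.hn
  set N := 2 ^ (D.n - 1) with hN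
  haveI : NeZero N := ⟨by positivity⟩
  have h2N : 2 * N = 2 ^ D.n := by rw [hN, ← pow_succ']; congr 1; omega
  -- generators with `a` in the base
  have key : ∀ a b : S, a ∈ Y → b ∈ Y → orderOf a = 2 ^ D.n → b * a * b⁻¹ = a⁻¹ → b * b = a ^ N →
      a ∈ D.base → Y = D.quat := by
    intro a b ha hb hao hab hbb haU
    obtain ⟨k, l, rfl⟩ := haU
    rcases D.forms b with ⟨i, j, rfl⟩ | ⟨i, j, rfl⟩
    · exfalso
      rw [conj_U_U, eq_inv_iff_mul_eq_one, ← sq] at hab
      have := Nat.le_of_dvd two_pos (orderOf_dvd_of_pow_eq_one hab)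
      rw [hao] at this
      have : 2 ^ 2 ≤ 2 ^ D.n := Nat.pow_le_pow_right two_pos D.hn
      omega
    rw [conj_w_U, U_inv, U_inj] at hab
    obtain rfl : l = -k := hab.1
    rw [w_sq, U_pow, U_inj] at hbb
    have hNh : (N : ZMod (2 ^ D.n)) = D.h := by rw [hN, h]; push_cast; rfl
    have hk : D.h * k = D.h := by
      rcases QuasiDihedral.even_or_even_sub_one k with hk | hk
      · exfalso
        have h1 : D.U k (-k) ^ N = 1 := by
          rw [U_pow, U_eq_one, hNh, mul_neg, neg_eq_zero, and_self]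
          exact QuasiDihedral.half_mul_even D.n1 hk
        have h3 := Nat.le_of_dvd (Nat.pos_of_ne_zero (NeZero.ne N)) (orderOf_dvd_of_pow_eq_one h1)
        have h4 : 0 < N := Nat.pos_of_ne_zero (NeZero.ne N)
        omega
      · have := QuasiDihedral.half_mul_even D.n1 hk
        rw [mul_sub, mul_one, sub_eq_zero] at this
        exact this
    have hij : i + j = D.h := by rw [hbb.1, hNh, hk]
    have hYle : D.quat ≤ Y := by
      have hanti : ∀ v, D.U v (-v) ∈ Y := by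
        intro v
        have hsub : Subgroup.zpowers (D.U k (-k)) = D.anti := by
          refine Subgroup.eq_of_le_of_card_ge (Subgroup.zpowers_le.2 ⟨k, rfl⟩) ?_
          rw [Nat.card_zpowers, hao, anti_eq_zpowers, Nat.card_zpowers, orderOf_U_one]
        exact Subgroup.zpowers_le.2 ha (hsub.symm ▸ (⟨v, rfl⟩ : D.U v (-v) ∈ D.anti))
      rintro _ (⟨v, rfl⟩ | ⟨v, v', hv, rfl⟩)
      · exact hanti v
      · have : D.w v v' = D.U (v - i) (-(v - i)) * D.w i j := by
          rw [U_mul_w, w_inj]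
          exact ⟨by ring, by linear_combination hv - hij⟩
        rw [this]; exact mul_mem (hanti _) hb
    exact (Subgroup.eq_of_le_of_card_ge hYle (by rw [hc, D.card_quat])).symm
  set a : S := ((e.symm (QuaternionGroup.a 1) : Y) : S) with haa
  set b : S := ((e.symm (QuaternionGroup.xa 0) : Y) : S) with hbb'
  have ha : a ∈ Y := SetLike.coe_mem _
  have hb : b ∈ Y := SetLike.coe_mem _
  have hao : orderOf a = 2 ^ D.n := by
    rw [haa, Subgroup.orderOf_coe, e.symm.orderOf_eq, QuaternionGroup.orderOf_a_one, h2N]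
  have hab : b * a * b⁻¹ = a⁻¹ := by
    rw [haa, hbb', ← Subgroup.coe_mul, ← Subgroup.coe_inv, ← Subgroup.coe_mul, ← Subgroup.coe_inv,
      ← map_mul, ← map_inv, ← map_mul, ← map_inv]
    congr 2
    rw [mul_inv_eq_iff_eq_mul, eq_inv_mul_iff_mul_eq]
    simp
  have hbb : b * b = a ^ N := by
    rw [haa, hbb', ← Subgroup.coe_mul, ← Subgroup.coe_pow, ← map_mul, ← map_pow]
    congr 2
    rw [QuaternionGroup.xa_mul_xa, QuaternionGroup.a_one_pow]; simp
  by_cases haU : a ∈ D.base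
  · exact key a b ha hb hao hab hbb haU
  -- now `n = 2` and the roles may be exchanged
  obtain ⟨i, j, hwa⟩ : ∃ i j, a = D.w i j := (D.forms a).resolve_left haU
  have h4 : a ^ 4 = 1 := by
    have h1 : Commute (a * a) b := by rw [hwa, w_sq]; exact D.U_diag_central _ _
    have h2 : b * (a * a) * b⁻¹ = a⁻¹ * a⁻¹ := by rw [← hab]; group
    rw [← h1.eq, mul_inv_cancel_right] at h2
    calc a ^ 4 = (a * a) * (a * a) := by simp [pow_succ, mul_assoc]
      _ = (a⁻¹ * a⁻¹) * (a * a) := by nth_rw 1 [h2]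
      _ = 1 := by group
  have hn2 : D.n = 2 := by
    have h5 := Nat.le_of_dvd (by norm_num) (orderOf_dvd_of_pow_eq_one h4)
    rw [hao, show (4 : ℕ) = 2 ^ 2 from rfl] at h5
    have := (Nat.pow_le_pow_iff_right (by norm_num : 1 < 2)).1 h5
    omega
  have hN2 : N = 2 := by rw [hN, hn2]; norm_num
  have hord4 : ∀ c : S, c * c = a * a → orderOf c = 2 ^ D.n := fun c hc' => by
    rw [hn2, show (2 : ℕ) ^ 2 = 2 ^ (1 + 1) from rfl]
    refine orderOf_eq_prime_pow (p := 2) ?_ ?_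
    · rw [pow_one, sq, hc', ← sq]
      intro h5
      have := Nat.le_of_dvd two_pos (orderOf_dvd_of_pow_eq_one h5)
      rw [hao, hn2] at this; norm_num at this
    · rw [show (2 : ℕ) ^ (1 + 1) = 4 from rfl]
      calc c ^ 4 = (c * c) * (c * c) := by simp [pow_succ, mul_assoc]
        _ = (a * a) * (a * a) := by rw [hc']
        _ = a ^ 4 := by simp [pow_succ, mul_assoc]
        _ = 1 := h4
  have hbb2 : b * b = a * a := by rw [hbb, hN2, sq]
  by_cases hbU : b ∈ D.base
  · refine key b a hb ha (hord4 b hbb2) ?_ (by rw [hN2, sq, hbb2]) hbU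
    calc a * b * a⁻¹ = a * (b * a⁻¹ * b⁻¹) * b := by group
      _ = a * a * b := by
        rw [show b * a⁻¹ * b⁻¹ = (b * a * b⁻¹)⁻¹ by group, hab, inv_inv]
      _ = b⁻¹ := by
        rw [← hbb2, eq_inv_iff_mul_eq_one]
        calc b * b * b * b = (b * b) * (b * b) := by group
          _ = (a * a) * (a * a) := by rw [hbb2]
          _ = a ^ 4 := by simp [pow_succ, mul_assoc]
          _ = 1 := h4
  · obtain ⟨k, l, hwb⟩ : ∃ i j, b = D.w i j := (D.forms b).resolve_left hbU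
    have hsq : (a * b) * (a * b) = b * b := by
      calc (a * b) * (a * b) = a * (b * a * b⁻¹) * (b * b) := by group
        _ = b * b := by rw [hab]; group
    refine key (a * b) a (mul_mem ha hb) ha (hord4 _ (hsq.trans hbb2)) ?_
      (by rw [hN2, sq, hsq, hbb2]) (by rw [hwa, hwb, w_mul_w]; exact D.U_mem_base _ _)
    calc a * (a * b) * a⁻¹ = a * a * b * (a⁻¹) := by group
      _ = (a * b)⁻¹ := by
        rw [eq_inv_iff_mul_eq_one]
        calc a * a * b * a⁻¹ * (a * b) = (a * a) * (b * b) := by group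
          _ = (a * a) * (a * a) := by rw [hbb2]
          _ = a ^ 4 := by simp [pow_succ, mul_assoc]
          _ = 1 := h4

/-- The subgroup generated by the involutions. -/
def invSub : Subgroup S where
  carrier := {s | ∃ i j, (i + j = 0 ∨ i + j = D.h) ∧ (s = D.U i j ∨ s = D.w i j)}
  one_mem' := ⟨0, 0, Or.inl (add_zero 0), Or.inl D.U_zero.symm⟩
  mul_mem' := by
    rintro _ _ ⟨i, j, h1, rfl | rfl⟩ ⟨k, l, h2, rfl | rfl⟩
    · exact ⟨_, _, by rw [add_add_add_comm]; exact D.zero_or_h_add h1 h2, Or.inl (D.U_mul_U _ _ _ _)⟩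
    · exact ⟨_, _, by rw [add_add_add_comm]; exact D.zero_or_h_add h1 h2, Or.inr (D.U_mul_w _ _ _ _)⟩
    · exact ⟨_, _, by rw [add_add_add_comm, add_comm l k]; exact D.zero_or_h_add h1 h2,
        Or.inr (D.w_mul_U _ _ _ _)⟩
    · exact ⟨_, _, by rw [add_add_add_comm, add_comm l k]; exact D.zero_or_h_add h1 h2,
        Or.inl (D.w_mul_w _ _ _ _)⟩
  inv_mem' := by
    rintro _ ⟨i, j, h1, rfl | rfl⟩
    · refine ⟨_, _, ?_, Or.inl (D.U_inv i j)⟩
      rcases h1 with h1 | h1 <;> rw [← neg_add, h1]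
      · exact Or.inl neg_zero
      · exact Or.inr D.neg_h
    · refine ⟨_, _, ?_, Or.inr (D.w_inv i j)⟩
      rcases h1 with h1 | h1 <;> rw [← neg_add, add_comm j i, h1]
      · exact Or.inl neg_zero
      · exact Or.inr D.neg_h

theorem closure_involutions : Subgroup.closure {s : S | orderOf s = 2} = D.invSub := by
  apply le_antisymm
  · rw [Subgroup.closure_le]
    intro s (hs : orderOf s = 2)
    rcases D.mul_self_eq_one (by rw [← sq, ← hs, pow_orderOf_eq_one]) with
      ⟨i, j, hi, hj, rfl⟩ | ⟨i, rfl⟩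
    · exact ⟨i, j, D.zero_or_h_add hi hj, Or.inl rfl⟩
    · exact ⟨i, -i, Or.inl (add_neg_cancel i), Or.inr rfl⟩
  · set C := Subgroup.closure {s : S | orderOf s = 2}
    have hw : ∀ i, D.w i (-i) ∈ C := fun i => Subgroup.subset_closure (D.orderOf_w_neg i)
    have ha : D.U 0 D.h ∈ C := Subgroup.subset_closure
      (D.orderOf_U_two ⟨add_zero 0, D.h_add_h⟩ fun e => D.h_ne_zero e.2)
    have hanti : ∀ i, D.U i (-i) ∈ C := fun i => by
      have : D.U i (-i) = D.w i (-i) * D.w 0 (-0) := by rw [w_mul_w, neg_zero, add_zero, add_zero]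
      rw [this]; exact mul_mem (hw i) (hw 0)
    have hU : ∀ i j, (i + j = 0 ∨ i + j = D.h) → D.U i j ∈ C := by
      intro i j hij
      rcases hij with h1 | h1
      · rw [show j = -i from eq_neg_of_add_eq_zero_right h1]; exact hanti i
      · have : D.U i j = D.U i (-i) * D.U 0 D.h := by
          rw [U_mul_U, U_inj]; exact ⟨by ring, by linear_combination h1⟩
        rw [this]; exact mul_mem (hanti i) ha
    rintro _ ⟨i, j, h1, rfl | rfl⟩
    · exact hU i j h1
    · have : D.w i j = D.U i j * D.w 0 (-0) := by rw [U_mul_w, neg_zero, add_zero, add_zero]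
      rw [this]; exact mul_mem (hU i j h1) (hw 0)

theorem card_invSub : Nat.card D.invSub = 2 ^ (D.n + 2) := by
  haveI : NeZero (2 ^ D.n) := ⟨by positivity⟩
  let f : ZMod (2 ^ D.n) × Bool × Bool → D.invSub := fun v =>
    ⟨cond v.2.1 (D.w v.1 (cond v.2.2 D.h 0 - v.1)) (D.U v.1 (cond v.2.2 D.h 0 - v.1)),
      v.1, cond v.2.2 D.h 0 - v.1, by rw [add_sub_cancel]; cases v.2.2 <;> simp,
      by cases v.2.1 <;> simp⟩
  have hf : Function.Bijective f := by
    refine ⟨fun a b e => ?_, fun ⟨s, i, j, h1, hs⟩ => ?_⟩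
    · have e' := congrArg Subtype.val e
      obtain ⟨a, a1, a2⟩ := a
      obtain ⟨b, b1, b2⟩ := b
      have hab : a1 = b1 ∧ a = b ∧ cond a2 D.h 0 - a = cond b2 D.h 0 - b := by
        cases a1 <;> cases b1
        · exact ⟨rfl, D.U_inj.1 e'⟩
        · exact absurd e' (D.U_ne_w _ _ _ _)
        · exact absurd e'.symm (D.U_ne_w _ _ _ _)
        · exact ⟨rfl, D.w_inj.1 e'⟩
      obtain ⟨rfl, rfl, h3⟩ := hab
      have h4 : cond a2 D.h 0 = cond b2 D.h 0 := sub_left_inj.1 h3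
      cases a2 <;> cases b2
      · rfl
      · exact absurd h4.symm D.h_ne_zero
      · exact absurd h4 D.h_ne_zero
      · rfl
    · obtain ⟨b, hb⟩ : ∃ b : Bool, cond b D.h 0 = i + j := by
        rcases h1 with h1 | h1
        · exact ⟨false, h1.symm⟩
        · exact ⟨true, h1.symm⟩
      rcases hs with rfl | rfl
      · exact ⟨(i, false, b), Subtype.ext (D.U_inj.2 ⟨rfl, by rw [hb, add_sub_cancel_left]⟩)⟩
      · exact ⟨(i, true, b), Subtype.ext (D.w_inj.2 ⟨rfl, by rw [hb, add_sub_cancel_left]⟩)⟩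
  rw [← Nat.card_eq_of_bijective f hf]
  simp [Nat.card_prod, pow_succ, mul_assoc]

theorem sup_invSub : D.invSub ⊔ Subgroup.zpowers (D.U 1 0) = ⊤ := by
  rw [eq_top_iff]
  have hU : ∀ i j, D.U i j ∈ D.invSub ⊔ Subgroup.zpowers (D.U 1 0) := fun i j => by
    have : D.U i j = D.U (-j) j * D.U (i + j) 0 := by
      rw [U_mul_U, U_inj]; constructor <;> ring
    rw [this]
    refine mul_mem (Subgroup.mem_sup_left ⟨-j, j, Or.inl (neg_add_cancel j), Or.inl rfl⟩)
      (Subgroup.mem_sup_right ?_)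
    obtain ⟨a, ha⟩ := ZMod.intCast_surjective (i + j)
    exact ⟨a, by simp [U_zpow, ← ha]⟩
  intro s _
  rcases D.forms s with ⟨i, j, rfl⟩ | ⟨i, j, rfl⟩
  · exact hU i j
  · rw [w]
    refine mul_mem (hU i j) (Subgroup.mem_sup_left ⟨0, 0, Or.inl (add_zero 0), Or.inr ?_⟩)
    exact D.w_zero.symm

/-! ### Centres of non-abelian subgroups -/

theorem center_le (D : Gens S) {X : Subgroup S} (hX : ¬ IsMulCommutative X) :
    (Subgroup.center X).map X.subtype ≤ Subgroup.center S := by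
  obtain ⟨i, j, hw⟩ : ∃ i j, D.w i j ∈ X := by
    by_contra hno
    push Not at hno
    refine hX ⟨⟨fun a b => Subtype.ext ?_⟩⟩
    obtain ⟨k, l, ha⟩ := (D.forms a).resolve_right fun ⟨k, l, e⟩ => hno k l (e ▸ a.2)
    obtain ⟨k', l', hb⟩ := (D.forms b).resolve_right fun ⟨k, l, e⟩ => hno k l (e ▸ b.2)
    simp only [Subgroup.coe_mul, ha, hb]
    exact D.U_comm _ _ _ _
  rintro _ ⟨⟨v, hv⟩, hvc, rfl⟩
  have hcomm : ∀ t ∈ X, Commute v t := fun t ht =>
    (congrArg Subtype.val (Subgroup.mem_center_iff.1 hvc ⟨t, ht⟩)).symm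
  rcases D.forms v with ⟨k, l, rfl⟩ | ⟨k, l, rfl⟩
  · exact D.mem_center.2 ⟨k, show D.U k l = _ from by rw [← D.commute_U_w.1 (hcomm _ hw)]⟩
  · exfalso
    refine hX ⟨⟨fun a b => Subtype.ext ?_⟩⟩
    have hdiag : ∀ t ∈ X, ∀ a b, t = D.U a b → a = b := fun t ht a b e => by
      subst e; exact D.commute_U_w.1 (hcomm _ ht).symm
    have hform : ∀ t ∈ X, (∃ a, t = D.U a a) ∨ ∃ a, t = D.U a a * D.w k l := fun t ht => by
      rcases D.forms t with ⟨a, b, e⟩ | ⟨a, b, e⟩
      · exact Or.inl ⟨a, by rw [e, hdiag t ht a b e]⟩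
      · have h1 : t * (D.w k l)⁻¹ ∈ X := mul_mem ht (inv_mem hv)
        have h2 : t * (D.w k l)⁻¹ = D.U (a + -k) (b + -l) := by rw [e, w_inv, w_mul_w]
        refine Or.inr ⟨a + -k, ?_⟩
        have h3 := hdiag _ h1 _ _ h2
        rw [← h3] at h2
        rw [← h2, inv_mul_cancel_right]
    show (a : S) * b = b * a
    rcases hform a a.2 with ⟨p, ha⟩ | ⟨p, ha⟩ <;> rcases hform b b.2 with ⟨q, hb⟩ | ⟨q, hb⟩ <;>
      rw [ha, hb]
    · exact D.U_comm _ _ _ _
    · exact (D.U_diag_central p _).eq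
    · exact (D.U_diag_central q _).symm.eq
    · exact ((Commute.mul_right (D.U_diag_central p _) (D.U_diag_central p _)).mul_left
        (Commute.mul_right (D.U_diag_central q _).symm (Commute.refl _))).eq

end Cfsg.Agent.Involutions.Wreathed.Gens
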