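import Mathlib
import Cfsg.Agent.Lib.Involutions.WreathedSubgroups

/-!
# Self-centralising subgroups of wreathed 2-groups with automorphisms of odd order
-/

namespace Cfsg.Agent.Involutions.Wreathed

theorem exists_odd_aut {X : Type*} [Group X] [Finite X] (h : ¬ IsPGroup 2 (MulAut X)) :
    ∃ σ : MulAut X, σ ≠ 1 ∧ Odd (orderOf σ) := by
  obtain ⟨σ, hσ⟩ : ∃ σ : MulAut X, ∀ k : ℕ, σ ^ 2 ^ k ≠ 1 := by
    simpa [IsPGroup] using h
  refine ⟨σ ^ ordProj[2] (orderOf σ), hσ _, ?_⟩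
  rw [orderOf_pow_of_dvd (pow_ne_zero _ two_ne_zero) (Nat.ordProj_dvd _ _)]
  exact Nat.not_even_iff_odd.1 fun he =>
    Nat.not_dvd_ordCompl Nat.prime_two (orderOf_pos σ).ne' he.two_dvd

section aut

variable {X : Type*} [Group X] (hX : IsPGroup 2 X) {σ : MulAut X} (ho : Odd (orderOf σ))

include hX ho

/-- An automorphism of odd order fixes `g` as soon as it fixes `g⁻¹ σ g`. -/
theorem eq_of_delta {g : X} (hd : σ (g⁻¹ * σ g) = g⁻¹ * σ g) : σ g = g := by
  set δ := g⁻¹ * σ g with hδ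
  have hg : σ g = g * δ := by rw [hδ, mul_inv_cancel_left]
  have hj : ∀ j : ℕ, (σ ^ j) g = g * δ ^ j := fun j => by
    induction j with
    | zero => simp
    | succ j ih => rw [pow_succ', MulAut.mul_apply, ih, map_mul, map_pow, hd, hg, mul_assoc, ← pow_succ']
  have h1 : δ ^ orderOf σ = 1 := by
    have := hj (orderOf σ)
    rw [pow_orderOf_eq_one, MulAut.one_apply] at this
    exact mul_eq_left.1 this.symm
  obtain ⟨k, hk⟩ := hX δ
  have h2 : orderOf δ ∣ Nat.gcd (orderOf σ) (2 ^ k) :=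
    Nat.dvd_gcd (orderOf_dvd_of_pow_eq_one h1) (orderOf_dvd_of_pow_eq_one hk)
  rw [(Nat.Coprime.pow_right k (Nat.coprime_two_right.2 ho)).gcd_eq_one, Nat.dvd_one,
    orderOf_eq_one_iff] at h2
  rw [hg, h2, mul_one]

theorem fix_of_mem_zpowers {g : X} (hg : σ g ∈ Subgroup.zpowers g) : σ g = g := by
  obtain ⟨e, he⟩ := hX g
  induction e generalizing g with
  | zero => simp only [pow_zero, pow_one] at he; rw [he, map_one]
  | succ e ih =>
    obtain ⟨l, hl⟩ := Subgroup.mem_zpowers_iff.1 hg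
    have hsq : σ (g * g) = g * g := by
      refine ih (Subgroup.mem_zpowers_iff.2 ⟨l, ?_⟩) ?_
      · rw [map_mul, ← hl, (Commute.refl g).mul_zpow]
      · rw [← sq, ← pow_mul, ← pow_succ']; exact he
    rcases Int.even_or_odd l with ⟨m, rfl⟩ | ⟨m, rfl⟩
    · -- `σ g` is a power of the fixed element `g * g`
      have : σ g = (g * g) ^ m := by rw [← hl, (Commute.refl g).mul_zpow, zpow_add]
      have h2 : σ (σ g) = σ g := by rw [this, map_zpow, hsq]
      exact σ.injective h2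
    · refine eq_of_delta hX ho ?_
      have : g⁻¹ * σ g = (g * g) ^ m := by
        rw [← hl, (Commute.refl g).mul_zpow, show (2 * m + 1 : ℤ) = 1 + (m + m) by ring, zpow_add,
          zpow_one, inv_mul_cancel_left, zpow_add]
      rw [this, map_zpow, hsq]

theorem fix_of_cyclic {H : Subgroup X} (hH : IsCyclic H) (hinv : ∀ g ∈ H, σ g ∈ H) {g : X}
    (hg : g ∈ H) : σ g = g := by
  obtain ⟨g₀, hg₀⟩ := (Subgroup.isCyclic_iff_exists_zpowers_eq_top H).1 hH
  have h0 : g₀ ∈ H := hg₀ ▸ Subgroup.mem_zpowers g₀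
  have h1 : σ g₀ = g₀ := fix_of_mem_zpowers hX ho (hg₀.symm ▸ hinv g₀ h0)
  rw [← hg₀] at hg
  obtain ⟨l, rfl⟩ := Subgroup.mem_zpowers_iff.1 hg
  rw [map_zpow, h1]

end aut

namespace Gens

open Cfsg.Agent.Classical.CyclicExt

variable {S : Type*} [Group S] (D : Gens S)

include D in
/-- The automorphisms of a self-centralising abelian subgroup outside the base form a 2-group. -/
theorem abelian_aut {X : Subgroup S} (hab : IsMulCommutative X) (hC : Subgroup.center S ≤ X)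
    {i j : ZMod (2 ^ D.n)}
    (hw : D.w i j ∈ X) {σ : MulAut X} (ho : Odd (orderOf σ)) : σ = 1 := by
  have hX : IsPGroup 2 X := D.isPGroup.to_subgroup X
  let sqHom : X →* X :=
    MonoidHom.mk' (fun g => g * g) fun a b => by
      show a * b * (a * b) = a * a * (b * b)
      exact (show Commute b a from hab.is_comm.comm b a).mul_mul_mul_comm a b
  have hdiag : ∀ g : X, (g : S) ∈ D.base → (g : S) ∈ Subgroup.center S := by
    rintro ⟨_, hg⟩ ⟨k, l, rfl⟩
    have : Commute (D.U k l) (D.w i j) :=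
      congrArg Subtype.val (hab.is_comm.comm ⟨_, hg⟩ ⟨_, hw⟩)
    exact D.mem_center.2 ⟨k, show D.U k l = _ from by rw [← D.commute_U_w.1 this]⟩
  have hcyc : IsCyclic ((Subgroup.center S).subgroupOf X) := by
    have := D.isCyclic_center
    exact isCyclic_of_injective ((X.subtype).subgroupComap (Subgroup.center S))
      (fun a b e => Subtype.ext (Subtype.ext (congrArg (fun v : Subgroup.center S => (v : S)) e)))
  have hsqC : ∀ g : X, sqHom g ∈ (Subgroup.center S).subgroupOf X := fun g => by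
    refine hdiag _ ?_
    exact Subgroup.mul_self_mem_of_index_two D.index_base (g : S)
  have hsqcyc : IsCyclic sqHom.range := by
    exact isCyclic_of_injective (Subgroup.inclusion
      (show sqHom.range ≤ (Subgroup.center S).subgroupOf X from by
        rintro _ ⟨g, rfl⟩; exact hsqC g)) (Subgroup.inclusion_injective _)
  have hfix : ∀ g : X, σ (g * g) = g * g := fun g =>
    fix_of_cyclic hX ho hsqcyc
      (by rintro _ ⟨v, rfl⟩; exact ⟨σ v, (map_mul σ v v).symm⟩) ⟨g, rfl⟩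
  -- central involutions are squares
  have hcinv : ∀ d : X, d * d = 1 → (d : S) ∈ Subgroup.center S → σ d = d := by
    intro d hd hdc
    obtain ⟨k, hk⟩ := D.mem_center.1 hdc
    have hk2 : k + k = 0 := by
      have h1 : (d : S) * d = 1 := congrArg Subtype.val hd
      rw [hk, U_mul_U, U_eq_one] at h1
      exact h1.1
    rcases D.add_self.1 hk2 with rfl | rfl
    · rw [show d = 1 from Subtype.ext (hk.trans D.U_zero), map_one]
    · have hc : D.U D.c D.c ∈ X := hC (D.mem_center.2 ⟨D.c, rfl⟩)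
      rw [show d = (⟨_, hc⟩ : X) * ⟨_, hc⟩ from
        Subtype.ext (hk.trans (by simp [U_mul_U, c_add_c]))]
      exact hfix _
  have hdelta : ∀ g : X, σ (g⁻¹ * σ g) = g⁻¹ * σ g := by
    intro g
    have hsq2 : ∀ v : X, σ (v * v) = v * v → (v⁻¹ * σ v) * (v⁻¹ * σ v) = 1 := fun v hv => by
      have hc : Commute (σ v) v⁻¹ := hab.is_comm.comm _ _
      rw [hc.mul_mul_mul_comm, ← map_mul, hv]; group
    set δ := g⁻¹ * σ g
    have hδ : δ * δ = 1 := hsq2 g (hfix g)
    by_cases hb : (δ : S) ∈ D.base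
    · exact hcinv δ hδ (hdiag δ hb)
    refine eq_of_delta hX ho ?_
    have hε : (δ⁻¹ * σ δ) * (δ⁻¹ * σ δ) = 1 := hsq2 δ (hfix δ)
    by_cases hb' : ((σ δ : X) : S) ∈ D.base
    · have h1 := hcinv (σ δ) (by rw [← map_mul, hδ, map_one]) (hdiag _ hb')
      rw [σ.injective.eq_iff] at h1
      exact absurd (h1 ▸ hb') hb
    · refine hcinv _ hε (hdiag _ ?_)
      rw [Subgroup.coe_mul, Subgroup.coe_inv, Subgroup.mul_mem_iff_of_index_two D.index_base,
        inv_mem_iff]
      exact iff_of_false hb hb'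
  exact MulEquiv.ext fun g => eq_of_delta hX ho (hdelta g)

/-- `X` consists of the `U k l` and `U k l * w i₀ (-i₀)` with `k - l ∈ {0, h}`. -/
def IsShape (X : Subgroup S) (i₀ : ZMod (2 ^ D.n)) : Prop :=
  ∀ s, s ∈ X ↔ ∃ k l, (k - l = 0 ∨ k - l = D.h) ∧
    (s = D.U k l ∨ s = D.U k l * D.w i₀ (-i₀))

include D in
theorem exists_shape {X : Subgroup S} (hab : ¬ IsMulCommutative X) (hC : Subgroup.center S ≤ X)
    {σ : MulAut X} (hne : σ ≠ 1) (ho : Odd (orderOf σ)) : ∃ i₀, D.IsShape X i₀ := by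
  have := D.finite
  have hX : IsPGroup 2 X := D.isPGroup.to_subgroup X
  set A := D.base.subgroupOf X with hA
  have hmemA : ∀ g : X, g ∈ A ↔ (g : S) ∈ D.base := fun g => Iff.rfl
  have hAab : ∀ a b : X, a ∈ A → b ∈ A → Commute a b := fun a b ha hb => by
    obtain ⟨k, l, e⟩ := ha
    obtain ⟨k', l', e'⟩ := hb
    simp only [Subgroup.subtype_apply] at e e'
    exact Subtype.ext (show (a : S) * b = b * a by rw [e, e']; exact D.U_comm _ _ _ _)
  -- the centre of `X`
  set Zs := (Subgroup.center S).subgroupOf X with hZs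
  have hZA : Zs ≤ A := fun g hg => by
    obtain ⟨k, hk⟩ := D.mem_center.1 hg
    exact ⟨k, k, hk⟩
  have hZ : Subgroup.center X = Zs := by
    refine le_antisymm (fun g hg => D.center_le hab ⟨g, hg, rfl⟩) fun g hg => ?_
    exact Subgroup.mem_center_iff.2 fun t =>
      Subtype.ext ((Subgroup.mem_center_iff.1 hg) (t : S))
  have hZcyc : IsCyclic Zs := by
    have := D.isCyclic_center
    exact isCyclic_of_injective ((X.subtype).subgroupComap (Subgroup.center S))
      (fun a b e => Subtype.ext (Subtype.ext (congrArg (fun v : Subgroup.center S => (v : S)) e)))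
  have hZfix : ∀ g ∈ Zs, σ g = g := fun g hg => fix_of_cyclic hX ho hZcyc
    (fun v hv => by
      rw [← hZ] at hv ⊢
      exact (Subgroup.characteristic_iff_map_le.1
        (inferInstance : (Subgroup.center X).Characteristic) σ) ⟨v, hv, rfl⟩) hg
  -- an element outside the base
  obtain ⟨i, j, hw⟩ : ∃ i j, D.w i j ∈ X := by
    by_contra hno
    push Not at hno
    refine hab ⟨⟨fun a b => ?_⟩⟩
    exact hAab a b ((D.forms a).resolve_right fun ⟨k, l, e⟩ => hno k l (e ▸ a.2))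
      ((D.forms b).resolve_right fun ⟨k, l, e⟩ => hno k l (e ▸ b.2))
  set W : X := ⟨D.w i j, hw⟩ with hW
  have hWA : W ∉ A := D.w_notMem_base i j
  have hA2 : ∀ g : X, g ∉ A → g * W⁻¹ ∈ A := fun g hg => by
    rw [hmemA, Subgroup.coe_mul, Subgroup.coe_inv,
      Subgroup.mul_mem_iff_of_index_two D.index_base, inv_mem_iff]
    exact iff_of_false hg hWA
  have hinv : ¬ ∀ a ∈ A, σ a ∈ A := by
    intro hσA
    refine hne ?_
    -- the twist
    have htw : ∀ a ∈ A, σ (W * a * W⁻¹) = W * σ a * W⁻¹ := by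
      intro a ha
      have hout : σ W ∉ A := fun hc => by
        have hiA : A.map σ.toMonoidHom = A := Subgroup.eq_of_le_of_card_ge
          (by rintro _ ⟨v, hv, rfl⟩; exact hσA v hv)
          (by rw [Subgroup.card_map_of_injective σ.injective])
        obtain ⟨v, hv, he⟩ := hiA.symm.le hc
        exact hWA (σ.injective he ▸ hv)
      rw [map_mul, map_mul, map_inv]
      calc σ W * σ a * (σ W)⁻¹ = (σ W * W⁻¹) * (W * σ a * W⁻¹) * (σ W * W⁻¹)⁻¹ := by group
        _ = W * σ a * W⁻¹ := by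
          have hWa : W * σ a * W⁻¹ ∈ A := by
            obtain ⟨k, l, e⟩ := hσA a ha
            simp only [Subgroup.subtype_apply] at e
            exact ⟨l, k, by simp [hW, e, D.conj_w_U]⟩
          rw [(hAab _ _ (hA2 _ hout) hWa).eq, mul_inv_cancel_right]
    have htau : ∀ a ∈ A, a * (W * a * W⁻¹) ∈ Zs := by
      intro a ha
      obtain ⟨k, l, e⟩ := ha
      simp only [Subgroup.subtype_apply] at e
      refine D.mem_center.2 ⟨k + l, ?_⟩
      simp only [hW, Subgroup.subtype_apply, Subgroup.coe_mul, Subgroup.coe_inv, e]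
      rw [conj_w_U, U_mul_U, add_comm l k]
    -- the anti part
    let B : Subgroup X := A ⊓ D.anti.subgroupOf X
    have hBcyc : IsCyclic B := by
      have : IsCyclic D.anti := by rw [D.anti_eq_zpowers]; infer_instance
      exact isCyclic_of_injective
        (((X.subtype).subgroupComap D.anti).comp (Subgroup.inclusion inf_le_right))
        (fun a b e => Subtype.ext (Subtype.ext (congrArg (fun v : D.anti => (v : S)) e)))
    have hB : ∀ a ∈ A, W * a * W⁻¹ = a⁻¹ → a ∈ B := by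
      intro a ha h'
      refine ⟨ha, ?_⟩
      obtain ⟨k, l, e⟩ := ha
      simp only [Subgroup.subtype_apply] at e
      have h1 := congrArg Subtype.val h'
      simp only [hW, Subgroup.coe_mul, Subgroup.coe_inv, e, conj_w_U, U_inv, U_inj] at h1
      exact ⟨k, by show (a : S) = _; rw [e, h1.1]⟩
    have hBfix : ∀ a ∈ A, W * a * W⁻¹ = a⁻¹ → σ a = a := fun a ha h' =>
      fix_of_cyclic hX ho hBcyc (fun v hv => by
        obtain ⟨hvA, k, hk⟩ := hv
        refine hB _ (hσA v hvA) ?_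
        have h1 : W * v * W⁻¹ = v⁻¹ := by
          refine Subtype.ext ?_
          simp only [Subgroup.subtype_apply] at hk
          simp only [hW, Subgroup.coe_mul, Subgroup.coe_inv, hk, conj_w_U, U_inv, neg_neg]
        rw [← htw v hvA, h1, map_inv]) (hB a ha h')
    have hWmem : ∀ a ∈ A, W * a * W⁻¹ ∈ A := fun a ha => by
      obtain ⟨k, l, e⟩ := ha
      simp only [Subgroup.subtype_apply] at e
      exact ⟨l, k, by simp [hW, e, D.conj_w_U]⟩
    have hWW : ∀ a ∈ A, W * (W * a * W⁻¹) * W⁻¹ = a := fun a ha => by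
      obtain ⟨k, l, e⟩ := ha
      simp only [Subgroup.subtype_apply] at e
      refine Subtype.ext ?_
      simp only [hW, Subgroup.coe_mul, Subgroup.coe_inv, e, conj_w_U]
    have hfixA : ∀ a ∈ A, σ a = a := by
      intro a ha
      have hta := hWmem a ha
      have h1 : σ (a * (W * a * W⁻¹)) = a * (W * a * W⁻¹) := hZfix _ (htau a ha)
      have h2 : σ (a * (W * a * W⁻¹)⁻¹) = a * (W * a * W⁻¹)⁻¹ := by
        refine hBfix _ (mul_mem ha (inv_mem hta)) ?_
        rw [show W * (a * (W * a * W⁻¹)⁻¹) * W⁻¹ =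
          (W * a * W⁻¹) * (W * (W * a * W⁻¹) * W⁻¹)⁻¹ by group, hWW a ha]
        group
      have hc : Commute a (W * a * W⁻¹) := hAab _ _ ha hta
      have hsq : σ (a * a) = a * a := by
        have h3 : a * a = (a * (W * a * W⁻¹)) * (a * (W * a * W⁻¹)⁻¹) := by
          rw [(hc.symm.mul_mul_mul_comm _ _ : _ = _)]; group
        rw [h3, map_mul, h1, h2]
      refine eq_of_delta hX ho ?_
      set δ := a⁻¹ * σ a
      have hδA : δ ∈ A := mul_mem (inv_mem ha) (hσA a ha)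
      have hca : Commute (σ a) a⁻¹ := hAab _ _ (hσA a ha) (inv_mem ha)
      have hδ2 : δ * δ = 1 := by
        rw [hca.mul_mul_mul_comm, ← map_mul, hsq]; group
      refine hZfix δ ?_
      have hτ : W * δ * W⁻¹ = δ⁻¹ := by
        rw [eq_inv_iff_mul_eq_one]
        calc W * δ * W⁻¹ * δ
            = ((W * a * W⁻¹)⁻¹ * (W * σ a * W⁻¹)) * (a⁻¹ * σ a) := by simp only [δ]; group
          _ = ((W * a * W⁻¹)⁻¹ * σ (W * a * W⁻¹)) * (a⁻¹ * σ a) := by rw [htw a ha]
          _ = ((W * a * W⁻¹)⁻¹ * a⁻¹) * (σ (W * a * W⁻¹) * σ a) :=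
              ((hAab _ _ (hσA _ hta) (inv_mem ha)).mul_mul_mul_comm _ _)
          _ = 1 := by rw [← map_mul, hc.symm.eq, h1]; group
      rw [inv_eq_of_mul_eq_one_left hδ2] at hτ
      obtain ⟨k, l, e⟩ := hδA
      simp only [Subgroup.subtype_apply] at e
      have h4 := congrArg Subtype.val hτ
      simp only [hW, Subgroup.coe_mul, Subgroup.coe_inv, e, conj_w_U, U_inj] at h4
      exact D.mem_center.2 ⟨k, by show (δ : S) = _; rw [e, h4.1]⟩
    refine MulEquiv.ext fun g => ?_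
    by_cases hg : g ∈ A
    · exact hfixA g hg
    · refine eq_of_delta hX ho (hfixA _ ?_)
      rw [hmemA, Subgroup.coe_mul, Subgroup.coe_inv,
        Subgroup.mul_mem_iff_of_index_two D.index_base, inv_mem_iff]
      refine iff_of_false hg fun hc => hg ?_
      exact σ.injective (hfixA (σ g) hc) ▸ hc
  push Not at hinv
  obtain ⟨a₀, ha₀, hva⟩ := hinv
  -- squares of the abelian part are central
  have hsqA : ∀ a ∈ A, a * a ∈ Zs := by
    intro a ha
    have hV2 : (A.map σ.toMonoidHom).index = 2 := by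
      rw [show σ.toMonoidHom = (σ : X →* X) from rfl, Subgroup.index_map_equiv]
      refine Subgroup.index_eq_two_iff.2 ⟨W, fun b => ?_⟩
      rw [hmemA, hmemA, Subgroup.coe_mul, Subgroup.mul_mem_iff_of_index_two D.index_base]
      by_cases hb : (b : S) ∈ D.base
      · exact Or.inr ⟨hb, fun h' => hWA (h'.1 hb)⟩
      · exact Or.inl ⟨iff_of_false hb hWA, hb⟩
    obtain ⟨b, hb, he⟩ := Subgroup.mul_self_mem_of_index_two hV2 a
    obtain ⟨k, l, e⟩ := mul_mem ha ha
    obtain ⟨k', l', e'⟩ : ∃ k l, ((σ a₀ : X) : S) = D.w k l := (D.forms _).resolve_left hva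
    have hcom : Commute (σ a₀) (a * a) := by rw [← he]; exact (hAab _ _ ha₀ hb).map σ
    have h5 : Commute (D.U k l) (D.w k' l') := by
      simp only [Subgroup.subtype_apply] at e
      rw [← e, ← e']; exact congrArg Subtype.val hcom.symm.eq
    simp only [Subgroup.subtype_apply] at e
    exact D.mem_center.2 ⟨k, e.trans (by rw [D.commute_U_w.1 h5])⟩
  have hdiff : ∀ k l, D.U k l ∈ X → (k - l = 0 ∨ k - l = D.h) := by
    intro k l hkl
    obtain ⟨m, hm⟩ := D.mem_center.1 (hsqA ⟨_, hkl⟩ ⟨k, l, rfl⟩)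
    simp only [Subgroup.subtype_apply, Subgroup.coe_mul, U_mul_U, U_inj] at hm
    exact D.add_self.1 (by linear_combination hm.1 - hm.2)
  obtain ⟨k₀, l₀, e₀⟩ := ha₀
  simp only [Subgroup.subtype_apply] at e₀
  have hU0 : D.U D.h 0 ∈ X := by
    rcases hdiff k₀ l₀ (e₀ ▸ a₀.2) with h' | h'
    · refine absurd ?_ hva
      rw [hZfix a₀ (D.mem_center.2 ⟨k₀, e₀.trans (by rw [sub_eq_zero.1 h'])⟩)]
      exact ⟨k₀, l₀, e₀⟩
    · have h1 := mul_mem (e₀ ▸ a₀.2 : D.U k₀ l₀ ∈ X) (hC (D.mem_center.2 ⟨-l₀, rfl⟩))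
      rwa [U_mul_U, ← sub_eq_add_neg, h', add_neg_cancel] at h1
  set E : X := ⟨D.U D.h 0, hU0⟩ with hE
  have hout : σ E ∉ A := by
    intro hc
    refine hva ?_
    rcases hdiff k₀ l₀ (e₀ ▸ a₀.2) with h' | h'
    · rw [hZfix a₀ (D.mem_center.2 ⟨k₀, e₀.trans (by rw [sub_eq_zero.1 h'])⟩)]
      exact ⟨k₀, l₀, e₀⟩
    · have h1 : a₀ = ⟨D.U l₀ l₀, hC (D.mem_center.2 ⟨l₀, rfl⟩)⟩ * E := by
        refine Subtype.ext ?_
        rw [Subgroup.coe_mul, hE, e₀, U_mul_U, U_inj, ← sub_eq_iff_eq_add'.1 h', add_zero]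
        exact ⟨rfl, rfl⟩
      rw [h1, map_mul, hZfix _ (D.mem_center.2 ⟨l₀, rfl⟩)]
      exact mul_mem ⟨l₀, l₀, rfl⟩ hc
  have hinv2 : ((σ E : X) : S) * (σ E : X) = 1 := by
    rw [← Subgroup.coe_mul, ← map_mul, show E * E = 1 from Subtype.ext (by
      rw [Subgroup.coe_mul, hE, U_mul_U, h_add_h, add_zero, U_zero, Subgroup.coe_one]),
      map_one, Subgroup.coe_one]
  rcases D.mul_self_eq_one hinv2 with ⟨k, l, -, -, e⟩ | ⟨i₀, hi₀⟩
  · exact absurd ⟨k, l, e⟩ hout
  have hw0 : D.w i₀ (-i₀) ∈ X := hi₀ ▸ (σ E).2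
  refine ⟨i₀, fun s => ⟨fun hs => ?_, ?_⟩⟩
  · rcases D.forms s with ⟨k, l, rfl⟩ | ⟨k, l, rfl⟩
    · exact ⟨k, l, hdiff k l hs, Or.inl rfl⟩
    · have h1 : D.w k l * (D.w i₀ (-i₀))⁻¹ = D.U (k + -i₀) (l + i₀) := by
        rw [w_inv, w_mul_w, neg_neg]
      exact ⟨k + -i₀, l + i₀, hdiff _ _ (h1 ▸ mul_mem hs (inv_mem hw0)),
        Or.inr (by rw [← h1, inv_mul_cancel_right])⟩
  · rintro ⟨k, l, hkl, hs⟩
    have hU : D.U k l ∈ X := by
      rcases hkl with h' | h'
      · exact hC (D.mem_center.2 ⟨k, by rw [sub_eq_zero.1 h']⟩)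
      · have : D.U k l = D.U l l * D.U D.h 0 := by
          rw [U_mul_U, U_inj]; exact ⟨by linear_combination h', by rw [add_zero]⟩
        rw [this]; exact mul_mem (hC (D.mem_center.2 ⟨l, rfl⟩)) hU0
    rcases hs with rfl | rfl
    · exact hU
    · exact mul_mem hU hw0

theorem zero_or_h_sub {a b : ZMod (2 ^ D.n)} (ha : a = 0 ∨ a = D.h) (hb : b = 0 ∨ b = D.h) :
    a - b = 0 ∨ a - b = D.h := by
  rcases ha with rfl | rfl <;> rcases hb with rfl | rfl <;> simp [neg_h]

/-- A quaternion subgroup of order 8 through `w i₁ (h - i₁)`. -/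
def q8 (i₁ : ZMod (2 ^ D.n)) : Subgroup S where
  carrier := {s | (∃ k, (k + k = 0 ∨ k + k = D.h) ∧ s = D.U k (-k)) ∨
    ∃ k, (k + k = 0 ∨ k + k = D.h) ∧ s = D.w (i₁ + k) (D.h - i₁ - k)}
  one_mem' := Or.inl ⟨0, Or.inl (add_zero 0), by rw [neg_zero, U_zero]⟩
  mul_mem' := by
    rintro _ _ (⟨k, h1, rfl⟩ | ⟨k, h1, rfl⟩) (⟨l, h2, rfl⟩ | ⟨l, h2, rfl⟩)
    · exact Or.inl ⟨k + l, by rw [add_add_add_comm]; exact D.zero_or_h_add h1 h2,
        by rw [U_mul_U, neg_add]⟩
    · refine Or.inr ⟨k + l, by rw [add_add_add_comm]; exact D.zero_or_h_add h1 h2, ?_⟩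
      rw [U_mul_w, w_inj]; constructor <;> ring
    · refine Or.inr ⟨k - l, ?_, ?_⟩
      · rw [show k - l + (k - l) = (k + k) - (l + l) by ring]; exact D.zero_or_h_sub h1 h2
      · rw [w_mul_U, w_inj]; constructor <;> ring
    · refine Or.inl ⟨k - l + D.h, ?_, ?_⟩
      · rw [show k - l + D.h + (k - l + D.h) = (k + k) - (l + l) + (D.h + D.h) by ring, h_add_h,
          add_zero]
        exact D.zero_or_h_sub h1 h2
      · rw [w_mul_w, U_inj]
        exact ⟨by ring, by linear_combination D.h_add_h⟩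
  inv_mem' := by
    rintro _ (⟨k, h1, rfl⟩ | ⟨k, h1, rfl⟩)
    · refine Or.inl ⟨-k, ?_, D.U_inv _ _⟩
      rw [show -k + -k = 0 - (k + k) by ring]; exact D.zero_or_h_sub (Or.inl rfl) h1
    · refine Or.inr ⟨k - D.h, ?_, ?_⟩
      · rw [show k - D.h + (k - D.h) = (k + k) - (D.h + D.h) by ring, h_add_h, sub_zero]
        exact h1
      · rw [w_inv, w_inj]
        exact ⟨by ring, by linear_combination -D.h_add_h⟩

theorem q8_equiv (i₁ : ZMod (2 ^ D.n)) : Nonempty (D.q8 i₁ ≃* QuaternionGroup 2) := by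
  have := D.finite
  obtain ⟨f, hf⟩ := exists_quaternion_hom (n := 2)
    (⟨D.U D.c (-D.c), Or.inl ⟨D.c, Or.inr D.c_add_c, rfl⟩⟩ : D.q8 i₁)
    ⟨D.w i₁ (D.h - i₁), Or.inr ⟨0, Or.inl (add_zero 0), by rw [add_zero, sub_zero]⟩⟩
    (by
      rw [← Subgroup.orderOf_coe]
      show orderOf (D.U D.c (-D.c)) = 2 * 2
      rw [show 2 * 2 = 2 ^ (1 + 1) from rfl]
      refine orderOf_eq_prime_pow (p := 2) (n := 1) ?_ ?_
      · rw [pow_one, sq, U_mul_U, U_eq_one, c_add_c]; exact fun e => D.h_ne_zero e.1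
      · rw [show (2 : ℕ) ^ (1 + 1) = 4 from rfl, U_pow, U_eq_one]
        push_cast
        exact ⟨by linear_combination 2 * D.c_add_c + D.h_add_h,
          by linear_combination -2 * D.c_add_c - D.h_add_h⟩)
    (Subtype.ext (by
      simp only [Subgroup.coe_mul, Subgroup.coe_pow]
      rw [w_sq, sq, U_mul_U, U_inj]
      exact ⟨by linear_combination -D.c_add_c, by linear_combination D.c_add_c + D.h_add_h⟩))
    (Subtype.ext (by
      simp only [Subgroup.coe_mul, Subgroup.coe_inv]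
      rw [conj_w_U, U_inv, neg_neg]))
    (by
      rintro ⟨k, hk⟩
      have h1 : D.U D.c (-D.c) ^ k = D.w i₁ (D.h - i₁) := congrArg Subtype.val hk
      rw [U_zpow] at h1
      exact D.U_ne_w _ _ _ _ h1)
  refine ⟨(MulEquiv.ofBijective f ((Nat.bijective_iff_injective_and_card f).2 ⟨hf, ?_⟩)).symm⟩
  refine le_antisymm (Nat.card_le_card_of_injective f hf) ?_
  rw [Nat.card_eq_fintype_card (α := QuaternionGroup 2), QuaternionGroup.card]
  haveI : NeZero (2 ^ D.n) := ⟨by positivity⟩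
  let F : Set (ZMod (2 ^ D.n)) := {k | k + k = 0 ∨ k + k = D.h}
  have hF : Nat.card F ≤ 4 := by
    rw [Nat.card_coe_set_eq]
    refine (Set.ncard_le_ncard (t := {0, D.c, D.h, -D.c}) (fun k hk => ?_) (Set.toFinite _)).trans ?_
    · have h4 : 4 * k = 0 := by
        rcases hk with h' | h'
        · linear_combination 2 * h'
        · linear_combination 2 * h' + D.h_add_h
      simpa [Gens.h, c] using (QuasiDihedral.four_mul_eq_zero_iff D.hn).1 h4
    · refine (Set.ncard_insert_le _ _).trans ?_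
      have h1 := Set.ncard_insert_le D.c {D.h, -D.c}
      have h2 := Set.ncard_insert_le D.h {-D.c}
      rw [Set.ncard_singleton] at h2
      omega
  let g : F ⊕ F → D.q8 i₁ := fun
    | .inl k => ⟨D.U k (-k.1), Or.inl ⟨k, k.2, rfl⟩⟩
    | .inr k => ⟨D.w (i₁ + k.1) (D.h - i₁ - k.1), Or.inr ⟨k, k.2, rfl⟩⟩
  have hg : Function.Surjective g := by
    rintro ⟨_, ⟨k, hk, rfl⟩ | ⟨k, hk, rfl⟩⟩
    · exact ⟨.inl ⟨k, hk⟩, rfl⟩
    · exact ⟨.inr ⟨k, hk⟩, rfl⟩
  have := Nat.card_le_card_of_surjective g hg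
  rw [Nat.card_sum] at this
  omega

theorem shape_eq {X : Subgroup S} {i₀ : ZMod (2 ^ D.n)} (hX : D.IsShape X i₀) :
    X = D.q8 (i₀ + D.c) ⊔ Subgroup.center S := by
  refine le_antisymm ?_ (sup_le ?_ ?_)
  · set K := D.q8 (i₀ + D.c) ⊔ Subgroup.center S
    have hmemP : ∀ a, D.U a a ∈ K := fun a => Subgroup.mem_sup_right (D.mem_center.2 ⟨a, rfl⟩)
    have ha : D.U D.c (-D.c) ∈ K := Subgroup.mem_sup_left (Or.inl ⟨D.c, Or.inr D.c_add_c, rfl⟩)
    have hb : D.w (i₀ + D.c) (D.h - (i₀ + D.c)) ∈ K :=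
      Subgroup.mem_sup_left (Or.inr ⟨0, Or.inl (add_zero 0), by rw [add_zero, sub_zero]⟩)
    have hU : ∀ k l, (k - l = 0 ∨ k - l = D.h) → D.U k l ∈ K := by
      intro k l hkl
      rcases hkl with h' | h'
      · rw [sub_eq_zero.1 h']; exact hmemP l
      · have : D.U k l = D.U (l + D.c) (l + D.c) * D.U D.c (-D.c) := by
          rw [U_mul_U, U_inj]
          exact ⟨by linear_combination h' - D.c_add_c, by ring⟩
        rw [this]; exact mul_mem (hmemP _) ha
    intro s hs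
    obtain ⟨k, l, hkl, rfl | rfl⟩ := (hX s).1 hs
    · exact hU k l hkl
    · have : D.w i₀ (-i₀) = D.U (-D.c) (-D.c) * D.w (i₀ + D.c) (D.h - (i₀ + D.c)) := by
        rw [U_mul_w, w_inj]
        exact ⟨by ring, by linear_combination D.c_add_c⟩
      rw [this]; exact mul_mem (hU k l hkl) (mul_mem (hmemP _) hb)
  · rintro s (⟨k, hk, rfl⟩ | ⟨k, hk, rfl⟩)
    · exact (hX _).2 ⟨k, -k, by rw [sub_neg_eq_add]; exact hk, Or.inl rfl⟩
    · refine (hX _).2 ⟨D.c + k, D.h - D.c - k, ?_, Or.inr ?_⟩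
      · rw [show D.c + k - (D.h - D.c - k) = (k + k) + ((D.c + D.c) - D.h) by ring, c_add_c,
          sub_self, add_zero]
        exact hk
      · rw [U_mul_w, w_inj]; constructor <;> ring
  · intro s hs
    obtain ⟨a, rfl⟩ := D.mem_center.1 hs
    exact (hX _).2 ⟨a, a, Or.inl (sub_self a), Or.inl rfl⟩

theorem shape_quaternion {X : Subgroup S} {i₀ : ZMod (2 ^ D.n)} (hX : D.IsShape X i₀) :
    ∃ Q : Subgroup S, Nonempty (Q ≃* QuaternionGroup 2) ∧ X = Q ⊔ Subgroup.center S :=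
  ⟨D.q8 (i₀ + D.c), D.q8_equiv _, D.shape_eq hX⟩

/-- The subgroup of shape `i₀`. -/
def shapeGroup (i₀ : ZMod (2 ^ D.n)) : Subgroup S where
  carrier := {s | ∃ k l, (k - l = 0 ∨ k - l = D.h) ∧
    (s = D.U k l ∨ s = D.U k l * D.w i₀ (-i₀))}
  one_mem' := ⟨0, 0, Or.inl (sub_self 0), Or.inl D.U_zero.symm⟩
  mul_mem' := by
    rintro _ _ ⟨k, l, h1, rfl | rfl⟩ ⟨k', l', h2, rfl | rfl⟩
    · exact ⟨_, _, by rw [add_sub_add_comm]; exact D.zero_or_h_add h1 h2, Or.inl (D.U_mul_U _ _ _ _)⟩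
    · refine ⟨k + k', l + l', by rw [add_sub_add_comm]; exact D.zero_or_h_add h1 h2, Or.inr ?_⟩
      rw [← U_mul_U, mul_assoc]
    · refine ⟨k + l', l + k', ?_, Or.inr ?_⟩
      · rw [show k + l' - (l + k') = (k - l) - (k' - l') by ring]; exact D.zero_or_h_sub h1 h2
      · rw [U_mul_w, w_mul_U, U_mul_w, w_inj]; constructor <;> ring
    · refine ⟨k + l', l + k', ?_, Or.inl ?_⟩
      · rw [show k + l' - (l + k') = (k - l) - (k' - l') by ring]; exact D.zero_or_h_sub h1 h2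
      · rw [U_mul_w, U_mul_w, w_mul_w, U_inj]; constructor <;> ring
  inv_mem' := by
    rintro _ ⟨k, l, h1, rfl | rfl⟩
    · refine ⟨-k, -l, ?_, Or.inl (D.U_inv k l)⟩
      rw [show -k - -l = 0 - (k - l) by ring]; exact D.zero_or_h_sub (Or.inl rfl) h1
    · refine ⟨-l, -k, ?_, Or.inr ?_⟩
      · rw [show -l - -k = k - l by ring]; exact h1
      · rw [U_mul_w, w_inv, U_mul_w, w_inj]; constructor <;> ring

theorem shapeGroup_shape (i₀ : ZMod (2 ^ D.n)) : D.IsShape (D.shapeGroup i₀) i₀ := fun _ => Iff.rfl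

theorem q8_le_of {Q : Subgroup S} {k i : ZMod (2 ^ D.n)} (hk : k + k = D.h)
    (hg : D.U k (-k) ∈ Q) (hv : D.w i (D.h - i) ∈ Q) : D.q8 i ≤ Q := by
  have hU : ∀ l, (l + l = 0 ∨ l + l = D.h) → D.U l (-l) ∈ Q := by
    intro l hl
    have hh : D.U D.h (-D.h) ∈ Q := by
      have := mul_mem hg hg
      rwa [U_mul_U, ← neg_add, hk] at this
    rcases hl with h' | h'
    · rcases D.add_self.1 h' with rfl | rfl
      · rw [neg_zero, U_zero]; exact one_mem Q
      · exact hh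
    · rcases D.add_self.1 (show (l - k) + (l - k) = 0 by linear_combination h' - hk) with h'' | h''
      · rw [sub_eq_zero.1 h'']; exact hg
      · rw [sub_eq_iff_eq_add.1 h'', neg_add, ← U_mul_U]; exact mul_mem hh hg
  rintro _ (⟨l, hl, rfl⟩ | ⟨l, hl, rfl⟩)
  · exact hU l hl
  · have : D.w (i + l) (D.h - i - l) = D.U l (-l) * D.w i (D.h - i) := by
      rw [U_mul_w, w_inj]; constructor <;> ring
    rw [this]; exact mul_mem (hU l hl) hv

theorem eq_shapeGroup {X : Subgroup S} {i₀ : ZMod (2 ^ D.n)} (hX : D.IsShape X i₀) :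
    X = D.shapeGroup i₀ := Subgroup.ext hX

theorem quaternion_unique_facts :
    (∀ g b : QuaternionGroup 2, g * g ≠ 1 → b * b ≠ 1 → b ≠ g → b ≠ g⁻¹ →
      b * g * b⁻¹ = g⁻¹ ∧ b * b = g * g) ∧
    (∀ g : QuaternionGroup 2, g * g * (g * g) = 1) := by
  constructor <;> decide

include D in
theorem eq_q8 {Q : Subgroup S} (e : Q ≃* QuaternionGroup 2) : ∃ i, Q = D.q8 i := by
  have := D.finite
  set a : Q := e.symm (QuaternionGroup.a 1) with ha
  set b : Q := e.symm (QuaternionGroup.xa 0) with hb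
  have hsq : ∀ g : Q, e g * e g ≠ 1 ↔ (g : S) * g ≠ 1 := fun g => by
    rw [not_iff_not, ← map_mul, e.map_eq_one_iff, ← Subgroup.coe_mul, OneMemClass.coe_eq_one]
  have h3 : ∀ g : QuaternionGroup 2, g = QuaternionGroup.a 1 ∨ g = QuaternionGroup.xa 0 ∨
      g = QuaternionGroup.a 1 * QuaternionGroup.xa 0 → g * g ≠ 1 := by decide
  obtain ⟨g, hgU, hg⟩ : ∃ g : Q, (g : S) ∈ D.base ∧ (g : S) * g ≠ 1 := by
    by_cases hA : (a : S) ∈ D.base
    · exact ⟨a, hA, (hsq a).1 (by rw [ha, e.apply_symm_apply]; exact h3 _ (Or.inl rfl))⟩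
    by_cases hB : (b : S) ∈ D.base
    · exact ⟨b, hB, (hsq b).1 (by rw [hb, e.apply_symm_apply]; exact h3 _ (Or.inr (Or.inl rfl)))⟩
    refine ⟨a * b, ?_, (hsq _).1 (by
      rw [map_mul, ha, hb, e.apply_symm_apply, e.apply_symm_apply]
      exact h3 _ (Or.inr (Or.inr rfl)))⟩
    rw [Subgroup.coe_mul, Subgroup.mul_mem_iff_of_index_two D.index_base]
    exact iff_of_false hA hB
  obtain ⟨v, hv⟩ : ∃ v : Q, (v : S) ∉ D.base := by
    by_contra hno
    push Not at hno
    have h4 : ∀ u v : QuaternionGroup 2, u * v = v * u := fun u v => by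
      obtain ⟨u, rfl⟩ := e.surjective u
      obtain ⟨v, rfl⟩ := e.surjective v
      rw [← map_mul, ← map_mul]
      refine congrArg e (Subtype.ext ?_)
      obtain ⟨i, j, hu⟩ := hno u
      obtain ⟨k, l, hv⟩ := hno v
      rw [Subgroup.coe_mul, Subgroup.coe_mul, hu, hv]
      exact D.U_comm _ _ _ _
    exact absurd (h4 (QuaternionGroup.a 1) (QuaternionGroup.xa 0)) (by decide)
  have hv2 : (v : S) * v ≠ 1 := by
    intro h'
    -- an involution of `Q` is a square of an element of the base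
    have h5 : ∀ x y : QuaternionGroup 2, x * x = 1 → x ≠ 1 → y * y ≠ 1 → x = y * y := by decide
    have hx : v = g * g := e.injective (by
      rw [map_mul]
      refine h5 _ _ ?_ ?_ ((hsq g).2 hg)
      · rw [← map_mul, show v * v = 1 from Subtype.ext h', map_one]
      · rw [Ne, e.map_eq_one_iff]; rintro rfl; exact hv (one_mem _))
    exact hv (by rw [hx, Subgroup.coe_mul]; exact mul_mem hgU hgU)
  obtain ⟨hvg, hvv⟩ := quaternion_unique_facts.1 (e g) (e v) ((hsq g).2 hg) ((hsq v).2 hv2)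
    (fun h' => hv (e.injective h' ▸ hgU))
    (fun h' => by
      rw [← map_inv] at h'
      exact hv (by rw [e.injective h']; exact inv_mem hgU))
  rw [← map_inv, ← map_mul, ← map_inv, ← map_mul] at hvg
  rw [← map_mul, ← map_mul] at hvv
  have hvg' : (v : S) * g * (v : S)⁻¹ = (g : S)⁻¹ := congrArg Subtype.val (e.injective hvg)
  have hvv' : (v : S) * v = g * g := congrArg Subtype.val (e.injective hvv)
  have hg4 : (g : S) * g * (g * g) = 1 := by
    have : g * g * (g * g) = 1 := e.injective (by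
      rw [map_mul, map_mul, map_one]; exact quaternion_unique_facts.2 _)
    exact congrArg Subtype.val this
  obtain ⟨k, l, hgk⟩ := hgU
  obtain ⟨i, j, hvw⟩ : ∃ i j, (v : S) = D.w i j := (D.forms _).resolve_left hv
  rw [hgk, hvw, conj_w_U, U_inv, U_inj] at hvg'
  obtain rfl : l = -k := hvg'.1
  have hgQ : D.U k (-k) ∈ Q := hgk ▸ g.2
  have hvQ : D.w i j ∈ Q := hvw ▸ v.2
  rw [hgk, U_mul_U, Ne, U_eq_one] at hg
  rw [hgk, U_mul_U, U_mul_U, U_eq_one] at hg4
  rw [hgk, hvw, w_sq, U_mul_U, U_inj] at hvv'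
  have hk2 : k + k = D.h := by
    rcases D.add_self.1 hg4.1 with h' | h'
    · exact absurd ⟨h', by linear_combination -h'⟩ hg
    · exact h'
  have hj : j = D.h - i := by linear_combination hvv'.1 + hk2
  refine ⟨i, (Subgroup.eq_of_le_of_card_ge (D.q8_le_of hk2 hgQ (hj ▸ hvQ)) ?_).symm⟩
  obtain ⟨e'⟩ := D.q8_equiv i
  rw [Nat.card_congr e'.toEquiv, Nat.card_congr e.toEquiv]

include D in
theorem shape_relIndex {X : Subgroup S} {i₀ : ZMod (2 ^ D.n)} (hX : D.IsShape X i₀) :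
    X.relIndex (Subgroup.normalizer (X : Set S)) = 2 := by
  have := D.finite
  have hc : ∀ s ∈ X, D.U D.c 0 * s * (D.U D.c 0)⁻¹ ∈ X := by
    intro s hs
    rw [hX]
    obtain ⟨k, l, hkl, rfl | rfl⟩ := (hX s).1 hs
    · exact ⟨k, l, hkl, Or.inl (D.conj_U_U _ _ _ _)⟩
    · refine ⟨k + D.c, l - D.c, ?_, Or.inr ?_⟩
      · rw [show k + D.c - (l - D.c) = (k - l) + (D.c + D.c) by ring, c_add_c]
        exact D.zero_or_h_add hkl (Or.inr rfl)
      · rw [U_mul_w, conj_U_w, U_mul_w, w_inj]; constructor <;> ring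
  have hn : D.U D.c 0 ∈ Subgroup.normalizer (X : Set S) := by
    have h1 : X.map (MulAut.conj (D.U D.c 0)).toMonoidHom = X := Subgroup.eq_of_le_of_card_ge
      (by rintro _ ⟨t, ht, rfl⟩; exact hc t ht)
      (by rw [Subgroup.card_map_of_injective (MulEquiv.injective _)])
    refine Subgroup.mem_normalizer_iff.2 fun s => ⟨hc s, fun hs => ?_⟩
    obtain ⟨t, ht, he⟩ := h1.symm.le hs
    simp only [MulEquiv.coe_toMonoidHom, MulAut.conj_apply] at he
    exact mul_left_cancel (mul_right_cancel he) ▸ ht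
  have hnot : D.U D.c 0 ∉ X := fun hm => by
    obtain ⟨k, l, hkl, e | e⟩ := (hX _).1 hm
    · rw [U_inj] at e
      rw [← e.1, ← e.2, sub_zero] at hkl
      exact hkl.elim D.c_ne_zero D.c_ne_h
    · rw [U_mul_w] at e; exact D.U_ne_w _ _ _ _ e
  have hw0 : D.w i₀ (-i₀) ∈ X :=
    (hX _).2 ⟨0, 0, Or.inl (sub_self 0), Or.inr (by rw [U_zero, one_mul])⟩
  -- elements of the base normalising `X`
  have hbase : ∀ a b, D.U a b ∈ Subgroup.normalizer (X : Set S) →
      D.U a b ∈ X ∨ D.U a b * D.U D.c 0 ∈ X := by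
    intro a b hab
    have h1 := (Subgroup.mem_normalizer_iff.1 hab _).1 hw0
    rw [conj_U_w] at h1
    obtain ⟨k, l, hkl, e | e⟩ := (hX _).1 h1
    · exact absurd e.symm (D.U_ne_w _ _ _ _)
    rw [U_mul_w, w_inj] at e
    have h4 : (a - b) + (a - b) = k - l := by linear_combination e.1 - e.2
    rcases hkl with h' | h' <;> rw [h'] at h4
    · exact Or.inl ((hX _).2 ⟨a, b, D.add_self.1 h4, Or.inl rfl⟩)
    · refine Or.inr ((hX _).2 ⟨a + D.c, b + 0, D.add_self.1 ?_, Or.inl (D.U_mul_U _ _ _ _)⟩)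
      linear_combination h4 + D.c_add_c + D.h_add_h
  rw [Subgroup.relIndex, Subgroup.index_eq_two_iff]
  refine ⟨⟨_, hn⟩, fun g => ?_⟩
  simp only [Subgroup.mem_subgroupOf, Subgroup.coe_mul]
  have hd : (g : S) ∈ X ∨ (g : S) * D.U D.c 0 ∈ X := by
    obtain ⟨g, hg⟩ := g
    rcases D.forms g with ⟨a, b, rfl⟩ | ⟨a, b, rfl⟩
    · exact hbase a b hg
    · have hwN : D.w i₀ (-i₀) ∈ Subgroup.normalizer (X : Set S) := Subgroup.le_normalizer hw0
      have h1 := mul_mem hg (inv_mem hwN)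
      have h2 : D.w a b * (D.w i₀ (-i₀))⁻¹ = D.U (a + -i₀) (b + i₀) := by
        rw [w_inv, w_mul_w, neg_neg]
      rw [h2] at h1
      rcases hbase _ _ h1 with h3 | h3
      · refine Or.inl ?_
        have h6 : D.w a b = D.U (a + -i₀) (b + i₀) * D.w i₀ (-i₀) := by rw [← h2]; group
        show D.w a b ∈ X
        rw [h6]; exact mul_mem h3 hw0
      · refine Or.inr ?_
        have h4 : D.w a b * D.U D.c 0 = (D.U (a + -i₀) (b + i₀) * D.U D.c 0) *
            ((D.U D.c 0)⁻¹ * D.w i₀ (-i₀) * D.U D.c 0) := by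
          rw [← h2]; group
        rw [h4]
        refine mul_mem h3 ?_
        have h5 := (Subgroup.mem_normalizer_iff.1 (inv_mem hn) _).1 hw0
        rwa [inv_inv] at h5
  rcases hd with h' | h'
  · exact Or.inr ⟨h', fun h'' => hnot (by simpa using mul_mem (inv_mem h') h'')⟩
  · exact Or.inl ⟨h', fun h'' => hnot (by simpa using mul_mem (inv_mem h'') h')⟩

include D in
theorem shape_conj {X X' : Subgroup S} {i₀ i₁ : ZMod (2 ^ D.n)} (hX : D.IsShape X i₀)
    (hX' : D.IsShape X' i₁) : ∃ s : S, X.map (MulAut.conj s).toMonoidHom = X' := by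
  have := D.finite
  have hfix : ∀ {Y : Subgroup S} {i : ZMod (2 ^ D.n)} {d : ZMod (2 ^ D.n)} {j : ZMod (2 ^ D.n)},
      D.IsShape Y i → i + d = j → ∀ {Y' : Subgroup S}, D.IsShape Y' j →
        Y.map (MulAut.conj (D.U d 0)).toMonoidHom ≤ Y' := by
    intro Y i d j hY hd Y' hY'
    rintro _ ⟨s, hs, rfl⟩
    simp only [MulEquiv.coe_toMonoidHom, MulAut.conj_apply]
    rw [hY']
    obtain ⟨k, l, hkl, rfl | rfl⟩ := (hY s).1 hs
    · exact ⟨k, l, hkl, Or.inl (D.conj_U_U _ _ _ _)⟩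
    · refine ⟨k, l, hkl, Or.inr ?_⟩
      rw [U_mul_w, conj_U_w, U_mul_w, w_inj, ← hd]; constructor <;> ring
  refine ⟨D.U (i₁ - i₀) 0, Subgroup.eq_of_le_of_card_ge (hfix hX (by ring) hX') ?_⟩
  have h1 := Subgroup.card_le_of_le (hfix hX' (show i₁ + (i₀ - i₁) = i₀ by ring) hX)
  rw [Subgroup.card_map_of_injective (MulEquiv.injective _)] at h1
  rw [Subgroup.card_map_of_injective (MulEquiv.injective _)]
  exact h1

end Gens

end Cfsg.Agent.Involutions.Wreathed
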