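import Mathlib
import Cfsg.Agent.Lib.Involutions.WreathedAut
import Cfsg.Agent.Lib.Involutions.FusionInvariant
import Cfsg.Agent.Lib.Involutions.QuasiDihedralClasses

/-!
# Fusion in groups with wreathed Sylow 2-subgroups
-/

namespace Cfsg.Agent.Involutions.WreathedFusion

open Cfsg.Agent.Involutions.Wreathed Cfsg.Agent.Involutions.ThreePoint
open Cfsg.Agent.Involutions.QuasiDihedralFusion (quotAut quotAut_mk eq_top_of_fpf exists_odd_fpf isKleinFour_map)
open scoped Pointwise

variable {G : Type*} [Group G] [Finite G] {S : Sylow 2 G} (D : Gens (S : Subgroup G))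

/-! ### The normaliser of the Sylow subgroup -/

theorem eq_base_or_shape {H : Type*} [Group H] (D : Gens H) {X : Subgroup H}
    (hC : Subgroup.centralizer (X : Set H) ≤ X) (hA : ¬ IsPGroup 2 (MulAut X)) :
    X = D.base ∨ ∃ i₀, X = D.shapeGroup i₀ := by
  have := D.finite
  obtain ⟨σ, hne, ho⟩ := exists_odd_aut hA
  have hZ : Subgroup.center H ≤ X := (Subgroup.center_le_centralizer _).trans hC
  by_cases hab : IsMulCommutative X
  · refine Or.inl ?_
    by_cases hle : X ≤ D.base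
    · refine le_antisymm hle fun s hs => hC (Subgroup.mem_centralizer_iff.2 fun t ht => ?_)
      exact congrArg Subtype.val (D.base_isMulCommutative.is_comm.comm ⟨t, hle ht⟩ ⟨s, hs⟩)
    · obtain ⟨v, hv, hvb⟩ := SetLike.not_le_iff_exists.1 hle
      obtain ⟨i, j, rfl⟩ : ∃ i j, v = D.w i j := (D.forms v).resolve_left hvb
      exact absurd (D.abelian_aut hab hZ hv ho) hne
  · obtain ⟨i₀, h⟩ := D.exists_shape hab hZ hne ho
    exact Or.inr ⟨i₀, D.eq_shapeGroup h⟩

theorem top_aut {H : Type*} [Group H] (D : Gens H) : IsPGroup 2 (MulAut (⊤ : Subgroup H)) := by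
  have := D.finite
  by_contra hA
  rcases eq_base_or_shape D le_top hA with h | ⟨i₀, h⟩
  · have := D.index_base
    rw [← h, Subgroup.index_top] at this
    omega
  · have := D.shape_relIndex (D.shapeGroup_shape i₀)
    rw [← h, Subgroup.relIndex_top_left] at this
    omega

include D in
theorem normalizer_sylow_inner {n : G} (hn : n ∈ Subgroup.normalizer ((S : Subgroup G) : Set G)) :
    ∃ s ∈ (S : Subgroup G), ∀ x ∈ (S : Subgroup G), n * x * n⁻¹ = s * x * s⁻¹ := by
  have haut : IsPGroup 2 (MulAut (S : Subgroup G)) :=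
    (top_aut D).of_equiv (MulAut.congr Subgroup.topEquiv)
  set N := Subgroup.normalizer ((S : Subgroup G) : Set G)
  set ρ := (S : Subgroup G).normalizerMonoidHom
  -- `ρ` maps onto a 2-group, and `S` is a Sylow subgroup of `N`
  let S' : Subgroup N := (S : Subgroup G).subgroupOf N
  have hodd : ¬ 2 ∣ S'.index := by
    intro h
    exact S.not_dvd_index (h.trans (Subgroup.relIndex_dvd_index_of_le Subgroup.le_normalizer))
  have h1 : (S' ⊔ ρ.ker).index = 1 := by
    have h2 : (S' ⊔ ρ.ker).index ∣ Nat.card ρ.range := by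
      rw [← Subgroup.index_ker]; exact Subgroup.index_dvd_of_le le_sup_right
    obtain ⟨k, hk⟩ := IsPGroup.iff_card.1 (haut.to_subgroup ρ.range)
    rw [hk] at h2
    obtain ⟨m, -, hm⟩ := (Nat.dvd_prime_pow Nat.prime_two).1 h2
    rcases Nat.eq_zero_or_pos m with rfl | hm0
    · simpa using hm
    · exact absurd ((hm ▸ dvd_pow_self 2 (by omega) : 2 ∣ _).trans
        (Subgroup.index_dvd_of_le le_sup_left)) hodd
  have hmem : (⟨n, hn⟩ : N) ∈ S' ⊔ ρ.ker := by
    rw [Subgroup.index_eq_one.1 h1]; trivial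
  obtain ⟨s, hs, c, hc, he⟩ := Subgroup.mem_sup_of_normal_right.1 hmem
  refine ⟨(s : G), hs, fun x hx => ?_⟩
  have h3 : (c : G) * x * (c : G)⁻¹ = x := by
    have := congrArg (fun σ : MulAut (S : Subgroup G) => ((σ ⟨x, hx⟩ : (S : Subgroup G)) : G)) hc
    exact this
  have hn' : n = (s : G) * c := (congrArg Subtype.val he).symm
  rw [hn', show (s : G) * c * x * ((s : G) * c)⁻¹ = s * ((c : G) * x * (c : G)⁻¹) * (s : G)⁻¹ by group,
    h3]

/-! ### The abelian subgroup -/

/-- The image of the base in `G`. -/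
def baseG : Subgroup G := D.base.map (S : Subgroup G).subtype

/-- The image of the centre of `S`. -/
def centerG (_D : Gens (S : Subgroup G)) : Subgroup G :=
  (Subgroup.center (S : Subgroup G)).map (S : Subgroup G).subtype

/-- The central involution, in `G`. -/
def ι : G := (D.U D.h D.h : (S : Subgroup G))

theorem baseG_le : baseG D ≤ (S : Subgroup G) := Subgroup.map_subtype_le _

theorem mem_baseG {s : (S : Subgroup G)} : (s : G) ∈ baseG D ↔ s ∈ D.base :=
  ⟨fun ⟨t, ht, e⟩ => (Subtype.ext e : t = s) ▸ ht, fun h => ⟨s, h, rfl⟩⟩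

theorem baseG_comm {x y : G} (hx : x ∈ baseG D) (hy : y ∈ baseG D) : Commute x y := by
  obtain ⟨_, ⟨i, j, rfl⟩, rfl⟩ := hx
  obtain ⟨_, ⟨k, l, rfl⟩, rfl⟩ := hy
  exact congrArg Subtype.val (D.U_comm i j k l)

theorem sylow_le_normalizer_baseG : (S : Subgroup G) ≤ Subgroup.normalizer (baseG D : Set G) := by
  intro s hs
  have hb : D.base.Normal := Subgroup.normal_of_index_eq_two D.index_base
  refine Subgroup.mem_normalizer_iff.2 fun x => ⟨?_, fun hx => ?_⟩
  · rintro ⟨t, ht, rfl⟩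
    exact ⟨⟨s, hs⟩ * t * (⟨s, hs⟩ : (S : Subgroup G))⁻¹, hb.conj_mem t ht _, rfl⟩
  · obtain ⟨t, ht, e⟩ := hx
    refine ⟨(⟨s, hs⟩ : (S : Subgroup G))⁻¹ * t * ⟨s, hs⟩, by simpa using hb.conj_mem t ht ⟨s, hs⟩⁻¹, ?_⟩
    simp only [Subgroup.subtype_apply] at e ⊢
    rw [Subgroup.coe_mul, Subgroup.coe_mul, Subgroup.coe_inv, e]
    group

theorem card_baseG : Nat.card (baseG D) = 2 ^ (2 * D.n) := by
  rw [baseG, Subgroup.card_map_of_injective (Subgroup.subtype_injective _), D.card_base]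

include D in
/-- The normalisers of subgroups of `Z(S)` containing it centralise it. -/
theorem commute_centerG {n : G} (hn : n ∈ Subgroup.normalizer (centerG D : Set G)) {x : G}
    (hx : x ∈ centerG D) : n * x * n⁻¹ = x := by
  set N := Subgroup.normalizer (centerG D : Set G)
  set ρ := (centerG D).normalizerMonoidHom
  have hcyc : IsCyclic (centerG D) := by
    have := D.isCyclic_center
    exact isCyclic_of_surjective
      ((Subgroup.center (S : Subgroup G)).equivMapOfInjective _ (Subgroup.subtype_injective _))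
      (MulEquiv.surjective _)
  have hcard : Nat.card (centerG D) = 2 ^ D.n := by
    rw [centerG, Subgroup.card_map_of_injective (Subgroup.subtype_injective _), D.card_center]
  have hker : ρ.ker.index = 1 := by
    have h1 : ρ.ker.index ∣ Nat.card (MulAut (centerG D)) := by
      rw [Subgroup.index_ker]; exact Subgroup.card_subgroup_dvd_card _
    rw [hcyc.card_mulAut, hcard, Nat.totient_prime_pow Nat.prime_two D.n1, Nat.add_one_sub_one,
      mul_one] at h1
    obtain ⟨m, -, hm⟩ := (Nat.dvd_prime_pow Nat.prime_two).1 h1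
    rcases Nat.eq_zero_or_pos m with rfl | hm0
    · simpa using hm
    exfalso
    have hS : (S : Subgroup G) ≤ N := fun s hs => by
      refine Subgroup.mem_normalizer_iff.2 fun y => ?_
      have key : ∀ t ∈ (S : Subgroup G), ∀ y ∈ centerG D, t * y * t⁻¹ = y := by
        rintro t ht _ ⟨v, hv, rfl⟩
        have := congrArg Subtype.val ((Subgroup.mem_center_iff.1 hv) ⟨t, ht⟩)
        simp only [Subgroup.coe_mul] at this
        rw [Subgroup.subtype_apply, this, mul_inv_cancel_right]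
      refine ⟨fun hy => by rwa [key s hs y hy], fun hy => ?_⟩
      have := key _ (inv_mem hs) _ hy
      rw [show s⁻¹ * (s * y * s⁻¹) * s⁻¹⁻¹ = y by group] at this
      rwa [this]
    have hSk : (S : Subgroup G).subgroupOf N ≤ ρ.ker := by
      intro t ht
      rw [MonoidHom.mem_ker]
      refine MulEquiv.ext fun y => Subtype.ext ?_
      obtain ⟨v, hv, hy⟩ := y.2
      show (t : G) * (y : G) * (t : G)⁻¹ = y
      rw [← hy, Subgroup.subtype_apply]
      have := congrArg Subtype.val ((Subgroup.mem_center_iff.1 hv) ⟨t, ht⟩)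
      simp only [Subgroup.coe_mul] at this
      rw [this, mul_inv_cancel_right]
    exact S.not_dvd_index (((hm ▸ dvd_pow_self 2 (by omega) : 2 ∣ ρ.ker.index).trans
      (Subgroup.index_dvd_of_le hSk)).trans (Subgroup.relIndex_dvd_index_of_le hS))
  have h2 : (⟨n, hn⟩ : N) ∈ ρ.ker := by rw [Subgroup.index_eq_one.1 hker]; trivial
  exact congrArg (fun σ : MulAut (centerG D) => ((σ ⟨x, hx⟩ : centerG D) : G)) h2

/-- Some element of the normaliser of the base moves the central involution. -/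
def UMoves : Prop :=
  ∃ n ∈ Subgroup.normalizer (baseG D : Set G), n * ι D * n⁻¹ ≠ ι D

/-- The four-group of involutions of the base, in `G`. -/
def omegaG : Subgroup G := D.omega.map (S : Subgroup G).subtype

theorem omegaG_four : IsKleinFour (omegaG D) :=
  isKleinFour_map D.omega_kleinFour _ (Subgroup.subtype_injective _)

theorem mem_omegaG {x : G} : x ∈ omegaG D ↔ x ∈ baseG D ∧ x * x = 1 := by
  constructor
  · rintro ⟨_, ⟨i, j, hi, hj, rfl⟩, rfl⟩
    refine ⟨⟨_, D.U_mem_base i j, rfl⟩, congrArg Subtype.val (show D.U i j * D.U i j = 1 from ?_)⟩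
    rw [D.U_mul_U, D.U_eq_one]; exact ⟨D.add_self.2 hi, D.add_self.2 hj⟩
  · rintro ⟨⟨_, ⟨i, j, rfl⟩, rfl⟩, h⟩
    have h' : D.U i j * D.U i j = 1 := Subtype.ext h
    rw [D.U_mul_U, D.U_eq_one] at h'
    exact ⟨_, ⟨i, j, D.add_self.1 h'.1, D.add_self.1 h'.2, rfl⟩, rfl⟩

theorem normalizer_baseG_le :
    Subgroup.normalizer (baseG D : Set G) ≤ Subgroup.normalizer (omegaG D : Set G) := by
  intro n hn
  refine Subgroup.mem_normalizer_iff.2 fun x => ?_
  rw [mem_omegaG, mem_omegaG, ← Subgroup.mem_normalizer_iff.1 hn x, conj_mul, conj_eq_one_iff]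

theorem ι_mem : ι D ∈ omegaG D := ⟨_, ⟨D.h, D.h, Or.inr rfl, Or.inr rfl, rfl⟩, rfl⟩

theorem ι_ne_one : ι D ≠ 1 := fun e => D.h_ne_zero (D.U_eq_one.1 (Subtype.ext e)).1

theorem base_perm :
    ∃ φ : Subgroup.normalizer (baseG D : Set G) →* Equiv.Perm {t : omegaG D // t ≠ 1},
      (∀ n t, (((φ n t : omegaG D)) : G) = n * (t : omegaG D) * (n : G)⁻¹) ∧
      φ.ker = (Subgroup.centralizer (baseG D : Set G)).subgroupOf
        (Subgroup.normalizer (baseG D : Set G)) ∧
      Nat.card {t : omegaG D // t ≠ 1} = 3 ∧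
      ((¬ UMoves D ∧ φ.ker.index = 2) ∨ (UMoves D ∧ φ.ker.index = 6)) := by
  set N := Subgroup.normalizer (baseG D : Set G) with hNdef
  let φ : N →* Equiv.Perm {t : omegaG D // t ≠ 1} := (autPerm (omegaG D)).comp
    ((omegaG D).normalizerMonoidHom.comp (Subgroup.inclusion (normalizer_baseG_le D)))
  have hap : ∀ n t, (((φ n t : omegaG D)) : G) = n * (t : omegaG D) * (n : G)⁻¹ := fun n t => rfl
  have hcard : Nat.card {t : omegaG D // t ≠ 1} = 3 := by
    rw [card_nontrivial, (omegaG_four D).card_four]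
  set C := (Subgroup.centralizer (baseG D : Set G)).subgroupOf N
  have hCle : C ≤ φ.ker := fun n hn => by
    rw [MonoidHom.mem_ker]
    refine Equiv.ext fun t => Subtype.ext (Subtype.ext ?_)
    rw [hap]
    show (n : G) * ((t : omegaG D) : G) * (n : G)⁻¹ = ((t : omegaG D) : G)
    have h1 : ((t : omegaG D) : G) * (n : G) = (n : G) * ((t : omegaG D) : G) :=
      Subgroup.mem_centralizer_iff.1 hn _ ((mem_omegaG D).1 (t : omegaG D).2).1
    rw [← h1, mul_inv_cancel_right]
  have hu : ((D.w 0 0 : (S : Subgroup G)) : G) ∈ N := sylow_le_normalizer_baseG D (D.w 0 0).2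
  have hu1 : φ ⟨_, hu⟩ ≠ 1 := by
    intro e
    have hmem : ((D.U D.h 0 : (S : Subgroup G)) : G) ∈ omegaG D :=
      ⟨_, ⟨D.h, 0, Or.inr rfl, Or.inl rfl, rfl⟩, rfl⟩
    have hne : (⟨_, hmem⟩ : omegaG D) ≠ 1 := fun h =>
      D.h_ne_zero (D.U_eq_one.1 (Subtype.ext (congrArg (fun v : omegaG D => (v : G)) h) : D.U D.h 0 = 1)).1
    have h2 := congrArg (fun σ : Equiv.Perm {t : omegaG D // t ≠ 1} =>
      ((σ ⟨_, hne⟩ : omegaG D) : G)) e
    have h3 : D.w 0 0 * D.U D.h 0 * (D.w 0 0)⁻¹ = D.U D.h 0 := Subtype.ext h2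
    rw [D.conj_w_U, D.U_inj] at h3
    exact D.h_ne_zero h3.2
  have hz1 : (⟨ι D, ι_mem D⟩ : omegaG D) ≠ 1 := fun e => ι_ne_one D (congrArg Subtype.val e)
  have hua : φ ⟨_, hu⟩ ⟨_, hz1⟩ = ⟨_, hz1⟩ := by
    refine Subtype.ext (Subtype.ext ?_)
    rw [hap]
    show ((D.w 0 0 : (S : Subgroup G)) : G) * ι D * ((D.w 0 0 : (S : Subgroup G)) : G)⁻¹ = ι D
    exact congrArg Subtype.val (D.conj_w_U 0 0 D.h D.h)
  have hcases := index_ker φ hcard hu1 hua
  -- the kernel is the centraliser
  have hker : φ.ker = C := by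
    refine le_antisymm ?_ hCle
    have h4 : ¬ 4 ∣ C.index := by
      intro h4
      have h1 : Nat.card C * C.index ∣ Nat.card G := by
        rw [Subgroup.card_mul_index]; exact Subgroup.card_subgroup_dvd_card _
      have h2 : 2 ^ (2 * D.n) ∣ Nat.card C := by
        rw [← card_baseG D, ← Nat.card_congr (Subgroup.subgroupOfEquivOfLe
          (Subgroup.le_normalizer : baseG D ≤ N)).toEquiv]
        refine Subgroup.card_dvd_of_le fun v hv => Subgroup.mem_centralizer_iff.2 fun y hy => ?_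
        exact (baseG_comm D hy hv).eq
      have h3 : 2 ^ (2 * D.n + 2) ∣ Nat.card G := by
        rw [pow_add]; exact (mul_dvd_mul h2 h4).trans h1
      have h5 := (S : Subgroup G).card_mul_index
      have h6 : Nat.card (S : Subgroup G) = 2 ^ (2 * D.n + 1) := D.hcard
      rw [h6] at h5
      rw [← h5, show 2 * D.n + 2 = (2 * D.n + 1) + 1 from rfl, pow_succ] at h3
      exact S.not_dvd_index (Nat.dvd_of_mul_dvd_mul_left (by positivity) h3)
    have hp : ∀ n ∈ φ.ker, ∃ k : ℕ, n ^ 2 ^ k ∈ C := by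
      intro n hn
      obtain ⟨m, hm⟩ : ∃ m : ℕ, Odd (orderOf (n ^ 2 ^ m)) := by
        refine ⟨(orderOf n).factorization 2, ?_⟩
        rw [orderOf_pow_of_dvd (pow_ne_zero _ two_ne_zero) (Nat.ordProj_dvd _ _)]
        exact Nat.not_even_iff_odd.1 fun he =>
          Nat.not_dvd_ordCompl Nat.prime_two (orderOf_pos n).ne' he.two_dvd
      refine ⟨m, ?_⟩
      set v := n ^ 2 ^ m
      have hv : v ∈ φ.ker := pow_mem hn _
      set σ := (baseG D).normalizerMonoidHom v
      have hoσ : Odd (orderOf σ) := hm.of_dvd_nat (orderOf_map_dvd _ v)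
      have h2g : IsPGroup 2 (baseG D) := S.2.to_le (baseG_le D)
      have hfixinv : ∀ y : baseG D, y * y = 1 → σ y = y := by
        intro y hy
        by_cases hy1 : y = 1
        · rw [hy1, map_one]
        have hmem : (y : G) ∈ omegaG D := (mem_omegaG D).2 ⟨y.2, congrArg Subtype.val hy⟩
        have hne : (⟨_, hmem⟩ : omegaG D) ≠ 1 := fun e =>
          hy1 (Subtype.ext (congrArg (fun t : omegaG D => (t : G)) e))
        have h7 := congrArg (fun σ : Equiv.Perm {t : omegaG D // t ≠ 1} =>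
          ((σ ⟨_, hne⟩ : omegaG D) : G)) hv
        exact Subtype.ext h7
      have hall : ∀ e : ℕ, ∀ y : baseG D, y ^ 2 ^ e = 1 → σ y = y := by
        intro e
        induction e with
        | zero => intro y hy; rw [pow_zero, pow_one] at hy; rw [hy, map_one]
        | succ e ih =>
          intro y hy
          have hsq : σ (y * y) = y * y := ih _ (by rw [← sq, ← pow_mul, ← pow_succ']; exact hy)
          refine eq_of_delta h2g hoσ (hfixinv _ ?_)
          have hc : Commute (σ y) y⁻¹ := Subtype.ext (baseG_comm D (σ y).2 (y⁻¹).2).eq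
          rw [hc.mul_mul_mul_comm, ← map_mul, hsq]; group
      refine Subgroup.mem_centralizer_iff.2 fun y hy => ?_
      obtain ⟨e, he⟩ := h2g ⟨y, hy⟩
      have h8 : (v : G) * y * (v : G)⁻¹ = y := congrArg Subtype.val (hall e _ he)
      exact (mul_inv_eq_iff_eq_mul.1 h8).symm
    -- so the index is a power of 2
    have hCn : C.Normal := by
      refine ⟨fun c hc g => Subgroup.mem_centralizer_iff.2 fun y hy => ?_⟩
      have h1 : (g : G)⁻¹ * y * g ∈ baseG D := by
        have := (Subgroup.mem_normalizer_iff.1 (inv_mem g.2) y).1 hy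
        rwa [inv_inv] at this
      have h2 : (g : G)⁻¹ * y * g * c = c * ((g : G)⁻¹ * y * g) := Subgroup.mem_centralizer_iff.1 hc _ h1
      show y * ((g : G) * c * (g : G)⁻¹) = (g : G) * c * (g : G)⁻¹ * y
      calc y * ((g : G) * c * (g : G)⁻¹) = g * ((g : G)⁻¹ * y * g * c) * (g : G)⁻¹ := by group
        _ = g * (c * ((g : G)⁻¹ * y * g)) * (g : G)⁻¹ := by rw [h2]
        _ = _ := by group
    have hq : IsPGroup 2 (φ.ker ⧸ C.subgroupOf φ.ker) := fun x => by
      obtain ⟨n, rfl⟩ := QuotientGroup.mk_surjective x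
      obtain ⟨k, hk⟩ := hp n n.2
      exact ⟨k, by rw [← QuotientGroup.mk_pow, QuotientGroup.eq_one_iff]; exact hk⟩
    obtain ⟨a, ha⟩ := IsPGroup.iff_card.1 hq
    rw [← Subgroup.index_eq_card] at ha
    rcases Nat.eq_zero_or_pos a with rfl | ha0
    · exact Subgroup.relIndex_eq_one.1 (by rw [Subgroup.relIndex, ha, pow_zero])
    · exfalso
      refine h4 ?_
      rw [← Subgroup.relIndex_mul_index hCle, Subgroup.relIndex, ha]
      have h2k : 2 ∣ φ.ker.index := by
        rcases hcases with ⟨-, h⟩ | ⟨-, h⟩ <;> rw [h] <;> norm_num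
      exact (show 4 = 2 * 2 by norm_num) ▸ mul_dvd_mul (dvd_pow_self 2 (by omega)) h2k
  refine ⟨φ, hap, hker, hcard, ?_⟩
  rcases hcases with ⟨h, hi⟩ | ⟨⟨n, hn'⟩, hi⟩
  · refine Or.inl ⟨fun ⟨n, hn1, hn2⟩ => hn2 ?_, hi⟩
    have := congrArg (fun v : {t : omegaG D // t ≠ 1} => ((v : omegaG D) : G)) (h ⟨n, hn1⟩)
    simp only [hap] at this
    exact this
  · refine Or.inr ⟨⟨n, n.2, fun e => hn' (Subtype.ext (Subtype.ext ?_))⟩, hi⟩
    rw [hap]; exact e

theorem base_relIndex :
    (¬ UMoves D ∧ (Subgroup.centralizer (baseG D : Set G)).relIndex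
        (Subgroup.normalizer (baseG D : Set G)) = 2) ∨
      (UMoves D ∧ (Subgroup.centralizer (baseG D : Set G)).relIndex
        (Subgroup.normalizer (baseG D : Set G)) = 6) := by
  obtain ⟨φ, -, hker, -, h⟩ := base_perm D
  rw [hker] at h
  exact h

theorem base_inner (hU : ¬ UMoves D) {n : G}
    (hn : n ∈ Subgroup.normalizer (baseG D : Set G)) :
    ∃ s ∈ (S : Subgroup G), ∀ x ∈ baseG D, n * x * n⁻¹ = s * x * s⁻¹ := by
  obtain ⟨φ, hap, hker, -, h⟩ := base_perm D
  have hi : φ.ker.index = 2 := (h.resolve_right fun h' => hU h'.1).2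
  have hu : ((D.w 0 0 : (S : Subgroup G)) : G) ∈ Subgroup.normalizer (baseG D : Set G) :=
    sylow_le_normalizer_baseG D (D.w 0 0).2
  have hcen : ∀ v, v ∈ φ.ker → ∀ x ∈ baseG D, (v : G) * x * (v : G)⁻¹ = x := fun v hv x hx => by
    rw [hker, Subgroup.mem_subgroupOf] at hv
    have h1 : x * (v : G) = v * x := Subgroup.mem_centralizer_iff.1 hv x hx
    rw [← h1, mul_inv_cancel_right]
  have hunot : (⟨_, hu⟩ : Subgroup.normalizer (baseG D : Set G)) ∉ φ.ker := fun h' => by
    have h1 := hcen _ h' _ (⟨_, D.U_mem_base 1 0, rfl⟩ : ((D.U 1 0 : (S : Subgroup G)) : G) ∈ baseG D)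
    have h2 : D.w 0 0 * D.U 1 0 * (D.w 0 0)⁻¹ = D.U 1 0 := Subtype.ext h1
    rw [D.conj_w_U, D.U_inj] at h2
    exact D.h_ne_zero (by rw [← mul_one D.h, h2.2, mul_zero])
  by_cases hnk : (⟨n, hn⟩ : Subgroup.normalizer (baseG D : Set G)) ∈ φ.ker
  · exact ⟨1, one_mem _, fun x hx => by rw [hcen _ hnk x hx]; group⟩
  · refine ⟨_, (D.w 0 0).2, fun x hx => ?_⟩
    have h1 : (⟨_, hu⟩ : Subgroup.normalizer (baseG D : Set G))⁻¹ * ⟨n, hn⟩ ∈ φ.ker :=
      (Subgroup.mul_mem_iff_of_index_two hi).2 (by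
        rw [inv_mem_iff]; exact iff_of_false hunot hnk)
    have h2 := hcen _ h1 x hx
    simp only [Subgroup.coe_mul, Subgroup.coe_inv] at h2
    conv_rhs => rw [← h2]
    group

/-! ### The subgroups of shape `i₀` -/

/-- The image in `G` of the subgroup of shape `i₀`. -/
def shapeG (i₀ : ZMod (2 ^ D.n)) : Subgroup G := (D.shapeGroup i₀).map (S : Subgroup G).subtype

/-- The generator of order 4 in the base. -/
def qi : G := (D.U D.c (-D.c) : (S : Subgroup G))

/-- Some element of the normaliser of the subgroup of shape `i₀` moves `qi` out of the base. -/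
def XMoves (i₀ : ZMod (2 ^ D.n)) : Prop :=
  ∃ n ∈ Subgroup.normalizer (shapeG D i₀ : Set G), n * qi D * n⁻¹ ∉ baseG D

theorem centerG_le_shapeG (i₀ : ZMod (2 ^ D.n)) : centerG D ≤ shapeG D i₀ := by
  refine Subgroup.map_mono fun s hs => ?_
  obtain ⟨a, rfl⟩ := D.mem_center.1 hs
  exact ⟨a, a, Or.inl (sub_self a), Or.inl rfl⟩

theorem centerG_le_baseG : centerG D ≤ baseG D := by
  refine Subgroup.map_mono fun s hs => ?_
  obtain ⟨a, rfl⟩ := D.mem_center.1 hs
  exact D.U_mem_base a a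

theorem qi_mem (i₀ : ZMod (2 ^ D.n)) : qi D ∈ shapeG D i₀ :=
  ⟨_, ⟨D.c, -D.c, Or.inr (by rw [sub_neg_eq_add, D.c_add_c]), Or.inl rfl⟩, rfl⟩

/-- The involution of shape `i₀` outside the base. -/
theorem w_mem_shapeG (i₀ : ZMod (2 ^ D.n)) :
    ((D.w i₀ (-i₀) : (S : Subgroup G)) : G) ∈ shapeG D i₀ :=
  ⟨_, ⟨0, 0, Or.inl (sub_self 0), Or.inr (by rw [D.U_zero, one_mul])⟩, rfl⟩

theorem center_shape (i₀ : ZMod (2 ^ D.n)) (t : shapeG D i₀) :
    t ∈ Subgroup.center (shapeG D i₀) ↔ (t : G) ∈ centerG D := by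
  constructor
  · intro ht
    obtain ⟨s, hs, e⟩ := t.2
    simp only [Subgroup.subtype_apply] at e
    have hcomm : ∀ v ∈ D.shapeGroup i₀, Commute s v := fun v hv => Subtype.ext (by
      have h1 := congrArg Subtype.val (Subgroup.mem_center_iff.1 ht ⟨_, ⟨v, hv, rfl⟩⟩)
      simp only [Subgroup.coe_mul, Subgroup.subtype_apply] at h1
      simp only [Subgroup.coe_mul, e]
      exact h1.symm)
    rcases D.forms s with ⟨k, l, rfl⟩ | ⟨k, l, rfl⟩
    · have h2 := D.commute_U_w.1 (hcomm _ ⟨0, 0, Or.inl (sub_self 0), Or.inr rfl⟩ |> fun h => by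
        rwa [D.U_zero, one_mul] at h : Commute (D.U k l) (D.w i₀ (-i₀)))
      rw [← e]
      exact ⟨D.U k l, D.mem_center.2 ⟨k, by rw [h2]⟩, rfl⟩
    · have h2 := D.commute_U_w.1 (hcomm (D.U D.c (-D.c))
        ⟨D.c, -D.c, Or.inr (by rw [sub_neg_eq_add, D.c_add_c]), Or.inl rfl⟩).symm
      exact absurd (by rw [← D.c_add_c]; linear_combination h2) D.h_ne_zero
  · rintro ⟨s, hs, e⟩
    refine Subgroup.mem_center_iff.2 fun v => Subtype.ext ?_
    obtain ⟨v', hv', e'⟩ := v.2
    simp only [Subgroup.subtype_apply] at e e'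
    simp only [Subgroup.coe_mul, ← e, ← e']
    exact congrArg Subtype.val ((Subgroup.mem_center_iff.1 hs) v')

theorem commute_of_normalizer_shape {i₀ : ZMod (2 ^ D.n)} {n : G}
    (hn : n ∈ Subgroup.normalizer (shapeG D i₀ : Set G)) {x : G} (hx : x ∈ centerG D) :
    n * x * n⁻¹ = x := by
  refine commute_centerG D ?_ hx
  have key : ∀ m ∈ Subgroup.normalizer (shapeG D i₀ : Set G), ∀ y ∈ centerG D,
      m * y * m⁻¹ ∈ centerG D := by
    intro m hm y hy
    have hmem := (Subgroup.mem_normalizer_iff.1 hm y).1 (centerG_le_shapeG D i₀ hy)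
    refine (center_shape D i₀ ⟨_, hmem⟩).1 (Subgroup.mem_center_iff.2 fun v => Subtype.ext ?_)
    have hv : m⁻¹ * v * m ∈ shapeG D i₀ := by
      have := (Subgroup.mem_normalizer_iff.1 (inv_mem hm) (v : G)).1 v.2
      rwa [inv_inv] at this
    have h1 := congrArg Subtype.val (Subgroup.mem_center_iff.1
      ((center_shape D i₀ ⟨y, centerG_le_shapeG D i₀ hy⟩).2 hy) ⟨_, hv⟩)
    simp only [Subgroup.coe_mul] at h1 ⊢
    calc (v : G) * (m * y * m⁻¹) = m * ((m⁻¹ * v * m) * y) * m⁻¹ := by group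
      _ = m * (y * (m⁻¹ * v * m)) * m⁻¹ := by rw [h1]
      _ = _ := by group
  refine Subgroup.mem_normalizer_iff.2 fun y => ⟨key n hn y, fun hy => ?_⟩
  have := key _ (inv_mem hn) _ hy
  rwa [show n⁻¹ * (n * y * n⁻¹) * n⁻¹⁻¹ = y by group] at this

theorem sq_formula {i₀ : ZMod (2 ^ D.n)} {s : (S : Subgroup G)} (hs : s ∈ D.shapeGroup i₀)
    (hc : s ∉ Subgroup.center (S : Subgroup G)) :
    (∃ k l, s = D.U k l ∧ s * s = D.U (k + l + D.h) (k + l + D.h)) ∨
      ∃ k l, s = D.w k l ∧ s * s = D.U (k + l) (k + l) := by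
  obtain ⟨k, l, hkl, rfl | rfl⟩ := hs
  · rcases hkl with h | h
    · exact absurd (D.mem_center.2 ⟨k, by rw [sub_eq_zero.1 h]⟩) hc
    · refine Or.inl ⟨k, l, rfl, ?_⟩
      rw [D.U_mul_U, D.U_inj]
      exact ⟨by linear_combination h, by linear_combination -h - D.h_add_h⟩
  · exact Or.inr ⟨_, _, D.U_mul_w _ _ _ _, by rw [D.U_mul_w, D.w_sq]⟩

theorem exists_unique_weight (s : (S : Subgroup G)) :
    ∃! k : ZMod (2 ^ D.n), ∃ i j, (s = D.U i j ∧ k = i + j) ∨ (s = D.w i j ∧ k = i + j + D.h) := by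
  rcases D.forms s with ⟨i, j, rfl⟩ | ⟨i, j, rfl⟩
  · refine ⟨i + j, ⟨i, j, Or.inl ⟨rfl, rfl⟩⟩, ?_⟩
    rintro k ⟨i', j', ⟨e, rfl⟩ | ⟨e, -⟩⟩
    · rw [(D.U_inj.1 e).1, (D.U_inj.1 e).2]
    · exact absurd e (D.U_ne_w _ _ _ _)
  · refine ⟨i + j + D.h, ⟨i, j, Or.inr ⟨rfl, rfl⟩⟩, ?_⟩
    rintro k ⟨i', j', ⟨e, -⟩ | ⟨e, rfl⟩⟩
    · exact absurd e.symm (D.U_ne_w _ _ _ _)
    · rw [(D.w_inj.1 e).1, (D.w_inj.1 e).2]

/-- The weight of an element of `S`. -/
noncomputable def weight (s : (S : Subgroup G)) : ZMod (2 ^ D.n) :=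
  (exists_unique_weight D s).exists.choose

theorem weight_U (i j : ZMod (2 ^ D.n)) : weight D (D.U i j) = i + j :=
  (exists_unique_weight D _).unique (exists_unique_weight D _).exists.choose_spec
    ⟨i, j, Or.inl ⟨rfl, rfl⟩⟩

theorem weight_w (i j : ZMod (2 ^ D.n)) : weight D (D.w i j) = i + j + D.h :=
  (exists_unique_weight D _).unique (exists_unique_weight D _).exists.choose_spec
    ⟨i, j, Or.inr ⟨rfl, rfl⟩⟩

/-- The homomorphism onto `ZMod (2 ^ n)` with the quaternion subgroup as kernel. -/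
noncomputable def theta : (S : Subgroup G) →* Multiplicative (ZMod (2 ^ D.n)) :=
  MonoidHom.mk' (fun s => Multiplicative.ofAdd (weight D s)) fun a b => by
    rw [← ofAdd_add]
    congr 1
    rcases D.forms a with ⟨i, j, rfl⟩ | ⟨i, j, rfl⟩ <;>
      rcases D.forms b with ⟨k, l, rfl⟩ | ⟨k, l, rfl⟩
    · rw [D.U_mul_U, weight_U, weight_U, weight_U]; ring
    · rw [D.U_mul_w, weight_w, weight_U, weight_w]; ring
    · rw [D.w_mul_U, weight_w, weight_w, weight_U]; ring
    · rw [D.w_mul_w, weight_U, weight_w, weight_w]; linear_combination -D.h_add_h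

theorem theta_U (i j : ZMod (2 ^ D.n)) : theta D (D.U i j) = Multiplicative.ofAdd (i + j) :=
  congrArg Multiplicative.ofAdd (weight_U D i j)

theorem theta_w (i j : ZMod (2 ^ D.n)) : theta D (D.w i j) = Multiplicative.ofAdd (i + j + D.h) :=
  congrArg Multiplicative.ofAdd (weight_w D i j)

theorem ker_theta : (theta D).ker = D.quat := by
  ext s
  rw [MonoidHom.mem_ker]
  rcases D.forms s with ⟨i, j, rfl⟩ | ⟨i, j, rfl⟩
  · rw [theta_U, ofAdd_eq_one]
    constructor
    · exact fun h => Or.inl ⟨i, by rw [show j = -i from eq_neg_of_add_eq_zero_right h]⟩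
    · rintro (⟨k, hk⟩ | ⟨k, l, -, hk⟩)
      · rw [D.U_inj] at hk; rw [hk.1, hk.2, add_neg_cancel]
      · exact absurd hk (D.U_ne_w _ _ _ _)
  · rw [theta_w, ofAdd_eq_one]
    constructor
    · exact fun h => Or.inr ⟨i, j, by linear_combination h - D.h_add_h, rfl⟩
    · rintro (⟨k, hk⟩ | ⟨k, l, hkl, hk⟩)
      · exact absurd hk.symm (D.U_ne_w _ _ _ _)
      · rw [D.w_inj] at hk; rw [hk.1, hk.2, hkl, D.h_add_h]

theorem theta_shape {i₀ : ZMod (2 ^ D.n)} {n : G}
    (hn : n ∈ Subgroup.normalizer (shapeG D i₀ : Set G)) {s t : (S : Subgroup G)}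
    (hs : (s : G) ∈ shapeG D i₀) (ht : (t : G) = n * s * n⁻¹) : theta D t = theta D s := by
  by_cases hsc : s ∈ Subgroup.center (S : Subgroup G)
  · have h1 := commute_of_normalizer_shape D hn (x := (s : G)) ⟨s, hsc, rfl⟩
    rw [show t = s from Subtype.ext (ht.trans h1)]
  have hts : (t : G) ∈ shapeG D i₀ := ht ▸ (Subgroup.mem_normalizer_iff.1 hn _).1 hs
  obtain ⟨s', hs', e⟩ := hs
  obtain rfl : s' = s := Subtype.ext e
  obtain ⟨t', ht', e'⟩ := hts
  obtain rfl : t' = t := Subtype.ext e'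
  have htc : t' ∉ Subgroup.center (S : Subgroup G) := fun hc => hsc (by
    have h1 := commute_of_normalizer_shape D hn (x := (t' : G)) ⟨t', hc, rfl⟩
    rw [ht] at h1
    have h2 : n * (s' : G) * n⁻¹ = (s' : G) := mul_left_cancel (mul_right_cancel h1)
    rwa [show t' = s' from Subtype.ext (ht.trans h2)] at hc)
  have hsq : ((t' * t' : (S : Subgroup G)) : G) = n * (s' * s' : (S : Subgroup G)) * n⁻¹ := by
    rw [Subgroup.coe_mul, Subgroup.coe_mul, ht, conj_mul]
  have key : ∀ {v : (S : Subgroup G)}, v ∈ D.shapeGroup i₀ → v ∉ Subgroup.center (S : Subgroup G) →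
      ∃ a, v * v = D.U a a ∧ theta D v = Multiplicative.ofAdd (a + D.h) := by
    intro v hv hvc
    rcases sq_formula D hv hvc with ⟨k, l, rfl, h⟩ | ⟨k, l, rfl, h⟩
    · refine ⟨_, h, ?_⟩
      rw [theta_U, add_assoc, D.h_add_h, add_zero]
    · exact ⟨_, h, theta_w D k l⟩
  obtain ⟨a, ha, ha'⟩ := key hs' hsc
  obtain ⟨b, hb, hb'⟩ := key ht' htc
  have hfix := commute_of_normalizer_shape D hn (x := ((D.U a a : (S : Subgroup G)) : G))
    ⟨_, D.mem_center.2 ⟨a, rfl⟩, rfl⟩
  rw [ha, hb, hfix] at hsq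
  rw [ha', hb', (D.U_inj.1 (Subtype.ext hsq)).1]

theorem shape_perm (i₀ : ZMod (2 ^ D.n)) :
    ∃ φ : Subgroup.normalizer (shapeG D i₀ : Set G) →*
        Equiv.Perm {t : shapeG D i₀ ⧸ Subgroup.center (shapeG D i₀) // t ≠ 1},
      (∀ n t, (φ n t : shapeG D i₀ ⧸ Subgroup.center (shapeG D i₀)) =
        quotAut (shapeG D i₀) ((shapeG D i₀).normalizerMonoidHom n)
          (t : shapeG D i₀ ⧸ Subgroup.center (shapeG D i₀))) ∧
      φ.ker = (shapeG D i₀ ⊔ Subgroup.centralizer (shapeG D i₀ : Set G)).subgroupOf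
        (Subgroup.normalizer (shapeG D i₀ : Set G)) ∧
      Nat.card (shapeG D i₀ ⧸ Subgroup.center (shapeG D i₀)) = 4 ∧
      Nat.card {t : shapeG D i₀ ⧸ Subgroup.center (shapeG D i₀) // t ≠ 1} = 3 ∧
      ((¬ XMoves D i₀ ∧ φ.ker.index = 2) ∨ (XMoves D i₀ ∧ φ.ker.index = 6)) := by
  set X := shapeG D i₀ with hX
  let φ := (autPerm (X ⧸ Subgroup.center X)).comp ((quotAut X).comp X.normalizerMonoidHom)
  have hap : ∀ n t, (φ n t : X ⧸ Subgroup.center X) =
      quotAut X (X.normalizerMonoidHom n) (t : X ⧸ Subgroup.center X) := fun n t => rfl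
  set jv : (S : Subgroup G) := D.w i₀ (-i₀) with hjv
  set iv : (S : Subgroup G) := D.U D.c (-D.c) with hiv
  have hi : (iv : G) ∈ X := qi_mem D i₀
  have hj : (jv : G) ∈ X := w_mem_shapeG D i₀
  have hcen := center_shape D i₀
  have hclass : ∀ a b : X, ((a : X ⧸ Subgroup.center X) = b) ↔
      (a : G)⁻¹ * b ∈ centerG D := fun a b => by
    rw [QuotientGroup.eq, hcen, Subgroup.coe_mul, Subgroup.coe_inv]
  -- every element is `d`, `i d`, `j d` or `i j d`
  have hdec : ∀ v : X, ∃ d ∈ centerG D, (v : G) = d ∨ (v : G) = d * iv ∨ (v : G) = d * jv ∨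
      (v : G) = d * iv * jv := by
    intro v
    obtain ⟨s, ⟨k, l, hkl, hs⟩, e⟩ := v.2
    simp only [Subgroup.subtype_apply] at e
    have hz : ∀ a, ((D.U a a : (S : Subgroup G)) : G) ∈ centerG D := fun a =>
      ⟨_, D.mem_center.2 ⟨a, rfl⟩, rfl⟩
    rcases hkl with h | h
    · obtain rfl := sub_eq_zero.1 h
      refine ⟨_, hz k, ?_⟩
      rcases hs with rfl | rfl
      · exact Or.inl e.symm
      · exact Or.inr (Or.inr (Or.inl (by rw [← e, Subgroup.coe_mul])))
    · have hk : D.U k l = D.U (l + D.c) (l + D.c) * iv := by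
        rw [hiv, D.U_mul_U, D.U_inj]
        exact ⟨by linear_combination h - D.c_add_c, by ring⟩
      refine ⟨_, hz (l + D.c), ?_⟩
      rcases hs with rfl | rfl
      · exact Or.inr (Or.inl (by rw [← e, hk, Subgroup.coe_mul]))
      · exact Or.inr (Or.inr (Or.inr (by rw [← e, hk, Subgroup.coe_mul, Subgroup.coe_mul])))
  have hV : Nat.card (X ⧸ Subgroup.center X) = 4 := by
    refine le_antisymm ?_ ?_
    · let f : Fin 4 → X ⧸ Subgroup.center X :=
        ![1, ((⟨_, hi⟩ : X) : X ⧸ Subgroup.center X), ((⟨_, hj⟩ : X) : X ⧸ Subgroup.center X),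
          ((⟨_, mul_mem hi hj⟩ : X) : X ⧸ Subgroup.center X)]
      refine (Nat.card_le_card_of_surjective f fun x => QuotientGroup.induction_on x fun v => ?_).trans
        (by simp)
      obtain ⟨d, hd, h⟩ := hdec v
      have hdd : ∀ a : X, (v : G) = d * a → (a : X ⧸ Subgroup.center X) = v := fun a ha => by
        rw [hclass]
        have hcomm : d * (a : G) = (a : G) * d := by
          have := congrArg Subtype.val (Subgroup.mem_center_iff.1
            ((hcen ⟨d, centerG_le_shapeG D i₀ hd⟩).2 hd) a)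
          exact this.symm
        rw [ha, hcomm, inv_mul_cancel_left]
        exact hd
      rcases h with h | h | h | h
      · exact ⟨0, hdd 1 (by rw [OneMemClass.coe_one, mul_one]; exact h)⟩
      · exact ⟨1, hdd _ h⟩
      · exact ⟨2, hdd _ h⟩
      · exact ⟨3, hdd _ (by rw [h, mul_assoc])⟩
    · let g : Fin 4 → X ⧸ Subgroup.center X :=
        ![1, ((⟨_, hi⟩ : X) : X ⧸ Subgroup.center X), ((⟨_, hj⟩ : X) : X ⧸ Subgroup.center X),
          ((⟨_, mul_mem hi hj⟩ : X) : X ⧸ Subgroup.center X)]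
      have hne : ∀ (v : (S : Subgroup G)) (hv : (v : G) ∈ X), v ∉ Subgroup.center (S : Subgroup G) →
          ((⟨_, hv⟩ : X) : X ⧸ Subgroup.center X) ≠ 1 := by
        intro v hv hvc h
        obtain ⟨v', hv', e⟩ := (hcen _).1 ((QuotientGroup.eq_one_iff _).1 h)
        exact hvc ((Subtype.ext e : v' = v) ▸ hv')
      have hwc : ∀ a b, D.w a b ∉ Subgroup.center (S : Subgroup G) := fun a b hc => by
        obtain ⟨k, hk⟩ := D.mem_center.1 hc
        exact D.U_ne_w _ _ _ _ hk.symm
      have hi1 := hne iv hi fun hc => by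
        obtain ⟨k, hk⟩ := D.mem_center.1 hc
        rw [hiv, D.U_inj] at hk
        exact D.h_ne_zero (by rw [← D.c_add_c]; linear_combination hk.1 - hk.2)
      have hj1 := hne jv hj (hwc _ _)
      have hij : iv * jv = D.w (D.c + i₀) (-D.c + -i₀) := D.U_mul_w _ _ _ _
      have hk1 := hne (iv * jv) (mul_mem hi hj) (hij ▸ hwc _ _)
      have hij1 : ((⟨_, hi⟩ : X) : X ⧸ Subgroup.center X) ≠ ((⟨_, hj⟩ : X) : X ⧸ Subgroup.center X) := by
        intro h
        obtain ⟨v', hv', e⟩ := (hclass _ _).1 h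
        have : v' = iv⁻¹ * jv := Subtype.ext e
        rw [this, hiv, hjv, D.U_inv, D.U_mul_w] at hv'
        exact hwc _ _ hv'
      have hmulq : ((⟨_, mul_mem hi hj⟩ : X) : X ⧸ Subgroup.center X) =
          ((⟨_, hi⟩ : X) : X ⧸ Subgroup.center X) * ((⟨_, hj⟩ : X) : X ⧸ Subgroup.center X) := rfl
      have hginj : Function.Injective g := by
        intro a b hab
        fin_cases a <;> fin_cases b <;> first
          | rfl
          | exact absurd hab (Ne.symm hi1)
          | exact absurd hab hi1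
          | exact absurd hab (Ne.symm hj1)
          | exact absurd hab hj1
          | exact absurd hab (Ne.symm hk1)
          | exact absurd hab hk1
          | exact absurd hab hij1
          | exact absurd hab.symm hij1
          | exact absurd (mul_eq_left.1 (hmulq.symm.trans hab.symm)) hj1
          | exact absurd (mul_eq_left.1 (hmulq.symm.trans hab)) hj1
          | exact absurd (mul_eq_right.1 (hmulq.symm.trans hab.symm)) hi1
          | exact absurd (mul_eq_right.1 (hmulq.symm.trans hab)) hi1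
      exact le_of_eq_of_le (by simp) (Nat.card_le_card_of_injective g hginj)
  have hV3 : Nat.card {t : X ⧸ Subgroup.center X // t ≠ 1} = 3 := by rw [card_nontrivial, hV]
  -- conjugation relations
  have hiota : iv * iv = D.U D.h D.h := by
    rw [hiv, D.U_mul_U, D.U_inj]
    exact ⟨D.c_add_c, by linear_combination -D.c_add_c - D.h_add_h⟩
  have hιc : D.U D.h D.h ∈ Subgroup.center (S : Subgroup G) := D.mem_center.2 ⟨_, rfl⟩
  have hιG : ι D ∈ centerG D := ⟨_, hιc, rfl⟩
  have hji : (jv : G) * iv * (jv : G)⁻¹ = iv * ι D := by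
    refine congrArg Subtype.val (show jv * iv * jv⁻¹ = iv * D.U D.h D.h from ?_)
    rw [hiv, hjv, D.conj_w_U, D.U_mul_U, D.U_inj]
    exact ⟨by linear_combination -D.c_add_c - D.h_add_h, by linear_combination D.c_add_c⟩
  have hij' : (iv : G) * jv * (iv : G)⁻¹ = jv * ι D := by
    refine congrArg Subtype.val (show iv * jv * iv⁻¹ = jv * D.U D.h D.h from ?_)
    rw [hiv, hjv, D.conj_U_w, D.w_mul_U, D.w_inj]
    exact ⟨by linear_combination D.c_add_c, by linear_combination -D.c_add_c - D.h_add_h⟩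
  have hιι : ι D * ι D = 1 := ((mem_omegaG D).1 (ι_mem D)).2
  have hker : φ.ker = (X ⊔ Subgroup.centralizer (X : Set G)).subgroupOf
      (Subgroup.normalizer (X : Set G)) := by
    apply le_antisymm
    · intro n hn
      rw [MonoidHom.mem_ker] at hn
      have h1 : quotAut X (X.normalizerMonoidHom n) = 1 := autPerm_eq_one.1 hn
      have hfixZ := fun y hy => commute_of_normalizer_shape D n.2 (x := y) hy
      have hsmall : ∀ t : X, (t : G) * t ∈ centerG D →
          (n : G) * t * (n : G)⁻¹ = t ∨ (n : G) * t * (n : G)⁻¹ = t * ι D := by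
        intro t ht
        have h2 := quotAut_mk (X.normalizerMonoidHom n) t
        rw [h1, MulAut.one_apply] at h2
        obtain ⟨d, hd, e⟩ := (hclass t _).1 h2
        simp only [Subgroup.subtype_apply] at e
        have hnt : (n : G) * t * (n : G)⁻¹ = (t : G) * d := by
          rw [e, mul_inv_cancel_left]; rfl
        have hdt : (d : G) * t = t * d := by
          have := congrArg Subtype.val (Subgroup.mem_center_iff.1
            ((hcen ⟨_, centerG_le_shapeG D i₀ ⟨d, hd, rfl⟩⟩).2 ⟨d, hd, rfl⟩) t)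
          exact this.symm
        have hd2 : (d : G) * d = 1 := by
          have h3 : (n : G) * ((t : G) * t) * (n : G)⁻¹ = ((t : G) * t) * ((d : G) * d) := by
            rw [← conj_mul, hnt]
            calc (t : G) * d * (t * d) = t * ((d : G) * t) * d := by group
              _ = (t : G) * t * ((d : G) * d) := by rw [hdt]; group
          rw [hfixZ _ ht] at h3
          exact mul_eq_left.1 h3.symm
        obtain ⟨a, ha⟩ := D.mem_center.1 hd
        have hd3 : D.U a a * D.U a a = 1 := by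
          rw [← ha]; exact Subtype.ext hd2
        rw [D.U_mul_U, D.U_eq_one] at hd3
        rcases D.add_self.1 hd3.1 with h4 | h4
        · left; rw [hnt, ha, h4, D.U_zero, OneMemClass.coe_one, mul_one]
        · right; rw [hnt, ha, h4]; rfl
      have hiC : (iv : G) * iv ∈ centerG D := ⟨_, hιc, by rw [Subgroup.subtype_apply, ← hiota]; rfl⟩
      have hjC : (jv : G) * jv ∈ centerG D := by
        refine ⟨jv * jv, ?_, rfl⟩
        rw [hjv, D.w_sq]; exact D.mem_center.2 ⟨_, rfl⟩
      have hcor : ∃ w ∈ X, (w * n) * iv * (w * (n : G))⁻¹ = (iv : G) ∧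
          (w * n) * jv * (w * (n : G))⁻¹ = (jv : G) := by
        have hstep : ∀ w x : G, w * n * x * (w * (n : G))⁻¹ = w * (n * x * (n : G)⁻¹) * w⁻¹ :=
          fun w x => by group
        have hιcomm : ∀ w ∈ X, w * ι D * w⁻¹ = ι D := fun w hw =>
          commute_of_normalizer_shape D (Subgroup.le_normalizer hw) hιG
        have hmulz : ∀ w x : G, w ∈ X → w * (x * ι D) * w⁻¹ = (w * x * w⁻¹) * ι D := fun w x hw => by
          rw [show w * (x * ι D) * w⁻¹ = (w * x * w⁻¹) * (w * ι D * w⁻¹) by group, hιcomm w hw]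
        rcases hsmall ⟨_, hi⟩ hiC with h2 | h2 <;> rcases hsmall ⟨_, hj⟩ hjC with h3 | h3 <;>
          simp only at h2 h3
        · exact ⟨1, one_mem X, by rw [one_mul]; exact ⟨h2, h3⟩⟩
        · refine ⟨_, hi, ?_, ?_⟩ <;> rw [hstep]
          · rw [h2]; exact mul_inv_cancel_right _ _
          · rw [h3, hmulz _ _ hi, hij', mul_assoc, hιι, mul_one]
        · refine ⟨_, hj, ?_, ?_⟩ <;> rw [hstep]
          · rw [h2, hmulz _ _ hj, hji, mul_assoc, hιι, mul_one]
          · rw [h3]; exact mul_inv_cancel_right _ _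
        · refine ⟨_, mul_mem hi hj, ?_, ?_⟩ <;> rw [hstep]
          · rw [h2, hmulz _ _ (mul_mem hi hj),
              show (iv : G) * jv * iv * ((iv : G) * jv)⁻¹ =
                (iv : G) * ((jv : G) * iv * (jv : G)⁻¹) * (iv : G)⁻¹ by group,
              hji, hmulz _ _ hi, mul_inv_cancel_right, mul_assoc, hιι, mul_one]
          · rw [h3, hmulz _ _ (mul_mem hi hj),
              show (iv : G) * jv * jv * ((iv : G) * jv)⁻¹ = (iv : G) * jv * (iv : G)⁻¹ by group,
              hij', mul_assoc, hιι, mul_one]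
      obtain ⟨w, hw, hwi, hwj⟩ := hcor
      rw [Subgroup.mem_subgroupOf]
      have hcent : w * n ∈ Subgroup.centralizer (X : Set G) := by
        rw [Subgroup.mem_centralizer_iff]
        intro t ht
        have ci : Commute (w * (n : G)) (iv : G) := mul_inv_eq_iff_eq_mul.1 hwi
        have cj : Commute (w * (n : G)) (jv : G) := mul_inv_eq_iff_eq_mul.1 hwj
        have cd : ∀ y ∈ centerG D, Commute (w * (n : G)) y := fun y hy =>
          mul_inv_eq_iff_eq_mul.1 (commute_of_normalizer_shape D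
            (mul_mem (Subgroup.le_normalizer hw) n.2) hy)
        obtain ⟨d, hd, h | h | h | h⟩ := hdec ⟨t, ht⟩ <;> simp only at h <;> rw [h]
        · exact (cd d hd).symm.eq
        · exact ((cd d hd).mul_right ci).symm.eq
        · exact ((cd d hd).mul_right cj).symm.eq
        · exact (((cd d hd).mul_right ci).mul_right cj).symm.eq
      have : (n : G) = w⁻¹ * (w * n) := by group
      rw [this]
      exact mul_mem (Subgroup.mem_sup_left (inv_mem hw)) (Subgroup.mem_sup_right hcent)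
    · intro n hn
      rw [Subgroup.mem_subgroupOf] at hn
      have hle : X ⊔ Subgroup.centralizer (X : Set G) ≤ φ.ker.map
          (Subgroup.normalizer (X : Set G)).subtype := by
        refine sup_le (fun w hw => ?_) (fun c hc => ?_)
        · refine ⟨⟨w, Subgroup.le_normalizer hw⟩, ?_, rfl⟩
          refine autPerm_eq_one.2 (MulEquiv.ext fun x => QuotientGroup.induction_on x fun t => ?_)
          show quotAut X _ (t : X ⧸ Subgroup.center X) = t
          rw [quotAut_mk]
          have hab : IsMulCommutative (X ⧸ Subgroup.center X) :=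
            IsPGroup.isMulCommutative_of_card_eq_prime_sq (p := 2) (by rw [hV]; norm_num)
          show (((⟨w, hw⟩ : X) * t * (⟨w, hw⟩ : X)⁻¹ : X) : X ⧸ Subgroup.center X) = t
          rw [QuotientGroup.mk_mul, QuotientGroup.mk_mul, hab.is_comm.comm
            ((⟨w, hw⟩ : X) : X ⧸ Subgroup.center X), QuotientGroup.mk_inv, mul_inv_cancel_right]
        · have hcN : c ∈ Subgroup.normalizer (X : Set G) := Subgroup.centralizer_le_normalizer _ hc
          refine ⟨⟨c, hcN⟩, ?_, rfl⟩
          refine autPerm_eq_one.2 (MulEquiv.ext fun x => QuotientGroup.induction_on x fun t => ?_)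
          show quotAut X _ (t : X ⧸ Subgroup.center X) = t
          rw [quotAut_mk]
          congr 1
          refine Subtype.ext ?_
          show c * t * c⁻¹ = t
          rw [← (Subgroup.mem_centralizer_iff.1 hc t t.2), mul_inv_cancel_right]
      obtain ⟨m, hm, he⟩ := hle hn
      rwa [← show m = n from Subtype.ext he]
  -- an element of `S` fixing the class of `i`, moving that of `j`
  set uv : (S : Subgroup G) := D.U D.c 0
  have hu : (uv : G) ∈ Subgroup.normalizer (X : Set G) := by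
    have hc : ∀ t ∈ X, (uv : G) * t * (uv : G)⁻¹ ∈ X := by
      rintro _ ⟨s, ⟨k, l, hkl, hs⟩, rfl⟩
      refine ⟨uv * s * uv⁻¹, ?_, rfl⟩
      rcases hs with rfl | rfl
      · exact ⟨k, l, hkl, Or.inl (D.conj_U_U _ _ _ _)⟩
      · refine ⟨k + D.c, l - D.c, ?_, Or.inr ?_⟩
        · rw [show k + D.c - (l - D.c) = (k - l) + (D.c + D.c) by ring, D.c_add_c]
          exact D.zero_or_h_add hkl (Or.inr rfl)
        · rw [D.U_mul_w, D.conj_U_w, D.U_mul_w, D.w_inj]; constructor <;> ring
    have h1 : X.map (MulAut.conj (uv : G)).toMonoidHom = X := Subgroup.eq_of_le_of_card_ge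
      (by rintro _ ⟨t, ht, rfl⟩; exact hc t ht)
      (by rw [Subgroup.card_map_of_injective (MulEquiv.injective _)])
    exact Transfer.Fusion.map_conj_eq_self_iff.mp h1
  have hu1 : φ ⟨_, hu⟩ ≠ 1 := by
    intro e
    have h1 : quotAut X (X.normalizerMonoidHom ⟨_, hu⟩) = 1 := autPerm_eq_one.1 e
    have h2 := quotAut_mk (X.normalizerMonoidHom ⟨_, hu⟩) (⟨_, hj⟩ : X)
    rw [h1, MulAut.one_apply] at h2
    obtain ⟨v, hv, e'⟩ := (hclass _ _).1 h2
    have h3 : v = jv⁻¹ * (uv * jv * uv⁻¹) := Subtype.ext e'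
    obtain ⟨a, ha⟩ := D.mem_center.1 hv
    rw [h3, hjv, D.conj_U_w, D.w_inv, D.w_mul_w, D.U_inj] at ha
    exact D.h_ne_zero (by rw [← D.c_add_c]; linear_combination ha.2 - ha.1 + (ha.1 - ha.1))
  have hi1 : ((⟨_, hi⟩ : X) : X ⧸ Subgroup.center X) ≠ 1 := by
    intro h
    obtain ⟨v', hv', e⟩ := (hcen _).1 ((QuotientGroup.eq_one_iff _).1 h)
    obtain rfl : v' = iv := Subtype.ext e
    obtain ⟨k, hk⟩ := D.mem_center.1 hv'
    rw [hiv, D.U_inj] at hk
    exact D.h_ne_zero (by rw [← D.c_add_c]; linear_combination hk.1 - hk.2)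
  have hua : φ ⟨_, hu⟩ ⟨_, hi1⟩ = ⟨_, hi1⟩ := by
    refine Subtype.ext ?_
    rw [hap]
    show quotAut X _ _ = _
    rw [quotAut_mk]
    congr 1
    refine Subtype.ext ?_
    show (uv : G) * iv * (uv : G)⁻¹ = iv
    exact congrArg Subtype.val (D.conj_U_U D.c 0 D.c (-D.c))
  -- fixing the class of `i`
  have hbase : ∀ n : Subgroup.normalizer (X : Set G),
      φ n ⟨_, hi1⟩ = ⟨_, hi1⟩ ↔ (n : G) * qi D * (n : G)⁻¹ ∈ baseG D := by
    intro n
    rw [← Subtype.coe_inj, hap, quotAut_mk, eq_comm, hclass]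
    show (iv : G)⁻¹ * ((n : G) * iv * (n : G)⁻¹) ∈ centerG D ↔ (n : G) * iv * (n : G)⁻¹ ∈ baseG D
    have hiB : (iv : G) ∈ baseG D := ⟨_, D.U_mem_base _ _, rfl⟩
    constructor
    · intro h
      rw [← mul_inv_cancel_left (iv : G) ((n : G) * iv * (n : G)⁻¹)]
      exact mul_mem hiB (centerG_le_baseG D h)
    · intro h
      have hmX := (Subgroup.mem_normalizer_iff.1 n.2 _).1 hi
      obtain ⟨d, hd, h' | h' | h' | h'⟩ := hdec ⟨_, hmX⟩ <;> simp only at h'
      · exfalso
        have h4 : (iv : G) = (n : G)⁻¹ * d * n := by rw [← h']; group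
        have h5 : (n : G)⁻¹ * d * n = d := by
          have := commute_of_normalizer_shape D (inv_mem n.2) hd
          rwa [inv_inv] at this
        rw [h5] at h4
        obtain ⟨v', hv', e⟩ := hd
        obtain rfl : v' = iv := Subtype.ext (e.trans h4.symm)
        obtain ⟨k, hk⟩ := D.mem_center.1 hv'
        rw [hiv, D.U_inj] at hk
        exact D.h_ne_zero (by rw [← D.c_add_c]; linear_combination hk.1 - hk.2)
      · rw [h']
        have hdi : d * (iv : G) = iv * d := baseG_comm D (centerG_le_baseG D hd) hiB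
        rw [hdi, inv_mul_cancel_left]
        exact hd
      · exfalso
        rw [h', Subgroup.mul_mem_cancel_left _ (centerG_le_baseG D hd), mem_baseG] at h
        exact D.w_notMem_base _ _ h
      · exfalso
        rw [h', mul_assoc, Subgroup.mul_mem_cancel_left _ (centerG_le_baseG D hd),
          Subgroup.mul_mem_cancel_left _ hiB, mem_baseG] at h
        exact D.w_notMem_base _ _ h
  refine ⟨φ, hap, hker, hV, hV3, ?_⟩
  rcases index_ker φ hV3 hu1 hua with ⟨h, hi'⟩ | ⟨⟨n, hn'⟩, hi'⟩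
  · exact Or.inl ⟨fun ⟨n, hn1, hn2⟩ => hn2 ((hbase ⟨n, hn1⟩).1 (h ⟨n, hn1⟩)), hi'⟩
  · exact Or.inr ⟨⟨n, n.2, fun h => hn' ((hbase n).2 h)⟩, hi'⟩

theorem shape_relIndexG (i₀ : ZMod (2 ^ D.n)) :
    (¬ XMoves D i₀ ∧ (shapeG D i₀ ⊔ Subgroup.centralizer (shapeG D i₀ : Set G)).relIndex
        (Subgroup.normalizer (shapeG D i₀ : Set G)) = 2) ∨
      (XMoves D i₀ ∧ (shapeG D i₀ ⊔ Subgroup.centralizer (shapeG D i₀ : Set G)).relIndex
        (Subgroup.normalizer (shapeG D i₀ : Set G)) = 6) := by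
  obtain ⟨φ, -, hker, -, -, h⟩ := shape_perm D i₀
  rw [hker] at h
  exact h

end Cfsg.Agent.Involutions.WreathedFusion
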