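import Mathlib
import Cfsg.Agent.Lib.Involutions.WreathedFusion
import Cfsg.Agent.Lib.Involutions.FusionTransfer

/-!
# Conjugacy classes and index 2 subgroups, wreathed Sylow 2-subgroups
-/

namespace Cfsg.Agent.Involutions.WreathedClasses

open Cfsg.Agent.Involutions.Wreathed Cfsg.Agent.Involutions.WreathedFusion
open Cfsg.Agent.Involutions.ThreePoint
open Cfsg.Agent.Involutions.QuasiDihedralFusion (quotAut quotAut_mk eq_top_of_fpf exists_odd_fpf)
open Cfsg.Agent.Involutions.QuasiDihedralClasses (mem_of_odd relIndex_dvd_two card_classes_one card_classes_two)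

variable {G : Type*} [Group G] [Finite G] {S : Sylow 2 G} (D : Gens (S : Subgroup G))

/-- The quaternion subgroup of order 8 in the subgroup of shape `i₀`. -/
def q8G (i₀ : ZMod (2 ^ D.n)) : Subgroup G := (D.q8 (i₀ + D.c)).map (S : Subgroup G).subtype

theorem shapeG_eq (i₀ : ZMod (2 ^ D.n)) : shapeG D i₀ = q8G D i₀ ⊔ centerG D := by
  rw [shapeG, D.shape_eq (D.shapeGroup_shape i₀), Subgroup.map_sup]; rfl

theorem q8G_le_shapeG (i₀ : ZMod (2 ^ D.n)) : q8G D i₀ ≤ shapeG D i₀ :=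
  (shapeG_eq D i₀).symm ▸ le_sup_left

/-! ### Fusion -/

include D in
/-- A function on `S` invariant under the three kinds of normalisers is invariant under fusion. -/
theorem fusion {X : Type*} (f : ↥(S : Subgroup G) → X)
    (hS : ∀ s a : (S : Subgroup G), f (s * a * s⁻¹) = f a)
    (hU : ∀ n ∈ Subgroup.normalizer (baseG D : Set G), ∀ a b : (S : Subgroup G),
      a ∈ D.base → (b : G) = n * a * n⁻¹ → f a = f b)
    (hX : ∀ i₀, ∀ n ∈ Subgroup.normalizer (shapeG D i₀ : Set G), ∀ a b : (S : Subgroup G),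
      a ∈ D.shapeGroup i₀ → (b : G) = n * a * n⁻¹ → f a = f b)
    {a b : (S : Subgroup G)} (h : IsConj (a : G) (b : G)) : f a = f b := by
  classical
  let θ : G → Option X := fun x => if hx : x ∈ (S : Subgroup G) then some (f ⟨x, hx⟩) else none
  obtain ⟨g, hg⟩ := isConj_iff.1 h
  have key : θ (g * a * g⁻¹) = θ a := by
    refine FusionInvariant.fusion_invariant S θ ?_ a.2 (hg ▸ b.2)
    intro P hPS hC hA n hn x hx
    have hxS := hPS hx
    have hy : n * x * n⁻¹ ∈ P := (Subgroup.mem_normalizer_iff.1 hn x).1 hx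
    show dite _ _ _ = dite _ _ _
    rw [dif_pos (hPS hy), dif_pos hxS]
    congr 1
    rcases hA with rfl | hA
    · obtain ⟨s, hs, hact⟩ := normalizer_sylow_inner D hn
      have : (⟨n * x * n⁻¹, hPS hy⟩ : (S : Subgroup G)) =
          ⟨s, hs⟩ * ⟨x, hxS⟩ * (⟨s, hs⟩ : (S : Subgroup G))⁻¹ := Subtype.ext (hact x hx)
      rw [this, hS]
    · set P' := P.subgroupOf (S : Subgroup G)
      have hC' : Subgroup.centralizer (P' : Set (S : Subgroup G)) ≤ P' := fun c hc =>
        hC c c.2 (Subgroup.mem_centralizer_iff.2 fun y hy =>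
          congrArg Subtype.val (Subgroup.mem_centralizer_iff.1 hc ⟨y, hPS hy⟩ hy))
      have hA' : ¬ IsPGroup 2 (MulAut P') := fun hp =>
        hA (hp.of_equiv (MulAut.congr (Subgroup.subgroupOfEquivOfLe hPS)))
      have hP : P = P'.map (S : Subgroup G).subtype := by
        rw [Subgroup.subgroupOf_map_subtype, inf_eq_left.2 hPS]
      rcases eq_base_or_shape D hC' hA' with h' | ⟨i₀, h'⟩
      · rw [h'] at hP
        subst hP
        exact (hU n hn ⟨x, hxS⟩ ⟨_, hPS hy⟩ ((mem_baseG D (s := ⟨x, hxS⟩)).1 hx) rfl).symm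
      · rw [h'] at hP
        subst hP
        obtain ⟨t, ht, e⟩ := hx
        exact (hX i₀ n hn ⟨x, hxS⟩ ⟨_, hPS hy⟩ ((Subtype.ext e : t = ⟨x, hxS⟩) ▸ ht) rfl).symm
  change dite _ _ _ = dite _ _ _ at key
  rw [dif_pos (hg ▸ b.2), dif_pos a.2] at key
  have := Option.some.inj key
  rw [show (⟨g * a * g⁻¹, hg ▸ b.2⟩ : (S : Subgroup G)) = b from Subtype.ext hg] at this
  exact this.symm

theorem fixed_center_of_shape {i₀ : ZMod (2 ^ D.n)} {n : G}
    (hn : n ∈ Subgroup.normalizer (shapeG D i₀ : Set G)) {a b : (S : Subgroup G)}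
    (hb : (b : G) = n * a * n⁻¹)
    (h : a ∈ Subgroup.center (S : Subgroup G) ∨ b ∈ Subgroup.center (S : Subgroup G)) : a = b := by
  rcases h with h | h
  · exact Subtype.ext (hb.trans (commute_of_normalizer_shape D hn ⟨a, h, rfl⟩)).symm
  · have h1 := commute_of_normalizer_shape D hn (x := (b : G)) ⟨b, h, rfl⟩
    nth_rw 2 [hb] at h1
    exact Subtype.ext (mul_left_cancel (mul_right_cancel h1)).symm

/-- Central elements are fixed by fusion unless the base is moved. -/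
theorem center_weakly_closed (hU : ¬ UMoves D) {a b : (S : Subgroup G)} (h : IsConj (a : G) (b : G))
    (ha : a ∈ Subgroup.center (S : Subgroup G)) : b = a := by
  classical
  have key := fusion D
    (fun v => if v ∈ Subgroup.center (S : Subgroup G) then some v else none) ?_ ?_ ?_ h
  · simp only [if_pos ha] at key
    by_cases hb : b ∈ Subgroup.center (S : Subgroup G)
    · rw [if_pos hb] at key; exact (Option.some.inj key).symm
    · rw [if_neg hb] at key; simp at key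
  · intro s v
    by_cases hv : v ∈ Subgroup.center (S : Subgroup G)
    · rw [(Subgroup.mem_center_iff.1 hv s), mul_inv_cancel_right]
    · rw [if_neg hv, if_neg fun hc => hv ?_]
      have := Subgroup.Normal.conj_mem inferInstance _ hc s⁻¹
      simpa [mul_assoc] using this
  · intro n hn v w hv hw
    obtain ⟨s, hs, hact⟩ := base_inner D hU hn
    have hwv : w = ⟨s, hs⟩ * v * (⟨s, hs⟩ : (S : Subgroup G))⁻¹ :=
      Subtype.ext (hw.trans (hact _ ((mem_baseG D).2 hv)))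
    by_cases hc : v ∈ Subgroup.center (S : Subgroup G)
    · rw [show w = v by rw [hwv, (Subgroup.mem_center_iff.1 hc _), mul_inv_cancel_right]]
    · rw [if_neg hc, if_neg fun hc' => hc ?_]
      rw [hwv] at hc'
      have := Subgroup.Normal.conj_mem inferInstance _ hc' (⟨s, hs⟩ : (S : Subgroup G))⁻¹
      simpa [mul_assoc] using this
  · intro i₀ n hn v w _ hw
    by_cases hc : v ∈ Subgroup.center (S : Subgroup G) ∨ w ∈ Subgroup.center (S : Subgroup G)
    · rw [fixed_center_of_shape D hn hw hc]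
    · rw [if_neg fun h' => hc (Or.inl h'), if_neg fun h' => hc (Or.inr h')]

theorem XMoves_transport {i₀ i₁ : ZMod (2 ^ D.n)} (h : XMoves D i₀) : XMoves D i₁ := by
  obtain ⟨n, hn, hne⟩ := h
  set d := i₁ - i₀
  set s : G := ((D.U d 0 : (S : Subgroup G)) : G)
  have hmap : (shapeG D i₀).map (MulAut.conj s).toMonoidHom = shapeG D i₁ := by
    refine Subgroup.eq_of_le_of_card_ge ?_ ?_
    · rintro _ ⟨_, ⟨t, ⟨k, l, hkl, ht⟩, rfl⟩, rfl⟩
      refine ⟨D.U d 0 * t * (D.U d 0)⁻¹, ⟨k, l, hkl, ?_⟩, by simp [s]⟩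
      rcases ht with rfl | rfl
      · exact Or.inl (D.conj_U_U _ _ _ _)
      · refine Or.inr ?_
        rw [D.U_mul_w, D.conj_U_w, D.U_mul_w, D.w_inj]; constructor <;> ring
    · rw [Transfer.Fusion.card_map_conj, shapeG, shapeG,
        Subgroup.card_map_of_injective (Subgroup.subtype_injective _),
        Subgroup.card_map_of_injective (Subgroup.subtype_injective _)]
      obtain ⟨t, ht⟩ := D.shape_conj (D.shapeGroup_shape i₁) (D.shapeGroup_shape i₀)
      rw [← ht, Subgroup.card_map_of_injective (MulEquiv.injective _)]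
  refine ⟨s * n * s⁻¹, hmap ▸ QuasiDihedralClasses.conj_mem_normalizer hn, fun hb => hne ?_⟩
  have hsq : s⁻¹ * qi D * s = qi D := by
    have h1 : D.U d 0 * D.U D.c (-D.c) = D.U D.c (-D.c) * D.U d 0 := D.U_comm _ _ _ _
    have h2 : s * qi D = qi D * s := congrArg Subtype.val h1
    rw [mul_assoc, ← h2, inv_mul_cancel_left]
  rw [show s * n * s⁻¹ * qi D * (s * n * s⁻¹)⁻¹ = s * (n * (s⁻¹ * qi D * s) * n⁻¹) * s⁻¹ by group,
    hsq] at hb
  exact (Subgroup.mem_normalizer_iff.1 (sylow_le_normalizer_baseG D (D.U d 0).2) _).2 hb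

/-- Membership of the base is a fusion invariant unless a subgroup of shape `i₀` is moved. -/
theorem base_invariant {i₁ : ZMod (2 ^ D.n)} (hX : ¬ XMoves D i₁) {a b : (S : Subgroup G)}
    (h : IsConj (a : G) (b : G)) : a ∈ D.base ↔ b ∈ D.base := by
  refine iff_of_eq (fusion D (fun v => v ∈ D.base) ?_ ?_ ?_ h)
  · intro s v
    have hb : D.base.Normal := Subgroup.normal_of_index_eq_two D.index_base
    exact propext ⟨fun hv => by simpa [mul_assoc] using hb.conj_mem _ hv s⁻¹,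
      fun hv => hb.conj_mem v hv s⟩
  · intro n hn v w hv hw
    refine propext (iff_of_true hv ((mem_baseG D).1 ?_))
    rw [hw]; exact (Subgroup.mem_normalizer_iff.1 hn _).1 ((mem_baseG D).2 hv)
  · intro i₀ n hn v w hv hw
    have hX₀ : ¬ XMoves D i₀ := fun h' => hX (XMoves_transport D h')
    have key : ∀ m ∈ Subgroup.normalizer (shapeG D i₀ : Set G), ∀ u : (S : Subgroup G),
        u ∈ D.shapeGroup i₀ → u ∈ D.base → m * u * m⁻¹ ∈ baseG D := by
      intro m hm u hu hub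
      have hqm : m * qi D * m⁻¹ ∈ baseG D := by_contra fun hne => hX₀ ⟨m, hm, hne⟩
      obtain ⟨k, l, hkl, rfl | rfl⟩ := hu
      · have hfix : ∀ e, m * ((D.U e e : (S : Subgroup G)) : G) * m⁻¹ ∈ baseG D := fun e => by
          rw [commute_of_normalizer_shape D hm (x := ((D.U e e : (S : Subgroup G)) : G))
            ⟨_, D.mem_center.2 ⟨e, rfl⟩, rfl⟩]
          exact (mem_baseG D).2 (D.U_mem_base e e)
        rcases hkl with h' | h'
        · rw [sub_eq_zero.1 h']; exact hfix l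
        · have h1 : D.U k l = D.U (l + D.c) (l + D.c) * D.U D.c (-D.c) := by
            rw [D.U_mul_U, D.U_inj]
            exact ⟨by linear_combination h' - D.c_add_c, by ring⟩
          rw [h1, Subgroup.coe_mul, ← conj_mul]
          exact mul_mem (hfix _) hqm
      · rw [D.U_mul_w] at hub
        exact absurd hub (D.w_notMem_base _ _)
    refine propext ⟨fun hvb => (mem_baseG D).1 (hw ▸ key n hn v hv hvb), fun hwb => ?_⟩
    have hwX : w ∈ D.shapeGroup i₀ := by
      obtain ⟨t, ht, e⟩ : (w : G) ∈ shapeG D i₀ :=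
        hw ▸ (Subgroup.mem_normalizer_iff.1 hn _).1 ⟨v, hv, rfl⟩
      exact (Subtype.ext e : t = w) ▸ ht
    have := key _ (inv_mem hn) w hwX hwb
    rw [hw, show n⁻¹ * (n * v * n⁻¹) * n⁻¹⁻¹ = (v : G) by group] at this
    exact (mem_baseG D).1 this

theorem theta_invariant (hU : ¬ UMoves D) {a b : (S : Subgroup G)} (h : IsConj (a : G) (b : G)) :
    theta D a = theta D b := by
  refine fusion D (theta D) ?_ ?_ ?_ h
  · intro s v
    rw [map_mul, map_mul, map_inv, mul_comm (theta D s), mul_inv_cancel_right]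
  · intro n hn v w hv hw
    obtain ⟨s, hs, hact⟩ := base_inner D hU hn
    rw [show w = ⟨s, hs⟩ * v * (⟨s, hs⟩ : (S : Subgroup G))⁻¹ from
      Subtype.ext (hw.trans (hact _ ((mem_baseG D).2 hv))),
      map_mul, map_mul, map_inv, mul_comm (theta D ⟨s, hs⟩), mul_inv_cancel_right]
  · exact fun i₀ n hn v w hv hw => (theta_shape D hn ⟨v, hv, rfl⟩ hw).symm

/-! ### The involution classes -/

/-- A noncentral involution of the base. -/
def eG : G := (D.U D.h 0 : (S : Subgroup G))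

/-- An involution outside the base. -/
def wG : G := (D.w 0 0 : (S : Subgroup G))

theorem isConj_w (i : ZMod (2 ^ D.n)) : IsConj ((D.w i (-i) : (S : Subgroup G)) : G) (wG D) :=
  (isConj_iff.2 ⟨((D.U i 0 : (S : Subgroup G)) : G),
    congrArg Subtype.val (D.conj_to_w_zero i (-i) (add_neg_cancel i))⟩ :
      IsConj (wG D) ((D.w i (-i) : (S : Subgroup G)) : G)).symm

theorem isConj_U0h : IsConj ((D.U 0 D.h : (S : Subgroup G)) : G) (eG D) :=
  isConj_iff.2 ⟨((D.w 0 0 : (S : Subgroup G)) : G), congrArg Subtype.val (D.conj_w_U 0 0 0 D.h)⟩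

theorem orderOf_reps : orderOf (ι D) = 2 ∧ orderOf (eG D) = 2 ∧ orderOf (wG D) = 2 :=
  ⟨(Subgroup.orderOf_coe _).trans
      (D.orderOf_U_two ⟨D.h_add_h, D.h_add_h⟩ fun e => D.h_ne_zero e.1),
    (Subgroup.orderOf_coe _).trans
      (D.orderOf_U_two ⟨D.h_add_h, add_zero 0⟩ fun e => D.h_ne_zero e.1),
    (Subgroup.orderOf_coe _).trans (by simpa using D.orderOf_w_neg 0)⟩

theorem inv_cases {t : G} (ht : orderOf t = 2) :
    IsConj t (ι D) ∨ IsConj t (eG D) ∨ IsConj t (wG D) := by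
  have hp : IsPGroup 2 (Subgroup.zpowers t) :=
    IsPGroup.of_card (n := 1) (by rw [Nat.card_zpowers, ht, pow_one])
  obtain ⟨g, -, hg⟩ := Transfer.Fusion.exists_conj_le_of_isPGroup (K := ⊤) S le_top hp le_top
  have hgt : g * t * g⁻¹ ∈ (S : Subgroup G) := hg ⟨t, Subgroup.mem_zpowers t, rfl⟩
  have hc : ∀ v : (S : Subgroup G), (⟨_, hgt⟩ : (S : Subgroup G)) = v → IsConj t (v : G) :=
    fun v hv => isConj_iff.2 ⟨g, congrArg Subtype.val hv⟩
  set v : (S : Subgroup G) := ⟨_, hgt⟩ with hvdef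
  have ho : orderOf v = 2 := by
    rw [hvdef, Subgroup.orderOf_mk, ← MulAut.conj_apply, ← MulEquiv.coe_toMonoidHom,
      orderOf_injective _ (MulAut.conj g).injective, ht]
  rcases D.mul_self_eq_one (s := v) (by rw [← sq]; exact orderOf_dvd_iff_pow_eq_one.1 ho.dvd) with
    ⟨i, j, hi, hj, h⟩ | ⟨i, h⟩
  · rcases hi with rfl | rfl <;> rcases hj with rfl | rfl
    · rw [h, D.U_zero, orderOf_one] at ho; omega
    · exact Or.inr (Or.inl ((hc _ h).trans (isConj_U0h D)))
    · exact Or.inr (Or.inl (hc _ h))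
    · exact Or.inl (hc _ h)
  · exact Or.inr (Or.inr ((hc _ h).trans (isConj_w D i)))

theorem isConj_ι_e (hU : UMoves D) : IsConj (ι D) (eG D) := by
  obtain ⟨n, hn, hne⟩ := hU
  obtain ⟨v, ⟨i, j, hi, hj, rfl⟩, hv⟩ :=
    (Subgroup.mem_normalizer_iff.1 (normalizer_baseG_le D hn) _).1 (ι_mem D)
  simp only [Subgroup.subtype_apply] at hv
  rcases hi with rfl | rfl <;> rcases hj with rfl | rfl
  · refine absurd ?_ (ι_ne_one D)
    rw [D.U_zero, OneMemClass.coe_one] at hv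
    exact conj_eq_one_iff.1 hv.symm
  · exact (isConj_iff.2 ⟨n, hv.symm⟩).trans (isConj_U0h D)
  · exact isConj_iff.2 ⟨n, hv.symm⟩
  · exact absurd hv.symm hne

theorem isConj_e_w {i₀ : ZMod (2 ^ D.n)} (hX : XMoves D i₀) : IsConj (eG D) (wG D) := by
  obtain ⟨n, hn, hne⟩ := hX
  set d : G := ((D.U D.c D.c : (S : Subgroup G)) : G) with hd
  have he : eG D = d * qi D := congrArg Subtype.val (show D.U D.h 0 = D.U D.c D.c * D.U D.c (-D.c) by
    rw [D.U_mul_U, D.U_inj]; exact ⟨D.c_add_c.symm, by ring⟩)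
  have h1 : n * eG D * n⁻¹ = d * (n * qi D * n⁻¹) := by
    rw [he, ← conj_mul, commute_of_normalizer_shape D hn (x := d) ⟨_, D.mem_center.2 ⟨D.c, rfl⟩, rfl⟩]
  have h2 : n * eG D * n⁻¹ ∉ baseG D := fun h => hne (by
    rw [h1, Subgroup.mul_mem_cancel_left _ ((mem_baseG D).2 (D.U_mem_base _ _))] at h; exact h)
  have h3 : n * eG D * n⁻¹ ∈ shapeG D i₀ := by
    rw [h1]
    exact mul_mem (centerG_le_shapeG D i₀ ⟨_, D.mem_center.2 ⟨D.c, rfl⟩, rfl⟩)
      ((Subgroup.mem_normalizer_iff.1 hn _).1 (qi_mem D i₀))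
  obtain ⟨v, hv, hve⟩ := h3
  simp only [Subgroup.subtype_apply] at hve
  have hv1 : v * v = 1 := Subtype.ext (by
    have he2 : eG D * eG D = 1 := by rw [← sq, ← (orderOf_reps D).2.1, pow_orderOf_eq_one]
    rw [Subgroup.coe_mul, hve, conj_mul, he2, mul_one, mul_inv_cancel, OneMemClass.coe_one])
  rcases D.mul_self_eq_one hv1 with ⟨i, j, -, -, rfl⟩ | ⟨i, rfl⟩
  · exact absurd (hve ▸ (mem_baseG D).2 (D.U_mem_base i j)) h2
  · exact (isConj_iff.2 ⟨n, hve.symm⟩ : IsConj (eG D) _).trans (isConj_w D i)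

theorem not_isConj_ι (hU : ¬ UMoves D) : ¬ IsConj (ι D) (eG D) ∧ ¬ IsConj (ι D) (wG D) := by
  refine ⟨fun h => ?_, fun h => ?_⟩
  · have := center_weakly_closed D hU (a := D.U D.h D.h) (b := D.U D.h 0) h (D.mem_center.2 ⟨_, rfl⟩)
    exact D.h_ne_zero (D.U_inj.1 this).2.symm
  · have := center_weakly_closed D hU (a := D.U D.h D.h) (b := D.w 0 0) h (D.mem_center.2 ⟨_, rfl⟩)
    exact D.U_ne_w _ _ _ _ this.symm

theorem not_isConj_w {i₁ : ZMod (2 ^ D.n)} (hX : ¬ XMoves D i₁) :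
    ¬ IsConj (ι D) (wG D) ∧ ¬ IsConj (eG D) (wG D) := by
  refine ⟨fun h => ?_, fun h => ?_⟩
  · exact D.w_notMem_base 0 0
      ((base_invariant D hX (a := D.U D.h D.h) (b := D.w 0 0) h).1 (D.U_mem_base _ _))
  · exact D.w_notMem_base 0 0
      ((base_invariant D hX (a := D.U D.h 0) (b := D.w 0 0) h).1 (D.U_mem_base _ _))

/-! ### Subgroups of index 2 -/

theorem base_le (hU : UMoves D) {H K : Subgroup G} (hHK : H ≤ K) (h2 : H.relIndex K = 2)
    (hK : baseG D ≤ K) (hodd : ∀ n : G, Odd (orderOf n) → n ∈ K) : baseG D ≤ H := by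
  obtain ⟨φ, hap, -, hcard, hc⟩ := base_perm D
  obtain ⟨n, ho, hf⟩ := exists_odd_fpf φ hcard (hc.resolve_left fun h => h.1 hU).2
  rw [← Subgroup.orderOf_coe] at ho
  have hnH := mem_of_odd h2 (hodd _ ho) ho
  let π : baseG D →* omegaG D :=
    MonoidHom.mk' (fun v => ⟨(v : G) ^ 2 ^ (D.n - 1), by
        rw [mem_omegaG, ← pow_add, ← two_mul, ← pow_succ', Nat.sub_add_cancel D.n1]
        obtain ⟨_, ⟨i, j, rfl⟩, e⟩ := v.2
        refine ⟨pow_mem v.2 _, ?_⟩
        rw [← e, Subgroup.subtype_apply, ← Subgroup.coe_pow, D.U_pow, Nat.cast_pow, Nat.cast_ofNat,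
          QuasiDihedral.two_pow_self, zero_mul, zero_mul, D.U_zero, OneMemClass.coe_one]⟩)
      fun a b => Subtype.ext (by
        show ((a : G) * b) ^ _ = (a : G) ^ _ * (b : G) ^ _
        exact (baseG_comm D a.2 b.2).mul_pow _)
  have hpiU : ∀ (i j : ZMod (2 ^ D.n)) (hm : ((D.U i j : (S : Subgroup G)) : G) ∈ baseG D),
      ((π ⟨_, hm⟩ : omegaG D) : G) = ((D.U (D.h * i) (D.h * j) : (S : Subgroup G)) : G) := by
    intro i j hm
    show ((D.U i j : (S : Subgroup G)) : G) ^ _ = _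
    rw [← Subgroup.coe_pow, D.U_pow, Nat.cast_pow, Nat.cast_ofNat]
    rfl
  have hsurj : Function.Surjective π := by
    rintro ⟨_, _, ⟨i, j, hi, hj, rfl⟩, rfl⟩
    have hsol : ∀ k, (k = 0 ∨ k = D.h) → ∃ k', D.h * k' = k := by
      rintro k (rfl | rfl)
      exacts [⟨0, mul_zero _⟩, ⟨1, mul_one _⟩]
    obtain ⟨i', hi'⟩ := hsol i hi
    obtain ⟨j', hj'⟩ := hsol j hj
    exact ⟨⟨_, (mem_baseG D).2 (D.U_mem_base i' j')⟩, Subtype.ext ((hpiU i' j' _).trans (by rw [hi', hj']; rfl))⟩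
  set M := H.subgroupOf (baseG D)
  have hidx : M.index ∣ 2 := relIndex_dvd_two h2 hK
  have hinv : ∀ v ∈ M.map π, ((omegaG D).normalizerMonoidHom
      ⟨(n : G), normalizer_baseG_le D n.2⟩) v ∈ M.map π := by
    rintro _ ⟨v, hv, rfl⟩
    refine ⟨⟨(n : G) * v * (n : G)⁻¹, (Subgroup.mem_normalizer_iff.1 n.2 _).1 v.2⟩,
      mul_mem (mul_mem hnH hv) (inv_mem hnH), Subtype.ext ?_⟩
    show ((n : G) * v * (n : G)⁻¹) ^ _ = (n : G) * ((v : G) ^ _) * (n : G)⁻¹
    exact conj_pow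
  have htop := eq_top_of_fpf (omegaG_four D).card_four
    ((omegaG D).normalizerMonoidHom ⟨(n : G), normalizer_baseG_le D n.2⟩)
    (fun v hv h => hf ⟨v, hv⟩ (Subtype.ext (Subtype.ext ((hap n ⟨v, hv⟩).trans (congrArg Subtype.val h)))))
    (M.map π) hinv ((Subgroup.index_map_dvd _ hsurj).trans hidx)
  intro x hx
  have h4 : (⟨x, hx⟩ : baseG D) ∈ (M.map π).comap π := by rw [htop]; trivial
  rw [Subgroup.comap_map_eq] at h4
  have hker : π.ker ≤ M := by
    rintro ⟨_, _, ⟨i, j, rfl⟩, rfl⟩ hk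
    have h5 := congrArg (fun v : omegaG D => (v : G)) (MonoidHom.mem_ker.1 hk)
    rw [OneMemClass.coe_one] at h5
    have h6 : D.U (D.h * i) (D.h * j) = 1 := Subtype.ext ((hpiU i j _).symm.trans h5)
    rw [D.U_eq_one] at h6
    obtain ⟨i', hi'⟩ := (QuasiDihedral.half_mul_eq_zero_iff D.n1).1 h6.1
    obtain ⟨j', hj'⟩ := (QuasiDihedral.half_mul_eq_zero_iff D.n1).1 h6.2
    show ((D.U i j : (S : Subgroup G)) : G) ∈ H
    rw [hi', hj', ← D.U_mul_U, Subgroup.coe_mul]
    exact Subgroup.mul_self_mem_of_index_two h2 (⟨_, hK ((mem_baseG D).2 (D.U_mem_base i' j'))⟩ : K)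
  exact sup_le le_rfl hker h4

theorem q8_le {i₀ : ZMod (2 ^ D.n)} (hX : XMoves D i₀) {H K : Subgroup G} (hHK : H ≤ K)
    (h2 : H.relIndex K = 2) (hK : q8G D i₀ ≤ K) (hodd : ∀ n : G, Odd (orderOf n) → n ∈ K) :
    q8G D i₀ ≤ H := by
  obtain ⟨φ, hap, -, hV, hV3, hc⟩ := shape_perm D i₀
  obtain ⟨n, ho, hf⟩ := exists_odd_fpf φ hV3 (hc.resolve_left fun h => h.1 hX).2
  rw [← Subgroup.orderOf_coe] at ho
  have hnH := mem_of_odd h2 (hodd _ ho) ho
  -- `n` preserves `q8`
  have hq : ∀ v ∈ q8G D i₀, (n : G) * v * (n : G)⁻¹ ∈ q8G D i₀ := by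
    intro v hv
    have hvX := q8G_le_shapeG D i₀ hv
    obtain ⟨s, hs, rfl⟩ := hv
    obtain ⟨t, ⟨k, l, hkl, ht⟩, e⟩ := (Subgroup.mem_normalizer_iff.1 n.2 _).1 hvX
    refine ⟨t, ?_, e⟩
    have hθ : theta D t = 1 := by
      rw [theta_shape D n.2 hvX e, ← MonoidHom.mem_ker, ker_theta]
      rcases hs with ⟨u, -, rfl⟩ | ⟨u, -, rfl⟩
      · exact Or.inl ⟨u, rfl⟩
      · exact Or.inr ⟨_, _, by ring, rfl⟩
    rcases ht with rfl | rfl
    · rw [theta_U, ofAdd_eq_one] at hθ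
      refine Or.inl ⟨k, ?_, by rw [show l = -k by linear_combination hθ]⟩
      rw [show k + k = k - l by linear_combination hθ]; exact hkl
    · rw [D.U_mul_w] at e ⊢
      rw [D.U_mul_w, theta_w, ofAdd_eq_one] at hθ
      refine Or.inr ⟨k - D.c, ?_, by rw [D.w_inj]; exact ⟨by ring, by linear_combination hθ - D.h_add_h⟩⟩
      rw [show k - D.c + (k - D.c) = k - l by linear_combination hθ - D.c_add_c - D.h_add_h]
      exact hkl
  set M := H.subgroupOf (q8G D i₀)
  have hidx : M.index ∣ 2 := relIndex_dvd_two h2 hK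
  let π : q8G D i₀ →* shapeG D i₀ ⧸ Subgroup.center (shapeG D i₀) :=
    (QuotientGroup.mk' _).comp (Subgroup.inclusion (q8G_le_shapeG D i₀))
  have hsurj : Function.Surjective π := by
    intro x
    induction x using QuotientGroup.induction_on with
    | _ v =>
      have hv : (v : G) ∈ q8G D i₀ ⊔ centerG D := shapeG_eq D i₀ ▸ v.2
      have hnorm : q8G D i₀ ≤ Subgroup.normalizer (centerG D : Set G) := fun a ha => by
        refine Subgroup.mem_normalizer_iff.2 fun y => ?_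
        have hfix : ∀ b ∈ shapeG D i₀, ∀ y ∈ centerG D, b * y * b⁻¹ = y := fun b hb y hy =>
          commute_of_normalizer_shape D (Subgroup.le_normalizer hb) hy
        refine ⟨fun hy => by rwa [hfix a (q8G_le_shapeG D i₀ ha) y hy], fun hy => ?_⟩
        have := hfix _ (inv_mem (q8G_le_shapeG D i₀ ha)) _ hy
        rw [show a⁻¹ * (a * y * a⁻¹) * a⁻¹⁻¹ = y by group] at this
        rwa [this]
      rw [← SetLike.mem_coe, Subgroup.coe_mul_of_left_le_normalizer_right _ _ hnorm] at hv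
      obtain ⟨a, ha, b, hb, e⟩ := hv
      refine ⟨⟨a, ha⟩, QuotientGroup.eq.2 ((center_shape D i₀ _).2 ?_)⟩
      show a⁻¹ * (v : G) ∈ centerG D
      rw [← e, inv_mul_cancel_left]; exact hb
  have hinv : ∀ x ∈ M.map π,
      quotAut (shapeG D i₀) ((shapeG D i₀).normalizerMonoidHom n) x ∈ M.map π := by
    rintro _ ⟨v, hv, rfl⟩
    exact ⟨⟨_, hq v v.2⟩, mul_mem (mul_mem hnH hv) (inv_mem hnH), (quotAut_mk ((shapeG D i₀).normalizerMonoidHom n)
      (Subgroup.inclusion (q8G_le_shapeG D i₀) v)).symm⟩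
  have htop := eq_top_of_fpf hV (quotAut (shapeG D i₀) ((shapeG D i₀).normalizerMonoidHom n))
    (fun v hv h => hf ⟨v, hv⟩ (Subtype.ext ((hap n ⟨v, hv⟩).trans h)))
    (M.map π) hinv ((Subgroup.index_map_dvd _ hsurj).trans hidx)
  intro x hx
  have h4 : (⟨x, hx⟩ : q8G D i₀) ∈ (M.map π).comap π := by rw [htop]; trivial
  rw [Subgroup.comap_map_eq] at h4
  have hker : π.ker ≤ M := by
    rintro ⟨_, s, hs, rfl⟩ hk
    obtain ⟨s', hs', e⟩ := (center_shape D i₀ _).1 ((QuotientGroup.eq_one_iff _).1 hk)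
    obtain rfl : s' = s := Subtype.ext e
    obtain ⟨a, ha⟩ := D.mem_center.1 hs'
    show (s' : G) ∈ H
    rcases hs with ⟨u, -, rfl⟩ | ⟨u, -, rfl⟩
    · rw [D.U_inj] at ha
      rcases D.add_self.1 (show u + u = 0 by linear_combination ha.1 - ha.2) with rfl | rfl
      · rw [neg_zero, D.U_zero, OneMemClass.coe_one]; exact one_mem H
      · have hi : ((D.U D.c (-D.c) : (S : Subgroup G)) : G) ∈ q8G D i₀ :=
          ⟨_, Or.inl ⟨D.c, Or.inr D.c_add_c, rfl⟩, rfl⟩
        rw [show D.U D.h (-D.h) = D.U D.c (-D.c) * D.U D.c (-D.c) by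
          rw [D.U_mul_U, ← neg_add, D.c_add_c], Subgroup.coe_mul]
        exact Subgroup.mul_self_mem_of_index_two h2 (⟨_, hK hi⟩ : K)
    · exact absurd ha.symm (D.U_ne_w _ _ _ _)
  exact sup_le le_rfl hker h4

/-! ### The hypotheses of the statements -/

theorem eq_baseG {U : Subgroup G} (hUS : U ≤ S) (hUab : IsMulCommutative U)
    (hUcard : Nat.card U = 2 ^ (2 * D.n)) : U = baseG D := by
  have h1 : U.subgroupOf (S : Subgroup G) = D.base := by
    refine D.eq_base ⟨⟨fun a b => ?_⟩⟩ ?_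
    · exact Subtype.ext (Subtype.ext (congrArg (fun v : U => (v : G))
        (hUab.is_comm.comm ⟨_, a.2⟩ ⟨_, b.2⟩)))
    · rw [Nat.card_congr (Subgroup.subgroupOfEquivOfLe hUS).toEquiv, hUcard]
  rw [baseG, ← h1, Subgroup.subgroupOf_map_subtype, inf_eq_left.2 hUS]

theorem exists_shapeG {Q : Subgroup G} (hQS : Q ≤ S) (e : Q ≃* QuaternionGroup 2) :
    ∃ i₀, Q ⊔ centerG D = shapeG D i₀ := by
  obtain ⟨i, hi⟩ := D.eq_q8 ((Subgroup.subgroupOfEquivOfLe hQS).trans e)
  refine ⟨i - D.c, ?_⟩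
  rw [shapeG_eq, q8G, sub_add_cancel, ← hi, Subgroup.subgroupOf_map_subtype, inf_eq_left.2 hQS]

theorem UMoves_of_six
    (h : (Subgroup.centralizer (baseG D : Set G)).relIndex
      (Subgroup.normalizer (baseG D : Set G)) = 6) : UMoves D := by
  rcases base_relIndex D with ⟨-, h'⟩ | ⟨hm, -⟩
  · omega
  · exact hm

theorem not_UMoves_of_two
    (h : (Subgroup.centralizer (baseG D : Set G)).relIndex
      (Subgroup.normalizer (baseG D : Set G)) = 2) : ¬ UMoves D := by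
  rcases base_relIndex D with ⟨hm, -⟩ | ⟨-, h'⟩
  · exact hm
  · omega

theorem XMoves_of_six {i₀ : ZMod (2 ^ D.n)}
    (h : (shapeG D i₀ ⊔ Subgroup.centralizer (shapeG D i₀ : Set G)).relIndex
      (Subgroup.normalizer (shapeG D i₀ : Set G)) = 6) : XMoves D i₀ := by
  rcases shape_relIndexG D i₀ with ⟨-, h'⟩ | ⟨hm, -⟩
  · omega
  · exact hm

theorem not_XMoves_of_two {i₀ : ZMod (2 ^ D.n)}
    (h : (shapeG D i₀ ⊔ Subgroup.centralizer (shapeG D i₀ : Set G)).relIndex
      (Subgroup.normalizer (shapeG D i₀ : Set G)) = 2) : ¬ XMoves D i₀ := by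
  rcases shape_relIndexG D i₀ with ⟨hm, -⟩ | ⟨-, h'⟩
  · exact hm
  · omega

theorem card_classes_three {a b c : G} {m : ℕ} (ha : orderOf a = m) (hb : orderOf b = m)
    (hc : orderOf c = m) (hab : ¬ IsConj a b) (hac : ¬ IsConj a c) (hbc : ¬ IsConj b c)
    (h : ∀ t : G, orderOf t = m → IsConj t a ∨ IsConj t b ∨ IsConj t c) :
    Nat.card {C : ConjClasses G // ∃ t : G, orderOf t = m ∧ ConjClasses.mk t = C} = 3 := by
  have e : ∀ {x y : G}, ConjClasses.mk x = ConjClasses.mk y ↔ IsConj x y :=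
    ConjClasses.mk_eq_mk_iff_isConj
  rw [show Nat.card {C : ConjClasses G // ∃ t : G, orderOf t = m ∧ ConjClasses.mk t = C} =
      Nat.card ({ConjClasses.mk a, ConjClasses.mk b, ConjClasses.mk c} : Set (ConjClasses G)) from
    Nat.card_congr (Equiv.subtypeEquivRight fun C => ⟨?_, ?_⟩), Nat.card_coe_set_eq,
    Set.ncard_eq_three]
  · exact ⟨_, _, _, fun h' => hab (e.1 h'), fun h' => hac (e.1 h'), fun h' => hbc (e.1 h'), rfl⟩
  · rintro ⟨t, ht, rfl⟩
    rcases h t ht with h' | h' | h'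
    · exact Or.inl (e.2 h')
    · exact Or.inr (Or.inl (e.2 h'))
    · exact Or.inr (Or.inr (e.2 h'))
  · rintro (rfl | rfl | rfl)
    exacts [⟨a, ha, rfl⟩, ⟨b, hb, rfl⟩, ⟨c, hc, rfl⟩]

end Cfsg.Agent.Involutions.WreathedClasses
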