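import Mathlib
import Cfsg.Prelude.Def_Transfer
import Cfsg.Agent.Lib.Involutions.WreathedClasses
import Cfsg.Agent.Lib.Transfer.NormalPComplement

/-!
# The four fusion patterns of wreathed Sylow 2-subgroups
-/

namespace Cfsg.Agent.Involutions.WreathedCases

open Cfsg.Agent.Involutions.Wreathed Cfsg.Agent.Involutions.WreathedFusion
open Cfsg.Agent.Involutions.WreathedClasses
open Cfsg.Agent.Involutions.QuasiDihedralClasses (card_classes_one card_classes_two)

variable {G : Type*} [Group G] [Finite G] {S : Sylow 2 G} (D : Gens (S : Subgroup G))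

include D in
theorem n_eq {n : ℕ} (hn : Nat.card S = 2 ^ (2 * n + 1)) : n = D.n := by
  have := Nat.pow_right_injective le_rfl (hn.symm.trans D.hcard)
  omega

theorem w_mem_q8G (i : ZMod (2 ^ D.n)) :
    ((D.w i (D.h - i) : (S : Subgroup G)) : G) ∈ q8G D (i - D.c) := by
  refine ⟨D.w i (D.h - i), Or.inr ⟨0, Or.inl (add_zero 0), ?_⟩, rfl⟩
  rw [sub_add_cancel, add_zero, sub_zero]

theorem q8_le_quat (i : ZMod (2 ^ D.n)) : D.q8 i ≤ D.quat := by
  rintro _ (⟨k, -, rfl⟩ | ⟨k, -, rfl⟩)
  · exact Or.inl ⟨k, rfl⟩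
  · exact Or.inr ⟨_, _, by ring, rfl⟩

theorem quat_le_of {i₀ : ZMod (2 ^ D.n)} (hX : XMoves D i₀) {H K : Subgroup G} (hHK : H ≤ K)
    (h2 : H.relIndex K = 2) (hK : ∀ s : (S : Subgroup G), s ∈ D.quat → (s : G) ∈ K)
    (hodd : ∀ n : G, Odd (orderOf n) → n ∈ K) {s : (S : Subgroup G)} (hs : s ∈ D.quat) :
    (s : G) ∈ H := by
  have hw : ∀ i, ((D.w i (D.h - i) : (S : Subgroup G)) : G) ∈ H := fun i => by
    refine q8_le D (XMoves_transport D hX) hHK h2 ?_ hodd (w_mem_q8G D i)
    rintro _ ⟨v, hv, rfl⟩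
    exact hK v (q8_le_quat D _ hv)
  rcases hs with ⟨i, rfl⟩ | ⟨i, j, hij, rfl⟩
  · have h1 : D.U i (-i) = D.w (i + D.h) (D.h - (i + D.h)) * D.w 0 (D.h - 0) := by
      rw [D.w_mul_w, D.U_inj]
      exact ⟨by linear_combination -2 * D.h_add_h + D.h_add_h, by linear_combination 0⟩
    rw [h1, Subgroup.coe_mul]
    exact mul_mem (hw _) (hw _)
  · rw [show j = D.h - i by linear_combination hij]
    exact hw i

theorem no_index_two {i₀ : ZMod (2 ^ D.n)} (hU : UMoves D) (hX : XMoves D i₀) (H : Subgroup G) :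
    H.index ≠ 2 := by
  intro h2
  have h2' : H.relIndex ⊤ = 2 := by rw [Subgroup.relIndex_top_right, h2]
  have hb := base_le D hU le_top h2' le_top (fun n _ => trivial)
  have hw := quat_le_of D hX le_top h2' (fun _ _ => trivial) (fun n _ => trivial)
    (s := D.w 0 D.h) (Or.inr ⟨_, _, zero_add _, rfl⟩)
  have hS : (S : Subgroup G) ≤ H := by
    intro s hs
    rcases D.forms ⟨s, hs⟩ with ⟨i, j, h⟩ | ⟨i, j, h⟩
    · rw [show s = _ from congrArg Subtype.val h]
      exact hb ((mem_baseG D).2 (D.U_mem_base i j))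
    · have h' : D.w i j = D.U i (j - D.h) * D.w 0 D.h := by
        rw [D.U_mul_w, D.w_inj]; exact ⟨(add_zero i).symm, by ring⟩
      rw [show s = _ from congrArg Subtype.val h, h', Subgroup.coe_mul]
      exact mul_mem (hb ((mem_baseG D).2 (D.U_mem_base _ _))) hw
  have h3 := Subgroup.index_dvd_of_le hS
  rw [h2] at h3
  exact S.not_dvd_index h3

theorem one_class {i₀ : ZMod (2 ^ D.n)} (hU : UMoves D) (hX : XMoves D i₀) :
    Nat.card {C : ConjClasses G // ∃ t : G, orderOf t = 2 ∧ ConjClasses.mk t = C} = 1 := by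
  refine card_classes_one (orderOf_reps D).2.1 fun t ht => ?_
  rcases inv_cases D ht with h | h | h
  exacts [h.trans (isConj_ι_e D hU), h, h.trans (isConj_e_w D hX).symm]

theorem quaternion_case {i₀ : ZMod (2 ^ D.n)} (hU : ¬ UMoves D) (hX : XMoves D i₀) :
    (∃ K : Subgroup G, K.Normal ∧ K.index = 2 ^ D.n ∧ (∀ P : Sylow 2 ↥K,
      ∃ m : ℕ, 1 ≤ m ∧ Nonempty ((P : Subgroup ↥K) ≃* QuaternionGroup (2 ^ m))) ∧
      (∀ H : Subgroup ↥K, H.index ≠ 2)) ∧
    (∀ Z₀ : Subgroup G, Z₀ ≤ centerG D → Cfsg.IsWeaklyClosed Z₀ (S : Subgroup G)) ∧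
    Nat.card {C : ConjClasses G // ∃ t : G, orderOf t = 2 ∧ ConjClasses.mk t = C} = 2 := by
  refine ⟨?_, ?_, ?_⟩
  · have := D.quat_normal
    obtain ⟨K, hKn, hKi, hKS⟩ := FusionTransfer.exists_normal S D.quat (fun a b hab => by
      rw [← ker_theta, MonoidHom.mem_ker, map_mul, map_inv, mul_inv_eq_one]
      exact theta_invariant D hU (isConj_iff.2 hab))
    have hidx : D.quat.index = 2 ^ D.n := by
      have h := D.quat.card_mul_index
      rw [D.hcard, D.card_quat] at h
      refine Nat.eq_of_mul_eq_mul_left (show 0 < 2 ^ (D.n + 1) by positivity) ?_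
      rw [h, ← pow_add]; congr 1; omega
    have := hKn
    refine ⟨K, hKn, hKi.trans hidx, fun P => ⟨D.n - 1, by have := D.hn; omega, ?_⟩, ?_⟩
    · obtain ⟨e⟩ := FusionTransfer.sylow_equiv S hKi (fun s hs => (hKS s).2 hs) P
      obtain ⟨f⟩ := D.quat_equiv
      exact ⟨e.trans f⟩
    · exact FusionTransfer.no_index_prime S hKi (fun s hs => (hKS s).2 hs) fun H hH h2 s hs =>
        quat_le_of D hX hH h2 (fun v hv => (hKS v).2 hv)
          (fun n hn => FusionTransfer.odd_mem (hKi.trans hidx) (Nat.coprime_two_right.2 hn)) hs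
  · intro Z hZ
    refine ⟨hZ.trans (Subgroup.map_subtype_le _), fun g hg => ?_⟩
    refine Subgroup.eq_of_le_of_card_ge ?_ (Transfer.Fusion.card_map_conj _ _).ge
    rintro _ ⟨x, hx, rfl⟩
    obtain ⟨a, ha, e⟩ := hZ hx
    simp only [Subgroup.subtype_apply] at e
    have hy : g * x * g⁻¹ ∈ (S : Subgroup G) := hg ⟨x, hx, rfl⟩
    have h := center_weakly_closed D hU (a := a) (b := ⟨_, hy⟩) (by
      rw [e]; exact isConj_iff.2 ⟨g, rfl⟩) ha
    show g * x * g⁻¹ ∈ Z
    rw [show g * x * g⁻¹ = (a : G) from congrArg Subtype.val h, e]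
    exact hx
  · refine card_classes_two (orderOf_reps D).1 (orderOf_reps D).2.1 (not_isConj_ι D hU).1
      fun t ht => ?_
    rcases inv_cases D ht with h | h | h
    exacts [Or.inl h, Or.inr h, Or.inr (h.trans (isConj_e_w D hX).symm)]

theorem exists_base_normal {i₀ : ZMod (2 ^ D.n)} (hX : ¬ XMoves D i₀) :
    ∃ K : Subgroup G, K.Normal ∧ K.index = 2 ∧
      ∀ s : (S : Subgroup G), ((s : G) ∈ K ↔ s ∈ D.base) := by
  have := Subgroup.normal_of_index_eq_two D.index_base
  obtain ⟨K, hKn, hKi, hKS⟩ := FusionTransfer.exists_normal S D.base (fun a b hab => by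
    rw [Subgroup.mul_mem_iff_of_index_two D.index_base, inv_mem_iff]
    exact base_invariant D hX (isConj_iff.2 hab))
  exact ⟨K, hKn, hKi.trans D.index_base, hKS⟩

theorem abelian_case {i₀ : ZMod (2 ^ D.n)} (hU : UMoves D) (hX : ¬ XMoves D i₀) :
    (∃ K : Subgroup G, K.Normal ∧ K.index = 2 ∧ baseG D ≤ K ∧ (∀ H : Subgroup ↥K, H.index ≠ 2)) ∧
    Nat.card {C : ConjClasses G // ∃ t : G, orderOf t = 2 ∧ ConjClasses.mk t = C} = 2 := by
  constructor
  · obtain ⟨K, hKn, hKi, hKS⟩ := exists_base_normal D hX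
    have hbK : baseG D ≤ K := by
      rintro _ ⟨s, hs, rfl⟩; exact (hKS s).2 hs
    refine ⟨K, hKn, hKi, hbK, FusionTransfer.no_index_prime S (hKi.trans D.index_base.symm)
      (fun s hs => (hKS s).2 hs) fun H hH h2 s hs => base_le D hU hH h2 hbK
        (fun n hn => FusionTransfer.odd_mem (k := 1) (by rw [hKi, pow_one])
          (Nat.coprime_two_right.2 hn)) ((mem_baseG D).2 hs)⟩
  · refine card_classes_two (orderOf_reps D).1 (orderOf_reps D).2.2 (not_isConj_w D hX).1
      fun t ht => ?_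
    rcases inv_cases D ht with h | h | h
    exacts [Or.inl h, Or.inl (h.trans (isConj_ι_e D hU).symm), Or.inr h]

theorem nilpotent_case {i₀ : ZMod (2 ^ D.n)} (hU : ¬ UMoves D) (hX : ¬ XMoves D i₀) :
    Cfsg.HasNormalPComplement 2 G ∧
    Nat.card {C : ConjClasses G // ∃ t : G, orderOf t = 2 ∧ ConjClasses.mk t = C} = 3 := by
  constructor
  · obtain ⟨K, hKn, hKi, hKS⟩ := exists_base_normal D hX
    obtain ⟨hle, hodd⟩ := FusionTransfer.not_dvd_relIndex S (hKi.trans D.index_base.symm)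
      (fun s hs => (hKS s).2 hs)
    let P₀ : Sylow 2 K :=
      (((S.2.to_subgroup D.base).map _).comap_subtype (K := K)).toSylow hodd
    refine Transfer.NormalPComplement.hasNormalPComplement_of_normal_index (k := 1) ?_
      (by rw [hKi, pow_one])
    refine Transfer.NormalPComplement.hasNormalPComplement_of_normalizer_le_centralizer P₀ ?_
    set C := Subgroup.centralizer (baseG D : Set G) with hC
    set N := Subgroup.normalizer (baseG D : Set G) with hN
    have h2 : C.relIndex N = 2 := ((base_relIndex D).resolve_right fun h => hU h.1).2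
    have hbC : baseG D ≤ C := fun v hv =>
      Subgroup.mem_centralizer_iff.2 fun y hy => (baseG_comm D hy hv).eq
    have hCN : C ≤ N := fun v hv => Subgroup.centralizer_le_normalizer _ hv
    have hCodd : ¬ 2 ∣ (baseG D).relIndex C := by
      intro h
      have h3 : (baseG D).relIndex C * C.relIndex N * N.index = (baseG D).index := by
        rw [Subgroup.relIndex_mul_relIndex _ _ _ hbC hCN,
          Subgroup.relIndex_mul_index Subgroup.le_normalizer]
      rw [h2, show (baseG D).index = 2 * (S : Subgroup G).index by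
        rw [baseG, Subgroup.index_map_subtype, D.index_base]] at h3
      obtain ⟨q, hq⟩ := h
      refine S.not_dvd_index ⟨q * N.index, ?_⟩
      rw [hq] at h3
      linarith
    have hCK : C ≤ K := by
      rw [← Subgroup.relIndex_eq_one]
      have h3 : K.relIndex C ∣ 2 := hKi ▸ Subgroup.relIndex_dvd_index_of_normal K C
      have h4 : K.relIndex C ∣ (baseG D).relIndex C := Subgroup.relIndex_dvd_of_le_left C hle
      rcases (Nat.dvd_prime Nat.prime_two).1 h3 with h5 | h5
      · exact h5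
      · exact absurd (h5 ▸ h4) hCodd
    have hu : ((D.w 0 0 : (S : Subgroup G)) : G) ∈ N := sylow_le_normalizer_baseG D (D.w 0 0).2
    have huK : ((D.w 0 0 : (S : Subgroup G)) : G) ∉ K := fun h =>
      D.w_notMem_base 0 0 ((hKS _).1 h)
    intro k hk
    have hkN : (k : G) ∈ N := by
      refine Subgroup.mem_normalizer_iff.2 fun y => ⟨fun hy => ?_, fun hy => ?_⟩
      · exact (Subgroup.mem_normalizer_iff.1 hk ⟨y, hle hy⟩).1 hy
      · have hyK : y ∈ K := by
          have := mul_mem (mul_mem (inv_mem k.2) (hle hy)) k.2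
          rwa [show (k : G)⁻¹ * ((k : G) * y * (k : G)⁻¹) * k = y by group] at this
        exact (Subgroup.mem_normalizer_iff.1 hk ⟨y, hyK⟩).2 hy
    have hkC : (k : G) ∈ C := by
      by_contra hkC
      have huC : ((D.w 0 0 : (S : Subgroup G)) : G) ∉ C := fun h => huK (hCK h)
      have h3 : (⟨_, hu⟩ : N) * ⟨_, hkN⟩ ∈ C.subgroupOf N :=
        (Subgroup.mul_mem_iff_of_index_two h2).2 (iff_of_false huC hkC)
      exact huK ((Subgroup.mul_mem_cancel_right K k.2).1 (hCK h3))
    exact Subgroup.mem_centralizer_iff.2 fun y hy =>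
      Subtype.ext (Subgroup.mem_centralizer_iff.1 hkC _ hy)
  · exact card_classes_three (orderOf_reps D).1 (orderOf_reps D).2.1 (orderOf_reps D).2.2
      (not_isConj_ι D hU).1 (not_isConj_w D hX).1 (not_isConj_w D hX).2 fun t ht => inv_cases D ht

end Cfsg.Agent.Involutions.WreathedCases
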