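import Mathlib
import Cfsg.Prelude.Def_Transfer
import Cfsg.Agent.Lib.Involutions.WreathedCases
import Cfsg.Agent.Lib.Involutions.QuasiDihedralClasses

/-!
# Centralisers of involutions, quasi-dihedral or wreathed Sylow 2-subgroups
-/

namespace Cfsg.Agent.Involutions.CentralizerInvolution

open Cfsg.Agent.Classical.CyclicExt (pw pw_intCast exists_quaternion_hom)
open scoped Pointwise

/-- An isomorphism carries powers to powers. -/
theorem map_pw {A B : Type*} [Group A] [Group B] (e : A ≃* B) {m : ℕ} (x : A) (hx : x ^ m = 1)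
    (hx' : (e x) ^ m = 1) (i : ZMod m) : pw (e x) hx' i = e (pw x hx i) := by
  obtain ⟨a, rfl⟩ := ZMod.intCast_surjective i
  rw [pw_intCast, pw_intCast, map_zpow]

/-- Transport of wreathed generators. -/
def mapW {A B : Type*} [Group A] [Group B] (D : Wreathed.Gens A) (e : A ≃* B) :
    Wreathed.Gens B where
  n := D.n
  hn := D.hn
  hcard := (Nat.card_congr e.symm.toEquiv).trans D.hcard
  x := e D.x
  y := e D.y
  z := e D.z
  hx := (e.orderOf_eq D.x).trans D.hx
  hxy := by rw [← map_mul, ← map_mul, D.hxy]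
  hdis := by
    rw [← MulEquiv.coe_toMonoidHom, ← MonoidHom.map_zpowers, ← MonoidHom.map_zpowers,
      ← Subgroup.map_inf _ _ _ e.injective, D.hdis, Subgroup.map_bot]
  hz := (e.orderOf_eq D.z).trans D.hz
  hzx := by rw [← map_inv, ← map_mul, ← map_mul, D.hzx]

theorem mapW_U {A B : Type*} [Group A] [Group B] (D : Wreathed.Gens A) (e : A ≃* B)
    (i j : ZMod (2 ^ D.n)) : (mapW D e).U i j = e (D.U i j) := by
  exact (congrArg₂ (· * ·) (map_pw e D.x D.x_pow _ i) (map_pw e D.y D.y_pow _ j)).trans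
    (map_mul e _ _).symm

theorem mapW_w {A B : Type*} [Group A] [Group B] (D : Wreathed.Gens A) (e : A ≃* B)
    (i j : ZMod (2 ^ D.n)) : (mapW D e).w i j = e (D.w i j) := by
  exact (congrArg (· * e D.z) (mapW_U D e i j)).trans (map_mul e _ _).symm

theorem mem_mapW_shape {A B : Type*} [Group A] [Group B] (D : Wreathed.Gens A) (e : A ≃* B)
    (i : ZMod (2 ^ D.n)) (s : A) : e s ∈ (mapW D e).shapeGroup i ↔ s ∈ D.shapeGroup i := by
  constructor
  · rintro ⟨k, l, hkl, h | h⟩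
    · exact ⟨k, l, hkl, Or.inl (e.injective (h.trans (mapW_U D e k l)))⟩
    · exact ⟨k, l, hkl, Or.inr (e.injective (h.trans
        ((congrArg₂ (· * ·) (mapW_U D e k l) (mapW_w D e i (-i))).trans (map_mul e _ _).symm)))⟩
  · rintro ⟨k, l, hkl, rfl | rfl⟩
    · exact ⟨k, l, hkl, Or.inl (mapW_U D e k l).symm⟩
    · exact ⟨k, l, hkl, Or.inr
        ((congrArg₂ (· * ·) (mapW_U D e k l) (mapW_w D e i (-i))).trans (map_mul e _ _).symm).symm⟩

/-- Transport of quasi-dihedral generators. -/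
def mapQ {A B : Type*} [Group A] [Group B] (D : QuasiDihedral.Gens A) (e : A ≃* B) :
    QuasiDihedral.Gens B where
  n := D.n
  hn := D.hn
  hcard := (Nat.card_congr e.symm.toEquiv).trans D.hcard
  x := e D.x
  y := e D.y
  hx := (e.orderOf_eq D.x).trans D.hx
  hy := (e.orderOf_eq D.y).trans D.hy
  hxy := by rw [← map_inv, ← map_mul, ← map_mul, D.hxy, map_pow]

theorem mapQ_P {A B : Type*} [Group A] [Group B] (D : QuasiDihedral.Gens A) (e : A ≃* B)
    (i : ZMod (2 ^ D.n)) : (mapQ D e).P i = e (D.P i) := by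
  exact map_pw e D.x D.pow_card _ i

theorem mapQ_q {A B : Type*} [Group A] [Group B] (D : QuasiDihedral.Gens A) (e : A ≃* B)
    (i : ZMod (2 ^ D.n)) : (mapQ D e).q i = e (D.q i) := by
  exact (congrArg (· * e D.y) (mapQ_P D e i)).trans (map_mul e _ _).symm

variable {G : Type*} [Group G] [Finite G]

/-- The conclusion at the involution `x`, with a chosen Sylow subgroup of the centraliser. -/
def Concl (C : Type*) [Group C] (R : Sylow 2 C) : Prop :=
  (∃ K : Subgroup C, K.Normal ∧ (∃ a : ℕ, K.index = 2 ^ a) ∧ (∀ H : Subgroup ↥K, H.index ≠ 2) ∧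
      (∀ P : Sylow 2 ↥K, ∃ m : ℕ, 1 ≤ m ∧
        Nonempty ((P : Subgroup ↥K) ≃* QuaternionGroup (2 ^ m)))) ∧
    ∀ Z₀ : Subgroup C, Z₀ ≤ (Subgroup.center (R : Subgroup C)).map (R : Subgroup C).subtype →
      Cfsg.IsWeaklyClosed Z₀ (R : Subgroup C)

/-! ### Quasi-dihedral -/

section QD

open QuasiDihedral QuasiDihedralFusion QuasiDihedralClasses

variable {S : Sylow 2 G} (D : QuasiDihedral.Gens (S : Subgroup G))

theorem qd_not_fix (hG : ∀ H : Subgroup G, H.index ≠ 2) : ¬ TFix D ∧ ¬ QFix D := by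
  refine ⟨fun h => ?_, fun h => ?_⟩
  · obtain ⟨K, -, hK, -⟩ := ThreePoint.exists_index_two S (D.half 1) (D.index_half 1)
      fun a b ⟨g, hg⟩ => ⟨half_one_fus D h (isConj_iff.2 ⟨g, hg⟩),
        half_one_fus D h (isConj_iff.2 ⟨g, hg⟩).symm⟩
    exact hG K hK
  · obtain ⟨K, -, hK, -⟩ := ThreePoint.exists_index_two S (D.half 0) (D.index_half 0)
      fun a b ⟨g, hg⟩ => ⟨half_zero_fus D h (isConj_iff.2 ⟨g, hg⟩),
        half_zero_fus D h (isConj_iff.2 ⟨g, hg⟩).symm⟩
    exact hG K hK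

theorem qd_one_class (hG : ∀ H : Subgroup G, H.index ≠ 2) {t : G} (ht : orderOf t = 2) :
    IsConj t (D.z : G) := by
  rcases QuasiDihedralClasses.inv_cases D ht with h | h
  · exact h
  · have h1 := (qd_not_fix D hG).1
    simp only [TFix, not_forall, not_not] at h1
    obtain ⟨i, hi, hc⟩ := h1
    exact h.trans ((isConj_q_q D (i := 0) (j := i) (by rwa [sub_zero])).trans hc)

/-- A quaternion subgroup of order 8. -/
theorem exists_quaternion {A : Type*} [Group A] (D : QuasiDihedral.Gens A) :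
    ∃ Q : Subgroup A, Nonempty (Q ≃* QuaternionGroup 2) := by
  have := D.finite
  obtain ⟨f, hf⟩ := exists_quaternion_hom (n := 2) (D.P D.c) (D.q 1)
    (D.orderOf_P_c.trans (by norm_num))
    (by rw [D.q_mul_self_odd D.not_even_one, sq, ← D.P_add, D.c_add_c]; rfl)
    (by rw [D.conj_q_P, D.r_mul_c, D.P_neg])
    (by
      rintro ⟨k, hk⟩
      have h1 : D.q 1 ∈ Subgroup.zpowers D.x := hk ▸ zpow_mem (D.P_mem D.c) k
      obtain ⟨i, hi⟩ := D.exists_eq_P h1
      exact D.P_ne_q i 1 hi.symm)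
  exact ⟨f.range, ⟨(MonoidHom.ofInjective hf).symm⟩⟩

theorem qd_concl {C : Type*} [Group C] [Finite C] {R : Sylow 2 C}
    (D : QuasiDihedral.Gens (R : Subgroup C)) (hz : ∀ c : C, Commute c (D.z : C))
    (hQ : ¬ QFix D) : Concl C R := by
  obtain ⟨Q₀, ⟨e₀⟩⟩ := exists_quaternion D
  set Q := Q₀.map (R : Subgroup C).subtype
  have hQS : Q ≤ (R : Subgroup C) := Subgroup.map_subtype_le _
  let eQ : Q ≃* QuaternionGroup 2 :=
    ((Q₀.equivMapOfInjective _ (Subgroup.subtype_injective _)).symm).trans e₀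
  simp only [QFix, not_forall, not_not] at hQ
  obtain ⟨i, hi, hc⟩ := hQ
  have hm := QMoves_of_conj D hQS eQ hi hc
  have hT : TFix D := fun j _ h => by
    obtain ⟨g, hg⟩ := isConj_iff.1 h.symm
    rw [(hz g).eq, mul_inv_cancel_right] at hg
    exact D.P_ne_q _ _ (Subtype.ext hg)
  obtain ⟨K, hKn, hK2, hKM⟩ := ThreePoint.exists_index_two R (D.half 1) (D.index_half 1)
    fun a b ⟨g, hg⟩ => ⟨half_one_fus D hT (isConj_iff.2 ⟨g, hg⟩),
      half_one_fus D hT (isConj_iff.2 ⟨g, hg⟩).symm⟩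
  refine ⟨⟨K, hKn, ⟨1, by rw [hK2, pow_one]⟩, ?_, fun P => ?_⟩, fun Z hZ => ?_⟩
  · refine QuasiDihedralClasses.no_index_two (D.index_half 1) hK2 (fun s => (hKM s).2)
      fun H hHK h2 s hs => ?_
    have hodd : ∀ n : C, Odd (orderOf n) → n ∈ K := fun n hn =>
      mem_of_odd (K := ⊤) (by rw [Subgroup.relIndex_top_right, hK2]) trivial hn
    have hq : ∀ i : ZMod (2 ^ D.n), ¬ Even i → (D.q i : C) ∈ H := fun i hi =>
      q_odd_mem D hQS eQ hm hHK h2 hodd (fun s => (hKM s).2) hi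
    rcases hs with ⟨i, hi, rfl⟩ | ⟨i, hi, rfl⟩
    · obtain ⟨k, hk⟩ : ∃ k, i = k + D.r * 1 := ⟨i - D.r, by ring⟩
      have hk1 : ¬ Even k := fun hk' => by
        have h5 : Even (D.r * 1) := by
          rw [show D.r * 1 = i - k by rw [hk]; ring]; exact hi.sub hk'
        exact D.not_even_one (D.even_r_mul_iff.1 h5)
      rw [hk, ← D.q_mul_q, Subgroup.coe_mul]
      exact mul_mem (hq k hk1) (hq 1 D.not_even_one)
    · exact hq i fun h => D.not_even_one (by simpa using h.sub hi)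
  · obtain ⟨e⟩ := QuasiDihedralClasses.sylow_equiv (D.index_half 1) hK2 (fun s => (hKM s).2) P
    obtain ⟨e'⟩ := D.half_one_equiv
    exact ⟨D.n - 2, by have := D.hn; omega, ⟨e.trans e'⟩⟩
  · refine ⟨hZ.trans (Subgroup.map_subtype_le _), fun g _ => ?_⟩
    refine Subgroup.eq_of_le_of_card_ge ?_ (Transfer.Fusion.card_map_conj _ _).ge
    rintro _ ⟨v, hv, rfl⟩
    have hv' := hZ hv
    rw [D.center_eq, MonoidHom.map_zpowers] at hv'
    obtain ⟨k, hk⟩ := Subgroup.mem_zpowers_iff.1 hv'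
    show g * v * g⁻¹ ∈ Z
    have h1 : g * v = v * g := hk ▸ ((hz g).zpow_right k).eq
    rw [h1, mul_inv_cancel_right]
    exact hv

theorem qd_case_aux (hG : ∀ H : Subgroup G, H.index ≠ 2) (x : G) (hxz : (D.z : G) = x) :
    ∃ R : Sylow 2 ↥(Subgroup.centralizer ({x} : Set G)), Nat.card R = Nat.card S ∧
      Concl ↥(Subgroup.centralizer ({x} : Set G)) R := by
  set C := Subgroup.centralizer ({x} : Set G) with hC
  have hSC : (S : Subgroup G) ≤ C := fun s hs => by
    rw [hC, Subgroup.mem_centralizer_singleton_iff, ← hxz]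
    exact congrArg Subtype.val (D.mem_center_z ⟨s, hs⟩).eq.symm
  let R : Sylow 2 C := S.subtype hSC
  let e : (S : Subgroup G) ≃* (R : Subgroup C) := (Subgroup.subgroupOfEquivOfLe hSC).symm
  have hP : ∀ i : ZMod (2 ^ D.n), (((mapQ D e).P i : C) : G) = D.P i := fun i =>
    congrArg (fun v : (R : Subgroup C) => ((v : C) : G)) (mapQ_P D e i)
  have hq : ∀ i : ZMod (2 ^ D.n), (((mapQ D e).q i : C) : G) = D.q i := fun i =>
    congrArg (fun v : (R : Subgroup C) => ((v : C) : G)) (mapQ_q D e i)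
  refine ⟨R, Nat.card_congr e.symm.toEquiv, qd_concl (R := R) (mapQ D e) ?_ ?_⟩
  · intro c
    have hz : (((mapQ D e).z : C) : G) = x := (hP _).trans hxz
    refine Subtype.ext ?_
    show (c : G) * (((mapQ D e).z : C) : G) = (((mapQ D e).z : C) : G) * (c : G)
    rw [hz]
    exact Subgroup.mem_centralizer_singleton_iff.1 c.2
  · intro hfix
    have h1 := (qd_not_fix D hG).2
    simp only [QFix, not_forall, not_not] at h1
    obtain ⟨i, hi, hc⟩ := h1
    obtain ⟨k, hk⟩ := isConj_iff.1 hc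
    have hkC : k ∈ C := by
      have h2 : (D.q i : G) * D.q i = x := by rw [← Subgroup.coe_mul, D.q_mul_self_odd hi, hxz]
      have h3 : (D.P D.c : G) * D.P D.c = x := by
        rw [← Subgroup.coe_mul, ← D.P_add, D.c_add_c]; exact hxz
      have h4 : k * x * k⁻¹ = x := by rw [← h2, ← conj_mul, hk, h3, h2]
      rw [hC, Subgroup.mem_centralizer_singleton_iff]
      exact mul_inv_eq_iff_eq_mul.1 h4
    refine hfix i hi (isConj_iff.2 ⟨⟨k, hkC⟩, Subtype.ext ?_⟩)
    exact ((congrArg (k * · * k⁻¹) (hq i)).trans hk).trans (hP D.c).symm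

include D in
theorem qd_case (hG : ∀ H : Subgroup G, H.index ≠ 2) (x : G) (hx : orderOf x = 2) :
    ∃ R : Sylow 2 ↥(Subgroup.centralizer ({x} : Set G)), Nat.card R = Nat.card S ∧
      Concl ↥(Subgroup.centralizer ({x} : Set G)) R := by
  obtain ⟨g, hg⟩ := isConj_iff.1 (qd_one_class D hG hx).symm
  let e : (S : Subgroup G) ≃* ((g • S : Sylow 2 G) : Subgroup G) := S.equivSMul g
  obtain ⟨R, hR, hc⟩ := qd_case_aux (S := g • S) (mapQ D e) hG x
    ((congrArg Subtype.val (mapQ_P D e D.h)).trans hg)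
  exact ⟨R, hR.trans (Nat.card_congr e.toEquiv).symm, hc⟩

end QD

/-! ### Wreathed -/

section Wreathed

open Wreathed WreathedFusion WreathedClasses

variable {S : Sylow 2 G} (D : Wreathed.Gens (S : Subgroup G))

theorem w_moves (hG : ∀ H : Subgroup G, H.index ≠ 2) : UMoves D ∧ XMoves D 0 := by
  have hX : XMoves D 0 := by
    by_contra hX
    obtain ⟨K, -, hK, -⟩ := WreathedCases.exists_base_normal D hX
    exact hG K hK
  refine ⟨?_, hX⟩
  by_contra hU
  obtain ⟨⟨K, hKn, hKi, -⟩, -⟩ := WreathedCases.quaternion_case D hU hX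
  have := hKn
  have hcard : Nat.card (G ⧸ K) = 2 ^ D.n := hKi
  obtain ⟨H, hH⟩ := Sylow.exists_subgroup_card_pow_prime 2 (n := D.n - 1)
    (G := G ⧸ K) (by rw [hcard]; exact pow_dvd_pow 2 (Nat.sub_le _ _))
  refine hG (H.comap (QuotientGroup.mk' K)) ?_
  rw [Subgroup.index_comap_of_surjective _ (QuotientGroup.mk'_surjective K)]
  have h1 := H.card_mul_index
  rw [hH, hcard] at h1
  refine Nat.eq_of_mul_eq_mul_left (Nat.two_pow_pos (D.n - 1)) (h1.trans ?_)
  rw [← pow_succ, Nat.sub_add_cancel D.n1]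

theorem w_case_aux (hG : ∀ H : Subgroup G, H.index ≠ 2) (x : G) (hxz : ι D = x) :
    ∃ R : Sylow 2 ↥(Subgroup.centralizer ({x} : Set G)), Nat.card R = Nat.card S ∧
      Concl ↥(Subgroup.centralizer ({x} : Set G)) R := by
  set C := Subgroup.centralizer ({x} : Set G) with hC
  have hιc : ∀ s ∈ (S : Subgroup G), s * ι D = ι D * s := fun s hs => congrArg Subtype.val
    (Subgroup.mem_center_iff.1 (D.mem_center.2 ⟨D.h, rfl⟩) ⟨s, hs⟩)
  have hSC : (S : Subgroup G) ≤ C := fun s hs => by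
    rw [hC, Subgroup.mem_centralizer_singleton_iff, ← hxz]
    exact hιc s hs
  let R : Sylow 2 C := S.subtype hSC
  let e : (S : Subgroup G) ≃* (R : Subgroup C) := (Subgroup.subgroupOfEquivOfLe hSC).symm
  let D' : Gens (R : Subgroup C) := mapW D e
  have hU : ∀ i j : ZMod (2 ^ D.n), (((mapW D e).U i j : C) : G) = D.U i j := fun i j =>
    congrArg (fun v : (R : Subgroup C) => ((v : C) : G)) (mapW_U D e i j)
  have hUfix : ¬ UMoves D' := by
    rintro ⟨n, -, hn⟩
    refine hn (Subtype.ext ?_)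
    show (n : G) * ((ι D' : C) : G) * (n : G)⁻¹ = ((ι D' : C) : G)
    rw [show ((ι D' : C) : G) = x from (hU _ _).trans hxz]
    exact mul_inv_eq_of_eq_mul (Subgroup.mem_centralizer_singleton_iff.1 n.2)
  obtain ⟨n, hn, hne⟩ := (w_moves D hG).2
  have hshape : ∀ c : C, c ∈ shapeG D' (0 : ZMod (2 ^ D.n)) ↔ (c : G) ∈ shapeG D 0 := by
    intro c
    constructor
    · rintro ⟨t, ht, rfl⟩
      obtain ⟨s, rfl⟩ := e.surjective t
      exact ⟨s, (mem_mapW_shape D e 0 s).1 ht, rfl⟩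
    · rintro ⟨s, hs, hsc⟩
      exact ⟨e s, (mem_mapW_shape D e 0 s).2 hs, Subtype.ext hsc⟩
  have hnC : n ∈ C := by
    rw [hC, Subgroup.mem_centralizer_singleton_iff, ← hxz]
    exact mul_inv_eq_iff_eq_mul.1
      (commute_of_normalizer_shape D hn ⟨_, D.mem_center.2 ⟨D.h, rfl⟩, rfl⟩)
  have hX' : XMoves D' (0 : ZMod (2 ^ D.n)) := by
    refine ⟨⟨n, hnC⟩, Subgroup.mem_normalizer_iff.2 fun c => ?_, fun h => hne ?_⟩
    · rw [hshape, hshape]; exact Subgroup.mem_normalizer_iff.1 hn _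
    · obtain ⟨t, ⟨i, j, rfl⟩, ht⟩ := h
      have h1 := congrArg (fun v : C => (v : G)) ht
      have hqi : ((qi D' : C) : G) = qi D := hU _ _
      have h2 : ((D.U i j : (S : Subgroup G)) : G) = n * qi D * n⁻¹ := by
        rw [← hqi]; exact (hU i j).symm.trans h1
      rw [← h2]
      exact (mem_baseG D).2 (D.U_mem_base i j)
  obtain ⟨⟨K, h1, h2, h3, h4⟩, h5, -⟩ := WreathedCases.quaternion_case D' hUfix hX'
  exact ⟨R, Nat.card_congr e.symm.toEquiv, ⟨K, h1, ⟨_, h2⟩, h4, h3⟩, h5⟩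

include D in
theorem w_case (hG : ∀ H : Subgroup G, H.index ≠ 2) (x : G) (hx : orderOf x = 2) :
    ∃ R : Sylow 2 ↥(Subgroup.centralizer ({x} : Set G)), Nat.card R = Nat.card S ∧
      Concl ↥(Subgroup.centralizer ({x} : Set G)) R := by
  obtain ⟨hU, hX⟩ := w_moves D hG
  have hconj : IsConj x (ι D) := by
    rcases WreathedClasses.inv_cases D hx with h | h | h
    exacts [h, h.trans (isConj_ι_e D hU).symm,
      h.trans ((isConj_ι_e D hU).trans (isConj_e_w D hX)).symm]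
  obtain ⟨g, hg⟩ := isConj_iff.1 hconj.symm
  let e : (S : Subgroup G) ≃* ((g • S : Sylow 2 G) : Subgroup G) := S.equivSMul g
  obtain ⟨R, hR, hc⟩ := w_case_aux (S := g • S) (mapW D e) hG x
    ((congrArg Subtype.val (mapW_U D e D.h D.h)).trans hg)
  exact ⟨R, hR.trans (Nat.card_congr e.toEquiv).symm, hc⟩

end Wreathed

end Cfsg.Agent.Involutions.CentralizerInvolution
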