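import Mathlib
import Cfsg.Agent.Lib.Involutions.WreathedAut
import Cfsg.Agent.Lib.Involutions.TwoGroups

/-!
# Subgroups of dihedral 2-groups and their automorphisms of odd order
-/

namespace Cfsg.Agent.Involutions.DihedralEmbedding

open DihedralGroup

variable {m : ℕ}

/-- Half of an even modulus. -/
def half (m : ℕ) : ZMod m := ((m / 2 : ℕ) : ZMod m)

theorem half_add_half (hm : 2 ∣ m) : half m + half m = 0 := by
  rw [half, ← Nat.cast_add, ← two_mul, Nat.mul_div_cancel' hm, ZMod.natCast_self]

theorem half_ne_zero (hm : 2 ∣ m) (hm0 : m ≠ 0) : half m ≠ 0 := by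
  rw [half, Ne, ZMod.natCast_eq_zero_iff]
  intro h
  have h1 := Nat.le_of_dvd (by obtain ⟨c, rfl⟩ := hm; omega) h
  omega

theorem add_self (hm : 2 ∣ m) (hm0 : m ≠ 0) {i : ZMod m} : i + i = 0 ↔ i = 0 ∨ i = half m := by
  have : NeZero m := ⟨hm0⟩
  refine ⟨fun h => ?_, by rintro (rfl | rfl); exacts [add_zero 0, half_add_half hm]⟩
  rw [← ZMod.natCast_zmod_val i] at h ⊢
  rw [← Nat.cast_add, ZMod.natCast_eq_zero_iff] at h
  obtain ⟨c, hc⟩ := h
  have hlt := ZMod.val_lt i
  have hc2 : c < 2 := by
    by_contra hc2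
    have : m * 2 ≤ m * c := Nat.mul_le_mul_left _ (by omega)
    omega
  interval_cases c
  · left
    rw [show i.val = 0 by omega, Nat.cast_zero]
  · right
    rw [half, show m / 2 = i.val by omega]

theorem r_sq {i : ZMod m} (hm : 2 ∣ m) (hm0 : m ≠ 0) :
    r i * r i = (1 : DihedralGroup m) ↔ i = 0 ∨ i = half m := by
  rw [r_mul_r, one_def, r.injEq, add_self hm hm0]

/-- A rotation squaring nontrivially, or an elementary abelian group of order at most 4. -/
theorem card_le_four {X : Type*} [Group X] (f : X →* DihedralGroup m) (hf : Function.Injective f)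
    (hm : 2 ∣ m) (hm0 : m ≠ 0) (h : ∀ g : X, g * g = 1) : Nat.card X ≤ 4 := by
  classical
  by_cases hsr : ∃ x₀ i₀, f x₀ = sr i₀
  · obtain ⟨x₀, i₀, hx₀⟩ := hsr
    let T : Finset (DihedralGroup m) := {1, r (half m), sr i₀, sr (i₀ + half m)}
    have hT : ∀ x, f x ∈ T := by
      intro x
      rcases hfx : f x with i | i
      · have h1 : f (x * x) = 1 := by rw [h, map_one]
        rw [map_mul, hfx, r_sq hm hm0] at h1
        rcases h1 with rfl | rfl <;> simp [T]
      · have h1 : f ((x₀ * x) * (x₀ * x)) = 1 := by rw [h, map_one]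
        rw [map_mul, map_mul, hfx, hx₀, sr_mul_sr, r_sq hm hm0] at h1
        rcases h1 with h1 | h1
        · simp [T, sub_eq_zero.1 h1]
        · simp [T, ← h1]
    refine (Nat.card_le_card_of_injective (fun x => (⟨f x, hT x⟩ : T)) fun a b e =>
      hf (congrArg Subtype.val e)).trans ?_
    rw [Nat.card_eq_fintype_card, Fintype.card_coe]
    exact (Finset.card_insert_le _ _).trans (Nat.succ_le_succ ((Finset.card_insert_le _ _).trans
      (Nat.succ_le_succ ((Finset.card_insert_le _ _).trans (by simp)))))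
  · push Not at hsr
    let T : Finset (DihedralGroup m) := {1, r (half m)}
    have hT : ∀ x, f x ∈ T := by
      intro x
      rcases hfx : f x with i | i
      · have h1 : f (x * x) = 1 := by rw [h, map_one]
        rw [map_mul, hfx, r_sq hm hm0] at h1
        rcases h1 with rfl | rfl <;> simp [T]
      · exact absurd hfx (hsr x i)
    refine (Nat.card_le_card_of_injective (fun x => (⟨f x, hT x⟩ : T)) fun a b e =>
      hf (congrArg Subtype.val e)).trans ?_
    rw [Nat.card_eq_fintype_card, Fintype.card_coe]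
    exact (Finset.card_insert_le _ _).trans (by simp)

/-- An automorphism of odd order of a subgroup with a rotation of order more than 2 is trivial. -/
theorem aut_eq_one {X : Type*} [Group X] (hX : IsPGroup 2 X) (f : X →* DihedralGroup m)
    (hf : Function.Injective f) {σ : MulAut X} (ho : Odd (orderOf σ)) {g : X} (hg : g * g ≠ 1) :
    σ = 1 := by
  let A : Subgroup X := (Subgroup.zpowers (r 1 : DihedralGroup m)).comap f
  have hsr : ∀ i : ZMod m, (sr i : DihedralGroup m) ∉ Subgroup.zpowers (r 1) := by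
    rintro i ⟨k, hk⟩
    simp [r_one_zpow] at hk
  have hA : ∀ x, x ∈ A ↔ ∃ i, f x = r i := by
    intro x
    constructor
    · rintro ⟨k, hk⟩
      exact ⟨(k : ZMod m), hk.symm.trans (r_one_zpow k)⟩
    · rintro ⟨i, hi⟩
      obtain ⟨k, rfl⟩ := ZMod.intCast_surjective i
      exact ⟨k, (r_one_zpow k).trans hi.symm⟩
  have hout : ∀ x, x ∉ A → x * x = 1 := by
    intro x hx
    rcases hfx : f x with i | i
    · exact absurd ((hA x).2 ⟨i, hfx⟩) hx
    · exact hf (by rw [map_mul, map_one, hfx, sr_mul_self])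
  have hcyc : IsCyclic A := by
    have : IsCyclic (A.map f) := Subgroup.isCyclic_of_le (Subgroup.map_comap_le f _)
    exact isCyclic_of_surjective (A.equivMapOfInjective f hf).symm (MulEquiv.surjective _)
  have hgA : g ∈ A := by_contra fun h => hg (hout g h)
  have hinv : ∀ x ∈ A, σ x ∈ A := by
    obtain ⟨g₀, hg₀⟩ := (Subgroup.isCyclic_iff_exists_zpowers_eq_top A).1 hcyc
    have h0 : σ g₀ ∈ A := by
      by_contra h0
      have h1 : g₀ * g₀ = 1 := σ.injective (by rw [map_mul, hout _ h0, map_one])
      rw [← hg₀] at hgA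
      obtain ⟨k, rfl⟩ := Subgroup.mem_zpowers_iff.1 hgA
      exact hg (by rw [← (Commute.refl g₀).mul_zpow, h1, one_zpow])
    intro x hx
    rw [← hg₀] at hx
    obtain ⟨k, rfl⟩ := Subgroup.mem_zpowers_iff.1 hx
    rw [map_zpow]
    exact zpow_mem h0 k
  have hfix : ∀ x ∈ A, σ x = x := fun x hx => Wreathed.fix_of_cyclic hX ho hcyc hinv hx
  refine MulEquiv.ext fun x => ?_
  by_cases hx : x ∈ A
  · exact hfix x hx
  · refine Wreathed.eq_of_delta hX ho (hfix _ ?_)
    have hσx : σ x ∉ A := fun h => hx ((σ.injective (hfix _ h)) ▸ h)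
    rw [hA]
    rcases hfx : f x with i | i
    · exact absurd ((hA x).2 ⟨i, hfx⟩) hx
    rcases hfσ : f (σ x) with j | j
    · exact absurd ((hA _).2 ⟨j, hfσ⟩) hσx
    exact ⟨j - i, by rw [map_mul, map_inv, hfx, hfσ, inv_sr, sr_mul_sr]⟩

theorem eq_one_of_fixed {X : Type*} [Group X] [Finite X] (hX : IsPGroup 2 X)
    (f : X →* DihedralGroup m) (hf : Function.Injective f) (hm : 2 ∣ m) (hm0 : m ≠ 0)
    {σ : MulAut X} (ho : Odd (orderOf σ)) {t : X} (ht : t ≠ 1) (hfix : σ t = t) : σ = 1 := by
  classical
  by_cases h : ∀ g : X, g * g = 1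
  · refine MulEquiv.ext fun x => ?_
    by_cases hx1 : x = 1
    · simp [hx1]
    by_cases hxt : x = t
    · rw [hxt]; exact hfix
    refine Wreathed.eq_of_delta hX ho ?_
    -- `1, t, x, t * x` are everything
    have := Fintype.ofFinite X
    have hall : ∀ v : X, v = 1 ∨ v = t ∨ v = x ∨ v = t * x := by
      intro v
      by_contra hv
      push Not at hv
      have hsub : ({1, t, x, t * x, v} : Finset X).card = 5 := by
        rw [Finset.card_insert_of_notMem, Finset.card_insert_of_notMem,
          Finset.card_insert_of_notMem, Finset.card_insert_of_notMem, Finset.card_singleton]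
        · simpa using hv.2.2.2.symm
        · simp only [Finset.mem_insert, Finset.mem_singleton, not_or]
          exact ⟨fun e => ht (right_eq_mul.1 e), hv.2.2.1.symm⟩
        · simp only [Finset.mem_insert, Finset.mem_singleton, not_or]
          exact ⟨Ne.symm hxt, fun e => hx1 (left_eq_mul.1 e), hv.2.1.symm⟩
        · simp only [Finset.mem_insert, Finset.mem_singleton, not_or]
          refine ⟨ht.symm, Ne.symm hx1, fun e => hxt ?_, hv.1.symm⟩
          calc x = t * (t * x) := by rw [← mul_assoc, h t, one_mul]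
            _ = t := by rw [← e, mul_one]
      have h4 := card_le_four f hf hm hm0 h
      rw [Nat.card_eq_fintype_card] at h4
      have := Finset.card_le_univ ({1, t, x, t * x, v} : Finset X)
      omega
    have hxi : x⁻¹ = x := inv_eq_of_mul_eq_one_left (h x)
    rcases hall (σ x) with e | e | e | e
    · exact absurd (σ.injective (e.trans (map_one σ).symm)) hx1
    · exact absurd (σ.injective (e.trans hfix.symm)) hxt
    · rw [e, inv_mul_cancel, map_one]
    · have h2 : x * (t * x) = t := by
        have h3 : (x * t) * (x * t) = 1 := h _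
        rw [← mul_inv_eq_one, inv_eq_of_mul_eq_one_left (h t), mul_assoc, mul_assoc, ← mul_assoc x t,
          h3]
      rw [e, hxi, h2, hfix]
  · push Not at h
    obtain ⟨g, hg⟩ := h
    exact aut_eq_one hX f hf ho hg

/-- Only four-groups have automorphisms of odd order. -/
theorem isKleinFour_of_aut {X : Type*} [Group X] [Finite X] (hX : IsPGroup 2 X)
    (f : X →* DihedralGroup m) (hf : Function.Injective f) (hm : 2 ∣ m) (hm0 : m ≠ 0)
    {σ : MulAut X} (ho : Odd (orderOf σ)) (hne : σ ≠ 1) :
    Nat.card X = 4 ∧ ∀ g : X, g * g = 1 := by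
  have hsq : ∀ g : X, g * g = 1 := fun g => by_contra fun hg => hne (aut_eq_one hX f hf ho hg)
  refine ⟨?_, hsq⟩
  have h4 := card_le_four f hf hm hm0 hsq
  obtain ⟨k, hk⟩ := IsPGroup.iff_card.1 hX
  have hk2 : k ≤ 2 := by
    by_contra hk2
    have : 2 ^ 3 ≤ 2 ^ k := Nat.pow_le_pow_right two_pos (by omega)
    omega
  interval_cases k
  · have : Subsingleton X := (Nat.card_eq_one_iff_unique.1 (by simpa using hk)).1
    exact absurd (MulEquiv.ext fun g => Subsingleton.elim _ _) hne
  · refine absurd (MulEquiv.ext fun g => ?_) hne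
    obtain ⟨a, -, ha⟩ := (Nat.card_eq_two_iff' (1 : X)).1 (by simpa using hk)
    by_cases hg : g = 1
    · simp [hg]
    · rw [MulAut.one_apply, ha g hg]
      exact ha _ fun e => hg (σ.injective (by rw [ha g hg, e, map_one]))
  · simpa using hk

end Cfsg.Agent.Involutions.DihedralEmbedding
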