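import Mathlib
import Cfsg.Prelude.Def_Transfer
import Cfsg.Prelude.Def_TwoFusion
import Cfsg.Agent.Lib.Involutions.DihedralEmbedding
import Cfsg.Agent.Lib.Involutions.ThompsonTransfer
import Cfsg.Agent.Lib.Involutions.Isolated
import Cfsg.Agent.Lib.Involutions.ThreePoint
import Cfsg.Agent.Lib.Transfer.Frobenius

/-!
# Dihedral Sylow 2-subgroups: four-groups, involutions and fusion
-/

namespace Cfsg.Agent.Involutions.DihedralSylow

open DihedralGroup DihedralEmbedding
open Cfsg.Agent.Transfer.Fusion (coe_smul_eq_map card_map_conj)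

theorem r_ne_one {m : ℕ} {i : ZMod m} (hi : i ≠ 0) : (r i : DihedralGroup m) ≠ 1 := fun h => by
  rw [one_def] at h; exact hi (r.inj h)

theorem sr_ne_one {m : ℕ} (i : ZMod m) : (sr i : DihedralGroup m) ≠ 1 := fun h => by
  rw [one_def] at h; cases h

variable {G : Type*} [Group G] [Finite G] (S : Sylow 2 G) {m : ℕ}
  (e : (S : Subgroup G) ≃* DihedralGroup m)

include e in
theorem two_dvd (hm : 2 ≤ m) : 2 ∣ m := by
  obtain ⟨k, hk⟩ := IsPGroup.iff_card.1 S.2
  rw [Nat.card_congr e.toEquiv, DihedralGroup.nat_card] at hk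
  rcases k with _ | _ | k
  · omega
  · omega
  · exact ⟨2 ^ k, by rw [pow_succ, pow_succ] at hk; omega⟩

include e in
theorem four_dvd (hm : 2 < m) : 4 ∣ m := by
  obtain ⟨k, hk⟩ := IsPGroup.iff_card.1 S.2
  rw [Nat.card_congr e.toEquiv, DihedralGroup.nat_card] at hk
  rcases k with _ | _ | _ | k
  · omega
  · omega
  · omega
  · exact ⟨2 ^ k, by rw [pow_succ, pow_succ, pow_succ] at hk; omega⟩

/-- Every 2-subgroup embeds in the dihedral group. -/
theorem exists_embedding {Q : Subgroup G} (hQ : IsPGroup 2 Q) (e : (S : Subgroup G) ≃* DihedralGroup m) :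
    ∃ f : Q →* DihedralGroup m, Function.Injective f := by
  obtain ⟨R, hR⟩ := hQ.exists_le_sylow
  exact ⟨((R.equiv S).trans e).toMonoidHom.comp (Subgroup.inclusion hR),
    ((R.equiv S).trans e).injective.comp (Subgroup.inclusion_injective hR)⟩

include e in
/-- Odd elements normalising a 2-group act trivially if they fix an involution of it. -/
theorem mem_centralizer_of_fixed (hm : 2 ≤ m) {Q : Subgroup G} (hQ : IsPGroup 2 Q) {g : G}
    (hg : g ∈ Subgroup.normalizer (Q : Set G)) (ho : Odd (orderOf g)) {t : G} (htQ : t ∈ Q)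
    (ht : t ≠ 1) (hgt : g * t * g⁻¹ = t) : g ∈ Subgroup.centralizer (Q : Set G) := by
  obtain ⟨f, hf⟩ := exists_embedding S hQ e
  set σ := Q.normalizerMonoidHom ⟨g, hg⟩
  have hoσ : Odd (orderOf σ) := by
    refine Odd.of_dvd_nat ?_ (orderOf_map_dvd Q.normalizerMonoidHom ⟨g, hg⟩)
    rwa [Subgroup.orderOf_mk]
  have h1 : σ = 1 := eq_one_of_fixed hQ f hf (two_dvd S e hm) (by omega) hoσ
    (t := ⟨t, htQ⟩) (fun h => ht (congrArg Subtype.val h)) (Subtype.ext hgt)
  refine Subgroup.mem_centralizer_iff.2 fun q hq => ?_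
  have h2 : g * q * g⁻¹ = q :=
    congrArg (fun σ : MulAut Q => ((σ ⟨q, hq⟩ : Q) : G)) h1
  exact (mul_inv_eq_iff_eq_mul.1 h2).symm

include e in
theorem condition_centralizer (hm : 2 ≤ m) {t : G} (ht : orderOf t = 2) :
    Transfer.Frobenius.Condition 2 (Subgroup.centralizer ({t} : Set G)) := by
  intro Q hQ g hg ho q hq
  set Q' := Q.map (Subgroup.centralizer ({t} : Set G)).subtype
  have hQ' : IsPGroup 2 Q' := hQ.map _
  have hgN : (g : G) ∈ Subgroup.normalizer (Q' : Set G) :=
    Subgroup.le_normalizer_map _ ⟨g, hg, rfl⟩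
  have hgt : (g : G) * t * (g : G)⁻¹ = t :=
    mul_inv_eq_iff_eq_mul.2 (Subgroup.mem_centralizer_singleton_iff.1 g.2)
  have htN : Subgroup.zpowers t ≤ Subgroup.normalizer (Q' : Set G) := by
    refine Subgroup.zpowers_le.2 (Subgroup.centralizer_le_normalizer _ ?_)
    rintro _ ⟨v, -, rfl⟩
    exact Subgroup.mem_centralizer_singleton_iff.1 v.2
  have hp : IsPGroup 2 (Q' ⊔ Subgroup.zpowers t : Subgroup G) :=
    hQ'.to_sup_of_normal_left'
      (IsPGroup.of_card (n := 1) (by rw [Nat.card_zpowers, ht, pow_one])) htN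
  have hgN' : (g : G) ∈ Subgroup.normalizer ((Q' ⊔ Subgroup.zpowers t : Subgroup G) : Set G) := by
    rw [← Transfer.Fusion.map_conj_eq_self_iff, Subgroup.map_sup,
      Transfer.Fusion.map_conj_eq_self_iff.2 hgN, MonoidHom.map_zpowers]
    congr 1
    exact congrArg Subgroup.zpowers hgt
  have h1 := mem_centralizer_of_fixed S e hm hp hgN'
    (by rw [Subgroup.orderOf_coe]; exact Nat.coprime_two_right.1 ho)
    (Subgroup.mem_sup_right (Subgroup.mem_zpowers t))
    (by rintro rfl; simp at ht) hgt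
  exact Subtype.ext (Subgroup.mem_centralizer_iff.1 h1 _ (Subgroup.mem_sup_left ⟨q, hq, rfl⟩))

include e in
theorem centralizer_complement (hm : 2 ≤ m) {t : G} (ht : orderOf t = 2) :
    Cfsg.HasNormalPComplement 2 (Subgroup.centralizer ({t} : Set G)) :=
  Transfer.Frobenius.hasNormalPComplement_iff_condition.2 (condition_centralizer S e hm ht)

/-! ### Four-groups -/

/-- The standard four-groups of the dihedral group. -/
def fourD (hm : 2 ∣ m) (i : ZMod m) : Subgroup (DihedralGroup m) where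
  carrier := {x | x = 1 ∨ x = r (half m) ∨ x = sr i ∨ x = sr (i + half m)}
  one_mem' := Or.inl rfl
  mul_mem' := by
    have h := half_add_half hm
    have hn : -half m = half m := neg_eq_of_add_eq_zero_left h
    have h' : ∀ x, half m + (half m + x) = x := fun x => by rw [← add_assoc, h, zero_add]
    rintro _ _ (rfl | rfl | rfl | rfl) (rfl | rfl | rfl | rfl) <;>
      simp only [Set.mem_ofPred_eq, Set.mem_setOf_eq, one_mul, mul_one, r_mul_r, r_mul_sr, sr_mul_r,
        sr_mul_sr, h, sub_self, add_sub_cancel_left, add_sub_cancel_right, sub_add_cancel_left, hn,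
        r_zero, sub_eq_add_neg, add_assoc, add_zero, add_neg_cancel, true_or, or_true, h', neg_add_rev,
        add_comm, add_left_comm, add_neg_cancel_left, neg_add_cancel_left]
  inv_mem' := by
    have hn : -half m = half m := neg_eq_of_add_eq_zero_left (half_add_half hm)
    rintro _ (rfl | rfl | rfl | rfl) <;> simp [hn]

/-- The four-group through the reflection `i`. -/
def four (hm : 2 ∣ m) (i : ZMod m) : Subgroup G :=
  (fourD hm i).map ((S : Subgroup G).subtype.comp e.symm.toMonoidHom)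

theorem four_le (hm : 2 ∣ m) (i : ZMod m) : four S e hm i ≤ S := by
  rintro _ ⟨x, -, rfl⟩
  exact (e.symm x).2

/-- The central involution. -/
def z : G := (e.symm (r (half m)) : (S : Subgroup G))

/-- The reflection `i`. -/
def refl (i : ZMod m) : G := (e.symm (sr i) : (S : Subgroup G))

theorem mem_four (hm : 2 ∣ m) (i : ZMod m) {x : G} :
    x ∈ four S e hm i ↔ x = 1 ∨ x = z S e ∨ x = refl S e i ∨ x = refl S e (i + half m) := by
  constructor
  · rintro ⟨y, (rfl | rfl | rfl | rfl), rfl⟩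
    exacts [Or.inl (by simp), Or.inr (Or.inl rfl), Or.inr (Or.inr (Or.inl rfl)),
      Or.inr (Or.inr (Or.inr rfl))]
  · rintro (rfl | rfl | rfl | rfl)
    exacts [one_mem _, ⟨_, Or.inr (Or.inl rfl), rfl⟩, ⟨_, Or.inr (Or.inr (Or.inl rfl)), rfl⟩,
      ⟨_, Or.inr (Or.inr (Or.inr rfl)), rfl⟩]

theorem four_isKleinFour (hm : 2 ∣ m) (hm0 : m ≠ 0) (i : ZMod m) :
    IsKleinFour (four S e hm i) := by
  classical
  have hinj : Function.Injective ((S : Subgroup G).subtype.comp e.symm.toMonoidHom) :=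
    (Subgroup.subtype_injective _).comp e.symm.injective
  refine (TwoGroups.isKleinFour_iff _).2 ⟨?_, ?_⟩
  · rw [four, Subgroup.card_map_of_injective hinj]
    have hh := half_ne_zero hm hm0
    have hS : ((fourD hm i : Subgroup (DihedralGroup m)) : Set (DihedralGroup m)) =
        {1, r (half m), sr i, sr (i + half m)} := rfl
    show Nat.card ((fourD hm i : Subgroup (DihedralGroup m)) : Set (DihedralGroup m)) = 4
    rw [Nat.card_coe_set_eq, hS, Set.ncard_insert_of_notMem (by
      rintro (h | h | h)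
      · exact r_ne_one hh h.symm
      · exact sr_ne_one _ h.symm
      · exact sr_ne_one _ (Set.mem_singleton_iff.1 h).symm),
      Set.ncard_insert_of_notMem (by simp), Set.ncard_insert_of_notMem (by simpa using hh),
      Set.ncard_singleton]
  · rintro _ ⟨y, hy, rfl⟩
    rw [← map_mul]
    have h : y * y = 1 := by
      rcases hy with rfl | rfl | rfl | rfl
      · exact one_mul 1
      · exact (r_sq hm hm0).2 (Or.inr rfl)
      · exact sr_mul_self i
      · exact sr_mul_self _
    rw [h, map_one]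

theorem exists_eq_four (hm : 2 ∣ m) (hm0 : m ≠ 0) {U : Subgroup G} (hU : IsKleinFour U)
    (hUS : U ≤ S) : ∃ i, U = four S e hm i := by
  classical
  obtain ⟨hc, hsq⟩ := (TwoGroups.isKleinFour_iff _).1 hU
  obtain ⟨u, hu, i, hi⟩ : ∃ u, ∃ hu : u ∈ U, ∃ i, e ⟨u, hUS hu⟩ = sr i := by
    by_contra hne
    push Not at hne
    have hsub : (U : Set G) ⊆ {1, z S e} := by
      intro u hu
      have h1 : e ⟨u, hUS hu⟩ * e ⟨u, hUS hu⟩ = 1 := by
        rw [← map_mul, ← map_one e]; exact congrArg e (Subtype.ext (hsq u hu))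
      rcases heu : e ⟨u, hUS hu⟩ with j | j
      · rw [heu, r_sq hm hm0] at h1
        rcases h1 with rfl | rfl
        · left
          have : (⟨u, hUS hu⟩ : (S : Subgroup G)) = 1 := e.injective (by rw [heu, map_one]; simp)
          exact congrArg Subtype.val this
        · right
          show u = z S e
          rw [z, ← heu, e.symm_apply_apply]
      · exact absurd heu (hne u hu j)
    have h2 := Set.ncard_le_ncard hsub (Set.toFinite _)
    have h3 : ({1, z S e} : Set G).ncard ≤ 2 := (Set.ncard_insert_le _ _).trans (by simp)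
    rw [← Nat.card_coe_set_eq] at h2
    have : Nat.card (U : Set G) = 4 := hc
    omega
  refine ⟨i, Subgroup.eq_of_le_of_card_ge (fun v hv => ?_) ?_⟩
  · rw [mem_four]
    have h1 : e ⟨v, hUS hv⟩ * e ⟨v, hUS hv⟩ = 1 := by
      rw [← map_mul, ← map_one e]; exact congrArg e (Subtype.ext (hsq v hv))
    rcases hev : e ⟨v, hUS hv⟩ with j | j
    · rw [hev, r_sq hm hm0] at h1
      rcases h1 with rfl | rfl
      · left
        have : (⟨v, hUS hv⟩ : (S : Subgroup G)) = 1 := e.injective (by rw [hev, map_one]; simp)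
        exact congrArg Subtype.val this
      · refine Or.inr (Or.inl ?_)
        rw [z, ← hev, e.symm_apply_apply]
    · have h2 : e ⟨u * v, hUS (mul_mem hu hv)⟩ * e ⟨u * v, hUS (mul_mem hu hv)⟩ = 1 := by
        rw [← map_mul, ← map_one e]; exact congrArg e (Subtype.ext (hsq _ (mul_mem hu hv)))
      rw [show (⟨u * v, hUS (mul_mem hu hv)⟩ : (S : Subgroup G)) = ⟨u, hUS hu⟩ * ⟨v, hUS hv⟩ from rfl,
        map_mul e ⟨u, hUS hu⟩, hi, hev, sr_mul_sr, r_sq hm hm0] at h2
      right; right
      rcases h2 with h2 | h2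
      · left; rw [refl, ← sub_eq_zero.1 h2, ← hev, e.symm_apply_apply]
      · right; rw [refl, ← h2, add_sub_cancel, ← hev, e.symm_apply_apply]
  · rw [hc, ((TwoGroups.isKleinFour_iff _).1 (four_isKleinFour S e hm hm0 i)).1]

/-! ### Conjugation inside the Sylow subgroup -/

theorem refl_conj (a i : ZMod m) :
    ((e.symm (r a) : (S : Subgroup G)) : G) * refl S e i * ((e.symm (r a) : (S : Subgroup G)) : G)⁻¹ =
      refl S e (i - (a + a)) := by
  rw [refl, refl, ← Subgroup.coe_inv, ← Subgroup.coe_mul, ← Subgroup.coe_mul, ← map_inv, ← map_mul,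
    ← map_mul]
  congr 2
  simp [sub_eq_add_neg, add_assoc]

theorem z_conj (hm : 2 ∣ m) {s : G} (hs : s ∈ (S : Subgroup G)) :
    s * z S e * s⁻¹ = z S e := by
  have h : e ⟨s, hs⟩ * r (half m) * (e ⟨s, hs⟩)⁻¹ = r (half m) := by
    rcases e ⟨s, hs⟩ with j | j
    · simp
    · simp [neg_eq_of_add_eq_zero_left (half_add_half hm)]
  have h1 := congrArg (fun v => ((e.symm v : (S : Subgroup G)) : G)) h
  simpa [z] using h1

theorem orderOf_z (hm : 2 ∣ m) (hm0 : m ≠ 0) : orderOf (z S e) = 2 := by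
  rw [z, Subgroup.orderOf_coe, MulEquiv.orderOf_eq]
  refine orderOf_eq_prime (by rw [sq]; exact (r_sq hm hm0).2 (Or.inr rfl)) ?_
  exact r_ne_one (half_ne_zero hm hm0)

theorem exists_mem_four {t : G} (hm : 2 ∣ m) (hm0 : m ≠ 0) (htS : t ∈ (S : Subgroup G))
    (ht : t * t = 1) : t = 1 ∨ t = z S e ∨ ∃ i, t = refl S e i := by
  have h1 : e ⟨t, htS⟩ * e ⟨t, htS⟩ = 1 := by
    rw [← map_mul, ← map_one e]; exact congrArg e (Subtype.ext ht)
  rcases het : e ⟨t, htS⟩ with j | j
  · rw [het, r_sq hm hm0] at h1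
    rcases h1 with rfl | rfl
    · left
      have : (⟨t, htS⟩ : (S : Subgroup G)) = 1 := e.injective (by rw [het, map_one]; simp)
      exact congrArg Subtype.val this
    · refine Or.inr (Or.inl ?_); rw [z, ← het, e.symm_apply_apply]
  · refine Or.inr (Or.inr ⟨j, ?_⟩); rw [refl, ← het, e.symm_apply_apply]

omit e in
theorem exists_conj_mem (t : G) (ht : ∃ k, orderOf t = 2 ^ k) : ∃ g : G, g * t * g⁻¹ ∈ S := by
  obtain ⟨k, hk⟩ := ht
  have hp : IsPGroup 2 (Subgroup.zpowers t) :=
    IsPGroup.of_card (n := k) (by rw [Nat.card_zpowers, hk])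
  obtain ⟨g, -, hg⟩ := Transfer.Fusion.exists_conj_le_of_isPGroup (K := ⊤) S le_top hp le_top
  exact ⟨g, hg ⟨t, Subgroup.mem_zpowers t, rfl⟩⟩

include e in
theorem isConj_z_of_no_index_two (hm : 2 ∣ m) (hm0 : m ≠ 0) (hG : ∀ H : Subgroup G, H.index ≠ 2)
    {t : G} (ht : orderOf t = 2) : IsConj t (z S e) := by
  have : NeZero m := ⟨hm0⟩
  set M : Subgroup G := ((Subgroup.zpowers (r 1 : DihedralGroup m)).map e.symm.toMonoidHom).map
    (S : Subgroup G).subtype with hM
  have hidx : (Subgroup.zpowers (r 1 : DihedralGroup m)).index = 2 := by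
    have h := (Subgroup.zpowers (r 1 : DihedralGroup m)).card_mul_index
    rw [Nat.card_zpowers, orderOf_r_one, DihedralGroup.nat_card] at h
    exact Nat.eq_of_mul_eq_mul_left (Nat.pos_of_ne_zero hm0) (by rw [h, mul_comm])
  have hrel : M.relIndex S = 2 := by
    rw [hM, Subgroup.relIndex, Subgroup.subgroupOf,
      Subgroup.comap_map_eq_self_of_injective (Subgroup.subtype_injective _),
      Subgroup.index_map_of_bijective e.symm.bijective, hidx]
  obtain ⟨g, _, ⟨_, ⟨k, rfl⟩, rfl⟩, hg⟩ :=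
    ThompsonTransfer.exists_conj_mem hG S M (Subgroup.map_subtype_le _) hrel t ht
  have ho : orderOf (g * t * g⁻¹) = 2 := by rw [Involutions.Basic.orderOf_conj, ht]
  rw [← hg, Subgroup.subtype_apply, Subgroup.orderOf_coe, MulEquiv.coe_toMonoidHom,
    MulEquiv.orderOf_eq] at ho
  simp only [r_one_zpow] at ho
  have hsq := pow_orderOf_eq_one (r (k : ZMod m))
  rw [ho, sq, r_sq hm hm0] at hsq
  refine isConj_iff.2 ⟨g, ?_⟩
  rcases hsq with h | h
  · rw [h, r_zero, orderOf_one] at ho; omega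
  · rw [← hg, z]
    show ((e.symm ((r 1 : DihedralGroup m) ^ k) : (S : Subgroup G)) : G) = _
    rw [r_one_zpow, h]

omit e in
/-- Three involutions, none with a class of its own, form one class. -/
theorem isConj_of_moved {a b c : G} (ha : IsConj a b ∨ IsConj a c) (hb : IsConj b a ∨ IsConj b c)
    (hc : IsConj c a ∨ IsConj c b) : IsConj a b ∧ IsConj a c := by
  rcases ha with h | h
  · rcases hc with h' | h'
    · exact ⟨h, h'.symm⟩
    · exact ⟨h, h.trans h'.symm⟩
  · rcases hb with h' | h'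
    · exact ⟨h'.symm, h⟩
    · exact ⟨h.trans h'.symm, h⟩

omit e in
/-- If `N(U)` fixes an involution of the four-group `U`, then `|N(U) : C(U)| ≤ 2`. -/
theorem relIndex_le_two {U : Subgroup G} (hU : IsKleinFour U) {v : G} (hv : v ∈ U) (hv1 : v ≠ 1)
    (hfix : ∀ n ∈ Subgroup.normalizer (U : Set G), n * v * n⁻¹ = v) :
    (Subgroup.centralizer (U : Set G)).relIndex (Subgroup.normalizer (U : Set G)) ≤ 2 := by
  classical
  obtain ⟨hc, hsq⟩ := (TwoGroups.isKleinFour_iff _).1 hU
  set C := (Subgroup.centralizer (U : Set G)).subgroupOf (Subgroup.normalizer (U : Set G))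
  obtain ⟨w, hw, hw1, hwv⟩ : ∃ w ∈ U, w ≠ 1 ∧ w ≠ v := by
    by_contra hne
    push Not at hne
    have hsub : (U : Set G) ⊆ {1, v} := fun x hx => by
      by_cases h : x = 1
      · exact Or.inl h
      · exact Or.inr (hne x hx h)
    have h2 := Set.ncard_le_ncard hsub (Set.toFinite _)
    have h3 : ({1, v} : Set G).ncard ≤ 2 := (Set.ncard_insert_le _ _).trans (by simp)
    rw [← Nat.card_coe_set_eq] at h2
    have : Nat.card (U : Set G) = 4 := hc
    omega
  have hvw : v * w ≠ 1 ∧ v * w ≠ v ∧ v * w ≠ w :=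
    ⟨fun h => hwv (by rw [← inv_eq_of_mul_eq_one_right h, inv_eq_of_mul_eq_one_right (hsq v hv)]),
      fun h => hw1 (mul_eq_left.1 h), fun h => hv1 (mul_eq_right.1 h)⟩
  have hall : ∀ x ∈ U, x = 1 ∨ x = v ∨ x = w ∨ x = v * w := by
    intro x hx
    have h4 : ({1, v, w, v * w} : Set G) = U := by
      refine Set.eq_of_subset_of_ncard_le ?_ ?_ (Set.toFinite _)
      · rintro _ (rfl | rfl | rfl | rfl)
        exacts [one_mem U, hv, hw, mul_mem hv hw]
      · rw [Set.ncard_insert_of_notMem (by simp [hv1.symm, hw1.symm, hvw.1.symm]),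
          Set.ncard_insert_of_notMem (by simp [hwv.symm, hvw.2.1.symm]),
          Set.ncard_insert_of_notMem (by simp [hvw.2.2.symm]), Set.ncard_singleton,
          ← Nat.card_coe_set_eq]
        exact le_of_eq hc
    have : x ∈ ({1, v, w, v * w} : Set G) := h4.symm ▸ hx
    simpa using this
  have hC : ∀ n : Subgroup.normalizer (U : Set G), (n : G) * w * (n : G)⁻¹ = w → n ∈ C := by
    intro n hn
    refine Subgroup.mem_centralizer_iff.2 fun x hx => ?_
    have h1 := hfix n n.2
    rcases hall x hx with rfl | rfl | rfl | rfl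
    · rw [one_mul, mul_one]
    · exact (mul_inv_eq_iff_eq_mul.1 h1).symm
    · exact (mul_inv_eq_iff_eq_mul.1 hn).symm
    · have : (n : G) * (v * w) * (n : G)⁻¹ = v * w := by rw [← conj_mul, h1, hn]
      exact (mul_inv_eq_iff_eq_mul.1 this).symm
  have himg : ∀ n : Subgroup.normalizer (U : Set G),
      (n : G) * w * (n : G)⁻¹ = w ∨ (n : G) * w * (n : G)⁻¹ = v * w := by
    intro n
    rcases hall _ ((Subgroup.mem_normalizer_iff.1 n.2 w).1 hw) with h | h | h | h
    · exact absurd (conj_eq_one_iff.1 h) hw1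
    · exact absurd (mul_left_cancel (mul_right_cancel (h.trans (hfix n n.2).symm))) hwv
    · exact Or.inl h
    · exact Or.inr h
  by_contra hlt
  push Not at hlt
  have h2 : ∃ a, a ∉ C := by
    by_contra hno
    push Not at hno
    have : C = ⊤ := eq_top_iff.2 fun a _ => hno a
    rw [Subgroup.relIndex] at hlt
    change 2 < C.index at hlt
    rw [this, Subgroup.index_top] at hlt
    omega
  obtain ⟨a, ha⟩ := h2
  have hidx : C.index = 2 := by
    refine Subgroup.index_eq_two_iff.2 ⟨a⁻¹, fun b => ?_⟩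
    by_cases hb : b ∈ C
    · exact Or.inr ⟨hb, fun h => ha (inv_mem_iff.1 ((Subgroup.mul_mem_cancel_left C hb).1 h))⟩
    · refine Or.inl ⟨hC _ ?_, hb⟩
      have ha' := (himg a).resolve_left fun h => ha (hC a h)
      have hb' := (himg b).resolve_left fun h => hb (hC b h)
      have h5 : (a : G)⁻¹ * (v * w) * a = w := by rw [← ha']; group
      have h6 : (a : G)⁻¹ * v * a = v := by
        conv_lhs => rw [← hfix a a.2]
        group
      have h7 : (a : G)⁻¹ * w * a = v * w := by
        have h8 : (a : G)⁻¹ * (v * w) * a = ((a : G)⁻¹ * v * a) * ((a : G)⁻¹ * w * a) := by group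
        rw [h5, h6] at h8
        conv_rhs => rw [h8, ← mul_assoc, hsq v hv, one_mul]
      rw [Subgroup.coe_mul, Subgroup.coe_inv]
      rw [show (b : G) * (a : G)⁻¹ * w * ((b : G) * (a : G)⁻¹)⁻¹ =
        (b : G) * ((a : G)⁻¹ * w * a) * (b : G)⁻¹ by group, h7, ← conj_mul, hfix b b.2, hb',
        ← mul_assoc, hsq v hv, one_mul]
  rw [Subgroup.relIndex] at hlt
  change 2 < C.index at hlt
  omega

theorem isConj_z_of_relIndex (hm : 2 ∣ m) (hm0 : m ≠ 0)
    (h : ∀ U : Subgroup G, U ≤ S → IsKleinFour U →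
      2 < (Subgroup.centralizer (U : Set G)).relIndex (Subgroup.normalizer (U : Set G)))
    {t : G} (ht : orderOf t = 2) : IsConj t (z S e) := by
  obtain ⟨g, hg⟩ := exists_conj_mem S t ⟨1, ht⟩
  have ho : orderOf (g * t * g⁻¹) = 2 := by rw [Involutions.Basic.orderOf_conj, ht]
  refine (isConj_iff.2 ⟨g, rfl⟩ : IsConj t (g * t * g⁻¹)).trans ?_
  have hne := Involutions.Basic.ne_one ho
  rcases exists_mem_four S e hm hm0 hg (Involutions.Basic.inv_sq_one ho) with h1 | h1 | ⟨i, h1⟩
  · exact absurd h1 hne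
  · rw [h1]
  · rw [h1]
    have hK := four_isKleinFour S e hm hm0 i
    have hmov : ∀ v ∈ four S e hm i, v ≠ 1 → ∃ u ∈ four S e hm i, u ≠ 1 ∧ u ≠ v ∧ IsConj v u := by
      intro v hv hv1
      have h2 := h _ (four_le S e hm i) hK
      by_contra hno
      push Not at hno
      exact not_le.2 h2 (relIndex_le_two hK hv hv1 fun n hn => by_contra fun hne' =>
        hno _ ((Subgroup.mem_normalizer_iff.1 hn v).1 hv)
          (fun h => hv1 (conj_eq_one_iff.1 h)) hne' (isConj_iff.2 ⟨n, rfl⟩))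
    have hcase : ∀ v ∈ four S e hm i, v ≠ 1 → v = z S e ∨ v = refl S e i ∨ v = refl S e (i + half m) :=
      fun v hv hv1 => ((mem_four S e hm i).1 hv).resolve_left hv1
    have hz1 : z S e ≠ 1 := Involutions.Basic.ne_one (orderOf_z S e hm hm0)
    have hinj : ∀ x y : DihedralGroup m, (x ≠ y) → ((e.symm x : (S : Subgroup G)) : G) ≠ e.symm y :=
      fun x y hxy h => hxy (e.symm.injective (Subtype.ext h))
    have hr1 : ∀ j, refl S e j ≠ 1 := fun j h => hinj (sr j) 1 (sr_ne_one j) (by rw [map_one]; exact h)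
    obtain ⟨a, ha, ha1, ha2, ha3⟩ := hmov _ ((mem_four S e hm i).2 (Or.inr (Or.inl rfl))) hz1
    obtain ⟨b, hb, hb1, hb2, hb3⟩ :=
      hmov _ ((mem_four S e hm i).2 (Or.inr (Or.inr (Or.inl rfl)))) (hr1 i)
    obtain ⟨c, hc, hc1, hc2, hc3⟩ :=
      hmov _ ((mem_four S e hm i).2 (Or.inr (Or.inr (Or.inr rfl)))) (hr1 _)
    refine ((isConj_of_moved (a := z S e) (b := refl S e i) (c := refl S e (i + half m)) ?_ ?_ ?_).1).symm
    · rcases hcase a ha ha1 with rfl | rfl | rfl
      exacts [absurd rfl ha2, Or.inl ha3, Or.inr ha3]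
    · rcases hcase b hb hb1 with rfl | rfl | rfl
      exacts [Or.inl hb3, absurd rfl hb2, Or.inr hb3]
    · rcases hcase c hc hc1 with rfl | rfl | rfl
      exacts [Or.inl hc3, Or.inr hc3, absurd rfl hc2]

include e in
theorem fusion_simple_of_one_class (hm : 2 ∣ m) (hm0 : m ≠ 0)
    (h : ∀ a b : G, orderOf a = 2 → orderOf b = 2 → IsConj a b) :
    (∀ H : Subgroup G, H.index ≠ 2) ∧ ∀ x : G, ¬ Cfsg.IsIsolatedInvolution x := by
  have hro : ∀ i, orderOf (refl S e i) = 2 := fun i => by
    rw [refl, Subgroup.orderOf_coe, MulEquiv.orderOf_eq, orderOf_sr]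
  refine ⟨fun H hH => ?_, fun x hx => ?_⟩
  · have hN : H.Normal := Subgroup.normal_of_index_eq_two hH
    have hzH : z S e ∈ H := by
      have : z S e = refl S e 0 * refl S e (half m) := by
        rw [z, refl, refl, ← Subgroup.coe_mul, ← map_mul, sr_mul_sr, sub_zero]
      rw [this, Subgroup.mul_mem_iff_of_index_two hH]
      obtain ⟨g, hg⟩ := isConj_iff.1 (h _ _ (hro 0) (hro (half m)))
      exact ⟨fun h' => hg ▸ hN.conj_mem _ h' g, fun h' => by
        have := hN.conj_mem _ h' g⁻¹
        rw [← hg] at this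
        simpa [mul_assoc] using this⟩
    have hall : ∀ t, orderOf t = 2 → t ∈ H := fun t ht => by
      obtain ⟨g, hg⟩ := isConj_iff.1 (h _ t (orderOf_z S e hm hm0) ht)
      exact hg ▸ hN.conj_mem _ hzH g
    have hle : (S : Subgroup G) ≤ H := fun s hs => by
      rcases hes : e ⟨s, hs⟩ with j | j
      · have : s = refl S e 0 * refl S e j := by
          rw [refl, refl, ← Subgroup.coe_mul, ← map_mul, sr_mul_sr, sub_zero, ← hes,
            e.symm_apply_apply]
        rw [this]; exact mul_mem (hall _ (hro 0)) (hall _ (hro j))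
      · have : s = refl S e j := by rw [refl, ← hes, e.symm_apply_apply]
        rw [this]; exact hall _ (hro j)
    have h3 := Subgroup.index_dvd_of_le hle
    rw [hH] at h3
    exact S.not_dvd_index h3
  · obtain ⟨g, hg⟩ := isConj_iff.1 (h x _ hx.1 (orderOf_z S e hm hm0))
    have hc : IsConj x (refl S e 0) := h _ _ hx.1 (hro 0)
    have heq := Isolated.eq_of_commute hx (isConj_iff.2 ⟨g, hg⟩) hc (by
      show z S e * refl S e 0 = refl S e 0 * z S e
      exact (mul_inv_eq_iff_eq_mul.1 (z_conj S e hm (four_le S e hm 0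
        ((mem_four S e hm 0).2 (Or.inr (Or.inr (Or.inl rfl))))))).symm)
    exact (by simp [z, refl] : z S e ≠ refl S e 0) heq

/-! ### Four-groups up to conjugacy -/

theorem parity (hm : 2 ∣ m) {s : (S : Subgroup G)} {i : ZMod m} :
    ∃ j, s * e.symm (sr i) * s⁻¹ = e.symm (sr (i + (j + j))) ∨
      s * e.symm (sr i) * s⁻¹ = e.symm (sr (-i + (j + j))) := by
  rcases hs : e s with k | k
  · refine ⟨-k, Or.inl (e.injective ?_)⟩
    rw [map_mul, map_mul, map_inv, hs, e.apply_symm_apply, e.apply_symm_apply]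
    simp [sub_eq_add_neg, add_assoc]
  · refine ⟨k, Or.inr (e.injective ?_)⟩
    rw [map_mul, map_mul, map_inv, hs, e.apply_symm_apply, e.apply_symm_apply]
    simp [sub_eq_add_neg, add_assoc, add_comm, add_left_comm]

theorem four_not_conj_in_sylow (hm : 2 ∣ m) (hm4 : 4 ∣ m) (hm0 : m ≠ 0)
    {s : G} (hs : s ∈ (S : Subgroup G)) :
    s * refl S e 0 * s⁻¹ ∉ four S e hm 1 := by
  intro h
  let φ := ZMod.castHom hm (ZMod 2)
  have hhalf : φ (half m) = 0 := by
    obtain ⟨c, rfl⟩ := hm4
    rw [half, map_natCast, ZMod.natCast_eq_zero_iff]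
    omega
  have hval : ∀ a : ZMod 2, a + a = 0 := by decide
  have hh : ∀ v, v ∈ (four S e hm 1) → ∀ j, v = refl S e j → φ j = 1 := by
    intro v hv j hj
    subst hj
    rcases (mem_four S e hm 1).1 hv with h1 | h1 | h1 | h1
    · exact absurd (e.symm.injective (Subtype.ext (h1.trans (by rw [map_one]; rfl)))) (sr_ne_one _)
    · exact absurd (e.symm.injective (Subtype.ext h1)) (by simp)
    · have := sr.inj (e.symm.injective (Subtype.ext h1)); rw [this, map_one]
    · have := sr.inj (e.symm.injective (Subtype.ext h1)); rw [this, map_add, map_one, hhalf, add_zero]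
  obtain ⟨j, hj | hj⟩ := parity S e hm (s := ⟨s, hs⟩) (i := 0)
  · have := hh _ h _ (congrArg Subtype.val hj)
    rw [map_add, map_add, map_zero, zero_add, hval] at this
    exact absurd this (by decide)
  · have := hh _ h _ (congrArg Subtype.val hj)
    rw [map_add, map_add, map_neg, map_zero, neg_zero, zero_add, hval] at this
    exact absurd this (by decide)

theorem four_conj_cases (hm : 2 ∣ m) (hm0 : m ≠ 0) (i : ZMod m) :
    ∃ s : G, (four S e hm i).map (MulAut.conj s).toMonoidHom = four S e hm 0 ∨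
      (four S e hm i).map (MulAut.conj s).toMonoidHom = four S e hm 1 := by
  have : NeZero m := ⟨hm0⟩
  have key : ∀ a : ZMod m, (four S e hm i).map
      (MulAut.conj ((e.symm (r a) : (S : Subgroup G)) : G)).toMonoidHom =
        four S e hm (i - (a + a)) := by
    intro a
    refine Subgroup.eq_of_le_of_card_ge ?_ ?_
    · rintro _ ⟨x, hx, rfl⟩
      rw [mem_four]
      show _ = (1 : G) ∨ _
      rcases (mem_four S e hm i).1 hx with rfl | rfl | rfl | rfl
      · exact Or.inl (by simp)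
      · exact Or.inr (Or.inl (z_conj S e hm (e.symm (r a)).2))
      · exact Or.inr (Or.inr (Or.inl (refl_conj S e a i)))
      · refine Or.inr (Or.inr (Or.inr ((refl_conj S e a _).trans ?_)))
        congr 1; ring
    · rw [card_map_conj, ((TwoGroups.isKleinFour_iff _).1 (four_isKleinFour S e hm hm0 _)).1,
        ((TwoGroups.isKleinFour_iff _).1 (four_isKleinFour S e hm hm0 _)).1]
  rcases Nat.even_or_odd' i.val with ⟨a, h | h⟩
  · refine ⟨_, Or.inl ((key (a : ZMod m)).trans ?_)⟩
    congr 1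
    rw [← ZMod.natCast_zmod_val i, h]; push_cast; ring
  · refine ⟨_, Or.inr ((key (a : ZMod m)).trans ?_)⟩
    congr 1
    rw [← ZMod.natCast_zmod_val i, h]; push_cast; ring

theorem four_not_conj (hm : 2 ∣ m) (hm4 : 4 ∣ m) (hm0 : m ≠ 0) (g : G)
    (hg : (four S e hm 0).map (MulAut.conj g).toMonoidHom = four S e hm 1) : False := by
  have hm2 : 2 ≤ m := Nat.le_of_dvd (Nat.pos_of_ne_zero hm0) hm
  obtain ⟨q, hq⟩ : ∃ q : ZMod m, q + q = half m := ⟨((m / 4 : ℕ) : ZMod m), by
    rw [half, ← Nat.cast_add]; congr 1; obtain ⟨c, rfl⟩ := hm4; omega⟩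
  set rr : G := ((e.symm (r q) : (S : Subgroup G)) : G) with hrr
  have hzr : rr * z S e * rr⁻¹ = z S e := z_conj S e hm (e.symm (r q)).2
  have hrefl : ∀ i, rr * refl S e i * rr⁻¹ = refl S e (i + half m) := fun i => by
    rw [hrr, refl_conj, hq, sub_eq_add_neg, neg_eq_of_add_eq_zero_left (half_add_half hm)]
  have hnorm : ∀ i, rr ∈ Subgroup.normalizer (four S e hm i : Set G) := by
    intro i
    rw [← Transfer.Fusion.map_conj_eq_self_iff]
    refine Subgroup.eq_of_le_of_card_ge ?_ (card_map_conj _ _).ge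
    rintro _ ⟨x, hx, rfl⟩
    rw [mem_four]
    show _ = (1 : G) ∨ _
    rcases (mem_four S e hm i).1 hx with rfl | rfl | rfl | rfl
    · exact Or.inl (by simp)
    · exact Or.inr (Or.inl hzr)
    · exact Or.inr (Or.inr (Or.inr (hrefl i)))
    · refine Or.inr (Or.inr (Or.inl ((hrefl _).trans ?_)))
      rw [add_assoc, half_add_half hm, add_zero]
  have hmem : ∀ i x, x ∈ four S e hm i ↔ _ := fun i x => mem_four S e hm i (x := x)
  -- reduce to the case that `g` fixes `z`
  obtain ⟨h, hh, hhz⟩ : ∃ h : G, (four S e hm 0).map (MulAut.conj h).toMonoidHom = four S e hm 1 ∧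
      h * z S e * h⁻¹ = z S e := by
    have hy : g * z S e * g⁻¹ ∈ four S e hm 1 :=
      hg ▸ ⟨z S e, (hmem 0 _).2 (Or.inr (Or.inl rfl)), rfl⟩
    set y := g * z S e * g⁻¹ with hydef
    have hy1 : y ≠ 1 := fun h' => Involutions.Basic.ne_one (orderOf_z S e hm hm0)
      (conj_eq_one_iff.1 h')
    by_cases hyz : y = z S e
    · exact ⟨g, hg, hyz⟩
    set w := g * rr * g⁻¹ with hwdef
    have hwN : w ∈ Subgroup.normalizer (four S e hm 1 : Set G) := by
      rw [← hg]; exact Subgroup.le_normalizer_map _ ⟨rr, hnorm 0, rfl⟩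
    have hwy : w * y * w⁻¹ = y := by
      rw [hwdef, hydef, show g * rr * g⁻¹ * (g * z S e * g⁻¹) * (g * rr * g⁻¹)⁻¹ =
        g * (rr * z S e * rr⁻¹) * g⁻¹ by group, hzr]
    -- `w` moves `z`
    have hwz : w * z S e * w⁻¹ ≠ z S e := by
      intro h'
      have hzU : z S e ∈ (four S e hm 0).map (MulAut.conj g).toMonoidHom := by
        rw [hg]; exact (hmem 1 _).2 (Or.inr (Or.inl rfl))
      obtain ⟨x, hx, hxe⟩ := hzU
      simp only [MulEquiv.coe_toMonoidHom, MulAut.conj_apply] at hxe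
      rw [← hxe, hwdef, show g * rr * g⁻¹ * (g * x * g⁻¹) * (g * rr * g⁻¹)⁻¹ =
        g * (rr * x * rr⁻¹) * g⁻¹ by group] at h'
      have h'' : rr * x * rr⁻¹ = x := mul_left_cancel (mul_right_cancel h')
      have hne : ∀ j, refl S e (j + half m) ≠ refl S e j := fun j hj => half_ne_zero hm hm0
        (by simpa using sr.inj (e.symm.injective (Subtype.ext hj)))
      rcases (hmem 0 x).1 hx with rfl | rfl | rfl | rfl
      · simp only [mul_one, mul_inv_cancel] at hxe
        exact Involutions.Basic.ne_one (orderOf_z S e hm hm0) hxe.symm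
      · exact hyz hxe
      · exact hne 0 ((hrefl 0).symm.trans h'')
      · exact hne (0 + half m) ((hrefl (0 + half m)).symm.trans h'')
    have hrN := hnorm 1
    refine ⟨(rr * w)⁻¹ * g, ?_, ?_⟩
    · rw [Transfer.Fusion.map_conj_mul, hg]
      exact Transfer.Fusion.map_conj_eq_self_iff.2 (inv_mem (mul_mem hrN hwN))
    · have hkey : rr * w * z S e * (rr * w)⁻¹ = y := by
        rw [show rr * w * z S e * (rr * w)⁻¹ = rr * (w * z S e * w⁻¹) * rr⁻¹ by group]
        set u := w * z S e * w⁻¹ with hu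
        have huU : u ∈ four S e hm 1 := (Subgroup.mem_normalizer_iff.1 hwN _).1
          ((hmem 1 _).2 (Or.inr (Or.inl rfl)))
        have huy : u ≠ y := fun h' => hyz (mul_left_cancel (mul_right_cancel (h'.trans hwy.symm))).symm
        have hu1 : u ≠ 1 := fun h' => Involutions.Basic.ne_one (orderOf_z S e hm hm0)
          (conj_eq_one_iff.1 h')
        rcases (hmem 1 u).1 huU with h1 | h1 | h1 | h1 <;>
          rcases (hmem 1 y).1 hy with h2 | h2 | h2 | h2
        all_goals first
          | exact absurd h1 hu1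
          | exact absurd h1 hwz
          | exact absurd h2 hy1
          | exact absurd h2 hyz
          | exact absurd (h1.trans h2.symm) huy
          | (rw [h1, h2, hrefl, add_assoc, half_add_half hm, add_zero]; done)
          | (rw [h1, h2, hrefl]; done)
      rw [show (rr * w)⁻¹ * g * z S e * ((rr * w)⁻¹ * g)⁻¹ = (rr * w)⁻¹ * y * (rr * w) by
        rw [hydef]; group, ← hkey]
      group
  -- inside `C(z)`
  set C := Subgroup.centralizer ({z S e} : Set G)
  have hSC : (S : Subgroup G) ≤ C := fun s hs => by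
    rw [Subgroup.mem_centralizer_singleton_iff]
    exact mul_inv_eq_iff_eq_mul.1 (z_conj S e hm hs)
  obtain ⟨N, hN, hc⟩ := (Transfer.NormalPComplement.hasNormalPComplement_iff_sylow (S.subtype hSC)).1
    (centralizer_complement S e hm2 (orderOf_z S e hm hm0))
  have hhC : h ∈ C := Subgroup.mem_centralizer_singleton_iff.2 (mul_inv_eq_iff_eq_mul.1 hhz)
  obtain ⟨⟨⟨n, hn⟩, ⟨s, hs⟩⟩, hns⟩ := hc.2 (⟨h, hhC⟩ : C)
  have hns' : (n : G) * (s : G) = h := congrArg Subtype.val hns
  -- the image of the reflection `0`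
  set u := (s : G) * refl S e 0 * (s : G)⁻¹ with hudef
  have hr0 : refl S e 0 ∈ (S : Subgroup G) := (e.symm (sr 0)).2
  have huS : u ∈ (S : Subgroup G) := mul_mem (mul_mem hs hr0) (inv_mem hs)
  have hv : (n : G) * u * (n : G)⁻¹ ∈ four S e hm 1 := by
    rw [← hh]
    refine ⟨refl S e 0, (hmem 0 _).2 (Or.inr (Or.inr (Or.inl rfl))), ?_⟩
    simp only [MulEquiv.coe_toMonoidHom, MulAut.conj_apply]
    rw [hudef, ← hns']; group
  have hmemN : n * (⟨u, hSC huS⟩ : C) * n⁻¹ * (⟨u, hSC huS⟩ : C)⁻¹ ∈ N := by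
    rw [mul_assoc n, mul_assoc n]
    exact mul_mem hn (hN.conj_mem _ (inv_mem hn) _)
  have hmemS : n * (⟨u, hSC huS⟩ : C) * n⁻¹ * (⟨u, hSC huS⟩ : C)⁻¹ ∈ (S.subtype hSC : Subgroup C) :=
    Subgroup.mem_subgroupOf.2 (mul_mem (four_le S e hm 1 hv) (inv_mem huS))
  have h1 := (Subgroup.IsComplement'.disjoint hc).le_bot ⟨hmemN, hmemS⟩
  rw [Subgroup.mem_bot] at h1
  have h2 : (n : G) * u * (n : G)⁻¹ * u⁻¹ = 1 := congrArg Subtype.val h1
  rw [mul_inv_eq_one] at h2
  rw [h2] at hv
  exact four_not_conj_in_sylow S e hm hm4 hm0 hs hv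

/-! ### Normal complements -/

theorem rot_swap (hm : 2 ∣ m) (hm4 : 4 ∣ m) (hm0 : m ≠ 0) (i : ZMod m) :
    ∃ rr ∈ (S : Subgroup G), rr ∈ Subgroup.normalizer (four S e hm i : Set G) ∧
      rr ∉ Subgroup.centralizer (four S e hm i : Set G) := by
  obtain ⟨q, hq⟩ : ∃ q : ZMod m, q + q = half m := ⟨((m / 4 : ℕ) : ZMod m), by
    rw [half, ← Nat.cast_add]; congr 1; obtain ⟨c, rfl⟩ := hm4; omega⟩
  set rr : G := ((e.symm (r q) : (S : Subgroup G)) : G) with hrr
  have hzr : rr * z S e * rr⁻¹ = z S e := z_conj S e hm (e.symm (r q)).2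
  have hrefl : ∀ j, rr * refl S e j * rr⁻¹ = refl S e (j + half m) := fun j => by
    rw [hrr, refl_conj, hq, sub_eq_add_neg, neg_eq_of_add_eq_zero_left (half_add_half hm)]
  refine ⟨rr, (e.symm (r q)).2, ?_, ?_⟩
  · rw [← Transfer.Fusion.map_conj_eq_self_iff]
    refine Subgroup.eq_of_le_of_card_ge ?_ (card_map_conj _ _).ge
    rintro _ ⟨x, hx, rfl⟩
    rw [mem_four]
    show _ = (1 : G) ∨ _
    rcases (mem_four S e hm i).1 hx with rfl | rfl | rfl | rfl
    · exact Or.inl (by simp)
    · exact Or.inr (Or.inl hzr)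
    · exact Or.inr (Or.inr (Or.inr (hrefl i)))
    · refine Or.inr (Or.inr (Or.inl ((hrefl _).trans ?_)))
      rw [add_assoc, half_add_half hm, add_zero]
  · intro hc
    have h1 : rr * refl S e i * rr⁻¹ = refl S e i :=
      mul_inv_eq_iff_eq_mul.2 (Subgroup.mem_centralizer_iff.1 hc _
        ((mem_four S e hm i).2 (Or.inr (Or.inr (Or.inl rfl))))).symm
    rw [hrefl] at h1
    exact half_ne_zero hm hm0 (by simpa using sr.inj (e.symm.injective (Subtype.ext h1)))

include e in
theorem normalizer_eq_of_complement (hm : 2 ≤ m) (h : Cfsg.HasNormalPComplement 2 G) {U : Subgroup G}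
    (hUS : U ≤ S) (hU : IsKleinFour U) :
    Subgroup.normalizer (U : Set G) = Subgroup.centralizer (U : Set G) ⊔
      ((S : Subgroup G) ⊓ Subgroup.normalizer (U : Set G)) := by
  refine le_antisymm (fun n hn => ?_) (sup_le (Subgroup.centralizer_le_normalizer _) inf_le_right)
  have hcond := Transfer.Frobenius.condition_of_hasNormalPComplement h U (S.2.to_le hUS)
  set N := Subgroup.normalizer (U : Set G)
  set ρ := U.normalizerMonoidHom
  have hker : ρ.ker = (Subgroup.centralizer (U : Set G)).subgroupOf N :=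
    Subgroup.normalizerMonoidHom_ker U
  -- `N / C` has order dividing 2
  have h6 : ρ.ker.index ∣ 6 := by
    have : Finite U := inferInstance
    rw [Subgroup.index_ker]
    refine (Subgroup.card_subgroup_dvd_card _).trans ?_
    refine (Subgroup.card_dvd_of_injective (ThreePoint.autPerm U)
      fun a b hab => mul_inv_eq_one.1 (ThreePoint.autPerm_eq_one.1 (by rw [map_mul, map_inv, hab, mul_inv_cancel]))).trans ?_
    classical
    have := Fintype.ofFinite {a : U // a ≠ 1}
    rw [Nat.card_eq_fintype_card, Fintype.card_perm, ← Nat.card_eq_fintype_card,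
      ThreePoint.card_nontrivial, ((TwoGroups.isKleinFour_iff _).1 hU).1]
    decide
  have hq : IsPGroup 2 (N ⧸ ρ.ker) := fun x => by
    induction x using QuotientGroup.induction_on with | _ x =>
    obtain ⟨k, hk⟩ := Transfer.NormalPComplement.exists_pow_coprime (p := 2) (orderOf_pos (x : G)).ne'
    refine ⟨k, ?_⟩
    rw [← QuotientGroup.mk_pow, QuotientGroup.eq_one_iff, hker, Subgroup.mem_subgroupOf,
      Subgroup.coe_pow]
    exact hcond _ (pow_mem x.2 _) hk
  obtain ⟨j, hj⟩ := IsPGroup.iff_card.1 hq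
  rw [← Subgroup.index_eq_card] at hj
  by_cases hnC : n ∈ Subgroup.centralizer (U : Set G)
  · exact Subgroup.mem_sup_left hnC
  have hidx : ρ.ker.index = 2 := by
    rcases j with _ | _ | j
    · rw [pow_zero, Subgroup.index_eq_one] at hj
      have : (⟨n, hn⟩ : N) ∈ ρ.ker := hj ▸ Subgroup.mem_top _
      rw [hker] at this
      exact absurd this hnC
    · exact hj
    · rw [hj] at h6
      have : 2 ^ 2 ∣ 6 := (pow_dvd_pow 2 (show 2 ≤ j + 1 + 1 by omega)).trans h6
      norm_num at this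
  have hm' := two_dvd S e hm
  obtain ⟨i, rfl⟩ := exists_eq_four S e hm' (by omega) hU hUS
  have hm4 : 4 ∣ m := by
    by_contra hm4
    have h2 : m = 2 := le_antisymm (not_lt.1 fun h' => hm4 (four_dvd S e h')) hm
    subst h2
    have heq : four S e hm' i = S := Subgroup.eq_of_le_of_card_ge hUS (by
      rw [((TwoGroups.isKleinFour_iff _).1 hU).1, Nat.card_congr e.toEquiv, DihedralGroup.nat_card])
    have hSN : (S : Subgroup G) ≤ N := heq ▸ Subgroup.le_normalizer
    have hSC : (S : Subgroup G).subgroupOf N ≤ ρ.ker := by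
      rw [hker]
      intro x hx
      have hx' : (x : G) ∈ four S e hm' i := heq ▸ hx
      refine Subgroup.mem_centralizer_iff.2 fun y hy => ?_
      have := IsKleinFour.isMulCommutative (G := four S e hm' i)
      exact congrArg Subtype.val (mul_comm' (⟨y, hy⟩ : four S e hm' i) ⟨_, hx'⟩)
    have h3 := Subgroup.index_dvd_of_le hSC
    rw [hidx] at h3
    exact (S.subtype hSN).not_dvd_index h3
  obtain ⟨rr, hrS, hrN, hrC⟩ := rot_swap S e hm' hm4 (by omega) i
  have h3 := (Subgroup.mul_mem_iff_of_index_two hidx (a := (⟨n, hn⟩ : N))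
      (b := (⟨rr, hrN⟩ : N)⁻¹)).2 (by
        rw [inv_mem_iff, hker]
        exact iff_of_false hnC hrC)
  rw [hker] at h3
  rw [show n = (n * rr⁻¹) * rr by group]
  exact mul_mem (Subgroup.mem_sup_left h3) (Subgroup.mem_sup_right ⟨hrS, hrN⟩)

include e in
theorem complement_of_normalizers (hm : 2 ≤ m)
    (h : ∀ U : Subgroup G, U ≤ S → IsKleinFour U → Subgroup.normalizer (U : Set G) =
      Subgroup.centralizer (U : Set G) ⊔ ((S : Subgroup G) ⊓ Subgroup.normalizer (U : Set G))) :
    Cfsg.HasNormalPComplement 2 G := by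
  refine Transfer.Frobenius.hasNormalPComplement_iff_condition.2
    (Transfer.Frobenius.Condition.of_sylow S fun Q hQS g hg ho => ?_)
  obtain ⟨f, hf⟩ := exists_embedding S (S.2.to_le hQS) e
  set ρ := Q.normalizerMonoidHom
  set σ := ρ ⟨g, hg⟩
  have hoσ : Odd (orderOf σ) := by
    refine Odd.of_dvd_nat ?_ (orderOf_map_dvd ρ ⟨g, hg⟩)
    rw [Subgroup.orderOf_mk]
    exact Nat.coprime_two_right.1 ho
  suffices hσ : σ = 1 by
    refine Subgroup.mem_centralizer_iff.2 fun q hq => ?_
    have h2 : g * q * g⁻¹ = q := congrArg (fun σ : MulAut Q => ((σ ⟨q, hq⟩ : Q) : G)) hσ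
    exact (mul_inv_eq_iff_eq_mul.1 h2).symm
  by_contra hne
  obtain ⟨hc, hsq⟩ := isKleinFour_of_aut (S.2.to_le hQS) f hf (two_dvd S e hm) (by omega) hoσ hne
  have hK : IsKleinFour Q := (TwoGroups.isKleinFour_iff _).2
    ⟨hc, fun x hx => congrArg Subtype.val (hsq ⟨x, hx⟩)⟩
  have hN := h Q hQS hK
  -- the image of `N(Q)` is that of `S ⊓ N(Q)`
  set P := ((S : Subgroup G).subgroupOf (Subgroup.normalizer (Q : Set G))).map ρ with hP
  have hPp : IsPGroup 2 P := S.2.comap_subtype.map _
  have hmem : σ ∈ P := by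
    have h1 : (⟨g, hg⟩ : Subgroup.normalizer (Q : Set G)) ∈
        (Subgroup.centralizer (Q : Set G)).subgroupOf _ ⊔
          (S : Subgroup G).subgroupOf (Subgroup.normalizer (Q : Set G)) := by
      rw [← Subgroup.inf_subgroupOf_right (S : Subgroup G), ← Subgroup.subgroupOf_sup
        (Subgroup.centralizer_le_normalizer _) inf_le_right, Subgroup.mem_subgroupOf, ← hN]
      exact hg
    have h2 := Subgroup.mem_map_of_mem ρ h1
    rw [Subgroup.map_sup, ← Subgroup.normalizerMonoidHom_ker, (Subgroup.map_eq_bot_iff ρ.ker).2 le_rfl, bot_sup_eq] at h2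
    exact h2
  obtain ⟨k, hk⟩ := hPp ⟨σ, hmem⟩
  refine hne (orderOf_eq_one_iff.1 (Nat.eq_one_of_dvd_coprimes
    ((Nat.coprime_two_right.2 hoσ).pow_right k) dvd_rfl (orderOf_dvd_of_pow_eq_one ?_)))
  exact congrArg Subtype.val hk

end Cfsg.Agent.Involutions.DihedralSylow
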