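import Mathlib
import Cfsg.Prelude.Def_CaseTheorems
import Cfsg.Prelude.Def_LieClassical
import Cfsg.Agent.Lib.Involutions.SylowGLTwo
import Cfsg.Agent.Lib.Classical.UnitaryTwo

/-!
# Sylow 2-subgroups of `GU₂` in odd characteristic
-/

namespace Cfsg.Agent.Involutions.SylowGUTwo

open Matrix
open scoped MatrixGroups
open Cfsg.Agent.Classical

variable {F : Type*} [Field F] [Fintype F] {q : ℕ}

theorem natCard_GU_two (hF : Fintype.card F = q ^ 2) :
    Nat.card (Cfsg.GU 2 F q) = (q + 1) * (q * ((q - 1) * (q + 1))) := by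
  have : Fintype (Unitary.fixField hF) := Fintype.ofFinite _
  have hK : Fintype.card (Unitary.fixField hF) = q := by
    rw [← Nat.card_eq_fintype_card, Unitary.natCard_fixField hF]
  obtain ⟨e⟩ := Unitary.nonempty_SU_two_equiv hF (Unitary.fixField hF) hK
  rw [← Unitary.natCard_SU_mul hF (by norm_num), Nat.card_congr e.toEquiv, GL2.natCard_SL_two, hK]

theorem factorization_GU (hF : Fintype.card F = q ^ 2) (hq : Odd q) :
    (Nat.card (Cfsg.GU 2 F q)).factorization 2 =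
      2 * (q + 1).factorization 2 + (q - 1).factorization 2 := by
  have h1 := Cfsg.Agent.Forms.HermStd.one_lt_q hF
  rw [Nat.odd_iff] at hq
  rw [natCard_GU_two hF, Nat.factorization_mul (by omega)
    (mul_ne_zero (by omega) (mul_ne_zero (by omega) (by omega))),
    Nat.factorization_mul (by omega) (mul_ne_zero (by omega) (by omega)),
    Nat.factorization_mul (by omega) (by omega)]
  simp only [Finsupp.add_apply, Nat.factorization_eq_zero_of_not_dvd (show ¬ 2 ∣ q by omega)]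
  omega

theorem mem_GU (hF : Fintype.card F = q ^ 2) (g : GL (Fin 2) F)
    (h : ∀ u v, Cfsg.hermForm 2 F q ((g : Matrix (Fin 2) (Fin 2) F) *ᵥ u)
      ((g : Matrix (Fin 2) (Fin 2) F) *ᵥ v) = Cfsg.hermForm 2 F q u v) : g ∈ Cfsg.GU 2 F q := h

theorem exists_unit_orderOf (hF : Fintype.card F = q ^ 2) {k : ℕ}
    (hk : 2 ^ k ∣ (q - 1) * (q + 1)) : ∃ a : Fˣ, orderOf a = 2 ^ k := by
  obtain ⟨g, hg⟩ := IsCyclic.exists_ofOrder_eq_natCard (α := Fˣ)
  obtain ⟨c, hc⟩ : 2 ^ k ∣ Nat.card Fˣ := by rwa [Unitary.natCard_units_F hF]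
  have hc0 : c ≠ 0 := by rintro rfl; exact (Nat.card_pos (α := Fˣ)).ne' (by simpa using hc)
  exact ⟨g ^ c, by
    rw [orderOf_pow_of_dvd hc0 (hg ▸ hc ▸ Dvd.intro_left _ rfl), hg, hc,
      Nat.mul_div_cancel _ (Nat.pos_of_ne_zero hc0)]⟩

theorem pairHom_injective : Function.Injective (SylowGLTwo.pairHom F) := by
  rintro ⟨b, b'⟩ ⟨d, d'⟩ h
  have e := congrArg Units.val h
  rw [SylowGLTwo.coe_pairHom, SylowGLTwo.coe_pairHom] at e
  have e0 := congrFun (congrFun e 0) 0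
  have e1 := congrFun (congrFun e 1) 1
  simp at e0 e1
  rw [Units.ext e0, Units.ext e1]

theorem swap_conj (b b' : Fˣ) :
    DihedralO2.swapMat * SylowGLTwo.pairHom F (b, b') * DihedralO2.swapMat⁻¹ =
      SylowGLTwo.pairHom F (b', b) := by
  rw [mul_inv_eq_iff_eq_mul]
  refine Units.ext ?_
  rw [Units.val_mul, Units.val_mul, SylowGLTwo.coe_pairHom, SylowGLTwo.coe_pairHom]
  show !![(0 : F), 1; 1, 0] * _ = _ * !![(0 : F), 1; 1, 0]
  simp

theorem orderOf_swap : orderOf (DihedralO2.swapMat : GL (Fin 2) F) = 2 := by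
  have : Fact (Nat.Prime 2) := ⟨Nat.prime_two⟩
  refine orderOf_eq_prime (by rw [sq, DihedralO2.swapMat_mul_self]) fun h => ?_
  have e := congrArg (fun M : GL (Fin 2) F => (M : Matrix (Fin 2) (Fin 2) F) 0 0) h
  simp [DihedralO2.swapMat] at e

theorem isWreathed_GU (hF : Fintype.card F = q ^ 2) (hq : q % 4 = 3) (P : Sylow 2 (Cfsg.GU 2 F q)) :
    Cfsg.IsWreathed (P : Subgroup (Cfsg.GU 2 F q)) := by
  have : Fact (Nat.Prime 2) := ⟨Nat.prime_two⟩
  have h1 := Cfsg.Agent.Forms.HermStd.one_lt_q hF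
  set n := (q + 1).factorization 2 with hn
  have hn2 : 2 ≤ n :=
    (Nat.Prime.pow_dvd_iff_le_factorization Nat.prime_two (by omega)).1 (by omega)
  have hv1 : (q - 1).factorization 2 = 1 := by
    have a : 1 ≤ (q - 1).factorization 2 :=
      (Nat.Prime.pow_dvd_iff_le_factorization Nat.prime_two (by omega)).1 (by omega)
    by_contra hne
    have := (Nat.Prime.pow_dvd_iff_le_factorization Nat.prime_two (show q - 1 ≠ 0 by omega)).2
      (by omega : 2 ≤ (q - 1).factorization 2)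
    omega
  have hcard : (Nat.card (Cfsg.GU 2 F q)).factorization 2 = 2 * n + 1 := by
    rw [factorization_GU hF (Nat.odd_iff.2 (by omega)), hv1]
  obtain ⟨a, hoa⟩ := exists_unit_orderOf hF (k := n) ((Nat.ordProj_dvd _ 2).trans (Dvd.intro_left _ rfl))
  have hnorm : ∀ b ∈ Subgroup.zpowers a, (b : F) ^ (q + 1) = 1 := by
    intro b hb
    have h : orderOf b ∣ q + 1 :=
      (orderOf_dvd_of_mem_zpowers hb).trans (hoa ▸ Nat.ordProj_dvd _ 2)
    rw [← Units.val_pow_eq_pow_val, orderOf_dvd_iff_pow_eq_one.1 h, Units.val_one]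
  let A := ((Subgroup.zpowers a).prod (Subgroup.zpowers a)).map (SylowGLTwo.pairHom F)
  have hAGU : A ≤ Cfsg.GU 2 F q := by
    rintro _ ⟨⟨b, b'⟩, hb, rfl⟩
    refine mem_GU hF _ fun u v => ?_
    have e : (SylowGLTwo.pairHom F (b, b') : Matrix (Fin 2) (Fin 2) F) =
        Matrix.diagonal ![(b : F), (b' : F)] := by
      rw [SylowGLTwo.coe_pairHom]
      ext i j
      fin_cases i <;> fin_cases j <;> simp
    rw [e]
    refine Unitary.diag_preserves hF _ (fun i => ?_) u v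
    fin_cases i
    · simpa using hnorm b hb.1
    · simpa using hnorm b' hb.2
  have hzGU : (DihedralO2.swapMat : GL (Fin 2) F) ∈ Cfsg.GU 2 F q := by
    refine mem_GU hF _ fun u v => ?_
    show Cfsg.hermForm 2 F q (!![(0 : F), 1; 1, 0] *ᵥ u) (!![(0 : F), 1; 1, 0] *ᵥ v) = _
    simp [Cfsg.hermForm, Fin.sum_univ_two, Matrix.mulVec, dotProduct]
    ring
  set xg := SylowGLTwo.pairHom F (a, 1) with hxg
  set yg := SylowGLTwo.pairHom F (1, a) with hyg
  set zg := (DihedralO2.swapMat : GL (Fin 2) F) with hzg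
  have hxA : xg ∈ A := ⟨(a, 1), ⟨Subgroup.mem_zpowers a, one_mem _⟩, rfl⟩
  have hyA : yg ∈ A := ⟨(1, a), ⟨one_mem _, Subgroup.mem_zpowers a⟩, rfl⟩
  have hA : IsPGroup 2 A := by
    refine IsPGroup.map ?_ _
    refine IsPGroup.of_card (n := n + n) ?_
    rw [Nat.card_congr ((Subgroup.zpowers a).prodEquiv (Subgroup.zpowers a)).toEquiv, Nat.card_prod,
      Nat.card_zpowers, hoa, pow_add]
  have hzz : zg * zg = 1 := DihedralO2.swapMat_mul_self
  have hoz : orderOf zg = 2 := orderOf_swap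
  have hK : IsPGroup 2 (A ⊔ Subgroup.zpowers zg : Subgroup (GL (Fin 2) F)) := by
    refine IsPGroup.to_sup_of_normal_left' hA
      (IsPGroup.of_card (n := 1) (by rw [Nat.card_zpowers, hoz, pow_one])) ?_
    refine Subgroup.zpowers_le.2 (Subgroup.mem_normalizer_iff.2 fun w => ?_)
    have key : ∀ w ∈ A, zg * w * zg⁻¹ ∈ A := by
      rintro w ⟨⟨b, b'⟩, hb, rfl⟩
      rw [hzg, swap_conj]
      exact ⟨(b', b), ⟨hb.2, hb.1⟩, rfl⟩
    refine ⟨key w, fun hw => ?_⟩
    have h3 := key _ hw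
    rwa [show zg * (zg * w * zg⁻¹) * zg⁻¹ = zg * zg * w * (zg * zg)⁻¹ by group, hzz, one_mul,
      inv_one, mul_one] at h3
  refine SylowGLTwo.isWreathed_of_le P hn2 hcard
    (hK.comap_of_injective (Cfsg.GU 2 F q).subtype (Cfsg.GU 2 F q).subtype_injective)
    (x := ⟨xg, hAGU hxA⟩) (y := ⟨yg, hAGU hyA⟩) (z := ⟨zg, hzGU⟩) (Subgroup.mem_sup_left hxA)
    (Subgroup.mem_sup_left hyA) (Subgroup.mem_sup_right (Subgroup.mem_zpowers zg)) ?_ ?_ ?_ ?_ ?_
  · rw [Subgroup.orderOf_mk, hxg, orderOf_injective _ pairHom_injective, Prod.orderOf, orderOf_one,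
      Nat.lcm_one_right, hoa]
  · exact Subtype.ext (show xg * yg = yg * xg by rw [hxg, hyg, ← map_mul, ← map_mul, mul_comm])
  · rw [Subgroup.eq_bot_iff_forall]
    rintro w ⟨⟨i, hi⟩, ⟨j, hj⟩⟩
    have hi' : xg ^ i = (w : GL (Fin 2) F) := by rw [← hi]; rfl
    have hj' : yg ^ j = (w : GL (Fin 2) F) := by rw [← hj]; rfl
    simp only [hxg, hyg, ← map_zpow] at hi' hj'
    have e := pairHom_injective (hi'.trans hj'.symm)
    simp only [Prod.pow_mk, _root_.one_zpow, Prod.mk.injEq] at e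
    refine Subtype.ext ?_
    rw [← hi', Prod.pow_mk, e.1, _root_.one_zpow, Prod.mk_one_one, map_one]
    rfl
  · rw [Subgroup.orderOf_mk, hoz]
  · exact Subtype.ext (show zg * xg * zg⁻¹ = yg by rw [hzg, hxg, swap_conj])

theorem isQuasiDihedral_GU (hF : Fintype.card F = q ^ 2) (hq : q % 4 = 1)
    (P : Sylow 2 (Cfsg.GU 2 F q)) : Cfsg.IsQuasiDihedral (P : Subgroup (Cfsg.GU 2 F q)) := by
  have : Fact (Nat.Prime 2) := ⟨Nat.prime_two⟩
  have h1 := Cfsg.Agent.Forms.HermStd.one_lt_q hF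
  set m := (q - 1).factorization 2 with hm
  have hm2 : 2 ≤ m :=
    (Nat.Prime.pow_dvd_iff_le_factorization Nat.prime_two (by omega)).1 (by omega)
  have hv1 : (q + 1).factorization 2 = 1 := by
    have a : 1 ≤ (q + 1).factorization 2 :=
      (Nat.Prime.pow_dvd_iff_le_factorization Nat.prime_two (by omega)).1 (by omega)
    by_contra hne
    have := (Nat.Prime.pow_dvd_iff_le_factorization Nat.prime_two (show q + 1 ≠ 0 by omega)).2
      (by omega : 2 ≤ (q + 1).factorization 2)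
    omega
  have hcard : (Nat.card (Cfsg.GU 2 F q)).factorization 2 = m + 1 + 1 := by
    rw [factorization_GU hF (Nat.odd_iff.2 (by omega)), hv1]
    omega
  obtain ⟨a, hoa⟩ := exists_unit_orderOf hF (k := m + 1) (by
    rw [pow_succ]; exact Nat.mul_dvd_mul (Nat.ordProj_dvd _ 2) (by omega))
  -- a hyperbolic basis
  obtain ⟨u, huu, hu1, -, -⟩ := Unitary.exists_isotropic_pair hF (n := 2) 0 1 (by decide)
  have hu : u ≠ 0 := fun h => by simp [h] at hu1
  obtain ⟨v, hvv, huv⟩ := Unitary.exists_partner hF hu huu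
  have hvu : Cfsg.hermForm 2 F q v u = 1 := by rw [← Unitary.H_conj hF, huv, one_pow]
  let B : Matrix (Fin 2) (Fin 2) F := !![u 0, v 0; u 1, v 1]
  have hBx : ∀ x : Fin 2 → F, B *ᵥ x = x 0 • u + x 1 • v := by
    intro x
    funext i
    fin_cases i <;> simp [B, Matrix.mulVec, dotProduct, Fin.sum_univ_two] <;> ring
  have hB : ∀ x y : Fin 2 → F, Cfsg.hermForm 2 F q (B *ᵥ x) (B *ᵥ y) =
      x 0 * y 1 ^ q + x 1 * y 0 ^ q := by
    intro x y
    simp only [hBx, Unitary.H_add_left, Unitary.H_add_right hF, Unitary.H_smul_left,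
      Unitary.H_smul_right, huu, hvv, huv, hvu]
    ring
  have hdet : B.det ≠ 0 := by
    intro hd
    obtain ⟨x, hx, hBx0⟩ := Matrix.exists_mulVec_eq_zero_iff.2 hd
    have e0 := hB x ![0, 1]
    have e1 := hB x ![1, 0]
    simp [hBx0, Unitary.H_zero_left, zero_pow (show q ≠ 0 by omega)] at e0 e1
    exact hx (by ext i; fin_cases i; exacts [e0.symm, e1.symm])
  let Pm : GL (Fin 2) F := GeneralLinearGroup.mkOfDetNeZero B hdet
  have hPGU : ∀ M : GL (Fin 2) F, (∀ x y : Fin 2 → F,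
      ((M : Matrix (Fin 2) (Fin 2) F) *ᵥ x) 0 * ((M : Matrix (Fin 2) (Fin 2) F) *ᵥ y) 1 ^ q +
        ((M : Matrix (Fin 2) (Fin 2) F) *ᵥ x) 1 * ((M : Matrix (Fin 2) (Fin 2) F) *ᵥ y) 0 ^ q =
      x 0 * y 1 ^ q + x 1 * y 0 ^ q) → Pm * M * Pm⁻¹ ∈ Cfsg.GU 2 F q := by
    intro M hM
    refine mem_GU hF _ fun x y => ?_
    have e : ∀ z, ((Pm * M * Pm⁻¹ : GL (Fin 2) F) : Matrix (Fin 2) (Fin 2) F) *ᵥ z =
        B *ᵥ ((M : Matrix (Fin 2) (Fin 2) F) *ᵥ (((Pm⁻¹ : GL (Fin 2) F) : Matrix (Fin 2) (Fin 2) F) *ᵥ z)) := by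
      intro z
      rw [Matrix.mulVec_mulVec, Matrix.mulVec_mulVec]
      rfl
    have e' : ∀ z, B *ᵥ (((Pm⁻¹ : GL (Fin 2) F) : Matrix (Fin 2) (Fin 2) F) *ᵥ z) = z := by
      intro z
      rw [Matrix.mulVec_mulVec, show B * ((Pm⁻¹ : GL (Fin 2) F) : Matrix (Fin 2) (Fin 2) F) = 1 from
        Units.mul_inv Pm, Matrix.one_mulVec]
    rw [e, e, hB, hM, ← hB, e', e']
  have haq : ∀ b : Fˣ, (b : F) * (((b ^ q)⁻¹ : Fˣ) : F) ^ q = 1 := by
    intro b
    rw [← Units.val_pow_eq_pow_val, inv_pow, ← pow_mul, ← Units.val_mul,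
      show b ^ (q * q) = b from Units.ext (by
        rw [Units.val_pow_eq_pow_val, ← sq, ← hF]; exact FiniteField.pow_card _),
      mul_inv_cancel, Units.val_one]
  set D := SylowGLTwo.pairHom F (a, (a ^ q)⁻¹) with hDdef
  set S := (DihedralO2.swapMat : GL (Fin 2) F) with hSdef
  have hDGU : Pm * D * Pm⁻¹ ∈ Cfsg.GU 2 F q := by
    refine hPGU _ fun x y => ?_
    rw [hDdef, SylowGLTwo.coe_pairHom]
    simp only [Matrix.mulVec, dotProduct, Fin.sum_univ_two, Matrix.of_apply, Matrix.cons_val_zero,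
      Matrix.cons_val_one, zero_mul, zero_add, add_zero, mul_pow]
    have e1 := haq a
    have e2 : (((a ^ q)⁻¹ : Fˣ) : F) * (a : F) ^ q = 1 := by
      rw [← Units.val_pow_eq_pow_val, Units.inv_mul]
    linear_combination (x 0 * y 1 ^ q) * e1 + (x 1 * y 0 ^ q) * e2
  have hSGU : Pm * S * Pm⁻¹ ∈ Cfsg.GU 2 F q := by
    refine hPGU _ fun x y => ?_
    show (!![(0 : F), 1; 1, 0] *ᵥ x) 0 * (!![(0 : F), 1; 1, 0] *ᵥ y) 1 ^ q +
      (!![(0 : F), 1; 1, 0] *ᵥ x) 1 * (!![(0 : F), 1; 1, 0] *ᵥ y) 0 ^ q = _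
    simp [Matrix.mulVec, dotProduct, Fin.sum_univ_two]
    ring
  have hoD : orderOf D = 2 ^ (m + 1) := by
    rw [hDdef, orderOf_injective _ pairHom_injective, Prod.orderOf, orderOf_inv]
    exact (Nat.lcm_eq_left (orderOf_pow_dvd q)).trans hoa
  have hpow : ((a ^ q)⁻¹, a) = (a, (a ^ q)⁻¹) ^ (2 ^ (m + 1 - 1) - 1) := by
    obtain ⟨e, he⟩ : 2 ^ m ∣ q - 1 := Nat.ordProj_dvd _ 2
    have he2 : e % 2 = 1 := by
      rcases Nat.mod_two_eq_zero_or_one e with h | h
      · exfalso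
        have : 2 ^ (m + 1) ∣ q - 1 := by
          rw [he, pow_succ]; exact Nat.mul_dvd_mul_left _ (Nat.dvd_of_mod_eq_zero h)
        have := (Nat.Prime.pow_dvd_iff_le_factorization Nat.prime_two (by omega)).1 this
        omega
      · exact h
    rw [Nat.add_sub_cancel, Prod.pow_mk]
    have key : a ^ q * a ^ (2 ^ m - 1) = 1 := by
      rw [← pow_add, ← orderOf_dvd_iff_pow_eq_one, hoa]
      refine ⟨(e + 1) / 2, ?_⟩
      have hpos := Nat.two_pow_pos m
      obtain ⟨f, hf⟩ : ∃ f, e = 2 * f + 1 := ⟨e / 2, by omega⟩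
      have e3 : (e + 1) / 2 = f + 1 := by omega
      rw [e3, pow_succ]
      rw [hf] at he
      have e4 : q = 2 ^ m * (2 * f + 1) + 1 := by omega
      have e5 : 2 ^ m * 2 * (f + 1) = 2 ^ m * (2 * f + 1) + 2 ^ m := by ring
      omega
    have key' : a ^ (2 ^ m - 1) = (a ^ q)⁻¹ := eq_inv_of_mul_eq_one_right key
    refine Prod.ext key'.symm ?_
    show a = ((a ^ q)⁻¹) ^ (2 ^ m - 1)
    rw [inv_pow, ← pow_mul, mul_comm, pow_mul, key', inv_pow, inv_inv, ← pow_mul]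
    exact (Units.ext (by
      rw [Units.val_pow_eq_pow_val, ← sq, ← hF]; exact FiniteField.pow_card _) : a ^ (q * q) = a).symm
  have hrel : S * D * S⁻¹ = D ^ (2 ^ (m + 1 - 1) - 1) := by
    rw [hSdef, hDdef, swap_conj, ← map_pow, hpow]
  set xg := Pm * D * Pm⁻¹ with hxg
  set yg := Pm * S * Pm⁻¹ with hyg
  have hconjg : yg * xg * yg⁻¹ = xg ^ (2 ^ (m + 1 - 1) - 1) := by
    rw [hyg, hxg, conj_pow, ← hrel]; group
  have hox : orderOf xg = 2 ^ (m + 1) := by
    rw [hxg, show Pm * D * Pm⁻¹ = MulAut.conj Pm D from rfl, MulEquiv.orderOf_eq, hoD]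
  have hoy : orderOf yg = 2 := by
    rw [hyg, show Pm * S * Pm⁻¹ = MulAut.conj Pm S from rfl, MulEquiv.orderOf_eq, hSdef, orderOf_swap]
  have hyy : yg * yg = 1 := by rw [← sq]; exact orderOf_dvd_iff_pow_eq_one.1 hoy.dvd
  have hK : IsPGroup 2 (Subgroup.zpowers xg ⊔ Subgroup.zpowers yg : Subgroup (GL (Fin 2) F)) := by
    refine IsPGroup.to_sup_of_normal_left' ?_ ?_ ?_
    · exact IsPGroup.of_card (n := m + 1) (by rw [Nat.card_zpowers, hox])
    · exact IsPGroup.of_card (n := 1) (by rw [Nat.card_zpowers, hoy, pow_one])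
    · refine Subgroup.zpowers_le.2 (Subgroup.mem_normalizer_iff.2 fun w => ?_)
      have key : ∀ w ∈ Subgroup.zpowers xg, yg * w * yg⁻¹ ∈ Subgroup.zpowers xg := by
        rintro w ⟨k, rfl⟩
        show yg * xg ^ k * yg⁻¹ ∈ _
        rw [← conj_zpow, hconjg]
        exact zpow_mem (pow_mem (Subgroup.mem_zpowers xg) _) k
      refine ⟨key w, fun hw => ?_⟩
      have h3 := key _ hw
      rwa [show yg * (yg * w * yg⁻¹) * yg⁻¹ = yg * yg * w * (yg * yg)⁻¹ by group, hyy, one_mul,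
        inv_one, mul_one] at h3
  refine SylowGLTwo.isQuasiDihedral_of_le P (by omega) hcard
    (hK.comap_of_injective (Cfsg.GU 2 F q).subtype (Cfsg.GU 2 F q).subtype_injective)
    (x := ⟨xg, hDGU⟩) (y := ⟨yg, hSGU⟩) (Subgroup.mem_sup_left (Subgroup.mem_zpowers xg))
    (Subgroup.mem_sup_right (Subgroup.mem_zpowers yg)) ?_ ?_ (Subtype.ext (by simpa using hconjg))
  · rw [Subgroup.orderOf_mk, hox]
  · rw [Subgroup.orderOf_mk, hoy]

end Cfsg.Agent.Involutions.SylowGUTwo
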