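import Cfsg.Agent.Lib.AutPSU.Centre
import Cfsg.Agent.Lib.AutPSU.Radical
import Cfsg.Agent.Lib.Classical.UnitaryFrames
import Cfsg.Prelude.Def_LieRecognition

/-!
# The Sylow 2-subgroups of `PSU₃(2^n)`

The Heisenberg group of an isotropic vector in coordinates `(b, a)` with `a + a^q = b b^q`, product
`(b, a)(b', a') = (b + b', a + a' + b' b^q)`.
-/

set_option autoImplicit false
set_option linter.unusedSectionVars false

namespace Cfsg.Agent.Involutions.SylowPSUThree

open scoped commutatorElement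
open Matrix Cfsg.Agent.Classical Cfsg.Agent.Classical.Unitary Cfsg.Agent.Forms
  Cfsg.Agent.AutPSU.Centre

universe u

variable {F : Type u} [Field F] [Fintype F] {n : ℕ}

local notation "q" => 2 ^ n
local notation "Vec" => (Fin 3 → F)
local notation "H" => Cfsg.hermForm 3 F q
local notation "SU3" => Cfsg.SU 3 F q
local notation "PSU3" => Cfsg.PSU 3 F q

/-- A hyperbolic pair with an orthogonal unit vector. -/
structure Base (F : Type u) [Field F] (n : ℕ) where
  e : Fin 3 → F
  f : Fin 3 → F
  w : Fin 3 → F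
  he : Cfsg.hermForm 3 F (2 ^ n) e e = 0
  hf : Cfsg.hermForm 3 F (2 ^ n) f f = 0
  hef : Cfsg.hermForm 3 F (2 ^ n) e f = 1
  hwe : Cfsg.hermForm 3 F (2 ^ n) w e = 0
  hwf : Cfsg.hermForm 3 F (2 ^ n) w f = 0
  hww : Cfsg.hermForm 3 F (2 ^ n) w w = 1

variable (hF : Fintype.card F = (2 ^ n) ^ 2) [CharP F 2] (B : Base F n)

include hF

theorem one_lt : 1 < 2 ^ n := HermStd.one_lt_q hF

theorem n_pos : n ≠ 0 := fun h => by
  have := one_lt hF
  simp [h] at this

theorem Base.e_ne_zero : B.e ≠ 0 := fun h => by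
  have := B.hef
  rw [h, H_zero_left] at this
  exact zero_ne_one this

theorem exists_base : Nonempty (Base F n) := by
  obtain ⟨e, he, he1, -, -⟩ := exists_isotropic_pair (n := 3) hF (0 : Fin 3) 1 (by decide)
  have he0 : e ≠ 0 := fun h => by simp [h] at he1
  obtain ⟨f, hf, hef⟩ := exists_partner hF he0 he
  obtain ⟨w, hw0, hwe, hwf⟩ := AutPSU.Basic.exists_perp_two hF (n := 3) le_rfl e f
  have hww : H w w ≠ 0 := by
    intro hww
    obtain ⟨r', -, hwr', hr'e, hr'f⟩ :=
      AutPSU.Radical.exists_partner_in hF he hf hef hw0 hww hwe hwf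
    have hfe : H f e = 1 := by rw [← H_conj hF, hef, one_pow]
    have hew : H e w = 0 := (H_eq_zero_comm hF).1 hwe
    have hfw : H f w = 0 := (H_eq_zero_comm hF).1 hwf
    have her' : H e r' = 0 := (H_eq_zero_comm hF).1 hr'e
    have hfr' : H f r' = 0 := (H_eq_zero_comm hF).1 hr'f
    -- four independent vectors in dimension three
    have hli : LinearIndependent F ![e, f, w, r'] := by
      rw [Fintype.linearIndependent_iff]
      intro g hg
      have hsum : g 0 • e + g 1 • f + g 2 • w + g 3 • r' = 0 := by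
        simpa [Fin.sum_univ_four, add_assoc] using hg
      have c0 := congrArg (fun v => H v f) hsum
      have c1 := congrArg (fun v => H v e) hsum
      have c2 := congrArg (fun v => H v r') hsum
      have c3 := congrArg (fun v => H v w) hsum
      simp only [H_add_left, H_smul_left, H_zero_left, hef, hf, hwf, hr'f, he, hfe, hwe, hr'e,
        her', hfr', hwr', hew, hfw, hww, mul_one, mul_zero, add_zero, zero_add] at c0 c1 c2 c3
      have hr'w : H r' w = 1 := by rw [← H_conj hF, hwr', one_pow]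
      have e0 : g 0 = 0 := c0
      have e1 : g 1 = 0 := c1
      have e3 : g 3 = 0 := by rwa [hr'w, mul_one] at c3
      have e2 : g 2 = 0 := by simpa [e3] using c2
      intro i
      fin_cases i <;> assumption
    have := hli.fintype_card_le_finrank
    simp at this
  have hwwq : (H w w) ^ q = H w w := H_conj hF w w
  obtain ⟨x, hx⟩ := UnitaryCount.exists_norm_eq hF hww hwwq
  have hx0 : x ≠ 0 := fun h => by
    rw [h, zero_pow (Nat.succ_ne_zero _)] at hx
    exact hww hx.symm
  exact ⟨⟨e, f, x⁻¹ • w, he, hf, hef, by rw [H_smul_left, hwe, mul_zero],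
    by rw [H_smul_left, hwf, mul_zero], by
      rw [H_smul_left, H_smul_right, ← mul_assoc, ← pow_succ', ← hx, inv_pow,
        inv_mul_cancel₀ (pow_ne_zero _ hx0)]⟩⟩

/-- The group `P`. -/
def heis : Subgroup SU3 := heisGroup hF B.he

/-- `s` has coordinates `(b, a)`. -/
def IsCoord (s : SU3) (b a : F) : Prop := IsHeis B.e s (b • B.w) a ∧ a + a ^ q = b * b ^ q

theorem ok_iff {b a : F} : Ok q B.e (b • B.w) a ↔ a + a ^ q = b * b ^ q := by
  unfold Ok
  rw [H_smul_left, B.hwe, mul_zero, H_smul_left, H_smul_right, B.hww, mul_one, CharTwo.neg_eq]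
  simp

theorem exists_coord {s : SU3} (hs : s ∈ heis hF B) : ∃ b a, IsCoord B s b a := by
  obtain ⟨w, a, hok, hs⟩ := hs
  set b := H w B.w with hb
  set c := H w B.f with hc
  have hfe : H B.f B.e = 1 := by rw [← H_conj hF, B.hef, one_pow]
  have hew : H B.e B.w = 0 := (H_eq_zero_comm hF).1 B.hwe
  have hfw : H B.f B.w = 0 := (H_eq_zero_comm hF).1 B.hwf
  have hdec : w = b • B.w + c • B.e := by
    refine sub_eq_zero.1 (AutPSU.Radical.eq_zero_three hF rfl B.he B.hf B.hef B.hwe B.hwf B.hww
      ?_ ?_ ?_)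
    · simp [H_sub_left, H_add_left, H_smul_left, hok.1, B.hwe, B.he]
    · simp [H_sub_left, H_add_left, H_smul_left, B.hwf, B.hef, hc]
    · simp [H_sub_left, H_add_left, H_smul_left, B.hww, hew, hb]
  refine ⟨b, a + c + c ^ q, fun x => ?_, ?_⟩
  · rw [hs x, hdec, H_add_right hF, H_smul_right c x B.e, sub_eq_add_neg]
    rw [sub_eq_add_neg]
    match_scalars <;> simp [CharTwo.neg_eq] <;> ring
  · have h := hok.2
    rw [hdec, CharTwo.neg_eq] at h
    simp only [H_add_left, H_add_right hF, H_smul_left, H_smul_right, B.hww, B.hwe, hew, B.he,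
      mul_one, mul_zero, add_zero] at h
    rw [← HermStd.qHom_apply hF (a + c + c ^ q), map_add, map_add, HermStd.qHom_apply,
      HermStd.qHom_apply,
      HermStd.qHom_apply, pow_qq hF]
    linear_combination h + CharTwo.add_self_eq_zero c + CharTwo.add_self_eq_zero (c ^ q)

theorem IsCoord.unique {s : SU3} {b a b' a' : F} (h : IsCoord B s b a) (h' : IsCoord B s b' a') :
    b = b' ∧ a = a' := by
  obtain ⟨⟨c, hc⟩, heq⟩ := IsHeis.unique hF B.he (B.e_ne_zero hF) h.1 h'.1
  have h1 := congrArg (fun v => H v B.w) hc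
  simp only [H_add_left, H_smul_left, B.hww, (H_eq_zero_comm hF).1 B.hwe, mul_one, mul_zero,
    add_zero] at h1
  subst h1
  exact ⟨rfl, heq rfl⟩

theorem IsCoord.ext {s t : SU3} {b a : F} (h : IsCoord B s b a) (h' : IsCoord B t b a) : s = t :=
  SU_ext fun x => by rw [h.1 x, h'.1 x]

theorem isCoord_exists {b a : F} (h : a + a ^ q = b * b ^ q) :
    ∃ s ∈ heis hF B, IsCoord B s b a :=
  ⟨heisEl hF B.he ((ok_iff hF B).2 h), ⟨_, _, (ok_iff hF B).2 h, isHeis_heisEl hF B.he _⟩,
    isHeis_heisEl hF B.he _, h⟩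

theorem IsCoord.mem {s : SU3} {b a : F} (h : IsCoord B s b a) : s ∈ heis hF B :=
  ⟨_, _, (ok_iff hF B).2 h.2, h.1⟩

theorem IsCoord.mul {s t : SU3} {b a b' a' : F} (h : IsCoord B s b a) (h' : IsCoord B t b' a') :
    IsCoord B (s * t) (b + b') (a + a' + b' * b ^ q) := by
  have hok := (ok_iff hF B).2 h.2
  have hok' := (ok_iff hF B).2 h'.2
  have hH : H (b' • B.w) (b • B.w) = b' * b ^ q := by
    rw [H_smul_left, H_smul_right, B.hww, mul_one]
  have h1 := h.1.mul hF B.he hok.1 hok'.1 h'.1
  have h2 := Ok.add hF hok hok'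
  rw [← add_smul, hH, sub_eq_add_neg, CharTwo.neg_eq] at h1 h2
  exact ⟨h1, (ok_iff hF B).1 h2⟩

theorem isCoord_one : IsCoord B (1 : SU3) 0 0 := by
  refine ⟨fun x => ?_, by simp⟩
  simp [mat_one, H_zero_right hF]

/-- Elements with `a + a^q = c`, for `c` fixed by the field involution. -/
theorem card_fibre {c : F} (hc : c ^ q = c) :
    Nat.card {a : F // a + a ^ q = c} = Nat.card {a : F // a ^ q = a} := by
  obtain ⟨a₀, ha₀⟩ := exists_trace_eq hF hc
  refine Nat.card_congr (Equiv.subtypeEquiv (Equiv.addRight a₀) fun a => ?_)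
  show a + a ^ q = c ↔ (a + a₀) ^ q = a + a₀
  rw [← HermStd.qHom_apply hF (a + a₀), map_add, HermStd.qHom_apply, HermStd.qHom_apply]
  constructor
  · intro h
    linear_combination h - ha₀ + CharTwo.add_self_eq_zero a₀ - CharTwo.add_self_eq_zero (a : F) +
      CharTwo.add_self_eq_zero (a₀ ^ q) - CharTwo.add_self_eq_zero (a₀ : F)
  · intro h
    linear_combination h + ha₀ + CharTwo.add_self_eq_zero a - CharTwo.add_self_eq_zero (a₀ ^ q : F)

/-- The fixed field has `q` elements. -/
theorem card_fixed : Nat.card {a : F // a ^ q = a} = q := by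
  classical
  let φ : F →+ F :=
    { toFun := fun a => a + a ^ q
      map_zero' := by simp
      map_add' := fun x y => by
        rw [← HermStd.qHom_apply hF, map_add, HermStd.qHom_apply, HermStd.qHom_apply]
        ring }
  have hker : ∀ a, a ∈ φ.ker ↔ a ^ q = a := fun a => by
    show a + a ^ q = 0 ↔ _
    rw [add_eq_zero_iff_eq_neg, CharTwo.neg_eq, eq_comm]
  have hran : ∀ a, a ∈ φ.range ↔ a ^ q = a := fun a => by
    constructor
    · rintro ⟨y, rfl⟩
      show (y + y ^ q) ^ q = y + y ^ q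
      rw [← HermStd.qHom_apply hF, map_add, HermStd.qHom_apply, HermStd.qHom_apply, pow_qq hF,
        add_comm]
    · intro ha
      obtain ⟨y, hy⟩ := exists_trace_eq hF ha
      exact ⟨y, hy⟩
  have h1 : Nat.card φ.ker = Nat.card {a : F // a ^ q = a} :=
    Nat.card_congr (Equiv.subtypeEquivRight hker)
  have h2 : Nat.card φ.range = Nat.card {a : F // a ^ q = a} :=
    Nat.card_congr (Equiv.subtypeEquivRight hran)
  have h3 := φ.ker.card_mul_index
  rw [AddSubgroup.index_ker, h1, h2, Nat.card_eq_fintype_card (α := F), hF, ← sq] at h3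
  exact Nat.pow_left_injective two_ne_zero h3

theorem norm_fixed (b : F) : (b * b ^ q) ^ q = b * b ^ q := by
  rw [mul_pow, pow_qq hF, mul_comm]

theorem card_heis : Nat.card (heis hF B) = q ^ 3 := by
  classical
  have key : Nat.card (heis hF B) = Nat.card (Σ b : F, {a : F // a + a ^ q = b * b ^ q}) := by
    refine (Nat.card_eq_of_bijective (fun v : Σ b : F, {a : F // a + a ^ q = b * b ^ q} =>
      (⟨_, (isCoord_exists hF B v.2.2).choose_spec.1⟩ : heis hF B)) ⟨?_, ?_⟩).symm
    · rintro ⟨b, a, ha⟩ ⟨b', a', ha'⟩ hv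
      have h1 := (isCoord_exists hF B ha).choose_spec.2
      have h2 := (isCoord_exists hF B ha').choose_spec.2
      have hv' := congrArg Subtype.val hv
      simp only at hv'
      rw [← hv'] at h2
      obtain ⟨rfl, rfl⟩ := IsCoord.unique hF B h1 h2
      rfl
    · rintro ⟨s, hs⟩
      obtain ⟨b, a, h⟩ := exists_coord hF B hs
      exact ⟨⟨b, a, h.2⟩, Subtype.ext
        (IsCoord.ext hF B (isCoord_exists hF B h.2).choose_spec.2 h)⟩
  rw [key, Nat.card_sigma, Finset.sum_congr rfl fun b _ =>
    (card_fibre hF (norm_fixed hF b)).trans (card_fixed hF)]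
  simp [hF]
  ring

theorem isPGroup_heis : IsPGroup 2 (heis hF B) :=
  haveI : Fact (Nat.Prime 2) := ⟨Nat.prime_two⟩
  isPGroup_heisGroup hF 2 B.he

/-- The map to the projective group. -/
def toPSU : heis hF B →* PSU3 :=
  (QuotientGroup.mk' (Subgroup.center SU3)).comp (heis hF B).subtype

theorem toPSU_injective : Function.Injective (toPSU hF B) := fun s t h => by
  haveI : Fact (Nat.Prime 2) := ⟨Nat.prime_two⟩
  exact Subtype.ext (mk_inj_pow hF 2 (by norm_num) (heis_pow hF 2 B.he s.2) (heis_pow hF 2 B.he t.2) h)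

theorem factorization_PSU : (Nat.card PSU3).factorization 2 = 3 * n := by
  have hn := n_pos hF
  have h := natCard_PSU_mul hF (n := 3) (by norm_num)
  rw [natCard_GU hF] at h
  simp only [Finset.prod_range_succ, Finset.prod_range_zero, one_mul,
    show 3 * (3 - 1) / 2 = 3 from rfl, show Even 0 from ⟨0, rfl⟩, show Even 2 from ⟨1, rfl⟩,
    show ¬ Even 1 from Nat.not_even_one, if_true, if_false] at h
  have hqe : Even q := Nat.even_pow.2 ⟨even_two, hn⟩
  have hqk : ∀ k, k ≠ 0 → Even (q ^ k) := fun k hk => Nat.even_pow.2 ⟨hqe, hk⟩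
  have hodd1 : ∀ k, k ≠ 0 → (q ^ k + 1).factorization 2 = 0 := fun k hk =>
    Nat.factorization_eq_zero_of_not_dvd fun hd => by
      obtain ⟨m, hm⟩ := hqk k hk
      omega
  have hodd2 : (q ^ 2 - 1).factorization 2 = 0 :=
    Nat.factorization_eq_zero_of_not_dvd fun hd => by
      obtain ⟨m, hm⟩ := hqk 2 two_ne_zero
      have : 0 < q ^ 2 := by positivity
      omega
  have hg : (Nat.gcd 3 (q + 1)).factorization 2 = 0 :=
    Nat.factorization_eq_zero_of_not_dvd fun hd => by
      have : 2 ∣ 3 := hd.trans (Nat.gcd_dvd_left _ _)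
      omega
  have hq1 : (q + 1).factorization 2 = 0 := by simpa using hodd1 1 one_ne_zero
  have hpos : Nat.card PSU3 ≠ 0 := Nat.card_pos.ne'
  have hgpos : Nat.gcd 3 (q + 1) ≠ 0 := fun e => by simpa using (Nat.gcd_eq_zero_iff.1 e).1
  have hq2 : q ^ 2 - 1 ≠ 0 := by
    have := one_lt hF
    have : 1 < q ^ 2 := Nat.one_lt_pow two_ne_zero this
    omega
  have h' := congrArg (fun m : ℕ => m.factorization 2) h
  rw [Nat.factorization_mul hgpos (mul_ne_zero (Nat.succ_ne_zero _) hpos),
    Nat.factorization_mul (Nat.succ_ne_zero _) hpos,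
    Nat.factorization_mul (pow_ne_zero _ (Nat.two_pow_pos n).ne')
      (mul_ne_zero (mul_ne_zero (by positivity) hq2) (by positivity)),
    Nat.factorization_mul (mul_ne_zero (by positivity) hq2) (by positivity),
    Nat.factorization_mul (by positivity) hq2] at h'
  simp only [Finsupp.add_apply, hg, hq1, hodd1 (0 + 1) one_ne_zero, hodd1 (2 + 1) (by norm_num),
    show (1 + 1 : ℕ) = 2 from rfl, hodd2, Nat.factorization_pow, Finsupp.smul_apply, smul_eq_mul,
    Nat.Prime.factorization_self Nat.prime_two, zero_add, add_zero] at h'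
  omega

/-- A Sylow 2-subgroup of `PSU₃(2^n)` is isomorphic to the Heisenberg group. -/
theorem sylow_equiv (S : Sylow 2 PSU3) : Nonempty (heis hF B ≃* (S : Subgroup PSU3)) := by
  haveI : Fact (Nat.Prime 2) := ⟨Nat.prime_two⟩
  have hcard : Nat.card (toPSU hF B).range = 2 ^ (Nat.card PSU3).factorization 2 := by
    rw [← Nat.card_congr (MonoidHom.ofInjective (toPSU_injective hF B)).toEquiv, card_heis hF B,
      factorization_PSU hF, ← pow_mul, mul_comm]
  let P : Sylow 2 PSU3 := Sylow.ofCard (toPSU hF B).range hcard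
  exact ⟨(MonoidHom.ofInjective (toPSU_injective hF B)).trans (Sylow.equiv P S)⟩

theorem exists_el {b a : F} (h : a + a ^ q = b * b ^ q) :
    ∃ s : heis hF B, IsCoord B (s : SU3) b a :=
  let ⟨s, hs, h'⟩ := isCoord_exists hF B h
  ⟨⟨s, hs⟩, h'⟩

theorem mul_self {s : SU3} {b a : F} (h : IsCoord B s b a) :
    IsCoord B (s * s) 0 (b * b ^ q) := by
  have h1 := h.mul hF B h
  rwa [CharTwo.add_self_eq_zero, CharTwo.add_self_eq_zero, zero_add] at h1

theorem mul_self_eq_one {s : heis hF B} {b a : F} (h : IsCoord B (s : SU3) b a) :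
    s * s = 1 ↔ b = 0 := by
  constructor
  · intro h1
    have h2 := mul_self hF B h
    rw [show ((s : SU3) * s) = 1 from congrArg Subtype.val h1] at h2
    rcases mul_eq_zero.1 (IsCoord.unique hF B h2 (isCoord_one hF B)).2 with h3 | h3
    · exact h3
    · exact eq_zero_of_pow_eq_zero h3
  · rintro rfl
    refine Subtype.ext (IsCoord.ext hF B (mul_self hF B h) ?_)
    simpa using isCoord_one hF B

theorem mem_center_iff' {s : heis hF B} {b a : F} (h : IsCoord B (s : SU3) b a) :
    s ∈ Subgroup.center (heis hF B) ↔ b = 0 := by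
  rw [Subgroup.mem_center_iff]
  constructor
  · intro hc
    have key : ∀ b', b * b' ^ q = b' * b ^ q := fun b' => by
      obtain ⟨a', ha'⟩ := exists_trace_eq hF (norm_fixed hF b')
      obtain ⟨t, ht⟩ := exists_el hF B ha'
      have h1 := ht.mul hF B h
      rw [show ((t : SU3) * s) = (s : SU3) * t from congrArg Subtype.val (hc t)] at h1
      have h2 := (IsCoord.unique hF B h1 (h.mul hF B ht)).2
      linear_combination h2
    obtain ⟨x, hx⟩ : ∃ x : F, x ^ q ≠ x := by
      by_contra hx
      push Not at hx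
      exact HermStd.qHom_ne_id hF (RingHom.ext hx)
    by_contra hb
    have h1 : b = b ^ q := by simpa using key 1
    have h2 := key x
    rw [← h1, mul_comm x b] at h2
    exact hx (mul_left_cancel₀ hb h2)
  · rintro rfl t
    obtain ⟨b', a', ht⟩ := exists_coord hF B t.2
    refine Subtype.ext (IsCoord.ext hF B (ht.mul hF B h) ?_)
    have h1 := h.mul hF B ht
    simpa [zero_pow (Nat.two_pow_pos n).ne', add_comm a a'] using h1

theorem card_center : Nat.card (Subgroup.center (heis hF B)) = q := by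
  refine Eq.trans ?_ (card_fixed hF)
  have hz : ∀ {a : F}, a ^ q = a → a + a ^ q = (0 : F) * 0 ^ q := fun ha => by
    rw [ha, CharTwo.add_self_eq_zero, zero_mul]
  refine (Nat.card_eq_of_bijective (fun a : {a : F // a ^ q = a} =>
    (⟨(exists_el hF B (hz a.2)).choose,
      (mem_center_iff' hF B (exists_el hF B (hz a.2)).choose_spec).2 rfl⟩ :
        Subgroup.center (heis hF B))) ⟨?_, ?_⟩).symm
  · rintro ⟨a, ha⟩ ⟨a', ha'⟩ h
    have h1 := (exists_el hF B (hz ha)).choose_spec
    have h2 := (exists_el hF B (hz ha')).choose_spec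
    rw [← congrArg (fun v : Subgroup.center (heis hF B) => ((v : heis hF B) : SU3)) h] at h2
    exact Subtype.ext (IsCoord.unique hF B h1 h2).2
  · rintro ⟨s, hs⟩
    obtain ⟨b, a, h⟩ := exists_coord hF B s.2
    obtain rfl := (mem_center_iff' hF B h).1 hs
    have ha : a ^ q = a := by
      have := h.2
      rw [zero_mul, add_eq_zero_iff_eq_neg, CharTwo.neg_eq] at this
      exact this.symm
    exact ⟨⟨a, ha⟩, Subtype.ext (Subtype.ext
      (IsCoord.ext hF B (exists_el hF B (hz ha)).choose_spec h))⟩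

theorem sq_mem_center (s : heis hF B) : s * s ∈ Subgroup.center (heis hF B) := by
  obtain ⟨b, a, h⟩ := exists_coord hF B s.2
  exact (mem_center_iff' hF B (mul_self hF B h)).2 rfl

theorem commutator_eq : commutator (heis hF B) = Subgroup.center (heis hF B) := by
  refine le_antisymm ?_ ?_
  · rw [commutator_def, Subgroup.commutator_le]
    intro s _ t _
    obtain ⟨b, a, hs⟩ := exists_coord hF B s.2
    obtain ⟨b', a', ht⟩ := exists_coord hF B t.2
    obtain ⟨bi, ai, hi⟩ := exists_coord hF B (s⁻¹).2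
    obtain ⟨bi', ai', hi'⟩ := exists_coord hF B (t⁻¹).2
    have e1 := hs.mul hF B hi
    rw [show ((s : SU3) * (s⁻¹ : heis hF B)) = 1 from congrArg Subtype.val (mul_inv_cancel s)] at e1
    have e2 := ht.mul hF B hi'
    rw [show ((t : SU3) * (t⁻¹ : heis hF B)) = 1 from congrArg Subtype.val (mul_inv_cancel t)] at e2
    have h1 := (IsCoord.unique hF B e1 (isCoord_one hF B)).1
    have h2 := (IsCoord.unique hF B e2 (isCoord_one hF B)).1
    refine (mem_center_iff' hF B (((hs.mul hF B ht).mul hF B hi).mul hF B hi')).2 ?_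
    linear_combination h1 + h2
  · intro z hz
    obtain ⟨b, c, hzc⟩ := exists_coord hF B z.2
    obtain rfl := (mem_center_iff' hF B hzc).1 hz
    have hc : c ^ q = c := by
      have := hzc.2
      rw [zero_mul, add_eq_zero_iff_eq_neg, CharTwo.neg_eq] at this
      exact this.symm
    obtain ⟨y, hy⟩ := exists_trace_eq hF hc
    obtain ⟨a₁, ha₁⟩ := exists_trace_eq hF (norm_fixed hF (1 : F))
    obtain ⟨a₂, ha₂⟩ := exists_trace_eq hF (norm_fixed hF y)
    obtain ⟨s, hs⟩ := exists_el hF B ha₁
    obtain ⟨t, ht⟩ := exists_el hF B ha₂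
    have hmul : s * t = z * (t * s) := by
      refine Subtype.ext (IsCoord.ext hF B (hs.mul hF B ht) ?_)
      have h := hzc.mul hF B (ht.mul hF B hs)
      show IsCoord B ((z : SU3) * ((t : SU3) * (s : SU3))) _ _
      convert h using 1
      · ring
      · rw [one_pow, zero_pow (Nat.two_pow_pos n).ne']
        linear_combination hy - CharTwo.add_self_eq_zero (y ^ q)
    have hzeq : z = ⁅s, t⁆ := by
      rw [commutatorElement_def, hmul]; group
    rw [hzeq]
    exact Subgroup.commutator_mem_commutator (Subgroup.mem_top s) (Subgroup.mem_top t)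

theorem isPow_two : ∀ s : heis hF B, s ∈ Subgroup.center (heis hF B) → s * s = 1 := fun s hs => by
  obtain ⟨b, a, h⟩ := exists_coord hF B s.2
  exact (mul_self_eq_one hF B h).2 ((mem_center_iff' hF B h).1 hs)

theorem involution_central {s : heis hF B} (hs : s * s = 1) : s ∈ Subgroup.center (heis hF B) := by
  obtain ⟨b, a, h⟩ := exists_coord hF B s.2
  exact (mem_center_iff' hF B h).2 ((mul_self_eq_one hF B h).1 hs)

/-- Scaling by an element of the fixed field. -/
theorem exists_scale_aut (l : Fˣ) (hl : (l : F) ^ q = l) :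
    ∃ k : MulAut (heis hF B), ∀ (s : heis hF B) (b a : F), IsCoord B (s : SU3) b a →
      IsCoord B ((k s : heis hF B) : SU3) ((l : F) * b) ((l : F) * l * a) := by
  have hmem : ∀ (m : F), m ^ q = m → ∀ {b a : F}, a + a ^ q = b * b ^ q →
      m * m * a + (m * m * a) ^ q = m * b * (m * b) ^ q := by
    intro m hm b a h
    rw [mul_pow, mul_pow, mul_pow, hm]
    linear_combination m * m * h
  choose bc ac hcoord using fun s : heis hF B => exists_coord hF B s.2
  have hli : ((l⁻¹ : Fˣ) : F) ^ q = ((l⁻¹ : Fˣ) : F) := by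
    rw [Units.val_inv_eq_inv_val, inv_pow, hl]
  choose g hg using fun s : heis hF B => exists_el hF B (hmem (l : F) hl (hcoord s).2)
  choose g' hg' using fun s : heis hF B => exists_el hF B (hmem _ hli (hcoord s).2)
  have spec : ∀ (s : heis hF B) (b a : F), IsCoord B (s : SU3) b a →
      IsCoord B (g s : SU3) ((l : F) * b) ((l : F) * l * a) := by
    intro s b a h
    obtain ⟨e1, e2⟩ := IsCoord.unique hF B (hcoord s) h
    rw [← e1, ← e2]
    exact hg s
  have spec' : ∀ (s : heis hF B) (b a : F), IsCoord B (s : SU3) b a →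
      IsCoord B (g' s : SU3) (((l⁻¹ : Fˣ) : F) * b) (((l⁻¹ : Fˣ) : F) * ((l⁻¹ : Fˣ) : F) * a) := by
    intro s b a h
    obtain ⟨e1, e2⟩ := IsCoord.unique hF B (hcoord s) h
    rw [← e1, ← e2]
    exact hg' s
  have hlr : ∀ s, g' (g s) = s := fun s => by
    have h := spec' _ _ _ (hg s)
    refine Subtype.ext (IsCoord.ext hF B h ?_)
    convert hcoord s using 1
    · rw [← mul_assoc, Units.inv_mul, one_mul]
    · rw [show ((l⁻¹ : Fˣ) : F) * ((l⁻¹ : Fˣ) : F) * ((l : F) * l * ac s) =
        (((l⁻¹ : Fˣ) : F) * l) * (((l⁻¹ : Fˣ) : F) * l) * ac s by ring, Units.inv_mul, one_mul, one_mul]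
  have hrl : ∀ s, g (g' s) = s := fun s => by
    have h := spec _ _ _ (hg' s)
    refine Subtype.ext (IsCoord.ext hF B h ?_)
    convert hcoord s using 1
    · rw [← mul_assoc, Units.mul_inv, one_mul]
    · rw [show (l : F) * l * (((l⁻¹ : Fˣ) : F) * ((l⁻¹ : Fˣ) : F) * ac s) =
        ((l : F) * ((l⁻¹ : Fˣ) : F)) * ((l : F) * ((l⁻¹ : Fˣ) : F)) * ac s by ring, Units.mul_inv,
        one_mul, one_mul]
  refine ⟨{ toFun := g, invFun := g', left_inv := hlr, right_inv := hrl, map_mul' := fun s t => ?_ },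
    spec⟩
  refine Subtype.ext (IsCoord.ext hF B (spec _ _ _ ((hcoord s).mul hF B (hcoord t))) ?_)
  show IsCoord B ((g s : SU3) * (g t : SU3)) _ _
  convert (hg s).mul hF B (hg t) using 1
  · ring
  · rw [mul_pow, hl]; ring

theorem isSuzukiTwoGroup (hn : 2 ≤ n) : Cfsg.IsSuzukiTwoGroup (heis hF B) := by
  classical
  refine ⟨inferInstance, isPGroup_heis hF B, ?_, ?_, ?_⟩
  · obtain ⟨a₁, ha₁⟩ := exists_trace_eq hF (norm_fixed hF (1 : F))
    obtain ⟨s, hs⟩ := exists_el hF B ha₁
    by_contra hcon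
    push Not at hcon
    have := (mem_center_iff' hF B hs).1 (Subgroup.mem_center_iff.2 fun t => hcon t s)
    exact one_ne_zero this
  · have hc : 2 < Nat.card (Subgroup.center (heis hF B)) := by
      rw [card_center hF B]
      calc 2 < 2 ^ 2 := by norm_num
        _ ≤ 2 ^ n := Nat.pow_le_pow_right two_pos hn
    haveI : Fintype (Subgroup.center (heis hF B)) := Fintype.ofFinite _
    rw [Nat.card_eq_fintype_card, Fintype.two_lt_card_iff] at hc
    obtain ⟨x, y, z, hxy, hxz, hyz⟩ := hc
    have key : ∀ u v : Subgroup.center (heis hF B), u ≠ v → u ≠ 1 → v ≠ 1 →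
        ∃ x y : heis hF B, x ≠ y ∧ x ≠ 1 ∧ x * x = 1 ∧ y ≠ 1 ∧ y * y = 1 := fun u v huv hu hv =>
      ⟨u, v, fun h => huv (Subtype.ext h), fun h => hu (Subtype.ext h), isPow_two hF B _ u.2,
        fun h => hv (Subtype.ext h), isPow_two hF B _ v.2⟩
    by_cases hx : x = 1
    · exact key y z hyz (fun h => hxy (hx.trans h.symm)) (fun h => hxz (hx.trans h.symm))
    by_cases hy : y = 1
    · exact key x z hxz hx (fun h => hyz (hy.trans h.symm))
    · exact key x y hxy hx hy
  · let L : Subgroup Fˣ :=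
      { carrier := {l | (l : F) ^ q = l}
        one_mem' := by simp
        mul_mem' := fun {x y} hx hy => by
          show ((x * y : Fˣ) : F) ^ q = _
          rw [Units.val_mul, mul_pow, hx, hy]
        inv_mem' := fun {x} hx => by
          show ((x⁻¹ : Fˣ) : F) ^ q = _
          rw [Units.val_inv_eq_inv_val, inv_pow, hx] }
    choose k hk using fun l : L => exists_scale_aut hF B (l : Fˣ) l.2
    have hext : ∀ (φ ψ : MulAut (heis hF B)), (∀ (s : heis hF B) (b a : F), IsCoord B (s : SU3) b a →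
        ∃ b' a', IsCoord B ((φ s : heis hF B) : SU3) b' a' ∧
          IsCoord B ((ψ s : heis hF B) : SU3) b' a') → φ = ψ := fun φ ψ h => MulEquiv.ext fun s => by
      obtain ⟨b, a, hs⟩ := exists_coord hF B s.2
      obtain ⟨b', a', h1, h2⟩ := h s b a hs
      exact Subtype.ext (IsCoord.ext hF B h1 h2)
    let Φ : L →* MulAut (heis hF B) :=
      { toFun := k
        map_one' := hext _ _ fun s b a hs => ⟨_, _, hk 1 s b a hs, by simpa using hs⟩
        map_mul' := fun l m => hext _ _ fun s b a hs => ⟨_, _, hk (l * m) s b a hs, by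
          rw [MulAut.mul_apply]
          convert hk l _ _ _ (hk m s b a hs) using 1
          · push_cast; ring
          · push_cast; ring⟩ }
    refine ⟨Φ.range, isCyclic_of_surjective Φ.rangeRestrict Φ.rangeRestrict_surjective, ?_⟩
    intro x y hx hx2 hy hy2
    obtain ⟨b, a, hxc⟩ := exists_coord hF B x.2
    obtain ⟨b', a', hyc⟩ := exists_coord hF B y.2
    obtain rfl := (mul_self_eq_one hF B hxc).1 hx2
    obtain rfl := (mul_self_eq_one hF B hyc).1 hy2
    have hfix : ∀ {a : F} {s : SU3}, IsCoord B s 0 a → a ^ q = a := fun {a s} hs => by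
      have := hs.2
      rw [zero_mul, add_eq_zero_iff_eq_neg, CharTwo.neg_eq] at this
      exact this.symm
    have ha0 : a ≠ 0 := fun h => hx (Subtype.ext (IsCoord.ext hF B hxc (by rw [h]; exact isCoord_one hF B)))
    have ha0' : a' ≠ 0 := fun h => hy (Subtype.ext (IsCoord.ext hF B hyc (by rw [h]; exact isCoord_one hF B)))
    -- the square root of `a' / a`
    have hinj : Function.Injective (fun t : F => t * t) := fun s t h => by
      have h' : (s + t) * (s + t) = 0 := by
        linear_combination h + CharTwo.add_self_eq_zero (s * t) + CharTwo.add_self_eq_zero (t * t)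
      have := mul_self_eq_zero.1 h'
      rwa [add_eq_zero_iff_eq_neg, CharTwo.neg_eq] at this
    obtain ⟨t, ht⟩ := Finite.surjective_of_injective hinj (a' / a)
    have ht0 : t ≠ 0 := fun h => by
      rw [h] at ht
      simp [ha0, ha0', eq_comm] at ht
    have htq : t ^ q = t := hinj (by
      show t ^ q * t ^ q = t * t
      rw [← mul_pow, show t * t = a' / a from ht, div_pow, hfix hxc, hfix hyc])
    refine ⟨⟨Φ ⟨Units.mk0 t ht0, htq⟩, _, rfl⟩, ?_, ?_⟩
    · refine Subtype.ext (IsCoord.ext hF B (hk _ x 0 a hxc) ?_)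
      convert hyc using 1
      · simp
      · show t * t * a = a'
        rw [show t * t = a' / a from ht, div_mul_cancel₀ _ ha0]
    · rintro ⟨_, l, rfl⟩ hl
      have h1 := hk l x 0 a hxc
      rw [show k l x = y from hl] at h1
      have h2 := (IsCoord.unique hF B hyc h1).2
      have hlt : ((l : Fˣ) : F) = t := hinj (by
        show ((l : Fˣ) : F) * ((l : Fˣ) : F) = t * t
        rw [show t * t = a' / a from ht, h2, mul_div_assoc, div_self ha0, mul_one])
      refine Subtype.ext ?_
      show Φ l = Φ _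
      congr 1
      exact Subtype.ext (Units.ext hlt)

end Cfsg.Agent.Involutions.SylowPSUThree

namespace Cfsg.Agent.Involutions.SylowPSUThree

/-- Suzuki 2-groups are invariant under isomorphism. -/
theorem isSuzukiTwoGroup_congr {P R : Type*} [Group P] [Group R] (e : P ≃* R)
    (h : Cfsg.IsSuzukiTwoGroup P) : Cfsg.IsSuzukiTwoGroup R := by
  obtain ⟨hfin, hp, ⟨x, y, hxy⟩, ⟨u, v, huv, hu, hu2, hv, hv2⟩, K, hK, huniq⟩ := h
  refine ⟨Finite.of_equiv P e.toEquiv, hp.of_equiv e, ⟨e x, e y, fun h => hxy (e.injective ?_)⟩,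
    ⟨e u, e v, fun h => huv (e.injective h), (map_ne_one_iff _ e.injective).2 hu,
      by rw [← map_mul, hu2, map_one], (map_ne_one_iff _ e.injective).2 hv,
      by rw [← map_mul, hv2, map_one]⟩, K.map (MulAut.congr e).toMonoidHom, ?_, ?_⟩
  · rw [map_mul, map_mul, h]
  · exact isCyclic_of_surjective ((MulAut.congr e).toMonoidHom.subgroupMap K)
      (MonoidHom.subgroupMap_surjective _ _)
  intro a b ha ha2 hb hb2
  obtain ⟨x, rfl⟩ := e.surjective a
  obtain ⟨y, rfl⟩ := e.surjective b
  obtain ⟨k, hk, huk⟩ := huniq x y (fun h => ha (by rw [h, map_one]))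
    (e.injective (by rw [map_mul, ha2, map_one])) (fun h => hb (by rw [h, map_one]))
    (e.injective (by rw [map_mul, hb2, map_one]))
  refine ⟨⟨MulAut.congr e k, _, k.2, rfl⟩, ?_, ?_⟩
  · show e ((k : MulAut P) (e.symm (e x))) = e y
    rw [e.symm_apply_apply, hk]
  · rintro ⟨_, k', hk', rfl⟩ h'
    have h1 : e (k' (e.symm (e x))) = e y := h'
    rw [e.symm_apply_apply] at h1
    refine Subtype.ext ?_
    show MulAut.congr e k' = MulAut.congr e k
    rw [show k' = (k : MulAut P) from congrArg Subtype.val (huk ⟨k', hk'⟩ (e.injective h1))]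

end Cfsg.Agent.Involutions.SylowPSUThree
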