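import Mathlib
import Cfsg.Prelude.Def_Involutions
import Cfsg.Agent.Lib.Involutions.StronglyEmbedded
import Cfsg.Agent.Lib.Transfer.Fusion

/-!
# Groups in which all centralisers of involutions are elementary abelian 2-groups
-/

namespace Cfsg.Agent.Involutions.ElementaryCentralizers

open MulAction StronglyEmbedded
open Cfsg.Agent.Involutions.Basic (inv_eq inv_sq_one ne_one orderOf_conj)

variable {G : Type*} [Group G] [Finite G]

/-- The hypotheses. -/
structure Hyp (T : Sylow 2 G) : Prop where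
  not_cyclic : ¬ IsCyclic (T : Subgroup G)
  not_normal : ¬ (T : Subgroup G).Normal
  cent : ∀ t : G, orderOf t = 2 → IsMulCommutative (Subgroup.centralizer ({t} : Set G)) ∧
    ∀ c ∈ Subgroup.centralizer ({t} : Set G), c ^ 2 = 1

variable {T : Sylow 2 G}

/-- The normaliser of `T`. -/
def nH (T : Sylow 2 G) : Subgroup G := Subgroup.normalizer ((T : Subgroup G) : Set G)

theorem le_nH : (T : Subgroup G) ≤ nH T := Subgroup.le_normalizer

theorem odd_ne_one {x : G} (hx : Odd (orderOf x)) (h2 : x * x = 1) : x = 1 :=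
  orderOf_eq_one_iff.1 (Nat.eq_one_of_dvd_coprimes (Nat.coprime_two_right.2 hx) dvd_rfl
    (orderOf_dvd_of_pow_eq_one (by rw [sq, h2])))

theorem Hyp.exists_central (h : Hyp T) : ∃ z ∈ (T : Subgroup G), orderOf z = 2 ∧
    ∀ s ∈ (T : Subgroup G), s * z = z * s := by
  have : Fact (Nat.Prime 2) := ⟨Nat.prime_two⟩
  have : Nontrivial (T : Subgroup G) := by
    by_contra hn
    rw [not_nontrivial_iff_subsingleton] at hn
    exact h.not_cyclic inferInstance
  have : Nontrivial (Subgroup.center (T : Subgroup G)) := T.2.center_nontrivial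
  obtain ⟨k, hk⟩ := IsPGroup.iff_card.1 (T.2.to_subgroup (Subgroup.center (T : Subgroup G)))
  have hk0 : k ≠ 0 := by
    rintro rfl
    rw [pow_zero] at hk
    have := Finite.one_lt_card (α := Subgroup.center (T : Subgroup G))
    omega
  obtain ⟨z, hz⟩ := exists_prime_orderOf_dvd_card' (G := Subgroup.center (T : Subgroup G)) 2
    (hk ▸ dvd_pow_self 2 hk0)
  refine ⟨((z : (T : Subgroup G)) : G), (z : (T : Subgroup G)).2, by
    rw [Subgroup.orderOf_coe, Subgroup.orderOf_coe, hz], fun s hs => ?_⟩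
  exact congrArg Subtype.val (Subgroup.mem_center_iff.1 z.2 ⟨s, hs⟩)

theorem Hyp.sq_T (h : Hyp T) : ∀ s ∈ (T : Subgroup G), s * s = 1 := by
  obtain ⟨z, hz, ho, hc⟩ := h.exists_central
  intro s hs
  rw [← sq]
  exact (h.cent z ho).2 s (Subgroup.mem_centralizer_singleton_iff.2 (hc s hs))

theorem Hyp.comm_T (h : Hyp T) {a b : G} (ha : a ∈ (T : Subgroup G)) (hb : b ∈ (T : Subgroup G)) :
    a * b = b * a := by
  obtain ⟨z, hz, ho, hc⟩ := h.exists_central
  exact congrArg Subtype.val ((h.cent z ho).1.is_comm.comm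
    ⟨a, Subgroup.mem_centralizer_singleton_iff.2 (hc a ha)⟩
    ⟨b, Subgroup.mem_centralizer_singleton_iff.2 (hc b hb)⟩)

theorem Hyp.cent_eq (h : Hyp T) {t : G} (ht : t ∈ (T : Subgroup G)) (ht1 : t ≠ 1) :
    Subgroup.centralizer ({t} : Set G) = (T : Subgroup G) := by
  have ho : orderOf t = 2 := Involutions.Basic.orderOf_two_iff.2 ⟨h.sq_T t ht, ht1⟩
  have hle : (T : Subgroup G) ≤ Subgroup.centralizer ({t} : Set G) := fun s hs =>
    Subgroup.mem_centralizer_singleton_iff.2 (h.comm_T hs ht)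
  exact T.3 (fun c => ⟨1, Subtype.ext (by simpa using (h.cent t ho).2 c c.2)⟩) hle

theorem mem_T_of_inv {t : G} (ht : t ∈ nH T) (ho : orderOf t = 2) : t ∈ (T : Subgroup G) := by
  have hp : IsPGroup 2 (Subgroup.zpowers t) :=
    IsPGroup.of_card (n := 1) (by rw [Nat.card_zpowers, ho, pow_one])
  have hsup := hp.to_sup_of_normal_right' T.2 (Subgroup.zpowers_le.2 ht)
  rw [← T.3 hsup le_sup_right]
  exact Subgroup.mem_sup_left (Subgroup.mem_zpowers t)

theorem Hyp.stronglyEmbedded (h : Hyp T) : Cfsg.IsStronglyEmbedded (nH T) := by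
  refine StronglyEmbedded.of_conj (fun htop => h.not_normal ?_) ?_ ?_
  · exact Subgroup.normalizer_eq_top_iff.1 htop
  · obtain ⟨z, hz, ho, -⟩ := h.exists_central
    rw [even_iff_two_dvd, ← ho, ← Subgroup.orderOf_mk (H := nH T) z (le_nH hz)]
    exact orderOf_dvd_natCard _
  · intro t ht ho g hg
    have hog : orderOf (g * t * g⁻¹) = 2 := by rw [orderOf_conj, ho]
    have h1 := h.cent_eq (mem_T_of_inv ht ho) (ne_one ho)
    have h2 := h.cent_eq (mem_T_of_inv hg hog) (ne_one hog)
    refine Subgroup.mem_normalizer_iff.2 fun s => ?_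
    rw [← SetLike.mem_coe, SetLike.mem_coe]
    conv_rhs => rw [← h2]
    conv_lhs => rw [← h1]
    rw [Subgroup.mem_centralizer_singleton_iff, Subgroup.mem_centralizer_singleton_iff]
    constructor
    · intro hs
      calc g * s * g⁻¹ * (g * t * g⁻¹) = g * (s * t) * g⁻¹ := by group
        _ = g * (t * s) * g⁻¹ := by rw [hs]
        _ = g * t * g⁻¹ * (g * s * g⁻¹) := by group
    · intro hs
      calc s * t = g⁻¹ * (g * s * g⁻¹ * (g * t * g⁻¹)) * g := by group
        _ = g⁻¹ * (g * t * g⁻¹ * (g * s * g⁻¹)) * g := by rw [hs]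
        _ = t * s := by group

theorem Hyp.four_le_card (h : Hyp T) : 4 ≤ Nat.card T := by
  have : Fact (Nat.Prime 2) := ⟨Nat.prime_two⟩
  obtain ⟨k, hk⟩ := IsPGroup.iff_card.1 T.2
  rcases k with _ | _ | k
  · have : Subsingleton (T : Subgroup G) := (Nat.card_eq_one_iff_unique.1 (by simpa using hk)).1
    exact absurd isCyclic_of_subsingleton h.not_cyclic
  · exact absurd (isCyclic_of_prime_card (p := 2) (by simpa using hk)) h.not_cyclic
  · show 4 ≤ Nat.card (T : Subgroup G)
    rw [hk, pow_succ, pow_succ]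
    have := Nat.two_pow_pos k
    omega

/-- The base point. -/
def o (T : Sylow 2 G) : G ⧸ nH T := ((1 : G) : G ⧸ nH T)

theorem smul_mk_eq_iff {g k : G} : g • (k : G ⧸ nH T) = k ↔ k⁻¹ * g * k ∈ nH T := by
  show ((g * k : G) : G ⧸ nH T) = k ↔ _
  rw [eq_comm, QuotientGroup.eq, mul_assoc]

theorem smul_o {g : G} : g • o T = o T ↔ g ∈ nH T := by
  rw [o, smul_mk_eq_iff, inv_one, one_mul, mul_one]

theorem mem_nH_of_smul_eq {g k : G} (hg : g • (k : G ⧸ nH T) = k) : k⁻¹ * g * k ∈ nH T :=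
  smul_mk_eq_iff.1 hg

/-- An odd element commuting with an involution is trivial. -/
theorem Hyp.eq_one_of_commute (h : Hyp T) {x r : G} (hx : Odd (orderOf x)) (hr : orderOf r = 2)
    (hc : Commute x r) : x = 1 :=
  odd_ne_one hx (by rw [← sq]; exact (h.cent r hr).2 x (Subgroup.mem_centralizer_singleton_iff.2 hc.eq))

/-- The stabiliser of two points has odd order. -/
theorem Hyp.odd_two_point (h : Hyp T) {a b : G ⧸ nH T} (hab : a ≠ b) {g : G} (ha : g • a = a)
    (hb : g • b = b) : Odd (orderOf g) := by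
  by_contra hodd
  rw [Nat.not_odd_iff_even] at hodd
  obtain ⟨j, hj⟩ := hodd
  have hpos := orderOf_pos g
  have hr : orderOf (g ^ j) = 2 := by
    rw [orderOf_pow' _ (by omega), hj, show j + j = 2 * j by ring, Nat.gcd_mul_left_left,
      Nat.mul_div_cancel _ (by omega)]
  have ha' : g ^ j • a = a := by
    have : g ^ j ∈ stabilizer G a := pow_mem (mem_stabilizer_iff.2 ha) j
    exact mem_stabilizer_iff.1 this
  have hb' : g ^ j • b = b := by
    have : g ^ j ∈ stabilizer G b := pow_mem (mem_stabilizer_iff.2 hb) j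
    exact mem_stabilizer_iff.1 this
  exact hab ((existsUnique_fixed h.stronglyEmbedded hr).unique ha' hb')

/-- Fixed points of an odd element inverted by an involution are moved by it. -/
theorem Hyp.moves (h : Hyp T) {d r : G} (hd : Odd (orderOf d)) (hd1 : d ≠ 1) (hr : orderOf r = 2)
    (hinv : r * d * r⁻¹ = d⁻¹) {x : G ⧸ nH T} (hx : d • x = x) : r • x ≠ x := by
  intro hrx
  obtain ⟨k, rfl⟩ := QuotientGroup.mk_surjective x
  have h1 := mem_nH_of_smul_eq hx
  have h2 := mem_nH_of_smul_eq hrx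
  set d' := k⁻¹ * d * k
  set r' := k⁻¹ * r * k
  have hr' : orderOf r' = 2 := by
    rw [show r' = k⁻¹ * r * k⁻¹⁻¹ by simp only [r']; group, orderOf_conj, hr]
  have hrT := mem_T_of_inv h2 hr'
  have h3 : d' * r' * d'⁻¹ ∈ (T : Subgroup G) := (Subgroup.mem_normalizer_iff.1 h1 _).1 hrT
  have h4 : r' * (d' * r' * d'⁻¹) = d'⁻¹ * d'⁻¹ := by
    have e : r' * d' * r' = d'⁻¹ := by
      rw [show r' * d' * r' = k⁻¹ * (r * d * r⁻¹) * k by
        rw [inv_eq hr]; simp only [r', d']; group, hinv]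
      simp only [d']; group
    calc r' * (d' * r' * d'⁻¹) = r' * d' * r' * d'⁻¹ := by simp only [mul_assoc]
      _ = _ := by rw [e]
  have h5 : d'⁻¹ * d'⁻¹ ∈ (T : Subgroup G) := h4 ▸ mul_mem hrT h3
  have h6 := h.sq_T _ h5
  have hodd : Odd (orderOf d'⁻¹) := by
    rw [orderOf_inv, show d' = k⁻¹ * d * k⁻¹⁻¹ by simp only [d']; group, orderOf_conj]; exact hd
  have h8 : d'⁻¹ * d'⁻¹ = 1 := odd_ne_one (hodd.of_dvd_nat (by rw [← sq]; exact orderOf_pow_dvd 2)) h6
  have h9 := inv_eq_one.1 (odd_ne_one hodd h8)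
  exact hd1 (by rw [show d = k * d' * k⁻¹ by simp only [d']; group, h9, mul_one, mul_inv_cancel])

/-- The stabiliser of two points. -/
def two (a b : G ⧸ nH T) : Subgroup G := stabilizer G a ⊓ stabilizer G b

theorem mem_two {a b : G ⧸ nH T} {g : G} : g ∈ two a b ↔ g • a = a ∧ g • b = b := Iff.rfl

theorem smul_back {r : G} (hr : orderOf r = 2) {a b : G ⧸ nH T} (hab : r • a = b) : r • b = a := by
  rw [← hab, smul_smul, inv_sq_one hr, one_smul]

theorem Hyp.swap_inverts (h : Hyp T) {a b : G ⧸ nH T} (hne : a ≠ b) {r : G} (hr : orderOf r = 2)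
    (hab : r • a = b) {d : G} (hd : d ∈ two a b) : r * d * r⁻¹ = d⁻¹ := by
  have hba := smul_back hr hab
  have hconj : ∀ x ∈ two a b, r * x * r⁻¹ ∈ two a b := fun x hx => by
    rw [inv_eq hr]
    exact mem_two.2 ⟨by rw [mul_smul, mul_smul, hab, hx.2, hba],
      by rw [mul_smul, mul_smul, hba, hx.1, hab]⟩
  let f : two a b → two a b := fun x => ⟨(x : G)⁻¹ * (r * x * r⁻¹), mul_mem (inv_mem x.2) (hconj _ x.2)⟩
  have hinj : Function.Injective f := by
    rintro ⟨x, hx⟩ ⟨y, hy⟩ hxy
    have e : x⁻¹ * (r * x * r⁻¹) = y⁻¹ * (r * y * r⁻¹) := congrArg Subtype.val hxy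
    have hc : r * (y * x⁻¹) * r⁻¹ = y * x⁻¹ := by
      calc r * (y * x⁻¹) * r⁻¹ = y * (y⁻¹ * (r * y * r⁻¹)) * (r * x * r⁻¹)⁻¹ := by group
        _ = y * (x⁻¹ * (r * x * r⁻¹)) * (r * x * r⁻¹)⁻¹ := by rw [e]
        _ = y * x⁻¹ := by group
    have hm := mul_mem hy (inv_mem hx)
    have h1 := h.eq_one_of_commute (h.odd_two_point hne (mem_two.1 hm).1 (mem_two.1 hm).2) hr
      (show Commute (y * x⁻¹) r from (mul_inv_eq_iff_eq_mul.1 hc).symm)
    exact Subtype.ext (mul_inv_eq_one.1 h1).symm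
  obtain ⟨⟨x, hx⟩, hfx⟩ := (Finite.injective_iff_surjective.1 hinj) ⟨d, hd⟩
  have e : x⁻¹ * (r * x * r⁻¹) = d := congrArg Subtype.val hfx
  rw [← e, inv_eq hr]
  calc r * (x⁻¹ * (r * x * r)) * r = r * x⁻¹ * r * x * (r * r) := by group
    _ = _ := by
      rw [inv_sq_one hr, mul_one, mul_inv_rev, inv_inv, mul_inv_rev, mul_inv_rev, inv_eq hr, ← mul_assoc]

theorem Hyp.two_comm (h : Hyp T) {a b : G ⧸ nH T} (hne : a ≠ b) {r : G} (hr : orderOf r = 2)
    (hab : r • a = b) {x y : G} (hx : x ∈ two a b) (hy : y ∈ two a b) : x * y = y * x := by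
  have h1 := h.swap_inverts hne hr hab hx
  have h2 := h.swap_inverts hne hr hab hy
  have h3 := h.swap_inverts hne hr hab (mul_mem hx hy)
  rw [← conj_mul, h1, h2, mul_inv_rev] at h3
  have := congrArg (fun v => (v)⁻¹) h3
  simpa [mul_inv_rev] using this.symm

/-- There are `|T| - 1` involutions in `H`. -/
theorem Hyp.card_inv_nH (h : Hyp T) :
    Nat.card {t : G // orderOf t = 2 ∧ t ∈ nH T} + 1 = Nat.card T := by
  classical
  have e : {t : G // orderOf t = 2 ∧ t ∈ nH T} ≃ {t : (T : Subgroup G) // t ≠ 1} :=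
    { toFun := fun t => ⟨⟨t.1, mem_T_of_inv t.2.2 t.2.1⟩, fun e =>
        ne_one t.2.1 (congrArg Subtype.val e)⟩
      invFun := fun t => ⟨(t.1 : G), Involutions.Basic.orderOf_two_iff.2
        ⟨h.sq_T _ t.1.2, fun e => t.2 (Subtype.ext e)⟩, le_nH t.1.2⟩
      left_inv := fun t => rfl
      right_inv := fun t => rfl }
  have := Fintype.ofFinite (T : Subgroup G)
  show _ = Nat.card (T : Subgroup G)
  rw [Nat.card_congr e, Nat.card_eq_fintype_card, Nat.card_eq_fintype_card, Fintype.card_subtype_compl,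
    Fintype.card_subtype_eq]
  have : 0 < Fintype.card (T : Subgroup G) := Fintype.card_pos
  omega

theorem Hyp.exists_swap (h : Hyp T) {a b : G ⧸ nH T} (hne : a ≠ b) :
    ∃ r : G, orderOf r = 2 ∧ r • a = b := by
  have h1 := card_swap h.stronglyEmbedded a b hne
  have h2 := h.card_inv_nH
  have h3 := h.four_le_card
  have : Nonempty {i : G // orderOf i = 2 ∧ i • a = b} :=
    (Nat.card_pos_iff.1 (by omega)).1
  obtain ⟨r, hr⟩ := this
  exact ⟨r, hr⟩

theorem Hyp.card_two (h : Hyp T) {a b : G ⧸ nH T} (hne : a ≠ b) :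
    Nat.card (two a b) + 1 = Nat.card T := by
  obtain ⟨r, hr, hab⟩ := h.exists_swap hne
  have hba := smul_back hr hab
  have e : two a b ≃ {i : G // orderOf i = 2 ∧ i • a = b} :=
    { toFun := fun d => ⟨r * d.1, Involutions.Basic.orderOf_two_iff.2 ⟨by
          have h1 := h.swap_inverts hne hr hab d.2
          rw [inv_eq hr] at h1
          rw [← mul_assoc, h1, inv_mul_cancel], fun e => hne (by
            rw [← hab, eq_inv_of_mul_eq_one_left e]
            exact (mem_two.1 (inv_mem d.2)).1.symm)⟩, by rw [mul_smul, d.2.1, hab]⟩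
      invFun := fun i => ⟨r * i.1, mem_two.2 ⟨by rw [mul_smul, i.2.2, hba],
        by rw [mul_smul, smul_back i.2.1 i.2.2, hab]⟩⟩
      left_inv := fun d => Subtype.ext (by show r * (r * d.1) = d.1; rw [← mul_assoc, inv_sq_one hr, one_mul])
      right_inv := fun i => Subtype.ext (by show r * (r * i.1) = i.1; rw [← mul_assoc, inv_sq_one hr, one_mul]) }
  rw [Nat.card_congr e, card_swap h.stronglyEmbedded a b hne, h.card_inv_nH]

theorem two_disjoint (h : Hyp T) {b : G ⧸ nH T} (hb : b ≠ o T) {t : G} (ht : t ∈ (T : Subgroup G))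
    (hfix : t • b = b) : t = 1 :=
  odd_ne_one (h.odd_two_point hb hfix (smul_o.2 (le_nH ht))) (h.sq_T t ht)

theorem two_eq_inter {u : G} :
    nH T ⊓ (nH T).map (MulAut.conj u).toMonoidHom = two (o T) (u • o T) := by
  ext g
  rw [Subgroup.mem_inf, mem_two, smul_o, Transfer.Fusion.mem_map_conj]
  have : u • o T = ((u : G) : G ⧸ nH T) := by rw [o]; show ((u * 1 : G) : G ⧸ nH T) = _; rw [mul_one]
  rw [this, smul_mk_eq_iff]

theorem Hyp.factor (h : Hyp T) {b : G ⧸ nH T} (hb : b ≠ o T) {g : G} (hg : g ∈ nH T) :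
    ∃ d ∈ two (o T) b, ∃ t ∈ (T : Subgroup G), d * t = g := by
  obtain ⟨r, hr, hab⟩ := h.exists_swap (Ne.symm hb)
  have hrH : r ∉ nH T := fun hr' => hb (hab.symm.trans (smul_o.2 hr'))
  obtain ⟨z, hz, hoz, -⟩ := h.exists_central
  obtain ⟨d, hd, hd2⟩ := exists_conj_in_inter h.stronglyEmbedded hr hrH hoz (le_nH hz)
    (t := g * z * g⁻¹) (by rw [orderOf_conj, hoz]) (mul_mem (mul_mem hg (le_nH hz)) (inv_mem hg))
  rw [two_eq_inter, hab] at hd
  refine ⟨d, hd, d⁻¹ * g, ?_, mul_inv_cancel_left d g⟩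
  rw [← h.cent_eq hz (ne_one hoz), Subgroup.mem_centralizer_singleton_iff]
  calc d⁻¹ * g * z = d⁻¹ * (g * z * g⁻¹) * g := by group
    _ = d⁻¹ * (d * z * d⁻¹) * g := by rw [hd2]
    _ = z * (d⁻¹ * g) := by group

theorem Hyp.exists_ne (h : Hyp T) (a : G ⧸ nH T) : ∃ b, b ≠ a := by
  by_contra hall
  push Not at hall
  obtain ⟨u, hu, -⟩ := exists_involution_notMem h.stronglyEmbedded
  exact hu (smul_o.1 ((hall _).trans (hall (o T)).symm))

theorem Hyp.card_nH (h : Hyp T) :
    Nat.card (nH T) = Nat.card T * (Nat.card T - 1) := by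
  obtain ⟨b, hb⟩ := h.exists_ne (o T)
  have h2 := h.card_two (Ne.symm hb)
  let f : two (o T) b × (T : Subgroup G) → nH T := fun p =>
    ⟨(p.1 : G) * p.2, mul_mem (smul_o.1 p.1.2.1) (le_nH p.2.2)⟩
  have hf : Function.Bijective f := by
    refine ⟨fun p q hpq => ?_, fun ⟨g, hg⟩ => ?_⟩
    · have e : (p.1 : G) * p.2 = q.1 * q.2 := congrArg Subtype.val hpq
      have e' : (q.1 : G)⁻¹ * p.1 = q.2 * (p.2 : G)⁻¹ := by
        calc (q.1 : G)⁻¹ * p.1 = (q.1 : G)⁻¹ * (p.1 * p.2) * (p.2 : G)⁻¹ := by group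
          _ = _ := by rw [e]; group
      have hm : (q.1 : G)⁻¹ * p.1 ∈ two (o T) b := mul_mem (inv_mem q.1.2) p.1.2
      have h1 := two_disjoint h hb (e' ▸ mul_mem q.2.2 (inv_mem p.2.2)) hm.2
      rw [inv_mul_eq_one] at h1
      refine Prod.ext (Subtype.ext h1.symm) (Subtype.ext ?_)
      rw [h1] at e
      exact mul_left_cancel e
    · obtain ⟨d, hd, t, ht, e⟩ := h.factor hb hg
      exact ⟨(⟨d, hd⟩, ⟨t, ht⟩), Subtype.ext e⟩
  rw [← Nat.card_eq_of_bijective f hf, Nat.card_prod, mul_comm]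
  congr 1
  omega

theorem Hyp.card_stabilizer (h : Hyp T) (a : G ⧸ nH T) :
    Nat.card (stabilizer G a) = Nat.card T * (Nat.card T - 1) := by
  obtain ⟨k, rfl⟩ := QuotientGroup.mk_surjective a
  rw [← h.card_nH]
  refine Nat.card_congr
    { toFun := fun g => ⟨k⁻¹ * g * k, mem_nH_of_smul_eq g.2⟩
      invFun := fun g => ⟨k * g * k⁻¹, smul_mk_eq_iff.2 (by
        rw [show k⁻¹ * (k * (g : G) * k⁻¹) * k = g by group]; exact g.2)⟩
      left_inv := fun g => Subtype.ext (by show k * (k⁻¹ * (g : G) * k) * k⁻¹ = g; group)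
      right_inv := fun g => Subtype.ext (by show k⁻¹ * (k * (g : G) * k⁻¹) * k = g; group) }

/-- A nontrivial element fixing `a` and `b` has centraliser `two a b` in the stabiliser of `a`. -/
theorem Hyp.cent_stab (h : Hyp T) {a b : G ⧸ nH T} (hne : a ≠ b) {d : G} (hd : d ∈ two a b)
    (hd1 : d ≠ 1) : Subgroup.centralizer ({d} : Set G) ⊓ stabilizer G a = two a b := by
  obtain ⟨r, hr, hab⟩ := h.exists_swap hne
  symm
  refine Subgroup.eq_of_le_of_card_ge (fun x hx => ⟨Subgroup.mem_centralizer_singleton_iff.2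
    (h.two_comm hne hr hab hx hd), hx.1⟩) ?_
  set X := Subgroup.centralizer ({d} : Set G) ⊓ stabilizer G a
  have hq := h.four_le_card
  have hodd : Nat.Coprime (Nat.card X) (Nat.card T) := by
    have : Fact (Nat.Prime 2) := ⟨Nat.prime_two⟩
    obtain ⟨k, hk⟩ := IsPGroup.iff_card.1 T.2
    show Nat.Coprime (Nat.card X) (Nat.card (T : Subgroup G))
    rw [hk]
    refine Nat.Coprime.pow_right k (Nat.coprime_two_right.2 (Nat.not_even_iff_odd.1 fun he => ?_))
    obtain ⟨x, hx⟩ := exists_prime_orderOf_dvd_card' (G := X) 2 he.two_dvd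
    have hox : orderOf (x : G) = 2 := by rw [Subgroup.orderOf_coe, hx]
    exact hd1 (h.eq_one_of_commute (h.odd_two_point hne hd.1 hd.2) hox
      (show Commute d (x : G) from (Subgroup.mem_centralizer_singleton_iff.1 x.2.1).symm))
  have hdvd : Nat.card X ∣ Nat.card T * (Nat.card T - 1) :=
    h.card_stabilizer a ▸ Subgroup.card_dvd_of_le inf_le_right
  have h2 := h.card_two hne
  have := Nat.le_of_dvd (by omega) (hodd.dvd_of_dvd_mul_left hdvd)
  omega

theorem Hyp.two_eq_of_fixed (h : Hyp T) {a b c : G ⧸ nH T} (hab : a ≠ b) (hac : a ≠ c) {d : G}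
    (hd : d ∈ two a b) (hd1 : d ≠ 1) (hdc : d • c = c) : two a c = two a b := by
  rw [← h.cent_stab hab hd hd1, ← h.cent_stab hac (mem_two.2 ⟨hd.1, hdc⟩) hd1]

/-- A nontrivial element fixing two points fixes no other. -/
theorem Hyp.fixed_two (h : Hyp T) {a b c : G ⧸ nH T} (hab : a ≠ b) {d : G} (hd : d ∈ two a b)
    (hd1 : d ≠ 1) (hdc : d • c = c) : c = a ∨ c = b := by
  classical
  have := Fintype.ofFinite G
  have := Fintype.ofFinite (G ⧸ nH T)
  have hq := h.four_le_card
  have hdodd := h.odd_two_point hab hd.1 hd.2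
  obtain ⟨r₀, hr₀, hr₀ab⟩ := h.exists_swap hab
  have hr₀d := h.swap_inverts hab hr₀ hr₀ab hd
  set F : Finset (G ⧸ nH T) := Finset.univ.filter fun x => d • x = x with hF
  have hmemF : ∀ x, x ∈ F ↔ d • x = x := fun x => by simp [hF]
  have hfour : ∀ x ∈ F, ∀ y ∈ F, x ≠ y → two x y = two a b := by
    intro x hx y hy hxy
    rw [hmemF] at hx hy
    have hall : ∀ z, d • z = z → two a b ≤ stabilizer G z := fun z hz => by
      by_cases haz : a = z
      · rw [← haz]; exact inf_le_left
      · rw [← h.two_eq_of_fixed hab haz hd hd1 hz]; exact inf_le_right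
    refine (Subgroup.eq_of_le_of_card_ge (le_inf (hall x hx) (hall y hy)) ?_).symm
    have := h.card_two hab
    have := h.card_two hxy
    exact le_of_eq (show Nat.card (two x y) = Nat.card (two a b) by omega)
  set C := Subgroup.centralizer ({d} : Set G) with hC
  have hCodd : ∀ c ∈ C, Odd (orderOf c) := by
    intro c hc
    by_contra he
    rw [Nat.not_odd_iff_even] at he
    obtain ⟨j, hj⟩ := he
    have hpos := orderOf_pos c
    have ho : orderOf (c ^ j) = 2 := by
      rw [orderOf_pow' _ (by omega), hj, show j + j = 2 * j by ring, Nat.gcd_mul_left_left,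
        Nat.mul_div_cancel _ (by omega)]
    exact hd1 (h.eq_one_of_commute hdodd ho
      (show Commute d (c ^ j) from (Subgroup.mem_centralizer_singleton_iff.1 (pow_mem hc j)).symm))
  -- `r₀` inverts the centraliser
  have hinv : ∀ c ∈ C, r₀ * c * r₀⁻¹ = c⁻¹ := by
    have hconj : ∀ c ∈ C, r₀ * c * r₀⁻¹ ∈ C := fun c hc => by
      rw [hC, Subgroup.mem_centralizer_singleton_iff]
      have hc' : c * d⁻¹ = d⁻¹ * c :=
        ((show Commute c d from Subgroup.mem_centralizer_singleton_iff.1 hc).inv_right).eq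
      have hrd : r₀ * d⁻¹ * r₀⁻¹ = d := by
        rw [show r₀ * d⁻¹ * r₀⁻¹ = (r₀ * d * r₀⁻¹)⁻¹ by group, hr₀d, inv_inv]
      conv_lhs => arg 2; rw [← hrd]
      conv_rhs => arg 1; rw [← hrd]
      rw [conj_mul, conj_mul, hc']
    let f : C → C := fun c => ⟨(c : G)⁻¹ * (r₀ * c * r₀⁻¹), mul_mem (inv_mem c.2) (hconj _ c.2)⟩
    have hinj : Function.Injective f := by
      rintro ⟨x, hx⟩ ⟨y, hy⟩ hxy
      have e : x⁻¹ * (r₀ * x * r₀⁻¹) = y⁻¹ * (r₀ * y * r₀⁻¹) := congrArg Subtype.val hxy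
      have hc : r₀ * (y * x⁻¹) * r₀⁻¹ = y * x⁻¹ := by
        calc r₀ * (y * x⁻¹) * r₀⁻¹ = y * (y⁻¹ * (r₀ * y * r₀⁻¹)) * (r₀ * x * r₀⁻¹)⁻¹ := by group
          _ = y * (x⁻¹ * (r₀ * x * r₀⁻¹)) * (r₀ * x * r₀⁻¹)⁻¹ := by rw [e]
          _ = y * x⁻¹ := by group
      have h1 := h.eq_one_of_commute (hCodd _ (mul_mem hy (inv_mem hx))) hr₀
        (show Commute (y * x⁻¹) r₀ from (mul_inv_eq_iff_eq_mul.1 hc).symm)
      exact Subtype.ext (mul_inv_eq_one.1 h1).symm
    intro c hc
    obtain ⟨⟨x, hx⟩, hfx⟩ := (Finite.injective_iff_surjective.1 hinj) ⟨c, hc⟩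
    have e : x⁻¹ * (r₀ * x * r₀⁻¹) = c := congrArg Subtype.val hfx
    rw [← e, inv_eq hr₀]
    calc r₀ * (x⁻¹ * (r₀ * x * r₀)) * r₀ = r₀ * x⁻¹ * r₀ * x * (r₀ * r₀) := by group
      _ = _ := by
        rw [inv_sq_one hr₀, mul_one, mul_inv_rev, inv_inv, mul_inv_rev, mul_inv_rev, inv_eq hr₀,
          ← mul_assoc]
  -- the involutions inverting `d`
  let R := {r : G // orderOf r = 2 ∧ r * d * r⁻¹ = d⁻¹}
  have eR : C ≃ R :=
    { toFun := fun c => ⟨r₀ * c.1, Involutions.Basic.orderOf_two_iff.2 ⟨by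
          have h1 := hinv _ c.2
          rw [inv_eq hr₀] at h1
          rw [← mul_assoc, h1, inv_mul_cancel], fun e => hd1 (h.eq_one_of_commute hdodd hr₀ (by
            have h2 : r₀ ∈ C := by rw [eq_inv_of_mul_eq_one_left e]; exact inv_mem c.2
            exact (Subgroup.mem_centralizer_singleton_iff.1 h2).symm))⟩, by
          rw [show r₀ * c.1 * d * (r₀ * c.1)⁻¹ = r₀ * (c.1 * d * c.1⁻¹) * r₀⁻¹ by group,
            Subgroup.mem_centralizer_singleton_iff.1 c.2, mul_inv_cancel_right, hr₀d]⟩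
      invFun := fun r => ⟨r₀ * r.1, by
        rw [hC, Subgroup.mem_centralizer_singleton_iff]
        refine mul_inv_eq_iff_eq_mul.1 ?_
        rw [show r₀ * r.1 * d * (r₀ * r.1)⁻¹ = r₀ * (r.1 * d * r.1⁻¹) * r₀⁻¹ by group, r.2.2,
          show r₀ * d⁻¹ * r₀⁻¹ = (r₀ * d * r₀⁻¹)⁻¹ by group, hr₀d, inv_inv]⟩
      left_inv := fun c => Subtype.ext (by
        show r₀ * (r₀ * c.1) = c.1; rw [← mul_assoc, inv_sq_one hr₀, one_mul])
      right_inv := fun r => Subtype.ext (by
        show r₀ * (r₀ * r.1) = r.1; rw [← mul_assoc, inv_sq_one hr₀, one_mul]) }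
  have hRF : ∀ r : R, ∀ x ∈ F, r.1 • x ∈ F ∧ r.1 • x ≠ x := by
    intro r x hx
    rw [hmemF] at hx ⊢
    refine ⟨?_, h.moves hdodd hd1 r.2.1 r.2.2 hx⟩
    have e : d * r.1 = r.1 * d⁻¹ := by
      have h1 : r.1 * d * r.1 = d⁻¹ := by
        have h2 := r.2.2
        rwa [inv_eq r.2.1] at h2
      calc d * r.1 = r.1 * r.1 * d * r.1 := by rw [inv_sq_one r.2.1, one_mul]
        _ = r.1 * (r.1 * d * r.1) := by simp only [mul_assoc]
        _ = _ := by rw [h1]
    rw [smul_smul, e, mul_smul, inv_smul_eq_iff.2 hx.symm]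
  let P := {p : F × F // p.1 ≠ p.2}
  have eP : R × F ≃ Σ p : P, {i : G // orderOf i = 2 ∧ i • (p.1.1 : G ⧸ nH T) = p.1.2} :=
    { toFun := fun z => ⟨⟨(z.2, ⟨z.1.1 • (z.2 : G ⧸ nH T), (hRF z.1 _ z.2.2).1⟩),
        fun e => (hRF z.1 _ z.2.2).2 (congrArg Subtype.val e).symm⟩, z.1.1, z.1.2.1, rfl⟩
      invFun := fun z => (⟨z.2.1, z.2.2.1, h.swap_inverts (fun e => z.1.2 (Subtype.ext e)) z.2.2.1
        z.2.2.2 (hfour _ z.1.1.1.2 _ z.1.1.2.2 (fun e => z.1.2 (Subtype.ext e)) ▸ hd)⟩, z.1.1.1)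
      left_inv := fun z => rfl
      right_inv := by
        rintro ⟨⟨⟨x, ⟨y, hy⟩⟩, hxy⟩, i, hi, hiy⟩
        change i • (x : G ⧸ nH T) = y at hiy
        subst hiy
        rfl }
  have hcount := Nat.card_congr eP
  rw [Nat.card_prod, ← Nat.card_congr eR, Nat.card_sigma, Finset.sum_congr rfl (fun p _ => by
    show _ = Nat.card T - 1
    rw [card_swap h.stronglyEmbedded _ _ (fun e => p.2 (Subtype.ext e))]
    have := h.card_inv_nH
    omega), Finset.sum_const, Finset.card_univ, smul_eq_mul, Nat.card_eq_fintype_card (α := F),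
    Fintype.card_coe] at hcount
  have hP : Fintype.card P + F.card = F.card * F.card := by
    have e := Fintype.card_subtype_compl (fun p : F × F => p.1 = p.2)
    have hdiag : Fintype.card {p : F × F // p.1 = p.2} = F.card := by
      rw [← Fintype.card_coe]
      exact Fintype.card_congr
        { toFun := fun p => p.1.1
          invFun := fun x => ⟨(x, x), rfl⟩
          left_inv := fun p => Subtype.ext (Prod.ext rfl p.2)
          right_inv := fun x => rfl }
    change Fintype.card P = _ at e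
    rw [e, hdiag, Fintype.card_prod, Fintype.card_coe]
    have : F.card ≤ F.card * F.card := Nat.le_mul_self _
    omega
  have haF : a ∈ F := (hmemF a).2 hd.1
  have hbF : b ∈ F := (hmemF b).2 hd.2
  have hf2 : 2 ≤ F.card := Finset.one_lt_card.2 ⟨a, haF, b, hbF, hab⟩
  have hCcard : Nat.card C = (F.card - 1) * (Nat.card T - 1) := by
    obtain ⟨g, hg⟩ : ∃ g, F.card = g + 2 := ⟨F.card - 2, by omega⟩
    have h1 : Fintype.card P = (g + 1) * (g + 2) := by
      rw [hg] at hP; nlinarith [hP]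
    rw [h1, hg] at hcount
    rw [hg, show g + 2 - 1 = g + 1 from rfl]
    exact Nat.eq_of_mul_eq_mul_left (show 0 < g + 2 by omega) (by nlinarith [hcount])
  -- orbits of the centraliser on `F`
  have horb : ∀ x ∈ F, (orbit C x).ncard = F.card - 1 := by
    intro x hx
    obtain ⟨y, hy, hxy⟩ : ∃ y ∈ F, x ≠ y := by
      by_cases e : x = a
      · exact ⟨b, hbF, e ▸ hab⟩
      · exact ⟨a, haF, e⟩
    have hdxy : d ∈ two x y := mem_two.2 ⟨(hmemF x).1 hx, (hmemF y).1 hy⟩
    have hst : Nat.card (stabilizer C x) + 1 = Nat.card T := by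
      rw [← h.card_two hxy, ← h.cent_stab hxy hdxy hd1]
      congr 1
      exact Nat.card_congr
        { toFun := fun c => ⟨((c : C) : G), (c : C).2, mem_stabilizer_iff.2 (show ((c : C) : G) • x = x from c.2)⟩
          invFun := fun g => ⟨⟨g.1, g.2.1⟩, mem_stabilizer_iff.2 (show g.1 • x = x from g.2.2)⟩
          left_inv := fun c => rfl
          right_inv := fun g => rfl }
    rw [← index_stabilizer C x]
    have hmul := (stabilizer C x).card_mul_index
    rw [hCcard, show Nat.card (stabilizer C x) = Nat.card T - 1 by omega, mul_comm (F.card - 1)] at hmul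
    exact Nat.eq_of_mul_eq_mul_left (by omega) hmul
  have horbF : ∀ x ∈ F, orbit C x ⊆ ↑F := by
    rintro x hx _ ⟨c, rfl⟩
    rw [Finset.mem_coe, hmemF] at *
    show d • ((c : G) • x) = (c : G) • x
    rw [smul_smul, ← Subgroup.mem_centralizer_singleton_iff.1 c.2, mul_smul, hx]
  have hfle : F.card ≤ 2 := by
    obtain ⟨z, hz, hzo⟩ : ∃ z ∈ F, z ∉ orbit C a := by
      by_contra hall
      push Not at hall
      have h1 : (F : Set (G ⧸ nH T)) ⊆ orbit C a := fun z hz => hall z hz
      have h2 := Set.ncard_le_ncard h1 (Set.toFinite _)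
      rw [Set.ncard_coe_finset, horb a haF] at h2
      omega
    have hdis : Disjoint (orbit C a) (orbit C z) := by
      rw [Set.disjoint_left]
      intro w hw1 hw2
      exact hzo ((orbit_eq_iff.2 hw1).symm.trans (orbit_eq_iff.2 hw2) ▸ mem_orbit_self z)
    have h2 := Set.ncard_le_ncard (Set.union_subset (horbF a haF) (horbF z hz)) (Set.toFinite _)
    rw [Set.ncard_coe_finset, Set.ncard_union_eq hdis, horb a haF, horb z hz] at h2
    omega
  by_contra hne
  push Not at hne
  have h3 : ({a, b, c} : Finset (G ⧸ nH T)) ⊆ F := by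
    intro x hx
    simp only [Finset.mem_insert, Finset.mem_singleton] at hx
    rcases hx with rfl | rfl | rfl
    exacts [haF, hbF, (hmemF _).2 hdc]
  have h4 := Finset.card_le_card h3
  rw [Finset.card_eq_three.2 ⟨a, b, c, hab, hne.1.symm, hne.2.symm, rfl⟩] at h4
  omega

/-- The point stabilisers contain `|T| - 1` involutions. -/
theorem Hyp.card_inv_fix (h : Hyp T) (a : G ⧸ nH T) :
    Nat.card {i : G // orderOf i = 2 ∧ i • a = a} + 1 = Nat.card T := by
  obtain ⟨k, rfl⟩ := QuotientGroup.mk_surjective a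
  rw [← h.card_inv_nH]
  congr 1
  refine Nat.card_congr (Equiv.subtypeEquiv (MulAut.conj k⁻¹).toEquiv fun i => ?_)
  simp only [MulEquiv.toEquiv_eq_coe, MulEquiv.coe_toEquiv, MulAut.conj_apply, inv_inv]
  rw [smul_mk_eq_iff, show k⁻¹ * i * k = k⁻¹ * i * k⁻¹⁻¹ by rw [inv_inv], orderOf_conj]

theorem Hyp.le_card_sub_one (h : Hyp T) : Nat.card T + 1 ≤ Nat.card (G ⧸ nH T) := by
  classical
  have := Fintype.ofFinite (G ⧸ nH T)
  have := Fintype.ofFinite (T : Subgroup G)
  obtain ⟨b, hb⟩ := h.exists_ne (o T)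
  let f : Option (T : Subgroup G) → G ⧸ nH T := fun t => t.elim (o T) fun t => (t : G) • b
  have hf : Function.Injective f := by
    have hne : ∀ t : (T : Subgroup G), (t : G) • b ≠ o T := fun t e => hb (by
      rw [← one_smul G b, ← inv_mul_cancel (t : G), mul_smul, e]
      exact smul_o.2 (inv_mem (le_nH t.2)))
    rintro (_ | s) (_ | t) e
    · rfl
    · exact absurd e.symm (hne t)
    · exact absurd e (hne s)
    · have e' : (s : G) • b = (t : G) • b := e
      have h1 := two_disjoint h hb (mul_mem (inv_mem t.2) s.2) (by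
        rw [mul_smul, e', smul_smul, inv_mul_cancel, one_smul])
      rw [inv_mul_eq_one] at h1
      exact congrArg some (Subtype.ext h1.symm)
  have h1 := Fintype.card_le_of_injective f hf
  rw [Fintype.card_option] at h1
  show Nat.card (T : Subgroup G) + 1 ≤ _
  rw [Nat.card_eq_fintype_card, Nat.card_eq_fintype_card]
  exact h1

theorem arith_bound {n q N e0 e2 iv pairs : ℕ} (hn : n = N + 1) (hq : 4 ≤ q)
    (hiv : iv + n = n * q) (he2 : 2 * e2 + 2 * (n * N) = n * N * q)
    (hsum : 1 + iv + e2 + e0 + n * q ≤ n * (q * q))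
    (hpairs : pairs + iv * q = iv * iv + iv) (hbound : pairs + e2 ≤ e2 * q + e0 * n) :
    N ≤ q := by
  obtain ⟨r, rfl⟩ : ∃ r, q = r + 4 := ⟨q - 4, by omega⟩
  subst hn
  have hiv' : iv = (N + 1) * (r + 3) := by nlinarith [hiv]
  subst hiv'
  have hp : pairs = (N + 1) * (r + 3) * (N * (r + 3)) := by nlinarith [hpairs]
  subst hp
  have he2' : 2 * e2 = (N + 1) * N * (r + 2) := by nlinarith [he2]
  have hA : (N + 1) * (N * ((r + 3) * (r + 4))) ≤ (N + 1) * (2 * e0) := by nlinarith [hbound, he2']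
  have hB : N * ((r + 3) * (r + 4)) ≤ 2 * e0 := Nat.le_of_mul_le_mul_left hA (by omega)
  have hC : 2 * e0 + 2 + (N + 1) * N * (r + 2) ≤ 2 * ((N + 1) * ((r + 3) * (r + 3))) := by
    nlinarith [hsum, he2']
  by_contra hlt
  obtain ⟨d, rfl⟩ : ∃ d, N = r + 4 + 1 + d := ⟨N - (r + 4 + 1), by omega⟩
  nlinarith [hB, hC, Nat.zero_le d, Nat.zero_le r, Nat.zero_le (r * r), Nat.zero_le (r * d),
    Nat.zero_le (d * d), Nat.zero_le (r * r * d), Nat.zero_le (r * d * d), Nat.zero_le (r * r * r)]

theorem Hyp.card_sub_one_le (h : Hyp T) : Nat.card (G ⧸ nH T) ≤ Nat.card T + 1 := by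
  classical
  have := Fintype.ofFinite G
  have := Fintype.ofFinite (G ⧸ nH T)
  have hq := h.four_le_card
  set q := Nat.card T with hqdef
  set n := Nat.card (G ⧸ nH T) with hndef
  have hnF : Fintype.card (G ⧸ nH T) = n := (Nat.card_eq_fintype_card).symm
  have hn1 : 1 ≤ n := Nat.card_pos
  let F : G → Finset (G ⧸ nH T) := fun g => Finset.univ.filter fun x => g • x = x
  have hF : ∀ g x, x ∈ F g ↔ g • x = x := fun g x => by simp [F]
  have hF2 : ∀ g : G, g ≠ 1 → (F g).card ≤ 2 := by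
    intro g hg
    by_contra hlt
    obtain ⟨a, b, c, ha, hb, hc, hab, hac, hbc⟩ := Finset.two_lt_card_iff.1 (not_le.1 hlt)
    rcases h.fixed_two hab (mem_two.2 ⟨(hF g a).1 ha, (hF g b).1 hb⟩) hg ((hF g c).1 hc) with e | e
    · exact hac e.symm
    · exact hbc e.symm
  let I := Finset.univ.filter fun g : G => orderOf g = 2
  let E0 := Finset.univ.filter fun g : G => g ≠ 1 ∧ (F g).card = 0
  let E2 := Finset.univ.filter fun g : G => g ≠ 1 ∧ (F g).card = 2
  have hIF : ∀ g, orderOf g = 2 → (F g).card = 1 := by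
    intro g hg
    obtain ⟨c, hc, hu⟩ := existsUnique_fixed h.stronglyEmbedded hg
    exact Finset.card_eq_one.2 ⟨c, Finset.ext fun x => by
      rw [hF, Finset.mem_singleton]; exact ⟨fun e => hu x e, fun e => e ▸ hc⟩⟩
  have hfix : ∀ a : G ⧸ nH T, (I.filter fun i => i • a = a).card + 1 = q := by
    intro a
    rw [hqdef, ← h.card_inv_fix a, Nat.card_eq_fintype_card, Fintype.card_subtype]
    congr 2
    ext i
    simp [I]
  have hIn : I.card + n = n * q := by
    have e : I.card = ∑ a : G ⧸ nH T, (I.filter fun i => i • a = a).card := by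
      simp only [Finset.card_filter _ I]
      rw [Finset.sum_comm, Finset.card_eq_sum_ones]
      refine Finset.sum_congr rfl fun i hi => ?_
      have h1 := hIF i (Finset.mem_filter.1 hi).2
      simp only [F, Finset.card_filter] at h1
      exact h1.symm
    have e2 : (∑ a : G ⧸ nH T, (I.filter fun i => i • a = a).card) + n = n * q := by
      have h2 : ∀ a : G ⧸ nH T, (I.filter fun i => i • a = a).card = q - 1 := fun a => by
        have := hfix a
        omega
      rw [Finset.sum_congr rfl (fun a _ => h2 a), Finset.sum_const, Finset.card_univ, hnF,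
        smul_eq_mul, ← Nat.mul_succ]
      congr 1
      omega
    omega
  -- elements with two fixed points
  have hE2 : 2 * E2.card + 2 * (n * (n - 1)) = n * (n - 1) * q := by
    let S := Finset.univ.filter fun z : G × ((G ⧸ nH T) × (G ⧸ nH T)) =>
      z.1 ≠ 1 ∧ z.2 ∈ (F z.1).offDiag
    let O := (Finset.univ : Finset (G ⧸ nH T)).offDiag
    have h1 : S.card = 2 * E2.card := by
      rw [Finset.card_eq_sum_card_fiberwise (f := Prod.fst) (t := Finset.univ)
        (fun z _ => Finset.mem_univ z.1), mul_comm, ← smul_eq_mul, ← Finset.sum_const,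
        Finset.sum_filter]
      refine Finset.sum_congr rfl fun g _ => ?_
      have e : (S.filter fun z => z.1 = g) =
          (if g ≠ 1 then (F g).offDiag else ∅).map ⟨Prod.mk g, Prod.mk_right_injective g⟩ := by
        ext ⟨g', p⟩
        simp only [S, Finset.mem_filter, Finset.mem_univ, true_and, Finset.mem_map,
          Function.Embedding.coeFn_mk]
        constructor
        · rintro ⟨⟨h1, h2⟩, rfl⟩
          exact ⟨p, by rw [if_pos h1]; exact h2, rfl⟩
        · rintro ⟨p', hp', e⟩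
          obtain ⟨rfl, rfl⟩ := Prod.mk.injEq .. ▸ e
          split_ifs at hp' with hg
          · exact ⟨⟨hg, hp'⟩, rfl⟩
          · simp at hp'
      rw [e, Finset.card_map]
      by_cases hg : g ≠ 1
      · rw [if_pos hg, Finset.offDiag_card]
        have := hF2 g hg
        generalize hc : (F g).card = c at *
        interval_cases c <;> simp [hg]
      · simp [hg]
    have h2 : S.card + 2 * O.card = O.card * q := by
      have e : ∀ p ∈ O, (S.filter fun z => z.2 = p).card + 2 = q := by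
        intro p hp
        rw [Finset.mem_offDiag] at hp
        rw [hqdef, ← h.card_two hp.2.2, Nat.card_eq_fintype_card]
        have h3 : (S.filter fun z => z.2 = p).card =
            ((two p.1 p.2 : Set G).toFinset.erase 1).card := by
          refine Finset.card_bij (fun z _ => z.1) ?_ ?_ ?_
          · rintro ⟨g, r⟩ hz
            simp only [S, Finset.mem_filter, Finset.mem_univ, true_and, Finset.mem_offDiag, hF] at hz
            obtain ⟨⟨hg, h4, h5, -⟩, rfl⟩ := hz
            simp [hg, mem_two, h4, h5]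
          · rintro ⟨g, r⟩ hz ⟨g', r'⟩ hz' rfl
            simp only [Finset.mem_filter] at hz hz'
            exact Prod.ext rfl (hz.2.trans hz'.2.symm)
          · intro g hg
            simp only [Finset.mem_erase, Set.mem_toFinset, SetLike.mem_coe, mem_two] at hg
            exact ⟨(g, p), by simp [S, hF, hg.1, hg.2.1, hg.2.2, hp.2.2], rfl⟩
        rw [h3, Finset.card_erase_of_mem (by simp [one_mem]), Set.toFinset_card]
        have : 0 < Fintype.card (two p.1 p.2) := Fintype.card_pos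
        have e : Fintype.card ((two p.1 p.2 : Set G)) = Fintype.card (two p.1 p.2) :=
          Fintype.card_congr (Equiv.refl _)
        omega
      rw [Finset.card_eq_sum_card_fiberwise (f := Prod.snd) (t := O) (fun z hz => by
          simp only [S, Finset.mem_coe, Finset.mem_filter, Finset.mem_offDiag] at hz
          simp [O, hz.2.2.2.2]), mul_comm 2, ← smul_eq_mul, ← Finset.sum_const,
        ← Finset.sum_add_distrib, Finset.sum_congr rfl e, Finset.sum_const, smul_eq_mul]
    rw [Finset.offDiag_card, Finset.card_univ, hnF] at h2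
    rw [show n * (n - 1) = n * n - n by rw [Nat.mul_sub_one]]
    omega
  -- the partition
  have hpart : 1 + I.card + E2.card + E0.card + n * q ≤ n * (q * q) := by
    have hG : Fintype.card G + n * q = n * (q * q) := by
      rw [← Nat.card_eq_fintype_card, ← (nH T).card_mul_index, h.card_nH, Subgroup.index,
        ← hndef, ← hqdef]
      obtain ⟨r, hr⟩ : ∃ r, q = r + 1 := ⟨q - 1, by omega⟩
      rw [hr]
      simp only [Nat.add_sub_cancel]
      ring
    have hd1 : Disjoint I E2 := Finset.disjoint_filter.2 fun g _ hg hg' => by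
      have := hIF g hg; omega
    have hd0 : Disjoint (I ∪ E2) E0 := by
      rw [Finset.disjoint_union_left]
      exact ⟨Finset.disjoint_filter.2 fun g _ hg hg' => by have := hIF g hg; omega,
        Finset.disjoint_filter.2 fun g _ hg hg' => by omega⟩
    have hd : Disjoint (I ∪ E2 ∪ E0) ({1} : Finset G) := by simp [I, E0, E2]
    have := Finset.card_le_univ (I ∪ E2 ∪ E0 ∪ {1})
    rw [Finset.card_union_of_disjoint hd, Finset.card_union_of_disjoint hd0,
      Finset.card_union_of_disjoint hd1, Finset.card_singleton] at this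
    omega
  -- pairs of involutions
  let Q := (I ×ˢ I).filter fun z => ∀ a : G ⧸ nH T, z.1 • a = a → z.2 • a ≠ a
  have hmI : ∀ {g}, g ∈ I → orderOf g = 2 := fun hg => (Finset.mem_filter.1 hg).2
  have hQ : Q.card + I.card * q = I.card * I.card + I.card := by
    have e : ∀ s ∈ I, (Q.filter fun z => z.1 = s).card + q = I.card + 1 := by
      intro s hs
      obtain ⟨c, hc, hu⟩ := existsUnique_fixed h.stronglyEmbedded (hmI hs)
      have e1 : (Q.filter fun z => z.1 = s).card = (I.filter fun i => ¬ i • c = c).card := by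
        refine Finset.card_bij (fun z _ => z.2) ?_ ?_ ?_
        · rintro ⟨x, y⟩ hz
          simp only [Q, Finset.mem_filter, Finset.mem_product] at hz
          obtain ⟨⟨⟨-, hy⟩, h1⟩, rfl⟩ := hz
          exact Finset.mem_filter.2 ⟨hy, h1 c hc⟩
        · rintro ⟨x, y⟩ hz ⟨x', y'⟩ hz' rfl
          simp only [Finset.mem_filter] at hz hz'
          exact Prod.ext (hz.2.trans hz'.2.symm) rfl
        · intro i hi
          rw [Finset.mem_filter] at hi
          refine ⟨(s, i), Finset.mem_filter.2 ⟨Finset.mem_filter.2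
            ⟨Finset.mem_product.2 ⟨hs, hi.1⟩, fun a ha => ?_⟩, rfl⟩, rfl⟩
          rw [hu a ha]
          exact hi.2
      have := hfix c
      have := Finset.card_filter_add_card_filter_not (s := I) (fun i => i • c = c)
      omega
    have h1 := Finset.sum_congr rfl e
    have hQc : Q.card = ∑ s ∈ I, (Q.filter fun z => z.1 = s).card :=
      Finset.card_eq_sum_card_fiberwise (fun z hz =>
        (Finset.mem_product.1 (Finset.mem_filter.1 hz).1).1)
    rw [Finset.sum_add_distrib, Finset.sum_const, Finset.sum_const, smul_eq_mul, smul_eq_mul,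
      ← hQc] at h1
    rw [h1]; ring
  have hprod : ∀ z ∈ Q, z.1 * (z.1 * z.2) * z.1⁻¹ = (z.1 * z.2)⁻¹ ∧
      ∀ a : G ⧸ nH T, z.1 • a = a → (z.1 * z.2) • a ≠ a := by
    rintro ⟨s, t⟩ hz
    simp only [Q, Finset.mem_filter, Finset.mem_product] at hz
    obtain ⟨⟨hs, ht⟩, hne⟩ := hz
    refine ⟨Involutions.Basic.conj_prod_left (hmI hs) (hmI ht), fun a ha e => hne a ha ?_⟩
    rwa [mul_smul, ← eq_inv_smul_iff, inv_eq (hmI hs), ha] at e
  have hmaps : ∀ z ∈ Q, z.1 * z.2 ∈ E2 ∪ E0 := by
    intro z hz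
    obtain ⟨hinv, hmv⟩ := hprod z hz
    have hs := hmI (Finset.mem_product.1 (Finset.mem_filter.1 hz).1).1
    obtain ⟨c, hc, -⟩ := existsUnique_fixed h.stronglyEmbedded hs
    have h1 : z.1 * z.2 ≠ 1 := fun e => hmv c hc (by rw [e, one_smul])
    have h2 : (F (z.1 * z.2)).card ≠ 1 := by
      intro e
      obtain ⟨a, ha⟩ := Finset.card_eq_one.1 e
      have hxa : (z.1 * z.2) • a = a := (hF _ a).1 (by simp [ha])
      have hxa' : (z.1 * z.2)⁻¹ • a = a := inv_smul_eq_iff.2 hxa.symm
      have h3 : (z.1 * z.2) • (z.1⁻¹ • a) = z.1⁻¹ • a := by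
        rw [← hinv, mul_smul, mul_smul] at hxa'
        exact eq_inv_smul_iff.2 hxa'
      have h4 : z.1⁻¹ • a = a := Finset.mem_singleton.1 (ha ▸ (hF _ _).2 h3)
      rw [inv_eq hs] at h4
      exact hmv a h4 hxa
    have h3 := hF2 _ h1
    simp only [E2, E0, Finset.mem_union, Finset.mem_filter, Finset.mem_univ, true_and, h1, ne_eq,
      not_false_eq_true]
    omega
  have hfib2 : ∀ x ∈ E2, (Q.filter fun z => z.1 * z.2 = x).card + 1 ≤ q := by
    intro x hx
    obtain ⟨hx1, hx2⟩ := (Finset.mem_filter.1 hx).2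
    obtain ⟨a, b, hab, e⟩ := Finset.card_eq_two.1 hx2
    rw [hqdef, ← h.card_inv_nH, ← card_swap h.stronglyEmbedded a b hab, Nat.card_eq_fintype_card,
      Fintype.card_subtype]
    refine Nat.add_le_add_right (Finset.card_le_card_of_injOn (fun z => z.1) ?_ ?_) 1
    · intro z hz
      simp only [Finset.coe_filter, Set.mem_ofPred_eq] at hz ⊢
      obtain ⟨hzQ, rfl⟩ := hz
      obtain ⟨hinv, hmv⟩ := hprod z hzQ
      have hs := hmI (Finset.mem_product.1 (Finset.mem_filter.1 hzQ).1).1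
      have ha : (z.1 * z.2) • a = a := (hF _ a).1 (by simp [e])
      refine ⟨Finset.mem_univ _, hs, ?_⟩
      have ha' : (z.1 * z.2)⁻¹ • a = a := inv_smul_eq_iff.2 ha.symm
      rw [← hinv, mul_smul, mul_smul] at ha'
      have h3 : z.1⁻¹ • a ∈ F (z.1 * z.2) := (hF _ _).2 (eq_inv_smul_iff.2 ha')
      rw [e, Finset.mem_insert, Finset.mem_singleton, inv_eq hs] at h3
      exact h3.resolve_left fun h4 => hmv a h4 ha
    · rintro ⟨s, t⟩ hz ⟨s', t'⟩ hz' rfl
      simp only [Finset.coe_filter, Set.mem_ofPred_eq] at hz hz'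
      exact Prod.ext rfl (mul_left_cancel (hz.2.trans hz'.2.symm))
  have hfib0 : ∀ x ∈ E0, (Q.filter fun z => z.1 * z.2 = x).card ≤ n := by
    intro x hx
    obtain ⟨hx1, hx0⟩ := (Finset.mem_filter.1 hx).2
    rw [← hnF, ← Finset.card_univ]
    refine Finset.card_le_card_of_forall_subsingleton (fun z (c : G ⧸ nH T) => z.1 • c = c) ?_ ?_
    · intro z hz
      obtain ⟨c, hc, -⟩ := existsUnique_fixed h.stronglyEmbedded
        (hmI (Finset.mem_product.1 (Finset.mem_filter.1 (Finset.mem_filter.1 hz).1).1).1)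
      exact ⟨c, Finset.mem_univ c, hc⟩
    · rintro c - ⟨s, t⟩ ⟨hz, hc⟩ ⟨s', t'⟩ ⟨hz', hc'⟩
      rw [Finset.mem_filter] at hz hz'
      have hs := hmI (Finset.mem_product.1 (Finset.mem_filter.1 hz.1).1).1
      have hs' := hmI (Finset.mem_product.1 (Finset.mem_filter.1 hz'.1).1).1
      have hi := (hprod _ hz.1).1
      have hi' := (hprod _ hz'.1).1
      simp only at hz hz' hi hi' hc hc'
      rw [hz.2] at hi
      rw [hz'.2] at hi'
      have hss : s = s' := by
        by_contra hne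
        obtain ⟨k, rfl⟩ := QuotientGroup.mk_surjective c
        have hk : orderOf (k⁻¹ * s * k) = 2 := by
          rw [show k⁻¹ * s * k = k⁻¹ * s * k⁻¹⁻¹ by group, orderOf_conj, hs]
        have hk' : orderOf (k⁻¹ * s' * k) = 2 := by
          rw [show k⁻¹ * s' * k = k⁻¹ * s' * k⁻¹⁻¹ by group, orderOf_conj, hs']
        have hm := h.sq_T _ (mul_mem (mem_T_of_inv (smul_mk_eq_iff.1 hc) hk)
          (mem_T_of_inv (smul_mk_eq_iff.1 hc') hk'))
        have ho : orderOf (s * s') = 2 := Involutions.Basic.orderOf_two_iff.2 ⟨by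
            have h5 : k⁻¹ * (s * s' * (s * s')) * k = k⁻¹ * 1 * k := by
              rw [mul_one, inv_mul_cancel, ← hm]; group
            exact mul_left_cancel (mul_right_cancel h5),
          fun e => hne (by rw [eq_inv_of_mul_eq_one_left e, inv_eq hs'])⟩
        have hcomm : (s * s') * x = x * (s * s') := by
          rw [← mul_inv_eq_iff_eq_mul]
          calc s * s' * x * (s * s')⁻¹ = s * (s' * x * s'⁻¹) * s⁻¹ := by group
            _ = (s * x * s⁻¹)⁻¹ := by rw [hi']; group
            _ = x := by rw [hi, inv_inv]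
        have hssc : (s * s') • (k : G ⧸ nH T) = k := by rw [mul_smul, hc', hc]
        have hxc : (s * s') • (x • (k : G ⧸ nH T)) = x • (k : G ⧸ nH T) := by
          rw [smul_smul, hcomm, mul_smul, hssc]
        have h6 := (existsUnique_fixed h.stronglyEmbedded ho).unique hxc hssc
        rw [Finset.card_eq_zero] at hx0
        exact Finset.notMem_empty _ (hx0 ▸ (hF _ _).2 h6)
      subst hss
      exact Prod.ext rfl (mul_left_cancel (hz.2.trans hz'.2.symm))
  have hbound : Q.card + E2.card ≤ E2.card * q + E0.card * n := by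
    have hd02 : Disjoint E2 E0 := Finset.disjoint_filter.2 fun g _ hg hg' => by omega
    have hsplit : Q.card = ∑ x ∈ E2, (Q.filter fun z => z.1 * z.2 = x).card +
        ∑ x ∈ E0, (Q.filter fun z => z.1 * z.2 = x).card := by
      rw [← Finset.sum_union hd02]
      exact Finset.card_eq_sum_card_fiberwise hmaps
    rw [hsplit]
    have h1 : ∑ x ∈ E2, ((Q.filter fun z => z.1 * z.2 = x).card + 1) ≤ E2.card * q := by
      simpa using Finset.sum_le_card_nsmul E2 _ q hfib2
    have h2 : ∑ x ∈ E0, (Q.filter fun z => z.1 * z.2 = x).card ≤ E0.card * n := by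
      simpa using Finset.sum_le_card_nsmul E0 _ n hfib0
    rw [Finset.sum_add_distrib, Finset.sum_const, smul_eq_mul, mul_one] at h1
    omega
  have := arith_bound (show n = n - 1 + 1 by omega) hq hIn hE2 hpart hQ hbound
  omega

theorem Hyp.card_points (h : Hyp T) : Nat.card (G ⧸ nH T) = Nat.card T + 1 :=
  le_antisymm h.card_sub_one_le h.le_card_sub_one

end Cfsg.Agent.Involutions.ElementaryCentralizers
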