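import Mathlib
import Cfsg.Prelude.Def_Involutions
import Cfsg.Agent.Lib.Involutions.ElementaryCentralizers
import Cfsg.Agent.Lib.Classical.SmallIso
import Cfsg.Agent.Lib.Classical.GL2

/-!
# Groups with elementary abelian centralisers of involutions are `PSL₂(2 ^ n)`
-/

namespace Cfsg.Agent.Involutions.ElementaryCentralizers

open MulAction StronglyEmbedded
open Cfsg.Agent.Involutions.Basic (inv_eq inv_sq_one ne_one orderOf_conj)

variable {G : Type*} [Group G] [Finite G] {T : Sylow 2 G}

theorem Hyp.exists_translate (h : Hyp T) {b z : G ⧸ nH T} (hb : b ≠ o T) (hz : z ≠ o T) :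
    ∃ t ∈ (T : Subgroup G), t • b = z := by
  classical
  let f : ↥(T : Subgroup G) → {z : G ⧸ nH T // z ≠ o T} := fun t => ⟨(t : G) • b, fun e => hb (by
    calc b = (t : G)⁻¹ • ((t : G) • b) := (inv_smul_smul _ _).symm
      _ = (t : G)⁻¹ • o T := by rw [e]
      _ = _ := smul_o.2 (inv_mem (le_nH t.2)))⟩
  have hf : Function.Injective f := by
    intro s t e
    have e' : (s : G) • b = (t : G) • b := congrArg Subtype.val e
    have h1 := two_disjoint h hb (mul_mem (inv_mem t.2) s.2) (by rw [mul_smul, e', inv_smul_smul])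
    exact Subtype.ext (inv_mul_eq_one.1 h1).symm
  have hcard : Nat.card (T : Subgroup G) = Nat.card {z : G ⧸ nH T // z ≠ o T} := by
    have := Fintype.ofFinite (G ⧸ nH T)
    rw [Nat.card_eq_fintype_card (α := {z : G ⧸ nH T // z ≠ o T}), Fintype.card_subtype_compl,
      Fintype.card_subtype_eq, ← Nat.card_eq_fintype_card, h.card_points]
    exact (Nat.add_sub_cancel _ _).symm
  obtain ⟨t, ht⟩ := ((Nat.bijective_iff_injective_and_card f).2 ⟨hf, hcard⟩).2 ⟨z, hz⟩
  exact ⟨t, t.2, congrArg Subtype.val ht⟩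

theorem conj_mem_T {d t : G} (hd : d ∈ nH T) (ht : t ∈ (T : Subgroup G)) :
    d * t * d⁻¹ ∈ (T : Subgroup G) :=
  (Subgroup.mem_normalizer_iff.1 hd t).1 ht

/-- A field whose additive group is `T`, multiplication being conjugation by a two point stabiliser. -/
theorem Hyp.exists_field.{v} {G : Type v} [Group G] [Finite G] {T : Sylow 2 G} (h : Hyp T)
    {b : G ⧸ nH T} (hb : b ≠ o T) {e : G}
    (he : e ∈ (T : Subgroup G)) (he1 : e ≠ 1) :
    ∃ (K : Type v) (_ : Field K) (φ : K ≃ ↥(T : Subgroup G)),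
      (∀ x y : K, φ (x + y) = φ x * φ y) ∧ φ 0 = 1 ∧ ((φ 1 : ↥(T : Subgroup G)) : G) = e ∧
      (∀ z, z ≠ 0 → ∃ d ∈ two (o T) b, d * e * d⁻¹ = (φ z : G)) ∧
      ∀ d ∈ two (o T) b, ∀ z, d * e * d⁻¹ = (φ z : G) →
        ∀ y, d * (φ y : G) * d⁻¹ = (φ (z * y) : G) := by
  classical
  obtain ⟨r, hr, hab⟩ := h.exists_swap (Ne.symm hb)
  have hrH : r ∉ nH T := fun hr' => hb (hab.symm.trans (smul_o.2 hr'))
  have hoe : orderOf e = 2 := Involutions.Basic.orderOf_two_iff.2 ⟨h.sq_T e he, he1⟩
  have hDH : ∀ d ∈ two (o T) b, d ∈ nH T := fun d hd => smul_o.1 hd.1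
  have hexd : ∀ x : ↥(T : Subgroup G), x ≠ 1 → ∃ d ∈ two (o T) b, d * e * d⁻¹ = x := by
    intro x hx
    have hox : orderOf (x : G) = 2 := Involutions.Basic.orderOf_two_iff.2
      ⟨h.sq_T _ x.2, fun e' => hx (Subtype.ext e')⟩
    obtain ⟨d, hd, hd2⟩ := exists_conj_in_inter h.stronglyEmbedded hr hrH hoe (le_nH he) hox
      (le_nH x.2)
    rw [two_eq_inter, hab] at hd
    exact ⟨d, hd, hd2⟩
  have huniq : ∀ d ∈ two (o T) b, ∀ d' ∈ two (o T) b, d * e * d⁻¹ = d' * e * d'⁻¹ → d = d' := by
    intro d hd d' hd' hdd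
    have hm : d'⁻¹ * d ∈ two (o T) b := mul_mem (inv_mem hd') hd
    have hc : d'⁻¹ * d ∈ (T : Subgroup G) := by
      rw [← h.cent_eq he he1, Subgroup.mem_centralizer_singleton_iff]
      calc d'⁻¹ * d * e = d'⁻¹ * (d * e * d⁻¹) * d := by group
        _ = d'⁻¹ * (d' * e * d'⁻¹) * d := by rw [hdd]
        _ = _ := by group
    exact (inv_mul_eq_one.1 (two_disjoint h hb hc hm.2)).symm
  choose dd hddm hdde using hexd
  have hne1 : ∀ (d : G), ∀ (ht : d * e * d⁻¹ ∈ (T : Subgroup G)),
      (⟨_, ht⟩ : ↥(T : Subgroup G)) ≠ 1 := fun d ht e' => he1 (by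
    have e'' : d * e * d⁻¹ = 1 := congrArg Subtype.val e'
    calc e = d⁻¹ * (d * e * d⁻¹) * d := by group
      _ = 1 := by rw [e'']; group)
  let m : ↥(T : Subgroup G) → ↥(T : Subgroup G) → ↥(T : Subgroup G) := fun x y =>
    if hx : x = 1 then 1 else ⟨dd x hx * y * (dd x hx)⁻¹, conj_mem_T (hDH _ (hddm x hx)) y.2⟩
  have hm_one : ∀ y, m 1 y = 1 := fun y => dif_pos rfl
  have hm_val : ∀ x (hx : x ≠ 1) y, (m x y : G) = dd x hx * y * (dd x hx)⁻¹ := fun x hx y => by
    simp only [m, dif_neg hx]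
  have hm_one_right : ∀ x, m x 1 = 1 := by
    intro x
    by_cases hx : x = 1
    · rw [hx, hm_one]
    · exact Subtype.ext (by rw [hm_val x hx]; simp)
  have hm_mul : ∀ x y z, m x (y * z) = m x y * m x z := by
    intro x y z
    by_cases hx : x = 1
    · simp [hx, hm_one]
    · exact Subtype.ext (by
        rw [Subgroup.coe_mul, hm_val x hx, hm_val x hx, hm_val x hx, Subgroup.coe_mul]; group)
  have hcommD : ∀ {x y : G}, x ∈ two (o T) b → y ∈ two (o T) b → x * y = y * x :=
    fun hx hy => h.two_comm (Ne.symm hb) hr hab hx hy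
  have hm_comm : ∀ x y, m x y = m y x := by
    intro x y
    by_cases hx : x = 1
    · rw [hx, hm_one, hm_one_right]
    by_cases hy : y = 1
    · rw [hy, hm_one, hm_one_right]
    refine Subtype.ext ?_
    rw [hm_val x hx, hm_val y hy]
    conv_lhs => rw [← hdde y hy]
    conv_rhs => rw [← hdde x hx]
    calc dd x hx * (dd y hy * e * (dd y hy)⁻¹) * (dd x hx)⁻¹
        = dd x hx * dd y hy * e * (dd x hx * dd y hy)⁻¹ := by group
      _ = dd y hy * dd x hx * e * (dd y hy * dd x hx)⁻¹ := by rw [hcommD (hddm x hx) (hddm y hy)]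
      _ = _ := by group
  have hm_ne : ∀ x y, x ≠ 1 → y ≠ 1 → m x y ≠ 1 := by
    intro x y hx hy e'
    have e'' : (m x y : G) = 1 := congrArg Subtype.val e'
    rw [hm_val x hx] at e''
    exact hy (Subtype.ext (by
      calc (y : G) = (dd x hx)⁻¹ * (dd x hx * y * (dd x hx)⁻¹) * dd x hx := by group
        _ = 1 := by rw [e'']; group))
  have hm_assoc : ∀ x y z, m (m x y) z = m x (m y z) := by
    intro x y z
    by_cases hx : x = 1
    · simp [hx, hm_one]
    by_cases hy : y = 1
    · simp [hy, hm_one, hm_one_right]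
    refine Subtype.ext ?_
    have hxy := hm_ne x y hx hy
    have hd : dd (m x y) hxy = dd x hx * dd y hy := huniq _ (hddm _ hxy) _
      (mul_mem (hddm x hx) (hddm y hy)) (by
        rw [hdde, hm_val x hx]
        conv_lhs => rw [← hdde y hy]
        group)
    rw [hm_val _ hxy, hm_val x hx, hm_val y hy, hd]
    group
  let eT : ↥(T : Subgroup G) := ⟨e, he⟩
  have heT : eT ≠ 1 := fun e' => he1 (congrArg Subtype.val e')
  have hd_e : dd eT heT = 1 := huniq _ (hddm _ heT) _ (one_mem _) (by rw [hdde]; group; rfl)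
  have hm_e : ∀ y, m eT y = y := fun y => Subtype.ext (by rw [hm_val _ heT, hd_e]; group)
  have hcommT : ∀ x y : ↥(T : Subgroup G), x * y = y * x := fun x y => Subtype.ext (h.comm_T x.2 y.2)
  let _addInst : AddCommGroup (Additive ↥(T : Subgroup G)) :=
    { (inferInstance : AddGroup (Additive ↥(T : Subgroup G))) with
      add_comm := fun x y => hcommT x y }
  let cr : CommRing (Additive ↥(T : Subgroup G)) :=
    { _addInst with
      mul := fun x y => Additive.ofMul (m x.toMul y.toMul)
      one := Additive.ofMul eT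
      mul_assoc := fun x y z => hm_assoc x.toMul y.toMul z.toMul
      one_mul := fun x => hm_e x.toMul
      mul_one := fun x => (hm_comm _ _).trans (hm_e x.toMul)
      left_distrib := fun x y z => hm_mul x.toMul y.toMul z.toMul
      right_distrib := fun x y z => show m (x.toMul * y.toMul) z.toMul =
          m x.toMul z.toMul * m y.toMul z.toMul by
        rw [hm_comm, hm_mul, hm_comm z.toMul, hm_comm z.toMul]
      zero_mul := fun x => hm_one x.toMul
      mul_zero := fun x => hm_one_right x.toMul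
      mul_comm := fun x y => hm_comm x.toMul y.toMul }
  have hfield : @IsField (Additive ↥(T : Subgroup G)) cr.toSemiring :=
    { exists_pair_ne := ⟨Additive.ofMul eT, 0, heT⟩
      mul_comm := fun x y => hm_comm x.toMul y.toMul
      mul_inv_cancel := fun {x} hx => by
        have hx' : x.toMul ≠ 1 := hx
        have hmem := conj_mem_T (hDH _ (inv_mem (hddm _ hx'))) he
        refine ⟨Additive.ofMul ⟨(dd x.toMul hx')⁻¹ * e * (dd x.toMul hx')⁻¹⁻¹, hmem⟩, ?_⟩
        refine Subtype.ext (a1 := m x.toMul _) (a2 := eT) ?_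
        rw [hm_val _ hx']
        show dd x.toMul hx' * ((dd x.toMul hx')⁻¹ * e * (dd x.toMul hx')⁻¹⁻¹) * (dd x.toMul hx')⁻¹ = e
        group }
  refine ⟨Additive ↥(T : Subgroup G), @IsField.toField (Additive ↥(T : Subgroup G)) cr.toRing hfield,
    Additive.toMul, fun x y => rfl, rfl, rfl, fun z hz => ?_, fun d hd z hdz y => ?_⟩
  · exact ⟨dd z.toMul hz, hddm _ hz, hdde _ hz⟩
  · have hz' : z.toMul ≠ 1 := fun e' => hne1 d (conj_mem_T (hDH d hd) he) (Subtype.ext (by
      rw [← e']; exact hdz))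
    show d * (y.toMul : G) * d⁻¹ = (m z.toMul y.toMul : G)
    rw [hm_val _ hz', huniq d hd _ (hddm _ hz') (hdz.trans (hdde _ hz').symm)]

open scoped LinearAlgebra.Projectivization MatrixGroups in
/-- `G` is the projective special linear group of degree two over a field of order `|T|`. -/
theorem Hyp.exists_pslTwo.{v} {G : Type v} [Group G] [Finite G] {T : Sylow 2 G} (h : Hyp T) :
    ∃ (K : Type v) (_ : Field K) (_ : Fintype K),
    Fintype.card K = Nat.card T ∧ Nat.card T % 2 = 0 ∧
      Nonempty (G ≃* Matrix.ProjectiveSpecialLinearGroup (Fin 2) K) := by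
  classical
  obtain ⟨b, hb⟩ := h.exists_ne (o T)
  obtain ⟨u, hu, hub⟩ := h.exists_swap (Ne.symm hb)
  have hubo : u • b = o T := smul_back hu hub
  obtain ⟨c, hc, -⟩ := existsUnique_fixed h.stronglyEmbedded hu
  have hco : c ≠ o T := by rintro rfl; exact hb (hub.symm.trans hc)
  have hcb : c ≠ b := by rintro rfl; exact hb (hc.symm.trans hubo)
  obtain ⟨e, he, hec⟩ := h.exists_translate hb hco
  have he1 : e ≠ 1 := by rintro rfl; exact hcb (by rw [← hec, one_smul])
  obtain ⟨K, iF, φ, hadd, hzero, hone, hexd, hmul⟩ := h.exists_field hb he he1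
  have : Finite K := Finite.of_equiv _ φ.symm
  have := Fintype.ofFinite K
  have hK : Fintype.card K = Nat.card T := by
    rw [← Nat.card_eq_fintype_card]; exact Nat.card_congr φ
  have htwo : ∀ x : K, x + x = 0 := fun x => φ.injective (by
    rw [hadd, hzero]; exact Subtype.ext (h.sq_T _ (φ x).2))
  have : CharP K 2 :=
    CharTwo.of_one_ne_zero_of_two_eq_zero one_ne_zero (by rw [← one_add_one_eq_two]; exact htwo 1)
  have heven : Nat.card T % 2 = 0 := by
    rw [← hK]; exact FiniteField.even_card_iff_char_two.1 ((ringChar.eq K 2).symm ▸ rfl)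
  refine ⟨K, iF, ‹_›, hK, heven, ?_⟩
  -- the projective line
  let F : (Fin 2 → K) → G ⧸ nH T := fun v => if v 1 = 0 then o T else (φ (v 0 / v 1) : G) • b
  let π : ℙ K (Fin 2 → K) → G ⧸ nH T := fun p => F p.rep
  have hπ : ∀ (v : Fin 2 → K) (hv : v ≠ 0), π (Projectivization.mk K v hv) = F v := by
    intro v hv
    obtain ⟨a, ha⟩ := Projectivization.exists_smul_eq_mk_rep K v hv
    show F (Projectivization.mk K v hv).rep = F v
    rw [← ha]
    simp only [F, Units.smul_def, Pi.smul_apply, smul_eq_mul, mul_eq_zero, Units.ne_zero, false_or,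
      mul_div_mul_left _ _ (Units.ne_zero a)]
  have hφo : ∀ x : K, (φ x : G) • b ≠ o T := fun x e' => hb (by
    calc b = (φ x : G)⁻¹ • ((φ x : G) • b) := (inv_smul_smul _ _).symm
      _ = (φ x : G)⁻¹ • o T := by rw [e']
      _ = _ := smul_o.2 (inv_mem (le_nH (φ x).2)))
  have hφinj : ∀ x y : K, (φ x : G) • b = (φ y : G) • b → x = y := fun x y e' => φ.injective (by
    have h1 := two_disjoint h hb (mul_mem (inv_mem (φ y).2) (φ x).2) (by
      rw [mul_smul, e', inv_smul_smul])
    exact Subtype.ext (inv_mul_eq_one.1 h1).symm)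
  have hπinj : Function.Injective π := by
    intro p p'
    induction p using Projectivization.ind with | _ v hv =>
    induction p' using Projectivization.ind with | _ w hw =>
    rw [hπ, hπ]
    intro e'
    rw [Projectivization.mk_eq_mk_iff']
    simp only [F] at e'
    split_ifs at e' with h1 h2 h2
    · have hw0 : w 0 ≠ 0 := fun h0 => hw (by ext i; fin_cases i <;> assumption)
      refine ⟨v 0 / w 0, ?_⟩
      ext i; fin_cases i <;> simp [h1, h2, div_mul_cancel₀ _ hw0]
    · exact absurd e'.symm (hφo _)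
    · exact absurd e' (hφo _)
    · refine ⟨v 1 / w 1, ?_⟩
      have e'' := hφinj _ _ e'
      ext i; fin_cases i
      · simp only [Pi.smul_apply, smul_eq_mul, Fin.zero_eta]
        rw [div_eq_div_iff h1 h2] at e''
        field_simp
        linear_combination -e''
      · simp [div_mul_cancel₀ _ h2]
  have hπbij : Function.Bijective π := by
    refine (Nat.bijective_iff_injective_and_card π).2 ⟨hπinj, ?_⟩
    rw [Classical.SmallIso.natCard_projectivization_two, h.card_points, hK]
  let πe := Equiv.ofBijective π hπbij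
  -- elements of `G` realised by matrices
  let S : Subgroup G :=
    { carrier := {g | ∃ M : SL(2, K), ∀ p, π (M • p) = g • π p}
      one_mem' := ⟨1, fun p => by rw [one_smul, one_smul]⟩
      mul_mem' := fun {g g'} ⟨M, hM⟩ ⟨M', hM'⟩ => ⟨M * M', fun p => by
        rw [mul_smul, hM, hM', mul_smul]⟩
      inv_mem' := fun {g} ⟨M, hM⟩ => ⟨M⁻¹, fun p => by
        rw [eq_inv_smul_iff, ← hM, smul_inv_smul]⟩ }
  have hF : ∀ {M : SL(2, K)} {g : G}, (∀ v : Fin 2 → K, v ≠ 0 →
      F ((M : Matrix (Fin 2) (Fin 2) K).mulVec v) = g • F v) → g ∈ S := by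
    intro M g hg
    refine ⟨M, fun p => ?_⟩
    induction p using Projectivization.ind with | _ v hv =>
    rw [hπ, ← hg v hv]
    exact hπ _ _
  have hT : ∀ t ∈ (T : Subgroup G), t ∈ S := by
    intro t ht
    obtain ⟨a, ha⟩ := φ.surjective ⟨t, ht⟩
    have ha' : (φ a : G) = t := congrArg Subtype.val ha
    refine hF (M := ⟨!![1, a; 0, 1], by simp [Matrix.det_fin_two]⟩) fun v hv => ?_
    simp only [F, Matrix.mulVec, dotProduct, Fin.sum_univ_two, Matrix.of_apply, Matrix.cons_val_zero,
      Matrix.cons_val_one, one_mul, zero_mul, zero_add]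
    by_cases h1 : v 1 = 0
    · rw [if_pos h1, if_pos h1]
      exact (smul_o.2 (le_nH ht)).symm
    · rw [if_neg h1, if_neg h1, add_div, mul_div_assoc, div_self h1, mul_one, add_comm, hadd,
        Subgroup.coe_mul, ha', mul_smul]
  have hsq : ∀ z : K, ∃ s, s * s = z := fun z => by
    obtain ⟨s, hs⟩ := FiniteField.isSquare_of_char_two (ringChar.eq K 2) z
    exact ⟨s, hs.symm⟩
  have hD : ∀ d ∈ two (o T) b, d ∈ S := by
    intro d hd
    obtain ⟨z, hz⟩ := φ.surjective ⟨d * e * d⁻¹, conj_mem_T (smul_o.1 hd.1) he⟩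
    have hz' : d * e * d⁻¹ = (φ z : G) := (congrArg Subtype.val hz).symm
    have hz0 : z ≠ 0 := fun h0 => he1 (by
      rw [h0, hzero, Subgroup.coe_one] at hz'
      calc e = d⁻¹ * (d * e * d⁻¹) * d := by group
        _ = 1 := by rw [hz']; group)
    obtain ⟨s, hs⟩ := hsq z
    have hs0 : s ≠ 0 := fun h0 => hz0 (by rw [← hs, h0, mul_zero])
    refine hF (M := ⟨!![s, 0; 0, s⁻¹], by simp [Matrix.det_fin_two, hs0]⟩) fun v hv => ?_
    simp only [F, Matrix.mulVec, dotProduct, Fin.sum_univ_two, Matrix.of_apply, Matrix.cons_val_zero,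
      Matrix.cons_val_one, zero_mul, zero_add, add_zero]
    by_cases h1 : v 1 = 0
    · rw [if_pos h1, if_pos (by rw [h1, mul_zero]), hd.1]
    · rw [if_neg h1, if_neg (mul_ne_zero (inv_ne_zero hs0) h1)]
      have e1 : s * v 0 / (s⁻¹ * v 1) = z * (v 0 / v 1) := by rw [← hs]; field_simp
      rw [e1, ← hmul d hd z hz', mul_smul, mul_smul]
      have hdb : d⁻¹ • b = b := (inv_mem hd : d⁻¹ ∈ two (o T) b).2
      rw [hdb]
  have huS : u ∈ S := by
    refine hF (M := ⟨!![0, 1; 1, 0], by
      simp [Matrix.det_fin_two, CharTwo.neg_eq]⟩) fun v hv => ?_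
    simp only [F, Matrix.mulVec, dotProduct, Fin.sum_univ_two, Matrix.of_apply, Matrix.cons_val_zero,
      Matrix.cons_val_one, one_mul, zero_mul, zero_add, add_zero]
    by_cases h1 : v 1 = 0
    · have h0 : v 0 ≠ 0 := fun h0 => hv (by ext i; fin_cases i <;> assumption)
      rw [if_neg h0, if_pos h1, h1, zero_div, hzero, Subgroup.coe_one, one_smul, hub]
    by_cases h0 : v 0 = 0
    · rw [if_pos h0, if_neg h1, h0, zero_div, hzero, Subgroup.coe_one, one_smul, hubo]
    rw [if_neg h0, if_neg h1]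
    set z := v 0 / v 1 with hz
    have hz0 : z ≠ 0 := div_ne_zero h0 h1
    rw [show v 1 / v 0 = z⁻¹ by rw [hz, inv_div]]
    obtain ⟨d, hd, hde⟩ := hexd z hz0
    have hinv : d⁻¹ * e * d = (φ z⁻¹ : G) := by
      have h2 := hmul d hd z hde z⁻¹
      rw [mul_inv_cancel₀ hz0, hone] at h2
      calc d⁻¹ * e * d = d⁻¹ * (d * (φ z⁻¹ : G) * d⁻¹) * d := by rw [h2]
        _ = _ := by group
    have hdb : d • b = b := hd.2
    have hdb' : d⁻¹ • b = b := (inv_mem hd : d⁻¹ ∈ two (o T) b).2
    have hud : u * d = d⁻¹ * u := by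
      rw [← h.swap_inverts (Ne.symm hb) hu hub hd, inv_mul_cancel_right]
    calc (φ z⁻¹ : G) • b = d⁻¹ • (e • (d • b)) := by rw [← hinv, mul_smul, mul_smul]
      _ = (d⁻¹ * u) • c := by rw [hdb, hec, mul_smul, hc]
      _ = u • (d • (e • b)) := by rw [← hud, mul_smul, hec]
      _ = u • ((φ z : G) • b) := by rw [← hde, mul_smul, mul_smul, hdb']
  have hH : ∀ g ∈ nH T, g ∈ S := by
    intro g hg
    obtain ⟨d, hd, t, ht, hdt⟩ := h.factor hb hg
    exact hdt ▸ mul_mem (hD d hd) (hT t ht)
  have hall : ∀ g : G, g ∈ S := by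
    intro g
    by_cases hg : g • o T = o T
    · exact hH g (smul_o.1 hg)
    · obtain ⟨t, ht, htb⟩ := h.exists_translate hb hg
      have h2 : ((t * u)⁻¹ * g) • o T = o T := by
        rw [mul_smul, inv_smul_eq_iff, mul_smul, hub, htb]
      have h3 := mul_mem (mul_mem (hT t ht) huS) (hH _ (smul_o.1 h2))
      rwa [mul_inv_cancel_left] at h3
  -- comparison of the two permutation groups
  let χ : G →* Equiv.Perm (ℙ K (Fin 2 → K)) :=
    (Equiv.permCongrHom πe.symm).toMonoidHom.comp (MulAction.toPermHom G (G ⧸ nH T))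
  let ψ : Matrix.ProjectiveSpecialLinearGroup (Fin 2) K →* Equiv.Perm (ℙ K (Fin 2 → K)) :=
    Projectivization.PSLAction.toPermHom
  have hχ : ∀ g p, χ g p = πe.symm (g • π p) := fun g p => rfl
  have hle : χ.range ≤ ψ.range := by
    rintro _ ⟨g, rfl⟩
    obtain ⟨M, hM⟩ := hall g
    refine ⟨(M : Matrix.ProjectiveSpecialLinearGroup (Fin 2) K), Equiv.ext fun p => ?_⟩
    rw [hχ, ← hM p]
    exact (πe.symm_apply_apply (M • p)).symm
  have hχinj : Function.Injective χ := by
    rw [injective_iff_map_eq_one]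
    intro g hg
    have hall' : ∀ x : G ⧸ nH T, g • x = x := by
      intro x
      obtain ⟨p, rfl⟩ := hπbij.2 x
      have h1 : πe.symm (g • π p) = p := by rw [← hχ, hg]; rfl
      exact (πe.symm_apply_eq.1 h1)
    by_contra hg1
    rcases h.fixed_two (Ne.symm hb) (mem_two.2 ⟨hall' _, hall' _⟩) hg1 (hall' c) with e' | e'
    exacts [hco e', hcb e']
  have hcard : Nat.card (Matrix.ProjectiveSpecialLinearGroup (Fin 2) K) = Nat.card G := by
    have h1 := Classical.SmallIso.natCard_pslTwo K
    have hq2 : Nat.gcd 2 (Fintype.card K - 1) = 1 := by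
      rw [hK]
      refine Nat.coprime_two_left.2 ?_
      have := h.four_le_card
      rw [Nat.odd_iff]
      omega
    rw [hq2, one_mul] at h1
    rw [h1, ← (nH T).card_mul_index, h.card_nH, Subgroup.index, h.card_points,
      Classical.GL2.natCard_SL_two, hK, mul_assoc]
  have heq : χ.range = ψ.range := Subgroup.eq_of_le_of_card_ge hle (by
    rw [← Nat.card_congr (MonoidHom.ofInjective hχinj).toEquiv,
      ← Nat.card_congr (MonoidHom.ofInjective (f := ψ)
        Matrix.ProjectiveSpecialLinearGroup.toPermHom_injective).toEquiv, hcard])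
  exact ⟨(MonoidHom.ofInjective hχinj).trans ((MulEquiv.subgroupCongr heq).trans
    (MonoidHom.ofInjective (f := ψ)
      Matrix.ProjectiveSpecialLinearGroup.toPermHom_injective).symm)⟩

end Cfsg.Agent.Involutions.ElementaryCentralizers
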