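import Mathlib
import Cfsg.Agent.Lib.Involutions.Basic

/-!
The Thompson order formula for two classes of involutions.
-/

namespace Cfsg.Agent.Involutions.OrderFormula

open Subgroup Involutions.Basic

variable {G : Type*} [Group G] [Finite G]

theorem class_card_mul (x : G) :
    Nat.card {u : G // IsConj x u} * Nat.card (Subgroup.centralizer ({x} : Set G)) = Nat.card G := by
  classical
  have : Fintype G := Fintype.ofFinite G
  have h := MulAction.card_orbit_mul_card_stabilizer_eq_card_group (ConjAct G) x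
  rw [← Nat.card_eq_fintype_card, ← Nat.card_eq_fintype_card, ← Nat.card_eq_fintype_card] at h
  have e1 : Nat.card (MulAction.orbit (ConjAct G) x) = Nat.card {u : G // IsConj x u} :=
    Nat.card_congr (Equiv.subtypeEquivRight fun u => by
      rw [ConjAct.mem_orbit_conjAct]; exact ⟨IsConj.symm, IsConj.symm⟩)
  have e2 : Nat.card (MulAction.stabilizer (ConjAct G) x) =
      Nat.card (Subgroup.centralizer ({x} : Set G)) := by
    refine Nat.card_congr (Equiv.subtypeEquiv ConjAct.ofConjAct.toEquiv fun u => ?_)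
    rw [MulAction.mem_stabilizer_iff, ConjAct.smul_def, mem_centralizer_singleton_iff,
      mul_inv_eq_iff_eq_mul]
    rfl
  rw [e1, e2] at h
  exact h

/-- The only involution of a cyclic group of even order is the middle power. -/
theorem eq_middle {c x : G} (hx : orderOf x = 2) (hmem : x ∈ Subgroup.zpowers c) :
    x = c ^ (orderOf c / 2) := by
  obtain ⟨k, hk, rfl⟩ : ∃ k, k < orderOf c ∧ c ^ k = x := by
    classical
    rw [mem_zpowers_iff_mem_range_orderOf] at hmem
    obtain ⟨k, hk, h⟩ := Finset.mem_image.mp hmem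
    exact ⟨k, Finset.mem_range.mp hk, h⟩
  have h1 : orderOf c ∣ 2 * k := by
    apply orderOf_dvd_of_pow_eq_one
    rw [mul_comm, pow_mul, pow_two, inv_sq_one hx]
  obtain ⟨d, hd⟩ := h1
  rcases d with _ | _ | d
  · have : k = 0 := by omega
    subst this
    simp at hx
  · congr 1; omega
  · exfalso
    have h2 : orderOf c * 2 ≤ orderOf c * (d + 1 + 1) := Nat.mul_le_mul_left _ (by omega)
    omega

theorem mem_zpowers_iff_eq_middle {c x : G} (hc : orderOf (c ^ (orderOf c / 2)) = 2) (hx : orderOf x = 2) :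
    x ∈ Subgroup.zpowers c ↔ x = c ^ (orderOf c / 2) :=
  ⟨eq_middle hx, fun h => h ▸ pow_mem (mem_zpowers c) _⟩

/-- The number of pairs attached to a conjugate of `x`. -/
theorem fibre_card (x₁ x₂ x y : G) (hy : IsConj x y) :
    Nat.card {p : G × G // IsConj x₁ p.1 ∧ IsConj x₂ p.2 ∧ y ∈ Subgroup.zpowers (p.1 * p.2)} =
      Nat.card {p : G × G // IsConj x₁ p.1 ∧ IsConj x₂ p.2 ∧ x ∈ Subgroup.zpowers (p.1 * p.2)} := by
  obtain ⟨g, rfl⟩ := isConj_iff.mp hy
  have hc : ∀ a u : G, IsConj a (g * u * g⁻¹) ↔ IsConj a u := fun a u =>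
    ⟨fun h => h.trans (isConj_iff.mpr ⟨g⁻¹, by group⟩), fun h => h.trans (isConj_iff.mpr ⟨g, rfl⟩)⟩
  refine (Nat.card_congr (Equiv.subtypeEquiv
    ((MulAut.conj g).toEquiv.prodCongr (MulAut.conj g).toEquiv) fun p => ?_)).symm
  simp only [Equiv.prodCongr_apply, Prod.map_fst, Prod.map_snd, MulEquiv.toEquiv_eq_coe,
    EquivLike.coe_coe, MulAut.conj_apply, hc]
  refine and_congr_right fun _ => and_congr_right fun _ => ?_
  rw [show g * p.1 * g⁻¹ * (g * p.2 * g⁻¹) = (MulAut.conj g).toMonoidHom (p.1 * p.2) by simp [mul_assoc],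
    ← MonoidHom.map_zpowers]
  exact (Subgroup.mem_map_iff_mem (f := (MulAut.conj g).toMonoidHom) (MulAut.conj g).injective).symm

theorem order_formula (x₁ x₂ : G) (h₁ : orderOf x₁ = 2) (h₂ : orderOf x₂ = 2) (hnc : ¬ IsConj x₁ x₂)
    (hall : ∀ t : G, orderOf t = 2 → IsConj x₁ t ∨ IsConj x₂ t) :
    Nat.card G = Nat.card (Subgroup.centralizer ({x₂} : Set G)) *
        Nat.card {p : G × G // IsConj x₁ p.1 ∧ IsConj x₂ p.2 ∧ x₁ ∈ Subgroup.zpowers (p.1 * p.2)} +
      Nat.card (Subgroup.centralizer ({x₁} : Set G)) *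
        Nat.card {p : G × G // IsConj x₁ p.1 ∧ IsConj x₂ p.2 ∧ x₂ ∈ Subgroup.zpowers (p.1 * p.2)} := by
  classical
  have : Fintype G := Fintype.ofFinite G
  have hord : ∀ a u : G, orderOf a = 2 → IsConj a u → orderOf u = 2 := by
    intro a u ha hu
    obtain ⟨g, rfl⟩ := isConj_iff.mp hu
    rw [orderOf_conj, ha]
  let P := {p : G × G // IsConj x₁ p.1 ∧ IsConj x₂ p.2}
  let mid : P → G := fun p => (p.1.1 * p.1.2) ^ (orderOf (p.1.1 * p.1.2) / 2)
  have hmid : ∀ p : P, orderOf (mid p) = 2 := fun p =>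
    (middle_involution (hord _ _ h₁ p.2.1) (hord _ _ h₂ p.2.2) (even_orderOf_mul_of_not_isConj
      (hord _ _ h₁ p.2.1) (hord _ _ h₂ p.2.2) fun h => hnc (p.2.1.trans (h.trans p.2.2.symm)))).1
  -- split by the class of the middle involution
  let S : (x : G) → Type _ := fun x => {p : P // IsConj x (mid p)}
  have hS : ∀ x : G, orderOf x = 2 → Nat.card (S x) = Nat.card {u : G // IsConj x u} *
      Nat.card {p : G × G // IsConj x₁ p.1 ∧ IsConj x₂ p.2 ∧ x ∈ Subgroup.zpowers (p.1 * p.2)} := by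
    intro x hx
    have e : S x ≃ Σ y : {u : G // IsConj x u},
        {p : G × G // IsConj x₁ p.1 ∧ IsConj x₂ p.2 ∧ y.1 ∈ Subgroup.zpowers (p.1 * p.2)} :=
      { toFun := fun p => ⟨⟨mid p.1, p.2⟩, p.1.1, p.1.2.1, p.1.2.2, pow_mem (mem_zpowers _) _⟩
        invFun := fun s => ⟨⟨s.2.1, s.2.2.1, s.2.2.2.1⟩, by
          have hy : orderOf s.1.1 = 2 := hord _ _ hx s.1.2
          show IsConj x ((s.2.1.1 * s.2.1.2) ^ (orderOf (s.2.1.1 * s.2.1.2) / 2))
          rw [← eq_middle hy s.2.2.2.2]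
          exact s.1.2⟩
        left_inv := fun p => rfl
        right_inv := by
          rintro ⟨⟨y, hy⟩, p, hp1, hp2, hp3⟩
          have := eq_middle (hord _ _ hx hy) hp3
          subst this
          rfl }
    rw [Nat.card_congr e, Nat.card_sigma]
    rw [Finset.sum_congr rfl fun y _ => fibre_card x₁ x₂ x y.1 y.2, Finset.sum_const,
      Finset.card_univ, smul_eq_mul, Nat.card_eq_fintype_card, Nat.card_eq_fintype_card]
  have htot : Nat.card P = Nat.card (S x₁) + Nat.card (S x₂) := by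
    rw [← Nat.card_sum]
    refine Nat.card_congr ((Equiv.sumCompl fun p : P => IsConj x₁ (mid p)).symm.trans
      (Equiv.sumCongr (Equiv.refl _) (Equiv.subtypeEquivRight fun p => ?_)))
    exact ⟨fun h => (hall _ (hmid p)).resolve_left h, fun h h' => hnc (h'.trans h.symm)⟩
  have hP : Nat.card P = Nat.card {u : G // IsConj x₁ u} * Nat.card {u : G // IsConj x₂ u} := by
    rw [← Nat.card_prod]
    exact Nat.card_congr
      { toFun := fun p => (⟨p.1.1, p.2.1⟩, ⟨p.1.2, p.2.2⟩)
        invFun := fun q => ⟨(q.1.1, q.2.1), q.1.2, q.2.2⟩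
        left_inv := fun p => rfl
        right_inv := fun q => rfl }
  rw [hP, hS x₁ h₁, hS x₂ h₂] at htot
  have e1 := class_card_mul x₁
  have e2 := class_card_mul x₂
  set a := Nat.card {u : G // IsConj x₁ u}
  set b := Nat.card {u : G // IsConj x₂ u}
  set c₁ := Nat.card (Subgroup.centralizer ({x₁} : Set G))
  set c₂ := Nat.card (Subgroup.centralizer ({x₂} : Set G))
  have hpos : 0 < Nat.card G := Nat.card_pos
  apply Nat.eq_of_mul_eq_mul_left hpos
  generalize Nat.card {p : G × G // IsConj x₁ p.1 ∧ IsConj x₂ p.2 ∧ x₁ ∈ Subgroup.zpowers (p.1 * p.2)} = n₁ at htot ⊢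
  generalize Nat.card {p : G × G // IsConj x₁ p.1 ∧ IsConj x₂ p.2 ∧ x₂ ∈ Subgroup.zpowers (p.1 * p.2)} = n₂ at htot ⊢
  calc Nat.card G * Nat.card G = (a * c₁) * (b * c₂) := by rw [e1, e2]
    _ = a * b * (c₁ * c₂) := by ring
    _ = (a * n₁ + b * n₂) * (c₁ * c₂) := by rw [htot]
    _ = (a * c₁) * (c₂ * n₁) + (b * c₂) * (c₁ * n₂) := by ring
    _ = Nat.card G * (c₂ * n₁ + c₁ * n₂) := by rw [e1, e2, mul_add]

end Cfsg.Agent.Involutions.OrderFormula
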