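import Mathlib

/-! Tools for Sylow 2-subgroups of alternating and symmetric groups: even permutations moving
prescribed points, orbits of Sylow 2-subgroups, pairings and halvings invariant under a
2-group. -/

set_option autoImplicit false
set_option linter.unusedSectionVars false

namespace Cfsg.Agent.Involutions.AltUniqueMax

open Equiv MulAction
open scoped Pointwise

variable {α : Type*} [Fintype α] [DecidableEq α]

theorem inv_apply_cancel (σ : Perm α) (x : α) : σ⁻¹ (σ x) = x := σ.symm_apply_apply x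

theorem apply_inv_cancel (σ : Perm α) (x : α) : σ (σ⁻¹ x) = x := σ.apply_symm_apply x

theorem exists_even_move {b c d : α} (hbc : b ≠ c) (hbd : b ≠ d) (hcd : c ≠ d) :
    ∃ h : Perm α, h.IsThreeCycle ∧ h ∈ alternatingGroup α ∧ h b = c ∧
      ∀ y, y ≠ b → y ≠ c → y ≠ d → h y = y := by
  refine ⟨swap b d * swap b c, ?_, ?_, ?_, ?_⟩
  · exact Perm.isThreeCycle_swap_mul_swap_same hbd hbc hcd.symm
  · exact (Perm.isThreeCycle_swap_mul_swap_same hbd hbc hcd.symm).mem_alternatingGroup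
  · rw [Perm.mul_apply, swap_apply_left, swap_apply_of_ne_of_ne hbc.symm hcd]
  · intro y h1 h2 h3
    rw [Perm.mul_apply, swap_apply_of_ne_of_ne h1 h2, swap_apply_of_ne_of_ne h1 h3]

theorem mem_stabilizer_of_mapsTo {σ : Perm α} {s : Set α} (h : ∀ x ∈ s, σ x ∈ s) :
    σ ∈ stabilizer (Perm α) s := by
  rw [mem_stabilizer_iff]
  refine Set.eq_of_subset_of_ncard_le ?_ (by rw [Set.ncard_smul_set]) (Set.toFinite s)
  rintro _ ⟨x, hx, rfl⟩
  exact h x hx

theorem apply_mem_iff_of_mem_stabilizer {σ : Perm α} {s : Set α}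
    (h : σ ∈ stabilizer (Perm α) s) {x : α} : σ x ∈ s ↔ x ∈ s := by
  conv_lhs => rw [← mem_stabilizer_iff.1 h]
  exact Set.smul_mem_smul_set_iff

theorem mem_stabilizer_of_fix_compl {σ : Perm α} {s : Set α} (h : ∀ x ∉ s, σ x = x) :
    σ ∈ stabilizer (Perm α) s := by
  apply mem_stabilizer_of_mapsTo
  intro x hx
  by_contra hc
  exact hc (by rw [σ.injective (h _ hc)]; exact hx)

theorem swap_mul_swap_comm {a b c d : α} (hca : c ≠ a) (hcb : c ≠ b) (hda : d ≠ a)
    (hdb : d ≠ b) : swap a b * swap c d = swap c d * swap a b := by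
  rw [Equiv.mul_swap_eq_swap_mul, swap_apply_of_ne_of_ne hca hcb,
    swap_apply_of_ne_of_ne hda hdb]

theorem doubleSwap_mem_alternatingGroup {a b c d : α} (hab : a ≠ b) (hcd : c ≠ d) :
    swap a b * swap c d ∈ alternatingGroup α := by
  rw [Perm.mem_alternatingGroup, map_mul, Perm.sign_swap hab, Perm.sign_swap hcd]
  decide

/-- A double transposition commuting with a pairing and moving `x` to `y`. -/
theorem exists_pairing_move {π : Perm α} (hπ : ∀ a, π (π a) = a) (hfp : ∀ a, π a ≠ a)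
    {x y : α} (hxy : x ≠ y) (hy : y ≠ π x) :
    ∃ g : Perm α, g ∈ alternatingGroup α ∧ g * π = π * g ∧ g x = y ∧ g y = x ∧
      ∀ w, w ≠ x → w ≠ y → w ≠ π x → w ≠ π y → g w = w := by
  have hx : x ≠ π y := fun h => hy (by rw [h, hπ])
  have hπxy : π x ≠ π y := fun h => hxy (π.injective h)
  refine ⟨swap x y * swap (π x) (π y), doubleSwap_mem_alternatingGroup hxy hπxy, ?_, ?_, ?_, ?_⟩
  · have h1 : π * (swap x y * swap (π x) (π y)) = swap (π x) (π y) * swap x y * π := by
      rw [← mul_assoc π, Equiv.mul_swap_eq_swap_mul π x y, mul_assoc (swap (π x) (π y)),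
        Equiv.mul_swap_eq_swap_mul π (π x) (π y), hπ, hπ, ← mul_assoc]
    rw [h1, swap_mul_swap_comm (hfp x) hy.symm hx.symm (hfp y)]
  · rw [Perm.mul_apply, swap_apply_of_ne_of_ne (hfp x).symm hx, swap_apply_left]
  · rw [Perm.mul_apply, swap_apply_of_ne_of_ne hy (hfp y).symm, swap_apply_right]
  · intro w h1 h2 h3 h4
    rw [Perm.mul_apply, swap_apply_of_ne_of_ne h3 h4, swap_apply_of_ne_of_ne h1 h2]

section PGroup

variable {P : Subgroup (Perm α)}

/-- The orbit of a point under a subgroup of permutations. -/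
def orb (P : Subgroup (Perm α)) (x : α) : Set α := MulAction.orbit P x

omit [Fintype α] [DecidableEq α] in
theorem mem_orb {x y : α} : y ∈ orb P x ↔ ∃ r ∈ P, r x = y := by
  constructor
  · rintro ⟨⟨r, hr⟩, rfl⟩
    exact ⟨r, hr, rfl⟩
  · rintro ⟨r, hr, rfl⟩
    exact ⟨⟨r, hr⟩, rfl⟩

omit [Fintype α] [DecidableEq α] in
theorem self_mem_orb (x : α) : x ∈ orb P x := mem_orbit_self x

omit [Fintype α] [DecidableEq α] in
theorem orb_eq {x y : α} (h : y ∈ orb P x) : orb P y = orb P x := orbit_eq_iff.2 h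

theorem le_stabilizer_orb (x : α) : P ≤ stabilizer (Perm α) (orb P x) := by
  intro r hr
  apply mem_stabilizer_of_mapsTo
  intro y hy
  obtain ⟨s, hs, rfl⟩ := mem_orb.1 hy
  exact mem_orb.2 ⟨r * s, mul_mem hr hs, rfl⟩

theorem ncard_orb (hP : IsPGroup 2 P) (x : α) : ∃ a, (orb P x).ncard = 2 ^ a := by
  obtain ⟨a, ha⟩ := hP.card_orbit x
  exact ⟨a, by rw [orb, ← Nat.card_coe_set_eq]; exact ha⟩

/-- A point moved by a 2-group has a subgroup above its stabiliser of index two over it. -/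
theorem exists_step (hP : IsPGroup 2 P) {x : α} (hx : ∃ r ∈ P, r x ≠ x) :
    ∃ n ∈ P, n x ≠ x ∧ n (n x) = x ∧ ∀ h ∈ P, h x = x → h (n x) = n x := by
  obtain ⟨r, hr, hrx⟩ := hx
  set H := stabilizer P x with hH
  obtain ⟨b, hb⟩ := IsPGroup.iff_card.1 hP
  obtain ⟨a, ha⟩ := IsPGroup.iff_card.1 (hP.to_subgroup H)
  have hab : a < b := by
    rcases Nat.lt_or_ge a b with h | h
    · exact h
    · exfalso
      have hd := H.card_subgroup_dvd_card
      rw [ha, hb, Nat.pow_dvd_pow_iff_le_right one_lt_two] at hd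
      have htop : H = ⊤ := Subgroup.eq_top_of_card_eq H (by rw [ha, hb, le_antisymm hd h])
      have : (⟨r, hr⟩ : P) ∈ H := htop ▸ Subgroup.mem_top _
      exact hrx this
  have : Fact (Nat.Prime 2) := ⟨Nat.prime_two⟩
  obtain ⟨K, hK, hHK⟩ := Sylow.exists_subgroup_card_pow_prime_le 2
    (by rw [hb]; exact pow_dvd_pow 2 hab : 2 ^ (a + 1) ∣ Nat.card P) H ha (Nat.le_succ a)
  have hi : (H.subgroupOf K).index = 2 := by
    have h1 := (H.subgroupOf K).index_mul_card
    rw [Nat.card_congr (Subgroup.subgroupOfEquivOfLe hHK).toEquiv, ha, hK, pow_succ'] at h1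
    exact Nat.eq_of_mul_eq_mul_right (Nat.two_pow_pos a) h1
  obtain ⟨n, hnK, hnH⟩ : ∃ n ∈ K, n ∉ H := by
    by_contra hc
    push Not at hc
    have : K = H := le_antisymm hc hHK
    rw [this, ha] at hK
    have := Nat.pow_right_injective le_rfl hK
    omega
  have hnorm : (H.subgroupOf K).Normal := Subgroup.normal_of_index_eq_two hi
  refine ⟨n, n.2, hnH, ?_, ?_⟩
  · have h2 := Subgroup.mul_self_mem_of_index_two hi (⟨n, hnK⟩ : K)
    exact h2
  · intro h hh hhx
    have hhH : (⟨h, hh⟩ : P) ∈ H := hhx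
    have h3 := hnorm.conj_mem (⟨⟨h, hh⟩, hHK hhH⟩ : K) hhH (⟨n, hnK⟩ : K)⁻¹
    have h4 : ((n : Perm α)⁻¹ * h * (n : Perm α)) x = x := by
      have h6 : (n⁻¹ * ⟨h, hh⟩ * n) • x = x := by
        simpa [Subgroup.mem_subgroupOf, hH] using h3
      exact h6
    have h5 := congrArg (n : Perm α) h4
    simpa using h5

/-- A pairing, invariant under a 2-group, of the points moved by that group. -/
theorem exists_pairing' (hP : IsPGroup 2 P) :
    ∃ π : Perm α, (∀ a, π (π a) = a) ∧ (∀ a, π a = a ↔ ∀ r ∈ P, r a = a) ∧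
      (∀ r ∈ P, r * π = π * r) ∧ ∀ a, π a ∈ orb P a := by
  classical
  let q : α → α := fun y => (Quotient.mk (orbitRel P α) y).out
  have hq : ∀ y, ∃ r ∈ P, r (q y) = y := by
    intro y
    have h : y ∈ orb P (q y) := orbitRel_apply.1
      ((orbitRel P α).symm (Quotient.mk_out (s := orbitRel P α) y))
    exact mem_orb.1 h
  have hqeq : ∀ y r, r ∈ P → q (r y) = q y := by
    intro y r hr
    simp only [q]
    congr 1
    exact Quotient.sound (s := orbitRel P α) (orbitRel_apply.2 (mem_orb.2 ⟨r, hr, rfl⟩))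
  choose t htP ht using hq
  have hstep : ∀ u, ∃ n ∈ P, (n u = u → ∀ r ∈ P, r u = u) ∧ n (n u) = u ∧
      ∀ h ∈ P, h u = u → h (n u) = n u := by
    intro u
    by_cases hu : ∀ r ∈ P, r u = u
    · exact ⟨1, one_mem _, fun _ => hu, rfl, fun h _ hh => hh⟩
    · push Not at hu
      obtain ⟨n, hn, h1, h2, h3⟩ := exists_step hP hu
      exact ⟨n, hn, fun e => absurd e h1, h2, h3⟩
  choose n hnP hn1 hn2 hn3 using hstep
  let f : α → α := fun y => t y (n (q y) (q y))
  have key : ∀ y r, r ∈ P → ∀ s ∈ P, s (q y) = r y → f (r y) = s (n (q y) (q y)) := by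
    intro y r hr s hs hsy
    have h1 := hn3 (q y) (s⁻¹ * t (r y)) (mul_mem (inv_mem hs) (htP _)) (by
      rw [Perm.mul_apply]
      have h2 := ht (r y)
      rw [hqeq y r hr] at h2
      rw [h2, ← hsy]
      simp)
    rw [Perm.mul_apply] at h1
    have h3 := congrArg s h1
    simp only [apply_inv_cancel] at h3
    change t (r y) (n (q (r y)) (q (r y))) = _
    rw [hqeq y r hr]
    exact h3
  have heq : ∀ y r, r ∈ P → f (r y) = r (f y) := by
    intro y r hr
    rw [key y r hr (r * t y) (mul_mem hr (htP y)) (by rw [Perm.mul_apply, ht y])]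
    rfl
  have hinv : ∀ y, f (f y) = y := by
    intro y
    have h1 : f y = (t y * n (q y)) (q y) := rfl
    have h2 : (t y * n (q y)) (q y) = (t y * n (q y) * (t y)⁻¹) y := by
      have := congrArg ((t y)⁻¹ : Perm α) (ht y)
      rw [inv_apply_cancel] at this
      rw [Perm.mul_apply (t y * n (q y)), ← this]
    rw [h1, h2, key y _ (mul_mem (mul_mem (htP y) (hnP _)) (inv_mem (htP y)))
      (t y * n (q y)) (mul_mem (htP y) (hnP _)) h2]
    rw [Perm.mul_apply, hn2, ht y]
  refine ⟨Function.Involutive.toPerm f hinv, hinv, ?_, ?_, ?_⟩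
  · intro y
    change f y = y ↔ _
    constructor
    · intro h
      have h1 : f y = t y (n (q y) (q y)) := rfl
      rw [h1] at h
      have h2 := hn1 (q y) ((t y).injective (h.trans (ht y).symm))
      have h3 : q y = y := (h2 _ (htP y)).symm.trans (ht y)
      rw [← h3]
      exact h2
    · intro h
      have h1 : q y = y := (t y).injective ((ht y).trans (h _ (htP y)).symm)
      change t y (n (q y) (q y)) = y
      rw [h1, h _ (hnP y), h _ (htP y)]
  · intro r hr
    ext y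
    exact (heq y r hr).symm
  · intro y
    refine mem_orb.2 ⟨t y * n (q y) * (t y)⁻¹, mul_mem (mul_mem (htP y) (hnP _)) (inv_mem (htP y)), ?_⟩
    change _ = f y
    have := congrArg ((t y)⁻¹ : Perm α) (ht y)
    rw [inv_apply_cancel] at this
    rw [Perm.mul_apply, ← this]
    rfl

/-- A pairing of the points invariant under a 2-group without fixed points. -/
theorem exists_pairing (hP : IsPGroup 2 P) (hfp : ∀ x, ∃ r ∈ P, r x ≠ x) :
    ∃ π : Perm α, (∀ a, π (π a) = a) ∧ (∀ a, π a ≠ a) ∧ (∀ r ∈ P, r * π = π * r) ∧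
      ∀ a, π a ∈ orb P a := by
  obtain ⟨π, h1, h2, h3, h4⟩ := exists_pairing' hP
  refine ⟨π, h1, fun a h => ?_, h3, h4⟩
  obtain ⟨r, hr, hra⟩ := hfp a
  exact hra ((h2 a).1 h r hr)

/-- A halving of the points invariant under a transitive 2-group. -/
theorem exists_halving (hP : IsPGroup 2 P) (x : α) (htr : ∀ y, y ∈ orb P x)
    (hn : 2 ≤ Fintype.card α) :
    ∃ S : Set α, 2 * S.ncard = Fintype.card α ∧ ∀ r ∈ P, r • S = S ∨ r • S = Sᶜ := by
  set H := stabilizer P x with hH
  obtain ⟨b, hb⟩ := IsPGroup.iff_card.1 hP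
  obtain ⟨a, ha⟩ := IsPGroup.iff_card.1 (hP.to_subgroup H)
  have hlt : a + 1 ≤ b := by
    by_contra hc
    have hd := H.card_subgroup_dvd_card
    rw [ha, hb, Nat.pow_dvd_pow_iff_le_right one_lt_two] at hd
    have htop : H = ⊤ := Subgroup.eq_top_of_card_eq H (by rw [ha, hb]; congr 1; omega)
    have hsub : Subsingleton α := ⟨fun u v => by
      obtain ⟨r, hr, rfl⟩ := mem_orb.1 (htr u)
      obtain ⟨s, hs, rfl⟩ := mem_orb.1 (htr v)
      have h1 : (⟨r, hr⟩ : P) ∈ H := htop ▸ Subgroup.mem_top _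
      have h2 : (⟨s, hs⟩ : P) ∈ H := htop ▸ Subgroup.mem_top _
      exact (h1 : r x = x).trans (h2 : s x = x).symm⟩
    have := Fintype.card_le_one_iff_subsingleton.2 hsub
    omega
  have : Fact (Nat.Prime 2) := ⟨Nat.prime_two⟩
  obtain ⟨K, hK, hHK⟩ := Sylow.exists_subgroup_card_pow_prime_le 2
    (by rw [hb]; exact pow_dvd_pow 2 (Nat.sub_le b 1) : 2 ^ (b - 1) ∣ Nat.card P) H ha (by omega)
  have hi : K.index = 2 := by
    have h1 := K.index_mul_card
    rw [hK, hb] at h1
    have h2 : 2 ^ b = 2 * 2 ^ (b - 1) := by rw [← pow_succ']; congr 1; omega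
    rw [h2] at h1
    exact Nat.eq_of_mul_eq_mul_right (Nat.two_pow_pos _) h1
  let S : Set α := {y | ∃ r : P, r ∈ K ∧ (r : Perm α) x = y}
  have hS : ∀ r : P, (r : Perm α) x ∈ S ↔ r ∈ K := by
    refine fun r => ⟨fun ⟨s, hs, hsr⟩ => ?_, fun hr => ⟨r, hr, rfl⟩⟩
    have : s⁻¹ * r ∈ H := by
      change ((s : Perm α)⁻¹ * r) x = x
      rw [Perm.mul_apply, ← hsr, inv_apply_cancel]
    simpa using K.mul_mem hs (hHK this)
  have hcoset : ∀ r : P, r ∈ K → (r : Perm α) • S = S := by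
    intro r hr
    apply mem_stabilizer_iff.1 (mem_stabilizer_of_mapsTo _)
    rintro _ ⟨s, hs, rfl⟩
    exact (hS (r * s)).2 (K.mul_mem hr hs)
  have hout : ∀ r : P, r ∉ K → (r : Perm α) • S = Sᶜ := by
    intro r hr
    ext y
    obtain ⟨s, hs, rfl⟩ := mem_orb.1 (htr y)
    rw [Set.mem_smul_set_iff_inv_smul_mem, Set.mem_compl_iff]
    change ((r : Perm α)⁻¹ * s) x ∈ S ↔ _
    rw [hS ⟨s, hs⟩]
    refine (hS (r⁻¹ * ⟨s, hs⟩)).trans ?_
    rw [Subgroup.mul_mem_iff_of_index_two hi, inv_mem_iff]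
    tauto
  refine ⟨S, ?_, fun r hr => ?_⟩
  · obtain ⟨r, hr⟩ : ∃ r : P, r ∉ K := by
      by_contra hc
      push Not at hc
      rw [(Subgroup.eq_top_iff' K).2 hc, Subgroup.index_top] at hi
      omega
    have h1 : Sᶜ.ncard = S.ncard := by rw [← hout r hr, Set.ncard_smul_set]
    have h2 := Set.ncard_add_ncard_compl S
    rw [Nat.card_eq_fintype_card] at h2
    omega
  · by_cases h : (⟨r, hr⟩ : P) ∈ K
    · exact Or.inl (hcoset _ h)
    · exact Or.inr (hout _ h)

end PGroup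

end Cfsg.Agent.Involutions.AltUniqueMax
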