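import Mathlib
import Cfsg.Agent.Lib.Involutions.AltUniqueMaxBasic

/-! If a Sylow 2-subgroup of `A_n` or `S_n` lies in a unique maximal subgroup then `n - 1` is a
power of two. -/

set_option autoImplicit false
set_option linter.unusedSectionVars false

namespace Cfsg.Agent.Involutions.AltUniqueMax

open Equiv MulAction
open scoped Pointwise

variable {α : Type*} [Fintype α] [DecidableEq α]
variable {Γ : Type*} [Group Γ] [Finite Γ] {ι : Γ →* Perm α}

/-- The stabiliser in `Γ` of a set of points. -/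
def stab (ι : Γ →* Perm α) (s : Set α) : Subgroup Γ := (stabilizer (Perm α) s).comap ι

theorem index_comap_alt_dvd [Nontrivial α] :
    ((alternatingGroup α).comap ι).index ∣ 2 := by
  rw [Subgroup.index_comap, ← alternatingGroup.index_eq_two (α := α)]
  exact Subgroup.relIndex_dvd_index_of_normal _ _

/-- A subgroup containing a Sylow 2-subgroup and all even permutations is everything. -/
theorem eq_top_of_alt_le (hι : Function.Injective ι) (hA : alternatingGroup α ≤ ι.range)
    [Nontrivial α] (R : Sylow 2 Γ) (M : Subgroup Γ) (hR : (R : Subgroup Γ) ≤ M)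
    (hM : alternatingGroup α ≤ M.map ι) : M = ⊤ := by
  have hle : (alternatingGroup α).comap ι ≤ M := by
    intro g hg
    obtain ⟨m, hm, hmg⟩ := hM hg
    rwa [← hι hmg]
  have h2 := (Subgroup.index_dvd_of_le hle).trans index_comap_alt_dvd
  rcases (Nat.dvd_prime Nat.prime_two).1 h2 with h | h
  · exact Subgroup.index_eq_one.1 h
  · exfalso
    have : Fact (Nat.Prime 2) := ⟨Nat.prime_two⟩
    have h' := Subgroup.index_dvd_of_le hR
    rw [h] at h'
    exact R.not_dvd_index h'

theorem isPGroup_map (R : Sylow 2 Γ) : IsPGroup 2 ((R : Subgroup Γ).map ι) := R.2.map ι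

theorem le_stab_orb (R : Sylow 2 Γ) (x : α) :
    (R : Subgroup Γ) ≤ stab ι (orb ((R : Subgroup Γ).map ι) x) :=
  fun r hr => le_stabilizer_orb x ⟨r, hr, rfl⟩

/-- The orbits of a Sylow 2-subgroup have length divisible by the 2-part of the degree. -/
theorem pow_dvd_ncard_orb (hι : Function.Injective ι) [IsPretransitive ι.range α]
    (R : Sylow 2 Γ) (x : α) {e : ℕ} (he : 2 ^ e ∣ Nat.card α) :
    2 ^ e ∣ (orb ((R : Subgroup Γ).map ι) x).ncard := by
  have : Fact (Nat.Prime 2) := ⟨Nat.prime_two⟩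
  set P := (R : Subgroup Γ).map ι with hP
  have hPr : P ≤ ι.range := Subgroup.map_le_range ι R
  have h1 : (orb P x).ncard * Nat.card (stabilizer P x) = Nat.card P := by
    have := (stabilizer P x).index_mul_card
    rwa [index_stabilizer] at this
  have h2 : Nat.card α * Nat.card (stabilizer ι.range x) = Nat.card ι.range := by
    have := (stabilizer ι.range x).index_mul_card
    rwa [index_stabilizer_of_transitive] at this
  have h3 : Nat.card (stabilizer P x) ∣ Nat.card (stabilizer ι.range x) := by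
    let f : stabilizer P x →* stabilizer ι.range x :=
      ((Subgroup.inclusion hPr).comp (stabilizer P x).subtype).codRestrict _ fun g => g.2
    refine Subgroup.card_dvd_of_injective f fun a b h => ?_
    have h' := congrArg (fun u : stabilizer ι.range x => ((u : ι.range) : Perm α)) h
    exact Subtype.ext (Subtype.ext h')
  have h4 : Nat.card ι.range = Nat.card Γ :=
    Nat.card_congr (MonoidHom.ofInjective hι).toEquiv.symm
  have h5 : 2 ^ e * Nat.card (stabilizer P x) ∣ Nat.card P := by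
    have hd : 2 ^ e * Nat.card (stabilizer P x) ∣ Nat.card Γ := by
      rw [← h4, ← h2]; exact mul_dvd_mul he h3
    obtain ⟨a, ha⟩ := IsPGroup.iff_card.1 ((isPGroup_map (ι := ι) R).to_subgroup (stabilizer P x))
    rw [ha, ← pow_add] at hd ⊢
    rw [Nat.card_congr ((R : Subgroup Γ).equivMapOfInjective ι hι).toEquiv.symm,
      R.card_eq_multiplicity]
    refine pow_dvd_pow 2 ?_
    exact (Nat.prime_two.pow_dvd_iff_le_factorization Nat.card_pos.ne').1 hd
  rw [← h1] at h5
  exact Nat.dvd_of_mul_dvd_mul_right Nat.card_pos h5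

theorem exists_notMem_of_card_le {t : Finset α} (h : t.card < Fintype.card α) :
    ∃ w, w ∉ t := by
  by_contra hc
  push Not at hc
  rw [Finset.eq_univ_of_forall hc, Finset.card_univ] at h
  exact lt_irrefl _ h

theorem exists_not_commute {π : Perm α} (hfp : ∀ a, π a ≠ a) (h4 : 4 ≤ Fintype.card α) (x : α) :
    ∃ g ∈ alternatingGroup α, g * π ≠ π * g := by
  obtain ⟨y, hy⟩ := exists_notMem_of_card_le (t := {x, π x})
    (lt_of_le_of_lt Finset.card_le_two (by omega))
  obtain ⟨w, hw⟩ := exists_notMem_of_card_le (t := {x, π x, y})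
    (lt_of_le_of_lt Finset.card_le_three (by omega))
  simp only [Finset.mem_insert, Finset.mem_singleton, not_or] at hy hw
  obtain ⟨g, -, hgA, hgb, hfix⟩ := exists_even_move (Ne.symm hy.2) (Ne.symm hw.2.1) (Ne.symm hw.2.2)
  refine ⟨g, hgA, fun h => ?_⟩
  have h1 := congrArg (fun σ : Perm α => σ x) h
  simp only [Perm.mul_apply, hgb, hfix x (hfp x).symm (Ne.symm hy.1) (Ne.symm hw.1)] at h1
  exact hy.2 h1

/-- The unique maximal subgroup over `R` contains every proper subgroup over `R`. -/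
theorem forall_le_of_existsUnique (R : Sylow 2 Γ)
    (h : ∃! M : Subgroup Γ, IsCoatom M ∧ (R : Subgroup Γ) ≤ M) :
    ∃ M : Subgroup Γ, IsCoatom M ∧ (R : Subgroup Γ) ≤ M ∧
      ∀ X : Subgroup Γ, (R : Subgroup Γ) ≤ X → X ≠ ⊤ → X ≤ M := by
  obtain ⟨M, ⟨hM, hRM⟩, huniq⟩ := h
  refine ⟨M, hM, hRM, fun X hX hXtop => ?_⟩
  obtain hX' | ⟨N, hN, hXN⟩ := eq_top_or_exists_le_coatom X
  · exact absurd hX' hXtop
  · exact huniq N ⟨hN, hX.trans hXN⟩ ▸ hXN

/-- Two-block case of the transitive 2-groups. -/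
theorem alt_le_of_halving {M : Subgroup (Perm α)} [IsPretransitive M α] {S : Set α}
    (h4 : 4 ≤ S.ncard) (h4' : 4 ≤ Sᶜ.ncard)
    (hW : ∀ g ∈ alternatingGroup α, g • S = S → g ∈ M)
    {g : Perm α} (hgM : g ∈ M)
    (hg : ∃ u ∈ S, ∃ v ∈ Sᶜ, ∃ w ∈ S, ∃ z ∈ Sᶜ, g u = v ∧ g v = u ∧ g w = w ∧ g z = z) :
    alternatingGroup α ≤ M := by
  classical
  obtain ⟨u, hu, v, hv, w, hwS, z, hzS, hguv, hgvu, hgw, hgz⟩ := hg
  have hin : ∀ {h : Perm α} (X : Set α), (X = S ∨ X = Sᶜ) → h ∈ alternatingGroup α →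
      (∀ y ∉ X, h y = y) → h ∈ M := by
    intro h X hX hA hfix
    refine hW h hA (mem_stabilizer_iff.1 ?_)
    rcases hX with rfl | rfl
    · exact mem_stabilizer_of_fix_compl hfix
    · rw [← stabilizer_compl]; exact mem_stabilizer_of_fix_compl hfix
  have hmove : ∀ (X : Set α), (X = S ∨ X = Sᶜ) → ∀ a, ∀ b ∈ X, ∀ c ∈ X, b ≠ a → c ≠ a → b ≠ c →
      ∃ h ∈ M, h a = a ∧ h b = c := by
    intro X hX a b hb c hc hba hca hbc
    have h4X : 4 ≤ X.ncard := by rcases hX with rfl | rfl <;> assumption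
    obtain ⟨d, hdX, hd⟩ : ∃ d ∈ X, d ∉ ({a, b, c} : Set α) := by
      apply Set.exists_mem_notMem_of_ncard_lt_ncard
      calc ({a, b, c} : Set α).ncard ≤ 3 := by
            refine (Set.ncard_insert_le _ _).trans ?_
            have := Set.ncard_insert_le b ({c} : Set α)
            rw [Set.ncard_singleton] at this
            omega
        _ < X.ncard := by omega
      exact Set.toFinite _
    simp only [Set.mem_insert_iff, Set.mem_singleton_iff, not_or] at hd
    obtain ⟨h, -, hA, hhb, hfix⟩ := exists_even_move hbc (Ne.symm hd.2.1) (Ne.symm hd.2.2)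
    exact ⟨h, hin X hX hA (fun y hy => hfix y (fun e => hy (e ▸ hb)) (fun e => hy (e ▸ hc))
      (fun e => hy (e ▸ hdX))), hfix a hba.symm hca.symm (Ne.symm hd.1), hhb⟩
  obtain ⟨b, c, d, hb, hc, hd, hbc, hbd, hcd⟩ :=
    (Set.two_lt_ncard_iff (Set.toFinite S)).1 (by omega)
  obtain ⟨t, ht3, htA, -, htfix⟩ := exists_even_move hbc hbd hcd
  have htM : t ∈ M := hin S (Or.inl rfl) htA (fun y hy => htfix y (fun e => hy (e ▸ hb))
    (fun e => hy (e ▸ hc)) (fun e => hy (e ▸ hd)))
  refine Equiv.Perm.alternatingGroup_le_of_isPreprimitive_of_isThreeCycle_mem ?_ ht3 htM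
  constructor
  intro B hB
  rw [IsTrivialBlock, or_iff_not_imp_left]
  intro hns
  rw [Set.not_subsingleton_iff] at hns
  obtain ⟨a, ha, b', hb', hab⟩ := hns
  have hcl : ∀ (X : Set α), (X = S ∨ X = Sᶜ) → b' ∈ X → ∀ c' ∈ X, c' ∈ B := by
    intro X hX hbX c' hc'
    rcases eq_or_ne c' a with rfl | hca
    · exact ha
    rcases eq_or_ne b' c' with rfl | hbc'
    · exact hb'
    obtain ⟨h, hh, hha, hhb⟩ := hmove X hX a b' hbX c' hc' hab.symm hca hbc'
    have h1 := (isBlock_iff_smul_eq_of_nonempty.1 hB) (g := ⟨h, hh⟩)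
      ⟨a, ⟨a, ha, hha⟩, ha⟩
    rw [← h1, ← hhb]
    exact Set.smul_mem_smul_set (a := (⟨h, hh⟩ : M)) hb'
  have hcl' : ∀ (X : Set α), (X = S ∨ X = Sᶜ) → a ∈ X → ∀ c' ∈ X, c' ∈ B := by
    intro X hX haX c' hc'
    rcases eq_or_ne c' b' with rfl | hcb
    · exact hb'
    rcases eq_or_ne a c' with rfl | hac
    · exact ha
    obtain ⟨h, hh, hhb, hha⟩ := hmove X hX b' a haX c' hc' hab hcb hac
    have h1 := (isBlock_iff_smul_eq_of_nonempty.1 hB) (g := ⟨h, hh⟩)
      ⟨b', ⟨b', hb', hhb⟩, hb'⟩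
    rw [← h1, ← hha]
    exact Set.smul_mem_smul_set (a := (⟨h, hh⟩ : M)) ha
  -- `B` contains one of the halves, hence also the image of it under `g`, hence the other half
  have hgB : ∀ {p q : α}, p ∈ B → g p = q → (∃ r ∈ B, g r = r) → q ∈ B := by
    rintro p q hp rfl ⟨r, hr, hgr⟩
    have h1 := (isBlock_iff_smul_eq_of_nonempty.1 hB) (g := ⟨g, hgM⟩) ⟨r, ⟨r, hr, hgr⟩, hr⟩
    rw [← h1]
    exact Set.smul_mem_smul_set (a := (⟨g, hgM⟩ : M)) hp
  have hall : (∀ y ∈ S, y ∈ B) ∧ (∀ y ∈ Sᶜ, y ∈ B) := by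
    by_cases haS : a ∈ S <;> by_cases hbS : b' ∈ S
    · have hSB := hcl S (Or.inl rfl) hbS
      have hvB : v ∈ B := hgB (hSB u hu) hguv ⟨w, hSB w hwS, hgw⟩
      refine ⟨hSB, fun y hy => ?_⟩
      rcases eq_or_ne y v with rfl | hyv
      · exact hvB
      obtain ⟨h, hh, hha, hhv⟩ := hmove Sᶜ (Or.inr rfl) a v hv y hy
        (fun e => hv (e ▸ haS)) (fun e => hy (e ▸ haS)) hyv.symm
      have h1 := (isBlock_iff_smul_eq_of_nonempty.1 hB) (g := ⟨h, hh⟩) ⟨a, ⟨a, ha, hha⟩, ha⟩
      rw [← h1, ← hhv]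
      exact Set.smul_mem_smul_set (a := (⟨h, hh⟩ : M)) hvB
    · exact ⟨hcl' S (Or.inl rfl) haS, hcl Sᶜ (Or.inr rfl) hbS⟩
    · exact ⟨hcl S (Or.inl rfl) hbS, hcl' Sᶜ (Or.inr rfl) haS⟩
    · have hSB := hcl Sᶜ (Or.inr rfl) hbS
      have huB : u ∈ B := hgB (hSB v hv) hgvu ⟨z, hSB z hzS, hgz⟩
      refine ⟨fun y hy => ?_, hSB⟩
      rcases eq_or_ne y u with rfl | hyu
      · exact huB
      obtain ⟨h, hh, hha, hhu⟩ := hmove S (Or.inl rfl) a u hu y hy
        (fun e => haS (e ▸ hu)) (fun e => haS (e ▸ hy)) hyu.symm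
      have h1 := (isBlock_iff_smul_eq_of_nonempty.1 hB) (g := ⟨h, hh⟩) ⟨a, ⟨a, ha, hha⟩, ha⟩
      rw [← h1, ← hhu]
      exact Set.smul_mem_smul_set (a := (⟨h, hh⟩ : M)) huB
  exact Set.eq_univ_of_forall fun y => (em (y ∈ S)).elim (hall.1 y) (hall.2 y)

/-- The negative direction. -/
theorem exists_pow_of_existsUnique (hι : Function.Injective ι)
    (hA : alternatingGroup α ≤ ι.range)
    (hco : ∀ s : Set α, s.Nonempty → sᶜ.Nonempty → Nat.card α ≠ 2 * s.ncard →
      IsCoatom (stab ι s))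
    (h5 : 5 ≤ Fintype.card α) (R : Sylow 2 Γ)
    (h : ∃! M : Subgroup Γ, IsCoatom M ∧ (R : Subgroup Γ) ≤ M) :
    ∃ k, 2 ≤ k ∧ Fintype.card α = 2 ^ k + 1 := by
  classical
  by_contra hnk
  push Not at hnk
  have hnt : Nontrivial α := Fintype.one_lt_card_iff_nontrivial.1 (by omega)
  have htrA : IsPretransitive ι.range α := by
    refine ⟨fun b c => ?_⟩
    rcases eq_or_ne b c with rfl | hbc
    · exact ⟨1, one_smul _ _⟩
    obtain ⟨d, hd⟩ := exists_notMem_of_card_le (t := {b, c})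
      (lt_of_le_of_lt Finset.card_le_two (by omega))
    simp only [Finset.mem_insert, Finset.mem_singleton, not_or] at hd
    obtain ⟨g, -, hgA, hgb, -⟩ := exists_even_move hbc (Ne.symm hd.1) (Ne.symm hd.2)
    exact ⟨⟨g, hA hgA⟩, hgb⟩
  obtain ⟨M, hM, hRM, hmax⟩ := forall_le_of_existsUnique R h
  set P := (R : Subgroup Γ).map ι with hPdef
  have hP : IsPGroup 2 P := isPGroup_map R
  have hhalf : ∀ x, Nat.card α ≠ 2 * (orb P x).ncard := by
    intro x hx
    obtain ⟨a, ha⟩ := ncard_orb hP x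
    have hd := pow_dvd_ncard_orb hι R x (e := a + 1) (by rw [hx, ha, pow_succ'])
    rw [← hPdef, ha, Nat.pow_dvd_pow_iff_le_right one_lt_two] at hd
    omega
  have hmem : ∀ g ∈ alternatingGroup α, ∀ X : Subgroup Γ, X ≤ M →
      (∀ γ : Γ, ι γ = g → γ ∈ X) → g ∈ M.map ι := by
    intro g hg X hXM hX
    obtain ⟨γ, hγ⟩ := hA hg
    exact ⟨γ, hXM (hX γ hγ), hγ⟩
  obtain ⟨x₀⟩ : Nonempty α := inferInstance
  -- two suitable orbit stabilisers cannot both exist
  have hstab : ∀ x, (∃ y, y ∉ orb P x) → M = stab ι (orb P x) := by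
    intro x ⟨y, hy⟩
    have hc := hco _ ⟨x, self_mem_orb x⟩ ⟨y, hy⟩ (hhalf x)
    exact ((hc.le_iff.1 (hmax _ (le_stab_orb R x) hc.ne_top)).resolve_left hM.ne_top)
  by_cases hone : ∀ y, y ∈ orb P x₀
  · -- transitive
    obtain ⟨a, ha⟩ := ncard_orb hP x₀
    have hcard : Fintype.card α = 2 ^ a := by
      rw [← ha, Set.eq_univ_of_forall hone, Set.ncard_univ, Nat.card_eq_fintype_card]
    have ha3 : 3 ≤ a := by
      by_contra hc
      have : 2 ^ a ≤ 2 ^ 2 := Nat.pow_le_pow_right (by omega) (by omega)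
      omega
    have hfp : ∀ x, ∃ r ∈ P, r x ≠ x := by
      intro x
      obtain ⟨y, hy⟩ := exists_ne x
      obtain ⟨r, hr, hrx⟩ := mem_orb.1 (by rw [← orb_eq (hone x)] at hone; exact hone y)
      exact ⟨r, hr, hrx ▸ hy⟩
    obtain ⟨π, hπ, hπfp, hπc, -⟩ := exists_pairing hP hfp
    obtain ⟨S, hS, hSinv⟩ := exists_halving hP x₀ hone (by omega)
    have h8 : 8 ≤ Fintype.card α := by
      rw [hcard]; exact le_trans (by norm_num) (Nat.pow_le_pow_right (by omega) ha3)
    have hSc := Set.ncard_add_ncard_compl S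
    rw [Nat.card_eq_fintype_card] at hSc
    have h4 : 4 ≤ S.ncard := by omega
    have h4' : 4 ≤ Sᶜ.ncard := by omega
    let C : Subgroup Γ := (Subgroup.centralizer {π}).comap ι
    have hCM : C ≤ M := by
      refine hmax C (fun r hr => ?_) (fun htop => ?_)
      · exact Subgroup.mem_centralizer_singleton_iff.2 ((hπc _ ⟨r, hr, rfl⟩))
      · obtain ⟨g, hg, hne⟩ := exists_not_commute hπfp (by omega) x₀
        obtain ⟨γ, rfl⟩ := hA hg
        have : γ ∈ C := htop ▸ Subgroup.mem_top γ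
        exact hne (Subgroup.mem_centralizer_singleton_iff.1 this)
    let W : Subgroup Γ := (stabilizer (Perm α) ({S, Sᶜ} : Set (Set α))).comap ι
    have hWmem : ∀ σ : Perm α, (σ • S = S ∨ σ • S = Sᶜ) →
        σ • ({S, Sᶜ} : Set (Set α)) = {S, Sᶜ} := by
      intro σ hσ
      have hc : σ • Sᶜ = (σ • S)ᶜ := Set.smul_set_compl
      rw [Set.smul_set_insert, Set.smul_set_singleton, hc]
      rcases hσ with e | e <;> rw [e]
      rw [compl_compl, Set.pair_comm]
    obtain ⟨x, hx⟩ : S.Nonempty := Set.nonempty_of_ncard_ne_zero (by omega)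
    have hWM : W ≤ M := by
      refine hmax W (fun r hr => ?_) (fun htop => ?_)
      · exact hWmem _ (hSinv _ ⟨r, hr, rfl⟩)
      · obtain ⟨b, hb⟩ : Sᶜ.Nonempty := Set.nonempty_of_ncard_ne_zero (by omega)
        obtain ⟨d, hd, hdx⟩ : ∃ d ∈ S, d ∉ ({x} : Set α) :=
          Set.exists_mem_notMem_of_ncard_lt_ncard (by rw [Set.ncard_singleton]; omega)
        obtain ⟨w, hw, hwxd⟩ : ∃ w ∈ S, w ∉ ({x, d} : Set α) :=
          Set.exists_mem_notMem_of_ncard_lt_ncard (by
            rw [Set.ncard_pair (Ne.symm hdx)]; omega)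
        simp only [Set.mem_insert_iff, Set.mem_singleton_iff, not_or] at hdx hwxd
        obtain ⟨g, -, hgA, hgxb, hfix⟩ := exists_even_move (fun e : x = b => hb (e ▸ hx))
          (Ne.symm hdx) (fun e : b = d => hb (e ▸ hd))
        obtain ⟨γ, rfl⟩ := hA hgA
        have hγ : γ ∈ W := htop ▸ Subgroup.mem_top γ
        have hm : ι γ • S ∈ ({S, Sᶜ} : Set (Set α)) := by
          rw [← (mem_stabilizer_iff.1 hγ)]
          exact Set.smul_mem_smul_set (Set.mem_insert _ _)
        have hgw : ι γ w = w := hfix w hwxd.1 (fun e => hb (e ▸ hw)) hwxd.2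
        rcases hm with e | e
        · exact hb (e ▸ (hgxb ▸ Set.smul_mem_smul_set hx : b ∈ ι γ • S))
        · exact ((Set.mem_singleton_iff.1 e) ▸ (hgw ▸ Set.smul_mem_smul_set hw : w ∈ ι γ • S)) hw
    have htr : IsPretransitive (M.map ι) α := by
      have hle : P ≤ M.map ι := Subgroup.map_mono hRM
      refine ⟨fun b c => ?_⟩
      obtain ⟨r, hr, hrb⟩ := mem_orb.1 (by rw [← orb_eq (hone b)] at hone; exact hone c)
      exact ⟨⟨r, hle hr⟩, hrb⟩
    obtain ⟨y, hy, hyπ⟩ : ∃ y ∈ Sᶜ, y ∉ ({π x} : Set α) :=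
      Set.exists_mem_notMem_of_ncard_lt_ncard (by rw [Set.ncard_singleton]; omega)
    obtain ⟨g, hgA, hgc, hgx, hgy, hgfix⟩ := exists_pairing_move hπ hπfp
      (fun e : x = y => hy (e ▸ hx)) hyπ
    obtain ⟨w, hw, hw'⟩ : ∃ w ∈ S, w ∉ ({x, π x, π y} : Set α) := by
      apply Set.exists_mem_notMem_of_ncard_lt_ncard
      have h1 := Set.ncard_insert_le x ({π x, π y} : Set α)
      have h2 := Set.ncard_insert_le (π x) ({π y} : Set α)
      rw [Set.ncard_singleton] at h2
      omega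
      exact Set.toFinite _
    obtain ⟨z, hz, hz'⟩ : ∃ z ∈ Sᶜ, z ∉ ({y, π x, π y} : Set α) := by
      apply Set.exists_mem_notMem_of_ncard_lt_ncard
      have h1 := Set.ncard_insert_le y ({π x, π y} : Set α)
      have h2 := Set.ncard_insert_le (π x) ({π y} : Set α)
      rw [Set.ncard_singleton] at h2
      omega
      exact Set.toFinite _
    simp only [Set.mem_insert_iff, Set.mem_singleton_iff, not_or] at hw' hz'
    have hgM : g ∈ M.map ι := hmem g hgA C hCM
      (fun γ hγ => Subgroup.mem_centralizer_singleton_iff.2 (by rw [hγ]; exact hgc))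
    have hAM := alt_le_of_halving (M := M.map ι) h4 h4'
      (fun σ hσ hσS => hmem σ hσ W hWM (fun γ hγ => by
        rw [← hγ] at hσS; exact hWmem _ (Or.inl hσS))) hgM
      ⟨x, hx, y, hy, w, hw, z, hz, hgx, hgy,
        hgfix w hw'.1 (fun e => hy (e ▸ hw)) hw'.2.1 hw'.2.2,
        hgfix z (fun e => hz (e ▸ hx)) hz'.1 hz'.2.1 hz'.2.2⟩
    exact hM.ne_top (eq_top_of_alt_le hι hA R M hRM hAM)
  · push Not at hone
    obtain ⟨y₀, hy₀⟩ := hone
    have hM1 := hstab x₀ ⟨y₀, hy₀⟩
    have hdisj : orb P y₀ ≠ orb P x₀ := fun e => hy₀ (e ▸ self_mem_orb y₀)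
    have hx₀ : x₀ ∉ orb P y₀ := fun e => hdisj (orb_eq e).symm
    by_cases htwo : ∀ z, z ∈ orb P x₀ ∨ z ∈ orb P y₀
    · -- two orbits
      obtain ⟨a, ha⟩ := ncard_orb hP x₀
      obtain ⟨b, hb⟩ := ncard_orb hP y₀
      have hcard : Fintype.card α = 2 ^ a + 2 ^ b := by
        rw [← ha, ← hb, ← Set.ncard_union_eq, Set.eq_univ_of_forall (s := orb P x₀ ∪ orb P y₀) htwo,
          Set.ncard_univ, Nat.card_eq_fintype_card]
        rw [Set.disjoint_left]
        intro z h1 h2
        exact hdisj ((orb_eq h2).symm.trans (orb_eq h1))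
      have h2 : ∀ a b : ℕ, Fintype.card α = 2 ^ a + 2 ^ b → 1 ≤ a := by
        intro a b hc
        by_contra ha0
        have : a = 0 := by omega
        subst this
        refine hnk b ?_ (by rw [hc, pow_zero, Nat.add_comm])
        by_contra hb2
        have : 2 ^ b ≤ 2 ^ 1 := Nat.pow_le_pow_right (by omega) (by omega)
        omega
      have ha1 := h2 a b hcard
      have hb1 := h2 b a (by omega)
      have hfp : ∀ x, ∃ r ∈ P, r x ≠ x := by
        intro x
        by_contra hc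
        push Not at hc
        have hsub : orb P x = {x} := Set.Subset.antisymm (fun z hz => by
          obtain ⟨r, hr, rfl⟩ := mem_orb.1 hz
          exact hc r hr) (Set.singleton_subset_iff.2 (self_mem_orb x))
        rcases htwo x with hx | hx
        · rw [← orb_eq hx, hsub, Set.ncard_singleton] at ha
          have := Nat.one_lt_two_pow (n := a) (by omega); omega
        · rw [← orb_eq hx, hsub, Set.ncard_singleton] at hb
          have := Nat.one_lt_two_pow (n := b) (by omega); omega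
      obtain ⟨π, hπ, hπfp, hπc, hπorb⟩ := exists_pairing hP hfp
      have hyπ : y₀ ≠ π x₀ := fun e => hy₀ (e ▸ hπorb x₀)
      obtain ⟨g, hgA, hgc, hgx, -, -⟩ := exists_pairing_move hπ hπfp
        (fun e : x₀ = y₀ => hy₀ (e ▸ self_mem_orb x₀)) hyπ
      let C : Subgroup Γ := (Subgroup.centralizer {π}).comap ι
      have hCM : C ≤ M := by
        refine hmax C (fun r hr => ?_) (fun htop => ?_)
        · exact Subgroup.mem_centralizer_singleton_iff.2 ((hπc _ ⟨r, hr, rfl⟩))
        · obtain ⟨g, hg, hne⟩ := exists_not_commute hπfp (by omega) x₀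
          obtain ⟨γ, rfl⟩ := hA hg
          have : γ ∈ C := htop ▸ Subgroup.mem_top γ
          exact hne (Subgroup.mem_centralizer_singleton_iff.1 this)
      obtain ⟨γ, rfl⟩ := hA hgA
      have hγ : γ ∈ C := Subgroup.mem_centralizer_singleton_iff.2 hgc
      have hγM := hCM hγ
      rw [hM1] at hγM
      exact hy₀ (hgx ▸ (apply_mem_iff_of_mem_stabilizer hγM).2 (self_mem_orb x₀))
    · -- at least three orbits
      push Not at htwo
      obtain ⟨z₀, hz1, hz2⟩ := htwo
      have hM2 := hstab y₀ ⟨x₀, hx₀⟩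
      have hd : ∃ d, d ∉ orb P x₀ ∧ d ≠ y₀ ∧ d ≠ z₀ := by
        by_contra hc
        push Not at hc
        have hY : orb P y₀ = {y₀} := Set.Subset.antisymm (fun d hd => by
          rcases eq_or_ne d y₀ with e | e
          · exact e
          · have := hc d (fun h' => hdisj ((orb_eq hd).symm.trans (orb_eq h'))) e
            exact absurd (this ▸ hd) hz2) (Set.singleton_subset_iff.2 (self_mem_orb y₀))
        have hcompl : (orb P x₀)ᶜ = {y₀, z₀} := by
          ext d
          constructor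
          · intro hd
            rcases eq_or_ne d y₀ with e | e
            · exact Or.inl e
            · exact Or.inr (hc d hd e)
          · rintro (rfl | rfl) <;> assumption
        have hz3 : y₀ ≠ z₀ := fun e => hz2 (e ▸ self_mem_orb y₀)
        obtain ⟨a, ha⟩ := ncard_orb hP x₀
        have hs := Set.ncard_add_ncard_compl (orb P x₀)
        rw [hcompl, Set.ncard_pair hz3, ha] at hs
        have hodd : ¬ 2 ^ 1 ∣ Nat.card α := fun hd => by
          have := pow_dvd_ncard_orb hι R y₀ hd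
          rw [← hPdef, hY, Set.ncard_singleton] at this
          simp at this
        rw [Nat.card_eq_fintype_card] at hs hodd
        rcases Nat.eq_zero_or_pos a with rfl | hapos
        · simp at hs; omega
        · apply hodd
          rw [← hs]
          exact dvd_add (pow_dvd_pow 2 hapos) (by norm_num)
      obtain ⟨d, hd1, hd2, hd3⟩ := hd
      have hyz : y₀ ≠ z₀ := fun e => hz2 (e ▸ self_mem_orb y₀)
      obtain ⟨g, -, hgA, hgyz, hfix⟩ := exists_even_move hyz hd2.symm hd3.symm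
      obtain ⟨γ, rfl⟩ := hA hgA
      have hγ : γ ∈ stab ι (orb P x₀) := by
        apply mem_stabilizer_of_mapsTo
        intro t ht
        rwa [hfix t (fun e => hy₀ (e ▸ ht)) (fun e => hz1 (e ▸ ht)) (fun e => hd1 (e ▸ ht))]
      rw [← hM1, hM2] at hγ
      exact hz2 (hgyz ▸ (apply_mem_iff_of_mem_stabilizer hγ).2 (self_mem_orb y₀))

end Cfsg.Agent.Involutions.AltUniqueMax
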