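import Mathlib
import Cfsg.Agent.Lib.Involutions.AltUniqueMaxNeg

/-! Sylow 2-subgroups of symmetric groups, and of alternating groups of degree at least 6, are
self-normalizing. -/

set_option autoImplicit false
set_option linter.unusedSectionVars false

namespace Cfsg.Agent.Involutions.AltSylowNormalizer

open Equiv MulAction
open Cfsg.Agent.Involutions.AltUniqueMax
open scoped Pointwise

variable {α : Type*} [Fintype α] [DecidableEq α]
variable {Γ : Type*} [Group Γ] [Finite Γ] {ι : Γ →* Perm α}

/-- A Sylow 2-subgroup of a 2-transitive group fixes at most one point. -/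
theorem fixed_unique
    (h2t : ∀ a b c d : α, a ≠ b → c ≠ d → ∃ g ∈ ι.range, g a = c ∧ g b = d)
    (R : Sylow 2 Γ) {a b : α} (ha : ∀ r ∈ (R : Subgroup Γ), ι r a = a)
    (hb : ∀ r ∈ (R : Subgroup Γ), ι r b = b) : a = b := by
  by_contra hab
  have : Fact (Nat.Prime 2) := ⟨Nat.prime_two⟩
  let K : Subgroup Γ := (stabilizer (Perm α) (a, b)).comap ι
  have hRK : (R : Subgroup Γ) ≤ K := fun r hr => Prod.ext (ha r hr) (hb r hr)
  have hK : K.index = (Finset.univ : Finset α).offDiag.card := by
    rw [Subgroup.index_comap]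
    change (stabilizer ι.range (a, b)).index = _
    rw [index_stabilizer, ← Set.ncard_coe_finset]
    congr 1
    ext ⟨c, d⟩
    simp only [Finset.mem_coe, Finset.mem_offDiag, Finset.mem_univ, true_and]
    constructor
    · rintro ⟨⟨g, hg⟩, hgp⟩ hcd
      have h1 : g a = c := congrArg Prod.fst hgp
      have h2 : g b = d := congrArg Prod.snd hgp
      exact hab (g.injective (h1.trans (hcd.trans h2.symm)))
    · intro hcd
      obtain ⟨g, hg, h1, h2⟩ := h2t a b c d hab hcd
      exact ⟨⟨g, hg⟩, Prod.ext h1 h2⟩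
  have heven : 2 ∣ (Finset.univ : Finset α).offDiag.card := by
    rw [Finset.offDiag_card, Finset.card_univ]
    rcases Fintype.card α with _ | m
    · simp
    · have : (m + 1) * (m + 1) - (m + 1) = m * (m + 1) := by
        rw [add_mul, one_mul]; omega
      rw [this]
      exact (Nat.even_mul_succ_self m).two_dvd
  exact R.not_dvd_index ((hK ▸ heven).trans (Subgroup.index_dvd_of_le hRK))

/-- A Sylow 2-subgroup contains the elements of the group that respect an invariant pairing
pair by pair. -/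
theorem mem_of_respects_pairs (hι : Function.Injective ι) (R : Sylow 2 Γ) {π : Perm α}
    (hπ : ∀ a, π (π a) = a) (hπc : ∀ r ∈ (R : Subgroup Γ), ι r * π = π * ι r)
    {γ : Γ} (hγ : ∀ a, ι γ a = a ∨ ι γ a = π a) : γ ∈ (R : Subgroup Γ) := by
  have : Fact (Nat.Prime 2) := ⟨Nat.prime_two⟩
  let U : Subgroup Γ :=
    { carrier := {u | ∀ a, ι u a = a ∨ ι u a = π a}
      one_mem' := fun a => by simp
      mul_mem' := by
        intro u v hu hv a
        rw [map_mul, Perm.mul_apply]
        rcases hv a with h | h <;> rw [h]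
        · exact hu a
        · rcases hu (π a) with h' | h' <;> rw [h']
          · exact Or.inr rfl
          · exact Or.inl (hπ a)
      inv_mem' := by
        intro u hu a
        rw [map_inv]
        rcases hu ((ι u)⁻¹ a) with h | h <;> rw [apply_inv_cancel] at h
        · exact Or.inl h.symm
        · right
          conv_rhs => rw [h]
          rw [hπ] }
  have hU : IsPGroup 2 U := by
    intro u
    refine ⟨1, Subtype.ext (hι ?_)⟩
    rw [SubgroupClass.coe_pow, map_pow, OneMemClass.coe_one, map_one, pow_one, sq]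
    ext a
    rw [Perm.mul_apply, Perm.one_apply]
    rcases u.2 a with h | h
    · rw [h, h]
    · rw [h]
      rcases u.2 (π a) with h' | h'
      · have he : π a = a := (ι u).injective (h'.trans h.symm)
        rw [h', he]
      · rw [h', hπ]
  have hnorm : (R : Subgroup Γ) ≤ Subgroup.normalizer (U : Set Γ) := by
    rw [Subgroup.le_normalizer_iff]
    intro r hr u hu a
    have hc := hπc r⁻¹ (inv_mem hr)
    rw [map_mul, map_mul, Perm.mul_apply, Perm.mul_apply]
    rcases hu (ι r⁻¹ a) with h | h <;> rw [h]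
    · left; rw [map_inv, apply_inv_cancel]
    · right
      have := congrArg (fun σ : Perm α => σ a) hc
      simp only [Perm.mul_apply] at this
      rw [← this, map_inv, apply_inv_cancel]
  have h2 := IsPGroup.to_sup_of_normal_right' R.2 hU hnorm
  have := R.3 h2 le_sup_left
  exact this ▸ Subgroup.mem_sup_right hγ

section Pairs

variable {π : Perm α} (hπ : ∀ a, π (π a) = a) (e : α ↪ ℕ)

/-- The chosen representative of a pair. -/
def rep (π : Perm α) (e : α ↪ ℕ) (a : α) : α := if e a ≤ e (π a) then a else π a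

/-- The pairs of moved points, given by their representatives. -/
abbrev Pair (π : Perm α) (e : α ↪ ℕ) : Type _ := {a : α // e a < e (π a)}

theorem rep_pi {π : Perm α} (hπ : ∀ a, π (π a) = a) (e : α ↪ ℕ) (a : α) :
    rep π e (π a) = rep π e a := by
  simp only [rep, hπ]
  rcases lt_trichotomy (e a) (e (π a)) with h | h | h
  · rw [if_neg (by omega), if_pos h.le]
  · have := e.injective h
    simp [← this]
  · rw [if_pos h.le, if_neg (by omega)]

theorem rep_eq (π : Perm α) (e : α ↪ ℕ) (a : α) : rep π e a = a ∨ rep π e a = π a := by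
  unfold rep; split_ifs <;> simp

theorem rep_lt {π : Perm α} (hπ : ∀ a, π (π a) = a) (e : α ↪ ℕ) {a : α} (h : π a ≠ a) :
    e (rep π e a) < e (π (rep π e a)) := by
  have hne : e a ≠ e (π a) := fun h' => h (e.injective h').symm
  unfold rep
  split_ifs with h1
  · omega
  · rw [hπ]; omega

theorem rep_self (π : Perm α) (e : α ↪ ℕ) {a : α} (h : e a < e (π a)) : rep π e a = a :=
  if_pos h.le

theorem rep_apply_rep {π : Perm α} (hπ : ∀ a, π (π a) = a) (e : α ↪ ℕ) {c : Perm α}
    (hc : c * π = π * c) (a : α) : rep π e (c (rep π e a)) = rep π e (c a) := by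
  rcases rep_eq π e a with h | h <;> rw [h]
  have := congrArg (fun σ : Perm α => σ a) hc
  simp only [Perm.mul_apply] at this
  rw [this, rep_pi hπ]

theorem pair_moves {π : Perm α} {e : α ↪ ℕ} (b : Pair π e) : π b.1 ≠ b.1 :=
  fun h => lt_irrefl (e b.1) (lt_of_lt_of_eq b.2 (congrArg e h))

theorem apply_moves {π : Perm α} {c : Perm α} (hc : c * π = π * c) {a : α} (h : π a ≠ a) :
    π (c a) ≠ c a := by
  have := congrArg (fun σ : Perm α => σ a) hc
  simp only [Perm.mul_apply] at this
  rw [← this]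
  exact fun h' => h (c.injective h')

/-- The action on pairs of the permutations respecting the pairing. -/
def onPairs {π : Perm α} (hπ : ∀ a, π (π a) = a) (e : α ↪ ℕ) :
    ↥(Subgroup.centralizer ({π} : Set (Perm α))) →* Perm (Pair π e) where
  toFun c :=
    { toFun := fun b => ⟨rep π e (c.1 b.1), rep_lt hπ e
        (apply_moves (Subgroup.mem_centralizer_singleton_iff.1 c.2) (pair_moves b))⟩
      invFun := fun b => ⟨rep π e ((c⁻¹).1 b.1), rep_lt hπ e
        (apply_moves (Subgroup.mem_centralizer_singleton_iff.1 (c⁻¹).2) (pair_moves b))⟩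
      left_inv := fun b => Subtype.ext (by
        dsimp only
        rw [rep_apply_rep hπ e (Subgroup.mem_centralizer_singleton_iff.1 (c⁻¹).2),
          ← Perm.mul_apply, ← Subgroup.coe_mul, inv_mul_cancel]
        exact rep_self π e b.2)
      right_inv := fun b => Subtype.ext (by
        dsimp only
        rw [rep_apply_rep hπ e (Subgroup.mem_centralizer_singleton_iff.1 c.2),
          ← Perm.mul_apply, ← Subgroup.coe_mul, mul_inv_cancel]
        exact rep_self π e b.2) }
  map_one' := Equiv.ext fun b => Subtype.ext (rep_self π e b.2)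
  map_mul' c d := Equiv.ext fun b => Subtype.ext
    (rep_apply_rep hπ e (Subgroup.mem_centralizer_singleton_iff.1 c.2) (d.1 b.1)).symm

theorem onPairs_apply {π : Perm α} (hπ : ∀ a, π (π a) = a) (e : α ↪ ℕ)
    (c : ↥(Subgroup.centralizer ({π} : Set (Perm α)))) (b : Pair π e) :
    (onPairs hπ e c b).1 = rep π e (c.1 b.1) := rfl

theorem exists_lift {π : Perm α} (hπ : ∀ a, π (π a) = a) (e : α ↪ ℕ) (σ : Perm (Pair π e)) :
    ∃ c : Perm α, c * π = π * c ∧ ∀ b : Pair π e, rep π e (c b.1) = (σ b).1 := by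
  let F : Perm (Pair π e) → α → α := fun τ a =>
    if h : e a < e (π a) then (τ ⟨a, h⟩).1
    else if h' : e (π a) < e (π (π a)) then π (τ ⟨π a, h'⟩).1 else a
  have hF1 : ∀ τ (b : Pair π e), F τ b.1 = (τ b).1 := fun τ b => dif_pos b.2
  have hF2 : ∀ τ (b : Pair π e), F τ (π b.1) = π (τ b).1 := by
    intro τ b
    have h1 : ¬ e (π b.1) < e (π (π b.1)) := by rw [hπ]; exact not_lt.2 b.2.le
    have h2 : e (π (π b.1)) < e (π (π (π b.1))) := by rw [hπ]; exact b.2
    simp only [F, dif_neg h1, dif_pos h2]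
    congr 3
    exact Subtype.ext (hπ _)
  have hcases : ∀ a, π a = a ∨ ∃ b : Pair π e, a = b.1 ∨ a = π b.1 := by
    intro a
    by_cases ha : π a = a
    · exact Or.inl ha
    · right
      refine ⟨⟨rep π e a, rep_lt hπ e ha⟩, ?_⟩
      rcases rep_eq π e a with h | h
      · exact Or.inl h.symm
      · right
        change a = π (rep π e a)
        rw [h, hπ]
  have hF3 : ∀ τ a, π a = a → F τ a = a := by
    intro τ a ha
    simp only [F]
    rw [dif_neg (by rw [ha]; exact lt_irrefl _), dif_neg (by rw [ha, ha]; exact lt_irrefl _)]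
  have hinv : ∀ τ a, F τ⁻¹ (F τ a) = a := by
    intro τ a
    rcases hcases a with ha | ⟨b, rfl | rfl⟩
    · rw [hF3 _ _ ha, hF3 _ _ ha]
    · rw [hF1, hF1, inv_apply_cancel]
    · rw [hF2, hF2, inv_apply_cancel]
  refine ⟨⟨F σ, F σ⁻¹, hinv σ, fun a => by simpa using hinv σ⁻¹ a⟩, ?_, fun b => ?_⟩
  · ext a
    simp only [Perm.mul_apply, Equiv.coe_fn_mk]
    rcases hcases a with ha | ⟨b, rfl | rfl⟩
    · rw [ha, hF3 _ _ ha, ha]
    · rw [hF2, hF1]
    · rw [hπ, hF1, hF2, hπ]
  · change rep π e (F σ b.1) = _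
    rw [hF1, rep_self π e (σ b).2]

end Pairs

/-- The inductive step. -/
theorem eq_one_step (hι : Function.Injective ι) (hA : alternatingGroup α ≤ ι.range)
    (h2t : ∀ a b c d : α, a ≠ b → c ≠ d → ∃ g ∈ ι.range, g a = c ∧ g b = d)
    (IH : ∀ (β : Type u_1) [Fintype β] [DecidableEq β], Fintype.card β < Fintype.card α →
      ∀ (P : Sylow 2 (Perm β)) (y : Perm β), Odd (orderOf y) →
        (∀ r ∈ (P : Subgroup (Perm β)), y * r * y⁻¹ ∈ (P : Subgroup (Perm β))) → y = 1)
    (R : Sylow 2 Γ) (x : Γ) (hx : Odd (orderOf x))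
    (hnorm : ∀ r ∈ (R : Subgroup Γ), x * r * x⁻¹ ∈ (R : Subgroup Γ))
    (hsep : ∀ π : Perm α, (∀ a, π (π a) = a) →
      (∀ γ : Γ, (∀ a, ι γ a = a ∨ ι γ a = π a) → γ ∈ (R : Subgroup Γ)) →
      (∀ a b, π a = a → π b = b → a = b) →
      ∀ a w, π a ≠ a → w ≠ a → w ≠ π a → ∃ d ∈ (R : Subgroup Γ), ι d a ≠ a ∧ ι d w = w) :
    x = 1 := by
  classical
  have : Fact (Nat.Prime 2) := ⟨Nat.prime_two⟩
  obtain ⟨π, hπ, hπf, hπc0, -⟩ := exists_pairing' (isPGroup_map (ι := ι) R)
  have hπc : ∀ r ∈ (R : Subgroup Γ), ι r * π = π * ι r := fun r hr => hπc0 _ ⟨r, hr, rfl⟩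
  have hfix : ∀ a, π a = a ↔ ∀ r ∈ (R : Subgroup Γ), ι r a = a := fun a =>
    (hπf a).trans ⟨fun h r hr => h _ ⟨r, hr, rfl⟩, by rintro h _ ⟨r, hr, rfl⟩; exact h r hr⟩
  have hu : ∀ a b, π a = a → π b = b → a = b := fun a b ha hb =>
    fixed_unique h2t R ((hfix a).1 ha) ((hfix b).1 hb)
  have hRx : ∀ r ∈ (R : Subgroup Γ), x⁻¹ * r * x ∈ (R : Subgroup Γ) := by
    have h1 : x ∈ Subgroup.normalizer ((R : Subgroup Γ) : Set Γ) := by
      have h2 : (R : Subgroup Γ).map (MulAut.conj x).toMonoidHom = R := by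
        refine Subgroup.eq_of_le_of_card_ge ?_ ?_
        · rintro _ ⟨r, hr, rfl⟩
          exact hnorm r hr
        · rw [Nat.card_congr ((R : Subgroup Γ).equivMapOfInjective
            (MulAut.conj x).toMonoidHom (MulAut.conj x).injective).toEquiv]
      rw [Subgroup.mem_normalizer_iff]
      intro r
      refine ⟨hnorm r, fun h => ?_⟩
      rw [← h2] at h
      obtain ⟨r', hr', he⟩ := h
      exact (MulAut.conj x).injective he ▸ hr'
    intro r hr
    exact Subgroup.mem_normalizer_iff''.1 h1 r |>.1 hr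
  -- `x` fixes the fixed point
  have hxfix : ∀ a, π a = a → ι x a = a := by
    intro a ha
    refine hu _ _ ((hfix _).2 fun r hr => ?_) ha
    have h1 := (hfix a).1 ha _ (hRx r hr)
    rw [map_mul, map_mul, map_inv, Perm.mul_apply, Perm.mul_apply] at h1
    have h2 := congrArg (ι x) h1
    rwa [apply_inv_cancel] at h2
  -- `x` respects the pairing
  have hxc : ι x * π = π * ι x := by
    ext a
    simp only [Perm.mul_apply]
    by_cases ha : π a = a
    · rw [ha, hxfix a ha, ha]
    by_contra hne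
    set b := ι x a with hb
    have hmoved : π b ≠ b := by
      intro h
      have h1 := hxfix b h
      have h2 : b = a := (ι x).injective (h1.trans hb)
      rw [h2] at h
      exact ha h
    have hw : ι x (π a) ≠ b := fun h => ha ((ι x).injective h)
    obtain ⟨d, hd, hdb, hdw⟩ :=
      hsep π hπ (fun γ hγ => mem_of_respects_pairs hι R hπ hπc hγ) hu b (ι x (π a)) hmoved hw hne
    have h1 := congrArg (fun σ : Perm α => σ a) (hπc _ (hRx d hd))
    simp only [map_mul, map_inv, Perm.mul_apply] at h1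
    rw [hdw, inv_apply_cancel, ← hb] at h1
    have h2 := congrArg (ι x) (π.injective h1)
    rw [apply_inv_cancel, ← hb] at h2
    exact hdb h2.symm
  -- pass to the pairs
  let e : α ↪ ℕ := (Fintype.equivFin α).toEmbedding.trans Fin.valEmbedding
  let C : Subgroup Γ := (Subgroup.centralizer ({π} : Set (Perm α))).comap ι
  have hRC : (R : Subgroup Γ) ≤ C := fun r hr => Subgroup.mem_centralizer_singleton_iff.2 (hπc r hr)
  let φ : C →* Perm (Pair π e) := (onPairs hπ e).comp
    ((ι.comp C.subtype).codRestrict _ fun c => c.2)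
  have hφ : ∀ (c : C) (b : Pair π e), (φ c b).1 = rep π e (ι c b.1) := fun _ _ => rfl
  rcases isEmpty_or_nonempty (Pair π e) with hemp | ⟨⟨b₀⟩⟩
  · refine hι (Equiv.ext fun a => ?_)
    have ha : π a = a := by
      by_contra h
      exact hemp.false ⟨_, rep_lt hπ e h⟩
    rw [hxfix a ha, map_one]; rfl
  have hsurj : Function.Surjective φ := by
    intro σ
    obtain ⟨c, hc, hcσ⟩ := exists_lift hπ e σ
    let s : Perm α := swap b₀.1 (π b₀.1)
    have hs : ∀ a, rep π e (s a) = rep π e a := by
      intro a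
      by_cases h1 : a = b₀.1
      · subst h1; rw [swap_apply_left, rep_pi hπ]
      by_cases h2 : a = π b₀.1
      · subst h2; rw [swap_apply_right, rep_pi hπ]
      rw [swap_apply_of_ne_of_ne h1 h2]
    have hsc : s * π = π * s := by
      rw [Equiv.mul_swap_eq_swap_mul π, hπ, swap_comm]
    obtain ⟨c', hc'A, hc', hc'σ⟩ : ∃ c' : Perm α, c' ∈ alternatingGroup α ∧ c' * π = π * c' ∧
        ∀ b : Pair π e, rep π e (c' b.1) = (σ b).1 := by
      rcases Int.units_eq_one_or (Perm.sign c) with h | h
      · exact ⟨c, Perm.mem_alternatingGroup.2 h, hc, hcσ⟩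
      · refine ⟨c * s, Perm.mem_alternatingGroup.2 ?_, ?_, fun b => ?_⟩
        · rw [map_mul, h, Perm.sign_swap (pair_moves b₀).symm]; decide
        · rw [mul_assoc, hsc, ← mul_assoc, hc, mul_assoc]
        · rw [Perm.mul_apply, ← rep_apply_rep hπ e hc, hs, rep_self π e b.2, hcσ]
    obtain ⟨γ, rfl⟩ := hA hc'A
    refine ⟨⟨γ, Subgroup.mem_centralizer_singleton_iff.2 hc'⟩, ?_⟩
    exact Equiv.ext fun b => Subtype.ext ((hφ _ b).trans (hc'σ b))
  have hxC : x ∈ C := Subgroup.mem_centralizer_singleton_iff.2 hxc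
  have hlt : Fintype.card (Pair π e) < Fintype.card α :=
    Fintype.card_subtype_lt (p := fun a => e a < e (π a)) (x := π b₀.1) (by
      rw [hπ]; exact not_lt.2 b₀.2.le)
  have h1 := IH (Pair π e) hlt ((R.subtype hRC).mapSurjective hsurj) (φ ⟨x, hxC⟩)
    (hx.of_dvd_nat ((orderOf_map_dvd φ _).trans (by rw [← Subgroup.orderOf_coe])))
    (by
      rw [Sylow.coe_mapSurjective, Sylow.coe_subtype]
      rintro _ ⟨r, hr, rfl⟩
      refine ⟨⟨x, hxC⟩ * r * ⟨x, hxC⟩⁻¹, hnorm r hr, ?_⟩
      simp only [map_mul, map_inv])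
  have hpair : ∀ a, ι x a = a ∨ ι x a = π a := by
    intro a
    by_cases ha : π a = a
    · exact Or.inl (hxfix a ha)
    have h2 := congrArg (fun σ : Perm (Pair π e) => (σ ⟨_, rep_lt hπ e ha⟩).1) h1
    simp only [Perm.one_apply] at h2
    rw [hφ] at h2
    change rep π e (ι x (rep π e a)) = rep π e a at h2
    rw [rep_apply_rep hπ e hxc] at h2
    rcases rep_eq π e (ι x a) with h | h <;> rcases rep_eq π e a with h' | h' <;>
      rw [h, h'] at h2
    · exact Or.inl h2
    · exact Or.inr h2
    · exact Or.inr (by rw [← hπ (ι x a), h2])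
    · exact Or.inl (π.injective h2)
  have hsq : x * x = 1 := by
    apply hι
    ext a
    rw [map_mul, map_one, Perm.mul_apply, Perm.one_apply]
    rcases hpair a with h | h
    · rw [h, h]
    · rw [h]
      have := congrArg (fun σ : Perm α => σ a) hxc
      simp only [Perm.mul_apply] at this
      rw [this, h, hπ]
  have hdvd : orderOf x ∣ 2 := orderOf_dvd_of_pow_eq_one (by rw [sq, hsq])
  rcases (Nat.dvd_prime Nat.prime_two).1 hdvd with h | h
  · exact orderOf_eq_one_iff.1 h
  · rw [h] at hx; exact absurd hx (by decide)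

/-- Odd-order elements normalising a Sylow 2-subgroup of a symmetric group are trivial. -/
theorem perm_eq_one : ∀ (n : ℕ) (β : Type u_1) [Fintype β] [DecidableEq β], Fintype.card β = n →
    ∀ (P : Sylow 2 (Perm β)) (y : Perm β), Odd (orderOf y) →
      (∀ r ∈ (P : Subgroup (Perm β)), y * r * y⁻¹ ∈ (P : Subgroup (Perm β))) → y = 1 := by
  intro n
  induction n using Nat.strong_induction_on with
  | _ n ih =>
    intro β _ _ hn P y hy hnorm
    refine eq_one_step (ι := MonoidHom.id (Perm β)) Function.injective_id (fun g _ => ⟨g, rfl⟩)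
      ?_ (fun γ _ _ h => ih _ (hn ▸ h) γ rfl) P y hy hnorm ?_
    · intro a b c d hab hcd
      refine ⟨swap (swap a c b) d * swap a c, ⟨_, rfl⟩, ?_, ?_⟩
      · rw [Perm.mul_apply, swap_apply_left, swap_apply_of_ne_of_ne ?_ hcd]
        intro h
        exact hab ((swap a c).injective ((swap_apply_left a c).trans h))
      · rw [Perm.mul_apply, swap_apply_left]
    · intro π hπ hmem _ a w ha hwa hwπ
      refine ⟨swap a (π a), hmem _ fun b => ?_, ?_, ?_⟩
      · change swap a (π a) b = b ∨ swap a (π a) b = π b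
        by_cases h1 : b = a
        · subst h1; exact Or.inr (swap_apply_left _ _)
        by_cases h2 : b = π a
        · subst h2; exact Or.inr (by rw [swap_apply_right, hπ])
        exact Or.inl (swap_apply_of_ne_of_ne h1 h2)
      · change swap a (π a) a ≠ a
        rw [swap_apply_left]; exact ha
      · exact swap_apply_of_ne_of_ne hwa hwπ

/-- Odd-order elements normalising a Sylow 2-subgroup of `A_n`, `n ≥ 6`, are trivial. -/
theorem alt_eq_one {β : Type u_1} [Fintype β] [DecidableEq β] (h6 : 6 ≤ Fintype.card β)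
    (R : Sylow 2 ↥(alternatingGroup β)) (x : ↥(alternatingGroup β)) (hx : Odd (orderOf x))
    (hnorm : ∀ r ∈ (R : Subgroup ↥(alternatingGroup β)),
      x * r * x⁻¹ ∈ (R : Subgroup ↥(alternatingGroup β))) : x = 1 := by
  refine eq_one_step (ι := (alternatingGroup β).subtype) Subtype.val_injective
    (by rw [Subgroup.range_subtype]) ?_ (fun γ _ _ _ => perm_eq_one _ γ rfl) R x hx hnorm ?_
  · intro a b c d hab hcd
    rw [Subgroup.range_subtype]
    obtain ⟨g₁, hg₁, hga⟩ : ∃ g ∈ alternatingGroup β, g a = c := by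
      rcases eq_or_ne a c with rfl | hac
      · exact ⟨1, one_mem _, rfl⟩
      obtain ⟨w, hw⟩ := exists_notMem_of_card_le (t := {a, c})
        (lt_of_le_of_lt Finset.card_le_two (by omega))
      simp only [Finset.mem_insert, Finset.mem_singleton, not_or] at hw
      obtain ⟨g, -, hg, hga, -⟩ := exists_even_move hac (Ne.symm hw.1) (Ne.symm hw.2)
      exact ⟨g, hg, hga⟩
    have hbc : g₁ b ≠ c := fun h => hab (g₁.injective (hga.trans h.symm))
    rcases eq_or_ne (g₁ b) d with hbd | hbd
    · exact ⟨g₁, hg₁, hga, hbd⟩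
    obtain ⟨w, hw⟩ := exists_notMem_of_card_le (t := {c, g₁ b, d})
      (lt_of_le_of_lt Finset.card_le_three (by omega))
    simp only [Finset.mem_insert, Finset.mem_singleton, not_or] at hw
    obtain ⟨g₂, -, hg₂, hgb, hfix⟩ := exists_even_move hbd (Ne.symm hw.2.1) (Ne.symm hw.2.2)
    refine ⟨g₂ * g₁, mul_mem hg₂ hg₁, ?_, ?_⟩
    · rw [Perm.mul_apply, hga, hfix c hbc.symm hcd (Ne.symm hw.1)]
    · rw [Perm.mul_apply, hgb]
  · intro π hπ hmem hu a w ha hwa hwπ
    obtain ⟨b, hb, hπb⟩ : ∃ b, b ∉ ({a, π a, w, π w} : Finset β) ∧ π b ≠ b := by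
      by_contra hc
      push Not at hc
      have h1 : (({a, π a, w, π w} : Finset β)ᶜ).card ≤ 1 := Finset.card_le_one.2
        (fun p hp q hq => hu p q (hc p (Finset.mem_compl.1 hp)) (hc q (Finset.mem_compl.1 hq)))
      rw [Finset.card_compl] at h1
      have h2 : ({a, π a, w, π w} : Finset β).card ≤ 4 := Finset.card_le_four
      omega
    simp only [Finset.mem_insert, Finset.mem_singleton, not_or] at hb
    obtain ⟨hba, hbπa, hbw, hbπw⟩ := hb
    have hwb : w ≠ π b := fun h => hbπw (by rw [h, hπ])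
    have haπb : a ≠ π b := fun h => hbπa (by rw [h, hπ])
    refine ⟨⟨swap a (π a) * swap b (π b), doubleSwap_mem_alternatingGroup (Ne.symm ha) (Ne.symm hπb)⟩,
      hmem _ fun p => ?_, ?_, ?_⟩
    · change (swap a (π a) * swap b (π b)) p = p ∨ (swap a (π a) * swap b (π b)) p = π p
      rw [Perm.mul_apply]
      by_cases h1 : p = b
      · subst h1
        right
        rw [swap_apply_left, swap_apply_of_ne_of_ne haπb.symm (fun h => hba (π.injective h))]
      by_cases h2 : p = π b
      · subst h2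
        right
        rw [swap_apply_right, hπ, swap_apply_of_ne_of_ne hba hbπa]
      rw [swap_apply_of_ne_of_ne h1 h2]
      by_cases h3 : p = a
      · subst h3; exact Or.inr (swap_apply_left _ _)
      by_cases h4 : p = π a
      · subst h4; exact Or.inr (by rw [swap_apply_right, hπ])
      exact Or.inl (swap_apply_of_ne_of_ne h3 h4)
    · change (swap a (π a) * swap b (π b)) a ≠ a
      rw [Perm.mul_apply, swap_apply_of_ne_of_ne (Ne.symm hba) haπb, swap_apply_left]
      exact ha
    · change (swap a (π a) * swap b (π b)) w = w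
      rw [Perm.mul_apply, swap_apply_of_ne_of_ne (Ne.symm hbw) hwb,
        swap_apply_of_ne_of_ne hwa hwπ]

/-- A 2-subgroup condition: `N(R) = R` when odd-order normalising elements are trivial. -/
theorem normalizer_le {G : Type*} [Group G] [Finite G] (R : Sylow 2 G)
    (h : ∀ x : G, Odd (orderOf x) → (∀ r ∈ (R : Subgroup G), x * r * x⁻¹ ∈ (R : Subgroup G)) →
      x = 1) :
    Subgroup.normalizer ((R : Subgroup G) : Set G) ≤ R := by
  have : Fact (Nat.Prime 2) := ⟨Nat.prime_two⟩
  have hp : IsPGroup 2 (Subgroup.normalizer ((R : Subgroup G) : Set G)) := by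
    intro g
    obtain ⟨k, m, hm, hk⟩ := Nat.exists_eq_two_pow_mul_odd (orderOf_pos g).ne'
    refine ⟨k, ?_⟩
    apply Subtype.ext
    refine h _ ?_ (fun r hr => ?_)
    · rw [Subgroup.orderOf_coe, orderOf_pow' _ (pow_ne_zero _ two_ne_zero), hk,
        Nat.gcd_eq_right (dvd_mul_right _ _), Nat.mul_div_cancel_left _ (Nat.two_pow_pos k)]
      exact hm
    · exact (Subgroup.mem_normalizer_iff.1 (g ^ 2 ^ k).2 r).1 hr
  exact (R.3 hp Subgroup.le_normalizer).le

end Cfsg.Agent.Involutions.AltSylowNormalizer
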