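import Mathlib
import Cfsg.Agent.Lib.Transfer.Fusion

/-!
Subgroups containing the normalizers of enough subgroups of a Sylow subgroup.
-/

namespace Cfsg.Agent.Involutions.Control

open Subgroup Cfsg.Agent.Transfer.Fusion

variable {G : Type*} [Group G] [Finite G] {p : ℕ} [Fact p.Prime]

/-- If `H` contains the normalizer of every "good" subgroup of its Sylow `p`-subgroup `P`, for an upward
closed notion of good, then `H` contains every element conjugating a good subgroup of `P` into `P`. -/
theorem mem_of_conj_good (H P : Subgroup G) (hP : IsPGroup p P) (hPH : P ≤ H)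
    (hSyl : ∀ B : Subgroup G, IsPGroup p B → B ≤ H → ∃ h ∈ H, B.map (MulAut.conj h).toMonoidHom ≤ P)
    (good : Subgroup G → Prop) (hup : ∀ A B : Subgroup G, A ≤ B → B ≤ P → good A → good B)
    (hgood_conj : ∀ (A : Subgroup G) (g : G), good A → good (A.map (MulAut.conj g).toMonoidHom))
    (hN : ∀ X : Subgroup G, X ≤ P → good X → Subgroup.normalizer (X : Set G) ≤ H)
    (R : Subgroup G) (hR : R ≤ P) (hRg : good R) (g : G)
    (hg : R.map (MulAut.conj g).toMonoidHom ≤ P) : g ∈ H := by
  induction hn : Nat.card P - Nat.card R using Nat.strongRecOn generalizing R g with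
  | ind n ih =>
    by_cases hRP : R = P
    · subst hRP
      refine hN R le_rfl hRg (mem_normalizer_iff_map_conj_eq.mpr ?_)
      exact Subgroup.eq_of_le_of_card_ge hg (le_of_eq (card_map_conj R g).symm)
    · set R' := R.map (MulAut.conj g).toMonoidHom with hR'
      have hR'P : R' ≠ P := by
        intro e
        apply hRP
        refine Subgroup.eq_of_le_of_card_ge hR ?_
        rw [← e, hR', card_map_conj]
      have grow : ∀ U : Subgroup G, U ≤ P → U ≠ P → U < P ⊓ Subgroup.normalizer (U : Set G) := by
        intro U hU hne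
        refine lt_of_le_of_ne (le_inf hU le_normalizer) fun e => ?_
        have : Group.IsNilpotent P := hP.isNilpotent
        obtain ⟨x, hxn, hx⟩ := SetLike.exists_of_lt (Group.normalizerCondition_of_isNilpotent (G := P)
          (U.subgroupOf P) (lt_top_iff_ne_top.mpr fun e' =>
            hne (le_antisymm hU (Subgroup.subgroupOf_eq_top.mp e'))))
        refine hx ?_
        show (x : G) ∈ U
        rw [e]
        refine ⟨x.2, mem_normalizer_iff.mpr fun u => ?_⟩
        constructor
        · intro hu
          exact (mem_normalizer_iff.mp hxn ⟨u, hU hu⟩).mp hu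
        · intro hu
          have hm : u ∈ P := by
            have := P.mul_mem (P.mul_mem (P.inv_mem x.2) (hU hu)) x.2
            simpa [mul_assoc] using this
          exact (mem_normalizer_iff.mp hxn ⟨u, hm⟩).mpr hu
      set N₁ := P ⊓ Subgroup.normalizer (R : Set G) with hN₁
      set N₂ := P ⊓ Subgroup.normalizer (R' : Set G) with hN₂
      have hK : Subgroup.normalizer (R' : Set G) ≤ H := hN R' hg (hgood_conj R g hRg)
      have h1K : N₁.map (MulAut.conj g).toMonoidHom ≤ Subgroup.normalizer (R' : Set G) := by
        refine (Subgroup.map_mono inf_le_right).trans ?_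
        exact Subgroup.le_normalizer_map _
      obtain ⟨k, hk, S, hS1, hS2⟩ := exists_conj_le_sylow (p := p) (K := Subgroup.normalizer (R' : Set G))
        (A := N₂) (B := N₁.map (MulAut.conj g).toMonoidHom) (hP.to_le inf_le_left) inf_le_right
        ((hP.to_le inf_le_left).map _) h1K
      -- move the common `p`-subgroup of `H` into `P`
      have hBH : N₁.map (MulAut.conj (k * g)).toMonoidHom ⊔ N₂ ≤ H := by
        refine sup_le ?_ (inf_le_right.trans hK)
        rw [map_conj_mul]
        refine (Subgroup.map_mono h1K).trans ?_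
        rintro _ ⟨y, hy, rfl⟩
        exact H.mul_mem (H.mul_mem (hK hk) (hK hy)) (H.inv_mem (hK hk))
      have hBp : IsPGroup p ↥(N₁.map (MulAut.conj (k * g)).toMonoidHom ⊔ N₂) :=
        S.2.to_le (sup_le (by rw [map_conj_mul]; exact hS2) hS1)
      obtain ⟨h, hh, hle⟩ := hSyl _ hBp hBH
      have hlt := grow R hR hRP
      have hN₁P : (N₁.map (MulAut.conj (h * (k * g))).toMonoidHom) ≤ P := by
        rw [map_conj_mul]
        exact (Subgroup.map_mono le_sup_left).trans hle
      have hcard : Nat.card P - Nat.card N₁ < n := by
        have h1 : Nat.card R < Nat.card N₁ := by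
          refine lt_of_not_ge fun hc => hlt.ne (Subgroup.eq_of_le_of_card_ge hlt.le hc)
        have h2 : Nat.card N₁ ≤ Nat.card P := Nat.le_of_dvd Nat.card_pos (Subgroup.card_dvd_of_le inf_le_left)
        omega
      have := ih _ hcard N₁ inf_le_left (hup R N₁ hlt.le inf_le_left hRg) _ hN₁P rfl
      have h3 := H.mul_mem (H.inv_mem (hK hk)) (H.mul_mem (H.inv_mem hh) this)
      simpa [mul_assoc] using h3

end Cfsg.Agent.Involutions.Control
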