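import Mathlib
import Cfsg.Prelude.Def_Transfer
import Cfsg.Agent.Lib.Transfer.NormalPComplement

/-!
# The transfer of an element whose conjugates in `H` have the same image
-/

namespace Cfsg.Agent.Involutions.TransferControl

variable {G : Type*} [Group G] [Finite G] {H : Subgroup G}

theorem transfer_eq_pow {A : Type*} [CommGroup A] (φ : H →* A) {g : G} (hg : g ∈ H)
    (key : ∀ (k : ℕ) (a : G) (ha : a * g ^ k * a⁻¹ ∈ H), φ ⟨a * g ^ k * a⁻¹, ha⟩ = φ ⟨g, hg⟩ ^ k) :
    MonoidHom.transfer φ g = φ ⟨g, hg⟩ ^ H.index := by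
  classical
  let := H.fintypeQuotientOfFiniteIndex
  rw [MonoidHom.transfer_eq_prod_quotient_orbitRel_zpowers_quot, Subgroup.index_eq_sum_minimalPeriod H g,
    ← Finset.prod_pow_eq_pow_sum]
  refine Finset.prod_congr rfl fun q _ => ?_
  have h1 : q.out.out⁻¹ * g ^ Function.minimalPeriod (g • ·) q.out * (q.out.out⁻¹)⁻¹ ∈ H := by
    rw [inv_inv]; exact QuotientGroup.out_conj_pow_minimalPeriod_mem H g q.out
  rw [← key _ _ h1]
  exact congrArg φ (Subtype.ext (congrArg (q.out.out⁻¹ * g ^ Function.minimalPeriod (g • ·) q.out * ·) (inv_inv _).symm))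

theorem notMem_commutator {p : ℕ} [Fact p.Prime] {K : Subgroup G}
    (hKn : (K.subgroupOf H).Normal) (hab : ∀ x ∈ H, ∀ y ∈ H, x * y * x⁻¹ * y⁻¹ ∈ K)
    (hidx : Nat.Coprime p H.index) {g : G} (hgH : g ∈ H) (hgK : g ∉ K)
    (hgp : ∃ k : ℕ, orderOf g = p ^ k)
    (hctrl : ∀ (m : ℕ) (a : G), a * g ^ m * a⁻¹ ∈ H → (a * g ^ m * a⁻¹) * (g ^ m)⁻¹ ∈ K) :
    g ∉ commutator G := by
  have := hKn
  letI : CommGroup (H ⧸ K.subgroupOf H) :=
    { (inferInstance : Group (H ⧸ K.subgroupOf H)) with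
      mul_comm := fun a b => by
        induction a using QuotientGroup.induction_on with | _ x =>
        induction b using QuotientGroup.induction_on with | _ y =>
        rw [← QuotientGroup.mk_mul, ← QuotientGroup.mk_mul, QuotientGroup.eq_iff_div_mem,
          Subgroup.mem_subgroupOf, div_eq_mul_inv, mul_inv_rev, ← mul_assoc]
        exact hab x x.2 y y.2 }
  let φ : H →* H ⧸ K.subgroupOf H := QuotientGroup.mk' _
  have key : ∀ (k : ℕ) (a : G) (ha : a * g ^ k * a⁻¹ ∈ H),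
      φ ⟨a * g ^ k * a⁻¹, ha⟩ = φ ⟨g, hgH⟩ ^ k := by
    intro k a ha
    rw [← map_pow]
    exact QuotientGroup.eq_iff_div_mem.2 (by
      rw [Subgroup.mem_subgroupOf, div_eq_mul_inv]; exact hctrl k a ha)
  intro hgc
  have h1 : MonoidHom.transfer φ g = 1 := Abelianization.commutator_subset_ker _ hgc
  rw [transfer_eq_pow φ hgH key, ← map_pow] at h1
  have h2 : g ^ H.index ∈ K := Subgroup.mem_subgroupOf.1 ((QuotientGroup.eq_one_iff _).1 h1)
  obtain ⟨k, hk⟩ := hgp
  exact hgK (Transfer.NormalPComplement.mem_of_pow_mem (hk ▸ hidx.pow_left k) h2)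

theorem inf_le_of_fusion {p : ℕ} [Fact p.Prime] (hidx : Nat.Coprime p H.index)
    (hfus : ∀ g ∈ H, (∃ k : ℕ, orderOf g = p ^ k) → ∀ a : G, a * g * a⁻¹ ∈ H →
      ∃ h ∈ H, h * g * h⁻¹ = a * g * a⁻¹) :
    (Cfsg.pResidual p G ⊔ commutator G) ⊓ H ≤
      (Cfsg.pResidual p ↥H ⊔ commutator ↥H).map H.subtype := by
  have hpn : (Cfsg.pResidual p ↥H).Normal := inferInstance
  set M := Cfsg.pResidual p ↥H ⊔ commutator ↥H with hM
  have : M.Normal := Subgroup.sup_normal _ _
  letI : CommGroup (H ⧸ M) :=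
    { (inferInstance : Group (H ⧸ M)) with
      mul_comm := fun a b => by
        induction a using QuotientGroup.induction_on with | _ x =>
        induction b using QuotientGroup.induction_on with | _ y =>
        rw [← QuotientGroup.mk_mul, ← QuotientGroup.mk_mul, QuotientGroup.eq_iff_div_mem,
          div_eq_mul_inv, mul_inv_rev, ← mul_assoc]
        exact Subgroup.mem_sup_right (Subgroup.commutator_mem_commutator (Subgroup.mem_top x)
          (Subgroup.mem_top y)) }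
  have hp : IsPGroup p (H ⧸ M) := fun x => by
    induction x using QuotientGroup.induction_on with | _ x =>
    obtain ⟨k, hk⟩ := Transfer.NormalPComplement.pow_pResidual_mem (p := p) x
    exact ⟨k, by rw [← QuotientGroup.mk_pow, QuotientGroup.eq_one_iff]
                 exact Subgroup.mem_sup_left hk⟩
  let φ : H →* H ⧸ M := QuotientGroup.mk' _
  set V := MonoidHom.transfer φ with hV
  have hker : Cfsg.pResidual p G ⊔ commutator G ≤ V.ker := by
    refine sup_le ((Subgroup.closure_le _).2 fun x hx => ?_) (Abelianization.commutator_subset_ker V)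
    obtain ⟨j, hj⟩ := hp (V x)
    exact MonoidHom.mem_ker.2 (orderOf_eq_one_iff.1 (Nat.eq_one_of_dvd_coprimes
      (Nat.Coprime.pow_right j (hx : Nat.Coprime (orderOf x) p)) (orderOf_map_dvd V x)
      (orderOf_dvd_of_pow_eq_one hj)))
  rintro h ⟨hh, hhH⟩
  set m := orderOf h / p ^ (orderOf h).factorization p
  have hgH : h ^ m ∈ H := pow_mem hhH m
  have hgp : orderOf (h ^ m) = p ^ (orderOf h).factorization p := by
    rw [orderOf_pow_of_dvd (Nat.ordCompl_pos p (orderOf_pos h).ne').ne' (Nat.ordCompl_dvd _ _)]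
    exact Nat.div_div_self (Nat.ordProj_dvd _ _) (orderOf_pos h).ne'
  have key : ∀ (k : ℕ) (a : G) (ha : a * (h ^ m) ^ k * a⁻¹ ∈ H),
      φ ⟨a * (h ^ m) ^ k * a⁻¹, ha⟩ = φ ⟨h ^ m, hgH⟩ ^ k := by
    intro k a ha
    obtain ⟨i, -, hi⟩ := (Nat.dvd_prime_pow (Fact.out : p.Prime)).1
      (hgp ▸ orderOf_pow_dvd (x := h ^ m) k)
    obtain ⟨b, hb, hbe⟩ := hfus _ (pow_mem hgH k) ⟨i, hi⟩ a ha
    rw [show (⟨_, ha⟩ : H) = ⟨b, hb⟩ * ⟨h ^ m, hgH⟩ ^ k * (⟨b, hb⟩ : H)⁻¹ from
      Subtype.ext (by simp [hbe]), map_mul, map_mul, map_inv, mul_comm (φ ⟨b, hb⟩),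
      mul_inv_cancel_right, map_pow]
  have h1 : V (h ^ m) = 1 := by rw [map_pow, MonoidHom.mem_ker.1 (hker hh), one_pow]
  rw [hV, transfer_eq_pow φ hgH key, show (⟨h ^ m, hgH⟩ : H) = (⟨h, hhH⟩ : H) ^ m from
    Subtype.ext rfl, map_pow, ← pow_mul] at h1
  refine ⟨⟨h, hhH⟩, (QuotientGroup.eq_one_iff _).1 ?_, rfl⟩
  obtain ⟨j, hj⟩ := hp (φ ⟨h, hhH⟩)
  have hc : Nat.Coprime (p ^ j) (m * H.index) := Nat.Coprime.pow_left j
    (Nat.Coprime.mul_right (Nat.coprime_ordCompl Fact.out (orderOf_pos h).ne') hidx)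
  exact orderOf_eq_one_iff.1 (Nat.eq_one_of_dvd_coprimes hc (orderOf_dvd_of_pow_eq_one hj)
    (orderOf_dvd_of_pow_eq_one h1))

theorem map_le_inf {p : ℕ} :
    (Cfsg.pResidual p ↥H ⊔ commutator ↥H).map H.subtype ≤
      (Cfsg.pResidual p G ⊔ commutator G) ⊓ H := by
  refine le_inf ?_ (Subgroup.map_subtype_le _)
  rw [Subgroup.map_sup]
  exact sup_le_sup (Transfer.NormalPComplement.map_subtype_pResidual_le H |>.trans le_rfl)
    (by rw [commutator_def, Subgroup.map_commutator, commutator_def]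
        exact Subgroup.commutator_mono le_top le_top)

end Cfsg.Agent.Involutions.TransferControl
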