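import Mathlib
import Cfsg.Agent.Lib.Involutions.Counting
import Cfsg.Agent.Lib.Cores.Basic

/-!
# An abelian group transitive on involutions

If an abelian subgroup `A` of a finite group `X` is transitive by conjugation on the
involutions and two different involutions commute, then, when `O(X) = 1`, all involutions commute.

Two lemmas: a parity count shows that two non-commuting involutions have no common commuting involution
(so commuting is an equivalence relation on involutions), and then the elements moving every involution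
inside its class form a normal subgroup, of odd order unless there is one class only.
-/

set_option autoImplicit false

namespace Cfsg.Agent.Involutions.AbelianTransitive

open Subgroup

variable {X : Type*} [Group X]

/-- `A` is abelian and transitive by conjugation on the involutions. -/
structure Trans (A : Subgroup X) : Prop where
  comm : ∀ a ∈ A, ∀ b ∈ A, a * b = b * a
  trans : ∀ s t : X, orderOf s = 2 → orderOf t = 2 → ∃ a ∈ A, a * s * a⁻¹ = t

theorem orderOf_conj_eq (g s : X) : orderOf (g * s * g⁻¹) = orderOf s := by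
  exact orderOf_injective (MulAut.conj g).toMonoidHom (MulAut.conj g).injective s

theorem commute_conj_iff (g r s : X) : Commute (g * r * g⁻¹) (g * s * g⁻¹) ↔ Commute r s := by
  simpa using (MulAut.conj g).toEquiv.injective.eq_iff (a := r * s) (b := s * r)

namespace Trans

variable {A : Subgroup X} (h : Trans A)

include h in
/-- Two elements of `A` agreeing on one involution agree on all. -/
theorem agree {a b t : X} (ha : a ∈ A) (hb : b ∈ A) (ht : orderOf t = 2)
    (e : a * t * a⁻¹ = b * t * b⁻¹) {s : X} (hs : orderOf s = 2) : a * s * a⁻¹ = b * s * b⁻¹ := by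
  obtain ⟨c, hc, rfl⟩ := h.trans t s ht hs
  calc a * (c * t * c⁻¹) * a⁻¹ = (a * c) * t * (a * c)⁻¹ := by group
    _ = (c * a) * t * (c * a)⁻¹ := by rw [h.comm a ha c hc]
    _ = c * (a * t * a⁻¹) * c⁻¹ := by group
    _ = c * (b * t * b⁻¹) * c⁻¹ := by rw [e]
    _ = (c * b) * t * (c * b)⁻¹ := by group
    _ = (b * c) * t * (b * c)⁻¹ := by rw [h.comm b hb c hc]
    _ = b * (c * t * c⁻¹) * b⁻¹ := by group

include h in
/-- The parity step: if an odd number of involutions other than `t`, `s` commute with both, then `s` is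
the square translate of an involution commuting with `t`. -/
theorem exists_sq_of_odd [Finite X] {t s : X} (ht : orderOf t = 2) (hs : orderOf s = 2)
    (hN : Odd {r : X | orderOf r = 2 ∧ r ≠ t ∧ r ≠ s ∧ Commute r t ∧ Commute r s}.ncard) :
    ∃ r, orderOf r = 2 ∧ r ≠ t ∧ Commute r t ∧ ∃ a ∈ A, a * t * a⁻¹ = r ∧ a * r * a⁻¹ = s := by
  classical
  have : Fintype X := Fintype.ofFinite X
  by_contra hne
  push Not at hne
  obtain ⟨as, has, hast⟩ := h.trans t s ht hs
  choose a ha hat using fun r : {r : X // orderOf r = 2} => h.trans t r ht r.2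
  let σ : X → X := fun r => if hr : orderOf r = 2 then
    as * (a ⟨r, hr⟩)⁻¹ * t * (as * (a ⟨r, hr⟩)⁻¹)⁻¹ else r
  let N := Finset.univ.filter fun r : X => orderOf r = 2 ∧ r ≠ t ∧ r ≠ s ∧ Commute r t ∧ Commute r s
  have hcard : {r : X | orderOf r = 2 ∧ r ≠ t ∧ r ≠ s ∧ Commute r t ∧ Commute r s}.ncard = N.card := by
    rw [← Set.ncard_coe_finset]; congr 1; ext r; simp [N]
  rw [hcard] at hN
  have hσ : ∀ r (hr : orderOf r = 2), σ r = as * (a ⟨r, hr⟩)⁻¹ * t * (as * (a ⟨r, hr⟩)⁻¹)⁻¹ :=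
    fun r hr => dif_pos hr
  have key : ∀ r (hr : orderOf r = 2), a ⟨r, hr⟩ * σ r * (a ⟨r, hr⟩)⁻¹ = s := by
    intro r hr
    rw [hσ r hr, ← hast]
    have hc := h.comm as has _ (A.inv_mem (ha ⟨r, hr⟩))
    rw [hc]; group
  have mem : ∀ r ∈ N, σ r ∈ N := by
    intro r hr
    simp only [N, Finset.mem_filter, Finset.mem_univ, true_and] at hr ⊢
    obtain ⟨hr2, hrt, hrs, hct, hcs⟩ := hr
    have e : a ⟨r, hr2⟩ * σ r * (a ⟨r, hr2⟩)⁻¹ = s := key r hr2
    have hrr : a ⟨r, hr2⟩ * t * (a ⟨r, hr2⟩)⁻¹ = r := hat ⟨r, hr2⟩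
    refine ⟨?_, ?_, ?_, ?_, ?_⟩
    · rw [hσ r hr2, orderOf_conj_eq]; exact ht
    · intro e'; rw [e', hrr] at e; exact hrs e
    · intro e'
      rw [e', ← hast] at e
      have h1 : as * (a ⟨r, hr2⟩ * t * (a ⟨r, hr2⟩)⁻¹) * as⁻¹ = as * t * as⁻¹ := by
        calc _ = (as * a ⟨r, hr2⟩) * t * (as * a ⟨r, hr2⟩)⁻¹ := by group
          _ = (a ⟨r, hr2⟩ * as) * t * (a ⟨r, hr2⟩ * as)⁻¹ := by rw [h.comm as has _ (ha ⟨r, hr2⟩)]
          _ = a ⟨r, hr2⟩ * (as * t * as⁻¹) * (a ⟨r, hr2⟩)⁻¹ := by group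
          _ = _ := e
      rw [hrr] at h1
      exact hrt (mul_left_cancel (mul_right_cancel h1))
    · rw [← commute_conj_iff (a ⟨r, hr2⟩), e, hrr]; exact hcs.symm
    · rw [hσ r hr2]
      have h2 := (commute_conj_iff (as * (a ⟨r, hr2⟩)⁻¹) t r).2 hct.symm
      have h3 : as * (a ⟨r, hr2⟩)⁻¹ * r * (as * (a ⟨r, hr2⟩)⁻¹)⁻¹ = s := by
        refine (congrArg (fun z => as * (a ⟨r, hr2⟩)⁻¹ * z * (as * (a ⟨r, hr2⟩)⁻¹)⁻¹) hrr).symm.trans ?_
        rw [← hast]; group
      rwa [h3] at h2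
  have fpf : ∀ r ∈ N, σ r ≠ r := by
    intro r hr e'
    simp only [N, Finset.mem_filter, Finset.mem_univ, true_and] at hr
    obtain ⟨hr2, hrt, -, hct, -⟩ := hr
    have e := key r hr2
    rw [e'] at e
    exact hne r hr2 hrt hct _ (ha ⟨r, hr2⟩) (hat ⟨r, hr2⟩) e
  have inv : ∀ r ∈ N, σ (σ r) = r := by
    intro r hr
    have hm := mem r hr
    simp only [N, Finset.mem_filter, Finset.mem_univ, true_and] at hr hm
    obtain ⟨hr2, -⟩ := hr
    obtain ⟨hm2, -⟩ := hm
    have hb : as * (a ⟨r, hr2⟩)⁻¹ ∈ A := A.mul_mem has (A.inv_mem (ha ⟨r, hr2⟩))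
    set b := as * (a ⟨r, hr2⟩)⁻¹ with hbdef
    have e1 : a ⟨σ r, hm2⟩ * t * (a ⟨σ r, hm2⟩)⁻¹ = b * t * b⁻¹ := by
      rw [hat ⟨σ r, hm2⟩]; exact hσ r hr2
    have hw : orderOf (b⁻¹ * t * b⁻¹⁻¹) = 2 := by rw [orderOf_conj_eq]; exact ht
    have e2 : (a ⟨σ r, hm2⟩)⁻¹ * t * (a ⟨σ r, hm2⟩)⁻¹⁻¹ = b⁻¹ * t * b⁻¹⁻¹ := by
      have e3 := h.agree (ha _) hb ht e1 hw
      calc (a ⟨σ r, hm2⟩)⁻¹ * t * (a ⟨σ r, hm2⟩)⁻¹⁻¹
          = (a ⟨σ r, hm2⟩)⁻¹ * (b * (b⁻¹ * t * b⁻¹⁻¹) * b⁻¹) * (a ⟨σ r, hm2⟩)⁻¹⁻¹ := by group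
        _ = _ := by rw [← e3]; group
    calc σ (σ r) = as * ((a ⟨σ r, hm2⟩)⁻¹ * t * (a ⟨σ r, hm2⟩)⁻¹⁻¹) * as⁻¹ := by
          rw [hσ _ hm2]; group
      _ = as * (b⁻¹ * t * b⁻¹⁻¹) * as⁻¹ := by rw [e2]
      _ = a ⟨r, hr2⟩ * t * (a ⟨r, hr2⟩)⁻¹ := by
          have hc : as * b⁻¹ = a ⟨r, hr2⟩ := by
            rw [hbdef, mul_inv_rev, inv_inv, ← mul_assoc, h.comm as has _ (ha ⟨r, hr2⟩), mul_inv_cancel_right]
          rw [← hc]; group
      _ = r := hat ⟨r, hr2⟩
  have hsum : ∑ _r ∈ N, (1 : ZMod 2) = 0 :=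
    Finset.sum_involution (fun r _ => σ r) (fun _ _ => by decide) (fun r hr _ => fpf r hr)
      mem inv
  rw [Finset.sum_const, nsmul_one] at hsum
  exact (Nat.not_even_iff_odd.2 hN) (ZMod.natCast_eq_zero_iff_even.1 hsum)

include h in
/-- Two involutions commuting with a third one commute. -/
theorem commute_trans [Finite X] {t r s : X} (ht : orderOf t = 2)
    (hr : orderOf r = 2) (hs : orderOf s = 2) (htr : Commute t r) (hrs : Commute r s) : Commute t s := by
  classical
  have : Fintype X := Fintype.ofFinite X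
  have : Fact (Nat.Prime 2) := ⟨Nat.prime_two⟩
  -- the involutions commuting with `t` and `w` are odd in number as soon as there is one
  have count : ∀ w : X, ∀ v : X, orderOf v = 2 → Commute v t → Commute v w →
      Odd {x : X | orderOf x = 2 ∧ Commute x t ∧ Commute x w}.ncard := by
    intro w v hv hvt hvw
    let K := Subgroup.centralizer ({t, w} : Set X)
    have hvK : v ∈ K := by
      rw [mem_centralizer_iff]
      rintro x (rfl | rfl)
      · exact hvt.symm.eq
      · exact hvw.symm.eq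
    have heven : Even (Nat.card K) := by
      rw [even_iff_two_dvd, ← hv]; exact K.orderOf_dvd_natCard hvK
    suffices e : Nat.card {x : K // orderOf x = 2} =
        {x : X | orderOf x = 2 ∧ Commute x t ∧ Commute x w}.ncard from
      e ▸ Counting.odd_card_involutions (G := K) heven
    rw [← Nat.card_coe_set_eq]
    exact Nat.card_congr
      { toFun := fun x => ⟨x.1.1, by rw [Subgroup.orderOf_coe]; exact x.2,
          (mem_centralizer_iff.1 x.1.2 t (Or.inl rfl)).symm,
          (mem_centralizer_iff.1 x.1.2 w (Or.inr rfl)).symm⟩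
        invFun := fun x => ⟨⟨x.1, mem_centralizer_iff.2 (by
          rintro y (rfl | rfl)
          exacts [x.2.2.1.symm.eq, x.2.2.2.symm.eq])⟩, by rw [← Subgroup.orderOf_coe]; exact x.2.1⟩
        left_inv := fun x => rfl
        right_inv := fun x => rfl }
  by_contra hts
  let C : Set X := {x | orderOf x = 2 ∧ x ≠ t ∧ Commute x t}
  choose a ha hat using fun x : {x : X // orderOf x = 2} => h.trans t x ht x.2
  let f : X → X := fun x => if hx : orderOf x = 2 then a ⟨x, hx⟩ * x * (a ⟨x, hx⟩)⁻¹ else x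
  have himg : ∀ w, orderOf w = 2 →
      Odd {x : X | orderOf x = 2 ∧ x ≠ t ∧ x ≠ w ∧ Commute x t ∧ Commute x w}.ncard → w ∈ f '' C := by
    intro w hw hN
    obtain ⟨x, hx, hxt, hxc, b, hb, hbt, hbx⟩ := h.exists_sq_of_odd ht hw hN
    refine ⟨x, ⟨hx, hxt, hxc⟩, ?_⟩
    simp only [f, dif_pos hx]
    rw [← hbx]
    exact h.agree (ha _) hb ht ((hat ⟨x, hx⟩).trans hbt.symm) hx
  have hsub : C ⊆ f '' C := by
    rintro w ⟨hw, hwt, hwc⟩
    refine himg w hw ?_
    have hodd := count w t ht (Commute.refl t) hwc.symm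
    have e : {x : X | orderOf x = 2 ∧ x ≠ t ∧ x ≠ w ∧ Commute x t ∧ Commute x w} =
        {x : X | orderOf x = 2 ∧ Commute x t ∧ Commute x w} \ {t, w} := by
      ext x; simp only [Set.mem_ofPred_eq, Set.mem_sdiff, Set.mem_insert_iff, Set.mem_singleton_iff]; tauto
    have hsub2 : ({t, w} : Set X) ⊆ {x : X | orderOf x = 2 ∧ Commute x t ∧ Commute x w} := by
      rintro x (rfl | rfl)
      exacts [⟨ht, Commute.refl _, hwc.symm⟩, ⟨hw, hwc, Commute.refl _⟩]
    rw [e, Set.ncard_sdiff hsub2, Set.ncard_pair (Ne.symm hwt)]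
    have h2 : 2 ≤ {x : X | orderOf x = 2 ∧ Commute x t ∧ Commute x w}.ncard := by
      exact (Set.ncard_pair (Ne.symm hwt)).symm.trans_le (Set.ncard_le_ncard hsub2)
    exact Nat.Odd.sub_even h2 hodd even_two
  have heq : f '' C = C := (Set.eq_of_subset_of_ncard_le hsub (Set.ncard_image_le)).symm
  have hst : s ≠ t := fun e => hts (e ▸ Commute.refl t)
  have hsC : s ∈ f '' C := by
    refine himg s hs ?_
    have e : {x : X | orderOf x = 2 ∧ x ≠ t ∧ x ≠ s ∧ Commute x t ∧ Commute x s} =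
        {x : X | orderOf x = 2 ∧ Commute x t ∧ Commute x s} := by
      ext x; simp only [Set.mem_ofPred_eq]
      refine ⟨fun H => ⟨H.1, H.2.2.2⟩, fun H => ⟨H.1, ?_, ?_, H.2⟩⟩
      · rintro rfl; exact hts H.2.2
      · rintro rfl; exact hts H.2.1.symm
    rw [e]
    exact count s r hr htr.symm hrs
  rw [heq] at hsC
  exact hts hsC.2.2.symm

end Trans

/-- An abelian subgroup transitive on the involutions, `O(X) = 1` and a four-group force all
involutions to commute. -/
theorem commute_of_transitive [Finite X] (hO : Cfsg.oddCore X = ⊥) (A : Subgroup X) [IsMulCommutative A]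
    (htr : ∀ s t : X, orderOf s = 2 → orderOf t = 2 → ∃ a ∈ A, a * s * a⁻¹ = t)
    {r₀ s₀ : X} (hr₀ : orderOf r₀ = 2) (hs₀ : orderOf s₀ = 2) (hne : r₀ ≠ s₀) (hc₀ : Commute r₀ s₀)
    {s t : X} (hs : orderOf s = 2) (ht : orderOf t = 2) : Commute s t := by
  have h : Trans A := ⟨fun a ha b hb => congrArg Subtype.val (mul_comm' (⟨a, ha⟩ : A) ⟨b, hb⟩), htr⟩
  have : Fact (Nat.Prime 2) := ⟨Nat.prime_two⟩
  let K : Subgroup X :=
    { carrier := {g | ∀ x, orderOf x = 2 → Commute (g * x * g⁻¹) x}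
      one_mem' := fun x _ => by simp
      mul_mem' := fun {g k} hg hk x hx => by
        have hy : orderOf (k * x * k⁻¹) = 2 := (orderOf_conj_eq k x).trans hx
        have h1 := hg _ hy
        have e : g * k * x * (g * k)⁻¹ = g * (k * x * k⁻¹) * g⁻¹ := by group
        rw [e]
        exact h.commute_trans ((orderOf_conj_eq g _).trans hy) hy hx h1 (hk x hx)
      inv_mem' := fun {g} hg x hx => by
        have h1 := hg (g⁻¹ * x * g⁻¹⁻¹) ((orderOf_conj_eq _ x).trans hx)
        have e : g * (g⁻¹ * x * g⁻¹⁻¹) * g⁻¹ = x := by group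
        rw [e] at h1; exact h1.symm }
  have : K.Normal := ⟨fun g hg c x hx => by
    have h1 := hg (c⁻¹ * x * c⁻¹⁻¹) ((orderOf_conj_eq _ x).trans hx)
    rw [← commute_conj_iff c] at h1
    convert h1 using 1 <;> group⟩
  by_cases hK : Even (Nat.card K)
  · obtain ⟨g, hg⟩ := exists_prime_orderOf_dvd_card' (G := K) 2 (even_iff_two_dvd.1 hK)
    have hg2 : orderOf (g : X) = 2 := by rwa [Subgroup.orderOf_coe]
    have hall : ∀ x, orderOf x = 2 → Commute (g : X) x := by
      intro x hx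
      by_cases hxx : (g : X) * x * (g : X)⁻¹ = x
      · exact mul_inv_eq_iff_eq_mul.1 hxx
      set y := (g : X) * x * (g : X)⁻¹ with hy
      have hxy : Commute x y := (g.2 x hx).symm
      have hy2 : orderOf y = 2 := (orderOf_conj_eq _ x).trans hx
      have hx1 : x * x = 1 := by rw [← pow_two, ← hx, pow_orderOf_eq_one]
      have hy1 : y * y = 1 := by rw [← pow_two, ← hy2, pow_orderOf_eq_one]
      have hr : orderOf (x * y) = 2 := by
        refine orderOf_eq_prime ?_ fun e => hxx ?_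
        · rw [pow_two, hxy.symm.mul_mul_mul_comm x y, hx1, hy1, one_mul]
        · rw [← mul_one x, ← hy1, ← mul_assoc, e, one_mul]
      have hg1 : (g : X) * g = 1 := by rw [← pow_two, ← hg2, pow_orderOf_eq_one]
      have hyg : (g : X) * y * (g : X)⁻¹ = x := by
        rw [hy, inv_eq_of_mul_eq_one_right hg1]
        simp only [mul_assoc]; rw [hg1, mul_one, ← mul_assoc, hg1, one_mul]
      have hgr : Commute (g : X) (x * y) := by
        have e1 : (g : X) * (x * y) * (g : X)⁻¹ = x * y := by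
          calc _ = ((g : X) * x * (g : X)⁻¹) * ((g : X) * y * (g : X)⁻¹) := by group
            _ = y * x := by rw [← hy, hyg]
            _ = x * y := hxy.symm.eq
        exact mul_inv_eq_iff_eq_mul.1 e1
      exact h.commute_trans hg2 hr hx hgr (((Commute.refl x).mul_right hxy).symm)
    exact h.commute_trans hs hg2 ht (hall s hs).symm (hall t ht)
  · exfalso
    have hK1 : K = ⊥ := le_bot_iff.1 ((Cores.le_oddCore (Nat.not_even_iff_odd.1 hK)).trans hO.le)
    obtain ⟨a, ha, hae⟩ := htr r₀ s₀ hr₀ hs₀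
    have haK : a ∈ K := by
      intro x hx
      obtain ⟨b, hb, rfl⟩ := htr r₀ x hr₀ hx
      have e : a * (b * r₀ * b⁻¹) * a⁻¹ = b * s₀ * b⁻¹ := by
        rw [← hae]
        calc _ = (a * b) * r₀ * (a * b)⁻¹ := by group
          _ = (b * a) * r₀ * (b * a)⁻¹ := by rw [h.comm a ha b hb]
          _ = _ := by group
      rw [e, commute_conj_iff]; exact hc₀.symm
    rw [hK1, mem_bot] at haK
    subst haK
    simp at hae
    exact hne hae

end Cfsg.Agent.Involutions.AbelianTransitive
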