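import Mathlib
import Cfsg.Agent.Lib.Involutions.AltUniqueMaxNeg

/-! For `n = 2^k + 1` a Sylow 2-subgroup of `A_n` or `S_n` lies in a unique maximal subgroup. -/

set_option autoImplicit false
set_option linter.unusedSectionVars false

namespace Cfsg.Agent.Involutions.AltUniqueMax

open Equiv MulAction
open scoped Pointwise

variable {α : Type*} [Fintype α] [DecidableEq α]

theorem zmod_two_cases : ∀ b : ZMod 2, b = 0 ∨ b = 1 := by decide

theorem zmod_two_add_one : ∀ u w : ZMod 2, u ≠ w → u + 1 = w := by decide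

section Wreath

variable {V : Type*} [AddCommGroup V] [Fintype V] [DecidableEq V]
  (z : α) (e : V × ZMod 2 ↪ α) (h2 : ∀ v : V, v + v = 0) (hz : ∀ y, y ≠ z ↔ ∃ p, e p = y)

/-- Permutations fixing `z` and respecting the pairing given by `e`, acting on the pairs as
translations. -/
def IsWr (σ : Perm α) : Prop :=
  σ z = z ∧ ∃ (v : V) (f : V → ZMod 2), ∀ p : V × ZMod 2, σ (e p) = e (p.1 + v, p.2 + f p.1)

theorem IsWr.pow_four {σ : Perm α} (h : IsWr z e σ) (h2 : ∀ v : V, v + v = 0)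
    (hz : ∀ y, y ≠ z ↔ ∃ p, e p = y) : σ ^ 4 = 1 := by
  obtain ⟨hσz, v, f, hf⟩ := h
  have hsq : ∀ p : V × ZMod 2, σ (σ (e p)) = e (p.1, p.2 + (f p.1 + f (p.1 + v))) := by
    intro p
    rw [hf, hf, add_assoc p.1, h2, add_zero, add_assoc]
  ext y
  by_cases hy : y = z
  · simp [hy, pow_succ, hσz]
  obtain ⟨p, rfl⟩ := (hz y).1 hy
  simp only [pow_succ, pow_zero, one_mul, Perm.mul_apply, Perm.one_apply]
  rw [hsq, hsq, add_assoc p.2, CharTwo.add_self_eq_zero, add_zero]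

/-- The group of such permutations. -/
def wr (h2 : ∀ v : V, v + v = 0) (hz : ∀ y, y ≠ z ↔ ∃ p, e p = y) : Subgroup (Perm α) where
  carrier := {σ | IsWr z e σ}
  one_mem' := ⟨rfl, 0, 0, fun p => by simp⟩
  mul_mem' := by
    rintro σ τ ⟨hσ, v, f, hf⟩ ⟨hτ, w, g, hg⟩
    refine ⟨by rw [Perm.mul_apply, hτ, hσ], w + v, fun a => g a + f (a + w), fun p => ?_⟩
    rw [Perm.mul_apply, hg, hf, add_assoc, add_assoc]
  inv_mem' := by
    rintro σ h
    have h4 := h.pow_four z e h2 hz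
    obtain ⟨hσ, v, f, hf⟩ := h
    refine ⟨by conv_lhs => rw [← hσ, inv_apply_cancel], v, fun a => f (a + v), fun p => ?_⟩
    apply σ.injective
    rw [apply_inv_cancel, hf]
    congr 1
    rw [add_assoc p.1, h2, add_zero, add_assoc, CharTwo.add_self_eq_zero, add_zero]

/-- The transposition of one pair. -/
def tau (a : V) : Perm α := swap (e (a, 0)) (e (a, 1))

theorem tau_pair_ne (a : V) : e (a, (0 : ZMod 2)) ≠ e (a, 1) := by
  simp

theorem tau_apply_ne {a a' : V} (h : a' ≠ a) (b : ZMod 2) : tau e a (e (a', b)) = e (a', b) :=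
  swap_apply_of_ne_of_ne (by simp [h]) (by simp [h])

theorem tau_apply_self (a : V) (b : ZMod 2) : tau e a (e (a, b)) = e (a, b + 1) := by
  rcases zmod_two_cases b with rfl | rfl
  · rw [zero_add]; exact swap_apply_left _ _
  · rw [CharTwo.add_self_eq_zero]; exact swap_apply_right _ _

theorem tau_mem (a : V) : tau e a ∈ wr z e h2 hz := by
  refine ⟨swap_apply_of_ne_of_ne ?_ ?_, 0, Pi.single a 1, ?_⟩
  · exact fun h => (hz z).2 ⟨_, h.symm⟩ rfl
  · exact fun h => (hz z).2 ⟨_, h.symm⟩ rfl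
  rintro ⟨a', b⟩
  rw [add_zero]
  by_cases h : a' = a
  · subst h; rw [tau_apply_self, Pi.single_eq_same]
  · rw [tau_apply_ne e h, Pi.single_eq_of_ne h, add_zero]

theorem sign_tau (a : V) : Perm.sign (tau e a) = -1 := Perm.sign_swap (tau_pair_ne e a)

theorem exists_wr_move (p q : V × ZMod 2) (hV : ∃ a : V, a ≠ p.1) :
    ∃ h ∈ wr z e h2 hz ⊓ alternatingGroup α, h (e p) = e q := by
  let T0 : Perm (V × ZMod 2) := Equiv.addRight (p.1 + q.1, (0 : ZMod 2))
  let T : Perm α := T0.viaEmbedding e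
  have hT : ∀ r, T (e r) = e (r.1 + (p.1 + q.1), r.2) := by
    intro r
    rw [Perm.viaEmbedding_apply]
    congr 1
    exact Prod.ext rfl (add_zero _)
  have hTz : T z = z := by
    refine Perm.viaEmbedding_apply_of_notMem _ _ _ ?_
    rintro ⟨r, hr⟩
    exact (hz z).2 ⟨r, hr⟩ rfl
  have hTm : T ∈ wr z e h2 hz := ⟨hTz, p.1 + q.1, 0, fun r => by simp [hT]⟩
  have hTp : T (e p) = e (q.1, p.2) := by
    rw [hT, ← add_assoc, h2, zero_add]
  obtain ⟨h, hh, hhp⟩ : ∃ h ∈ wr z e h2 hz, h (e p) = e q := by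
    by_cases hb : p.2 = q.2
    · exact ⟨T, hTm, by rw [hTp, hb]⟩
    · refine ⟨tau e q.1 * T, mul_mem (tau_mem z e h2 hz _) hTm, ?_⟩
      rw [Perm.mul_apply, hTp, tau_apply_self]
      congr 1
      exact Prod.ext rfl (zmod_two_add_one _ _ hb)
  rcases Int.units_eq_one_or (Perm.sign h) with hs | hs
  · exact ⟨h, ⟨hh, Perm.mem_alternatingGroup.2 hs⟩, hhp⟩
  · obtain ⟨a, ha⟩ := hV
    refine ⟨h * tau e a, ⟨mul_mem hh (tau_mem z e h2 hz a), Perm.mem_alternatingGroup.2 ?_⟩, ?_⟩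
    · rw [map_mul, hs, sign_tau]; decide
    · rw [Perm.mul_apply, tau_apply_ne e (Ne.symm ha), hhp]

theorem double_tau_mem {a c : V} :
    tau e a * tau e c ∈ wr z e h2 hz ⊓ alternatingGroup α :=
  ⟨mul_mem (tau_mem z e h2 hz a) (tau_mem z e h2 hz c),
    Perm.mem_alternatingGroup.2 (by rw [map_mul, sign_tau, sign_tau]; decide)⟩

end Wreath

/-- Two double transpositions whose supports share exactly one point give a 3-cycle. -/
theorem isThreeCycle_of_share_one {x y x' q r u v : α}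
    (hd : List.Nodup [x, y, x', q, r, u, v]) :
    ((swap x y * swap q r) * (swap x x' * swap u v) *
      ((swap x y * swap q r) * (swap x x' * swap u v))).IsThreeCycle := by
  simp only [List.nodup_cons, List.mem_cons, not_or, List.not_mem_nil, not_false_eq_true,
    List.nodup_nil, and_true] at hd
  obtain ⟨⟨hxy, hxx', hxq, hxr, hxu, hxv⟩, ⟨hyx', hyq, hyr, hyu, hyv⟩, ⟨hx'q, hx'r, hx'u, hx'v⟩,
    ⟨hqr, hqu, hqv⟩, ⟨hru, hrv⟩, huv⟩ := hd
  have h1 : Commute (swap q r) (swap x x') :=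
    swap_mul_swap_comm hxq hxr hx'q hx'r
  have h2 : Commute (swap x y) (swap q r) :=
    (swap_mul_swap_comm hxq hxr hyq hyr).symm
  have h3 : Commute (swap x y) (swap u v) :=
    (swap_mul_swap_comm hxu hxv hyu hyv).symm
  have h4 : Commute (swap x x') (swap u v) :=
    (swap_mul_swap_comm hxu hxv hx'u hx'v).symm
  have h5 : Commute (swap q r) (swap u v) :=
    (swap_mul_swap_comm hqu hqv hru hrv).symm
  set A := swap x y
  set B := swap q r
  set C := swap x x'
  set D := swap u v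
  have hc : Commute (A * C) (B * D) :=
    (h2.mul_right h3).mul_left (h1.symm.mul_right h4)
  have e1 : A * B * (C * D) = A * C * (B * D) := by
    rw [mul_assoc, ← mul_assoc B, h1.eq, mul_assoc C, ← mul_assoc A]
  have e2 : B * D * (B * D) = 1 := by
    rw [mul_assoc, ← mul_assoc D, ← h5.eq, mul_assoc B, swap_mul_self, mul_one, swap_mul_self]
  rw [e1, ← hc.mul_mul_mul_comm, e2, mul_one]
  exact (Perm.isThreeCycle_swap_mul_swap_same hxy hxx' hyx').isThreeCycle_sq

section Unique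

variable {V : Type*} [AddCommGroup V] [Fintype V] [DecidableEq V]
  (z : α) (e : V × ZMod 2 ↪ α) (h2 : ∀ v : V, v + v = 0) (hz : ∀ y, y ≠ z ↔ ∃ p, e p = y)

theorem isPretransitive_of_moves (hV : ∀ p : V, ∃ a : V, a ≠ p) {M : Subgroup (Perm α)}
    (hQ : wr z e h2 hz ⊓ alternatingGroup α ≤ M) {m : Perm α} (hm : m ∈ M) (hmz : m z ≠ z) :
    IsPretransitive M α := by
  rw [isPretransitive_iff_base z]
  intro y
  by_cases hy : y = z
  · exact ⟨1, by rw [one_smul]; exact hy.symm⟩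
  obtain ⟨q, rfl⟩ := (hz y).1 hy
  obtain ⟨p, hp⟩ := (hz _).1 hmz
  obtain ⟨h, hh, hhp⟩ := exists_wr_move z e h2 hz p q (hV _)
  refine ⟨⟨h * m, mul_mem (hQ hh) hm⟩, ?_⟩
  change (h * m) z = e q
  rw [Perm.mul_apply, ← hp, hhp]

theorem alt_le_of_moves (hV : ∀ s : Finset V, s.card ≤ 3 → ∃ a, a ∉ s) {M : Subgroup (Perm α)}
    (hQ : wr z e h2 hz ⊓ alternatingGroup α ≤ M) {m : Perm α} (hm : m ∈ M) (hmz : m z ≠ z) :
    alternatingGroup α ≤ M := by
  have hV1 : ∀ p : V, ∃ a : V, a ≠ p := fun p => by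
    obtain ⟨a, ha⟩ := hV {p} (by simp)
    exact ⟨a, by simpa using ha⟩
  have htr := isPretransitive_of_moves z e h2 hz hV1 hQ hm hmz
  have hprim : IsPreprimitive M α := by
    refine IsPreprimitive.of_isTrivialBlock_base z (fun {B} hzB hB => ?_)
    rw [IsTrivialBlock, or_iff_not_imp_left]
    intro hns
    rw [Set.not_subsingleton_iff] at hns
    obtain ⟨b, hb, hbz⟩ := hns.exists_ne z
    obtain ⟨p, rfl⟩ := (hz b).1 hbz
    refine Set.eq_univ_of_forall fun y => ?_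
    by_cases hy : y = z
    · exact hy ▸ hzB
    obtain ⟨q, rfl⟩ := (hz y).1 hy
    obtain ⟨h, hh, hhp⟩ := exists_wr_move z e h2 hz p q (hV1 _)
    have h1 := (isBlock_iff_smul_eq_of_nonempty.1 hB) (g := ⟨h, hQ hh⟩)
      ⟨z, ⟨z, hzB, hh.1.1⟩, hzB⟩
    rw [← h1, ← hhp]
    exact Set.smul_mem_smul_set (a := (⟨h, hQ hh⟩ : M)) hb
  -- a double transposition of `M` moving `z`
  obtain ⟨⟨a, b⟩, hab⟩ := (hz _).1 hmz
  obtain ⟨c, hc⟩ := hV {a} (by simp)
  simp only [Finset.mem_singleton] at hc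
  have ht : m⁻¹ * (tau e a * tau e c) * m ∈ M :=
    mul_mem (mul_mem (inv_mem hm) (hQ (double_tau_mem z e h2 hz))) hm
  obtain ⟨p, q, r, hdist, htM⟩ : ∃ p q r : V × ZMod 2, (p ≠ q ∧ p ≠ r ∧ q ≠ r) ∧
      swap z (e p) * swap (e q) (e r) ∈ M := by
    have heq : m⁻¹ * (tau e a * tau e c) * m =
        swap (m⁻¹ (e (a, 0))) (m⁻¹ (e (a, 1))) * swap (m⁻¹ (e (c, 0))) (m⁻¹ (e (c, 1))) := by
      simp only [tau, swap_apply_apply]
      group
    rw [heq] at ht
    have hmz' : m⁻¹ (e (a, b)) = z := by rw [hab, inv_apply_cancel]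
    have hne : ∀ r : V × ZMod 2, r ≠ (a, b) → m⁻¹ (e r) ≠ z := fun r hr h =>
      hr (e.injective (m⁻¹.injective (h.trans hmz'.symm)))
    obtain ⟨p, hp⟩ := (hz _).1 (hne (a, b + 1) (by simp))
    obtain ⟨q, hq⟩ := (hz _).1 (hne (c, 0) (by simp [hc]))
    obtain ⟨r, hr⟩ := (hz _).1 (hne (c, 1) (by simp [hc]))
    have hinj : ∀ {i j : V × ZMod 2} {p' q' : V × ZMod 2}, e p' = m⁻¹ (e i) → e q' = m⁻¹ (e j) →
        i ≠ j → p' ≠ q' := fun h1 h2 hne' h => hne' (e.injective (m⁻¹.injective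
          (h1.symm.trans ((congrArg e h).trans h2))))
    refine ⟨p, q, r, ⟨hinj hp hq (by simp [Ne.symm hc]), hinj hp hr (by simp [Ne.symm hc]),
      hinj hq hr (by simp)⟩, ?_⟩
    rw [hp, hq, hr, ← hmz']
    rcases zmod_two_cases b with rfl | rfl
    · rw [zero_add]; exact ht
    · rw [CharTwo.add_self_eq_zero, swap_comm]; exact ht
  obtain ⟨hpq, hpr, hqr⟩ := hdist
  have hzne : ∀ r, z ≠ e r := fun r h => (hz z).2 ⟨r, h.symm⟩ rfl
  -- one of the pairs meets the support in exactly one point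
  have key : ∀ (x : V × ZMod 2) (y q' r' : α) (s t : V),
      swap (e x) y * swap q' r' ∈ M → s ≠ x.1 → t ≠ x.1 →
      (∀ w ∈ [y, q', r'], w = z ∨ ∃ i, w = e (s, i) ∨ w = e (t, i)) →
      List.Nodup [y, q', r'] → alternatingGroup α ≤ M := by
    intro x y q' r' s t hM hsx htx hmemst hnd
    obtain ⟨u, hu⟩ := hV {x.1, s, t} Finset.card_le_three
    simp only [Finset.mem_insert, Finset.mem_singleton, not_or] at hu
    obtain ⟨hux, hus, hut⟩ := hu
    have hout : ∀ w ∈ [y, q', r'], ∀ a : V, (a = x.1 ∨ a = u) → ∀ i, w ≠ e (a, i) := by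
      intro w hw a ha i hwa
      rcases hmemst w hw with hwz | ⟨j, hj | hj⟩
      · exact hzne _ (hwz.symm.trans hwa)
      all_goals
        have h' := congrArg Prod.fst (e.injective (hwa.symm.trans hj))
        rcases ha with rfl | rfl
      exacts [hsx h'.symm, hus h', htx h'.symm, hut h']
    have hd : swap (e x) (e (x.1, x.2 + 1)) * swap (e (u, 0)) (e (u, 1)) ∈ M := by
      have h1 : swap (e x) (e (x.1, x.2 + 1)) = tau e x.1 := by
        obtain ⟨x1, x2⟩ := x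
        rcases zmod_two_cases x2 with rfl | rfl
        · rw [zero_add]; rfl
        · rw [CharTwo.add_self_eq_zero]; exact swap_comm _ _
      rw [h1]
      exact hQ (double_tau_mem z e h2 hz)
    have hnodup : List.Nodup [e x, y, e (x.1, x.2 + 1), q', r', e (u, 0), e (u, 1)] := by
      have hA := hout y (by simp)
      have hB := hout q' (by simp)
      have hC := hout r' (by simp)
      simp only [List.nodup_cons, List.mem_cons, not_or, List.not_mem_nil, not_false_eq_true,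
        List.nodup_nil, and_true] at hnd ⊢
      obtain ⟨⟨hyq, hyr⟩, hqr'⟩ := hnd
      refine ⟨⟨Ne.symm (hA x.1 (Or.inl rfl) x.2), ?_, Ne.symm (hB x.1 (Or.inl rfl) x.2),
          Ne.symm (hC x.1 (Or.inl rfl) x.2), ?_, ?_⟩,
        ⟨hA x.1 (Or.inl rfl) _, hyq, hyr, hA u (Or.inr rfl) _, hA u (Or.inr rfl) _⟩,
        ⟨Ne.symm (hB x.1 (Or.inl rfl) _), Ne.symm (hC x.1 (Or.inl rfl) _), ?_, ?_⟩,
        ⟨hqr', hB u (Or.inr rfl) _, hB u (Or.inr rfl) _⟩,
        ⟨hC u (Or.inr rfl) _, hC u (Or.inr rfl) _⟩, ?_⟩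
      · intro h
        have := congrArg Prod.snd (e.injective h)
        simp at this
      all_goals
        intro h
        have h' := e.injective h
        simp [Prod.ext_iff, Ne.symm hux] at h'
    have h3 := isThreeCycle_of_share_one hnodup
    exact Equiv.Perm.alternatingGroup_le_of_isPreprimitive_of_isThreeCycle_mem hprim h3
      (mul_mem (mul_mem hM hd) (mul_mem hM hd))
  have hcomm : swap (e q) (e r) * swap z (e p) ∈ M := by
    rwa [← swap_mul_swap_comm (Ne.symm (hzne q)) (fun h => hpq (e.injective h.symm))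
      (Ne.symm (hzne r)) (fun h => hpr (e.injective h.symm))]
  by_cases h1 : q.1 ≠ p.1 ∧ r.1 ≠ p.1
  · refine key p z (e q) (e r) q.1 r.1 (by rwa [swap_comm (e p) z]) h1.1 h1.2 ?_ ?_
    · simp only [List.mem_cons, List.not_mem_nil, or_false, forall_eq_or_imp, forall_eq, true_or,
        true_and]
      exact ⟨Or.inr ⟨q.2, Or.inl rfl⟩, Or.inr ⟨r.2, Or.inr rfl⟩⟩
    · simp [hzne, hqr]
  by_cases h2' : r.1 ≠ q.1 ∧ p.1 ≠ q.1
  · refine key q (e r) z (e p) r.1 p.1 hcomm h2'.1 h2'.2 ?_ ?_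
    · simp only [List.mem_cons, List.not_mem_nil, or_false, forall_eq_or_imp, forall_eq, true_or,
        true_and]
      exact ⟨Or.inr ⟨r.2, Or.inl rfl⟩, Or.inr ⟨p.2, Or.inr rfl⟩⟩
    · simp [hzne, Ne.symm hpr, Ne.symm (hzne r)]
  by_cases h3' : q.1 ≠ r.1 ∧ p.1 ≠ r.1
  · refine key r (e q) z (e p) q.1 p.1 (by rwa [swap_comm (e r) (e q)]) h3'.1 h3'.2 ?_ ?_
    · simp only [List.mem_cons, List.not_mem_nil, or_false, forall_eq_or_imp, forall_eq, true_or,
        true_and]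
      exact ⟨Or.inr ⟨q.2, Or.inl rfl⟩, Or.inr ⟨p.2, Or.inr rfl⟩⟩
    · simp [hzne, Ne.symm hpq, Ne.symm (hzne q)]
  exfalso
  have e1 : p.1 = q.1 ∧ q.1 = r.1 := by
    by_cases hp : p.1 = q.1
    · refine ⟨hp, ?_⟩
      by_contra hq
      exact h3' ⟨hq, hp ▸ hq⟩
    · push Not at h1 h2'
      have hrp : r.1 = p.1 := h1 (Ne.symm hp)
      exact absurd (h2' (hrp ▸ hp)) hp
  have h3b : ∀ i j k : ZMod 2, i ≠ j → i ≠ k → j ≠ k → False := by decide
  exact h3b p.2 q.2 r.2 (fun h => hpq (Prod.ext e1.1 h))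
    (fun h => hpr (Prod.ext (e1.1.trans e1.2) h)) (fun h => hqr (Prod.ext e1.2 h))

end Unique

end Cfsg.Agent.Involutions.AltUniqueMax
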