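import Mathlib
import Cfsg.Agent.Lib.Involutions.AltUniqueMaxPos

/-! A Sylow 2-subgroup of `A_n` or `S_n` lies in a unique maximal subgroup iff `n = 2^k + 1`. -/

set_option autoImplicit false
set_option linter.unusedSectionVars false

namespace Cfsg.Agent.Involutions.AltUniqueMax

open Equiv MulAction
open scoped Pointwise

variable {α : Type*} [Fintype α] [DecidableEq α]
variable {Γ : Type*} [Group Γ] [Finite Γ] {ι : Γ →* Perm α}

/-- In degree 5 a transitive subgroup containing a Sylow 2-subgroup contains `A_5`. -/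
theorem alt_le_of_five (hι : Function.Injective ι) (hA : alternatingGroup α ≤ ι.range)
    (h5 : Fintype.card α = 5) (R : Sylow 2 Γ) (M : Subgroup Γ) (hR : (R : Subgroup Γ) ≤ M)
    [IsPretransitive (M.map ι) α] : alternatingGroup α ≤ M.map ι := by
  have : Fact (Nat.Prime 2) := ⟨Nat.prime_two⟩
  obtain ⟨x⟩ : Nonempty α := Fintype.card_pos_iff.1 (by omega)
  have h5M : 5 ∣ Nat.card M := by
    have := Subgroup.index_dvd_card (stabilizer (M.map ι) x)
    rw [index_stabilizer_of_transitive, Nat.card_eq_fintype_card, h5] at this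
    rwa [Nat.card_congr (M.equivMapOfInjective ι hι).toEquiv.symm] at this
  have hdvd : M.index * 5 ∣ 120 := by
    have h1 : M.index * 5 ∣ Nat.card Γ := by
      rw [← M.index_mul_card]; exact mul_dvd_mul_left _ h5M
    refine h1.trans ?_
    have h2 := Subgroup.card_dvd_of_injective ι hι
    rwa [Nat.card_perm, Nat.card_eq_fintype_card (α := α), h5] at h2
  have hodd : ¬ 2 ∣ M.index := fun h =>
    R.not_dvd_index (h.trans (Subgroup.index_dvd_of_le hR))
  have h24 : M.index ∣ 24 := Nat.dvd_of_mul_dvd_mul_right (by norm_num) (show M.index * 5 ∣ 24 * 5 from hdvd)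
  have h3 : M.index ≤ 3 := by
    have hm : M.index ∈ Nat.divisors 24 := Nat.mem_divisors.2 ⟨h24, by norm_num⟩
    revert hodd
    generalize M.index = m at hm ⊢
    intro hodd
    have : Nat.divisors 24 = {1, 2, 3, 4, 6, 8, 12, 24} := by decide
    rw [this] at hm
    simp only [Finset.mem_insert, Finset.mem_singleton] at hm
    rcases hm with rfl | rfl | rfl | rfl | rfl | rfl | rfl | rfl <;> omega
  set K := (M.map ι).subgroupOf (alternatingGroup α) with hK
  have hKi : K.index ≤ 3 := by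
    have h1 : (M.map ι).relIndex ι.range = M.index := by
      rw [← Subgroup.index_comap, Subgroup.comap_map_eq_self_of_injective hι]
    have h2 := Subgroup.relIndex_le_of_le_right (H := M.map ι) hA (by
      rw [h1]; exact Subgroup.index_ne_zero_of_finite)
    rw [h1] at h2
    exact h2.trans h3
  have hs : IsSimpleGroup (alternatingGroup α) :=
    alternatingGroup.isSimpleGroup (by rw [Nat.card_eq_fintype_card]; omega)
  have : Nontrivial α := Fintype.one_lt_card_iff_nontrivial.1 (by omega)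
  rcases hs.eq_bot_or_eq_top_of_normal _ K.normalCore_normal with h | h
  · exfalso
    rw [Subgroup.normalCore_eq_ker] at h
    have hle := Nat.card_le_card_of_injective _ ((MonoidHom.ker_eq_bot_iff _).1 h)
    rw [Nat.card_perm, ← Subgroup.index, nat_card_alternatingGroup, Nat.card_eq_fintype_card, h5]
      at hle
    have := hle.trans (Nat.factorial_le hKi)
    simp [Nat.factorial] at this
  · exact Subgroup.subgroupOf_eq_top.1 (top_le_iff.1 (h ▸ K.normalCore_le))

/-- The structure used for the positive direction. -/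
theorem exists_embedding {k : ℕ} (hn : Fintype.card α = 2 ^ (k + 1) + 1) :
    ∃ (z : α) (e : (Fin k → ZMod 2) × ZMod 2 ↪ α), ∀ y, y ≠ z ↔ ∃ p, e p = y := by
  obtain ⟨z⟩ : Nonempty α := Fintype.card_pos_iff.1 (by omega)
  have hc : Fintype.card ((Fin k → ZMod 2) × ZMod 2) = Fintype.card {y : α // y ≠ z} := by
    simp [Fintype.card_subtype_compl, hn, pow_succ]
  refine ⟨z, (Fintype.equivOfCardEq hc).toEmbedding.trans (Function.Embedding.subtype _),
    fun y => ⟨fun hy => ⟨(Fintype.equivOfCardEq hc).symm ⟨y, hy⟩, by simp⟩, ?_⟩⟩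
  rintro ⟨p, rfl⟩
  exact (Fintype.equivOfCardEq hc p).2

theorem existsUnique_of_pow (hι : Function.Injective ι) (hA : alternatingGroup α ≤ ι.range)
    (hco : ∀ s : Set α, s.Nonempty → sᶜ.Nonempty → Nat.card α ≠ 2 * s.ncard →
      IsCoatom (stab ι s))
    {k : ℕ} (hk : 1 ≤ k) (hn : Fintype.card α = 2 ^ (k + 1) + 1) :
    ∃ R : Sylow 2 Γ, ∃! M : Subgroup Γ, IsCoatom M ∧ (R : Subgroup Γ) ≤ M := by
  classical
  have : Fact (Nat.Prime 2) := ⟨Nat.prime_two⟩
  obtain ⟨z, e, hz⟩ := exists_embedding (α := α) hn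
  have h2 : ∀ v : Fin k → ZMod 2, v + v = 0 := fun v => funext fun i => CharTwo.add_self_eq_zero _
  have hVc : Fintype.card (Fin k → ZMod 2) = 2 ^ k := by simp
  have hV1 : ∀ p : Fin k → ZMod 2, ∃ a, a ≠ p := by
    intro p
    have : 2 ^ 1 ≤ 2 ^ k := Nat.pow_le_pow_right (by omega) hk
    have : Nontrivial (Fin k → ZMod 2) := Fintype.one_lt_card_iff_nontrivial.1 (by omega)
    exact exists_ne p
  set Q := wr z e h2 hz ⊓ alternatingGroup α with hQdef
  have hQ0 : IsPGroup 2 (Q.comap ι) := by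
    intro g
    refine ⟨2, Subtype.ext (hι ?_)⟩
    rw [SubgroupClass.coe_pow, map_pow, OneMemClass.coe_one, map_one]
    exact IsWr.pow_four z e g.2.1 h2 hz
  obtain ⟨R, hQR⟩ := hQ0.exists_le_sylow
  refine ⟨R, ?_⟩
  have hQP : Q ≤ (R : Subgroup Γ).map ι := by
    intro σ hσ
    obtain ⟨γ, rfl⟩ := hA hσ.2
    exact ⟨γ, hQR hσ, rfl⟩
  -- `R` fixes `z`
  have hRz : (R : Subgroup Γ) ≤ stab ι {z} := by
    have hodd : ¬ 2 ∣ Nat.card α := by
      rw [Nat.card_eq_fintype_card, hn, pow_succ]; omega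
    obtain ⟨w, hw⟩ := (isPGroup_map (ι := ι) R).nonempty_fixed_point_of_prime_not_dvd_card α hodd
    have hwz : w = z := by
      by_contra hne
      obtain ⟨p, rfl⟩ := (hz w).1 hne
      obtain ⟨h, hh, hhp⟩ := exists_wr_move z e h2 hz p (p.1, p.2 + 1) (hV1 _)
      have h1 : h (e p) = e p := hw ⟨h, hQP hh⟩
      have h3 := congrArg Prod.snd (e.injective (hhp.symm.trans h1))
      simp at h3
    intro r hr
    apply mem_stabilizer_of_mapsTo
    intro x hx
    rw [Set.mem_singleton_iff.1 hx, ← hwz]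
    exact hw ⟨ι r, ⟨r, hr, rfl⟩⟩
  have hcoz : IsCoatom (stab ι {z}) := by
    refine hco _ (Set.singleton_nonempty z) ?_ ?_
    · exact ⟨e (0, 0), fun h => (hz z).2 ⟨_, h⟩ rfl⟩
    · rw [Set.ncard_singleton, Nat.card_eq_fintype_card, hn, pow_succ]; omega
  refine ⟨stab ι {z}, ⟨hcoz, hRz⟩, fun M ⟨hM, hRM⟩ => ?_⟩
  by_cases hmove : ∃ m ∈ M.map ι, m z ≠ z
  · exfalso
    obtain ⟨m, hm, hmz⟩ := hmove
    have hQM : Q ≤ M.map ι := hQP.trans (Subgroup.map_mono hRM)
    have : Nontrivial α := ⟨⟨_, _, hmz⟩⟩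
    apply hM.ne_top (eq_top_of_alt_le hι hA R M hRM ?_)
    rcases Nat.eq_or_lt_of_le hk with hk1 | hk2
    · subst hk1
      have := isPretransitive_of_moves z e h2 hz hV1 hQM hm hmz
      exact alt_le_of_five hι hA (by rw [hn]; norm_num) R M hRM
    · refine alt_le_of_moves z e h2 hz (fun s hs => exists_notMem_of_card_le ?_) hQM hm hmz
      have : 2 ^ 2 ≤ 2 ^ k := Nat.pow_le_pow_right (by omega) hk2
      omega
  · push Not at hmove
    refine ((hM.le_iff.1 (?_ : M ≤ stab ι {z})).resolve_left hcoz.ne_top).symm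
    intro m hm
    apply mem_stabilizer_of_mapsTo
    intro x hx
    rw [Set.mem_singleton_iff.1 hx]
    exact hmove (ι m) ⟨m, hm, rfl⟩

theorem existsUnique_map {G : Type*} [Group G] (φ : G ≃* G) {A : Subgroup G}
    (h : ∃! M : Subgroup G, IsCoatom M ∧ A ≤ M) :
    ∃! M : Subgroup G, IsCoatom M ∧ A.map φ.toMonoidHom ≤ M := by
  obtain ⟨M, ⟨hM, hAM⟩, hu⟩ := h
  let E : Subgroup G ≃o Subgroup G := φ.mapSubgroup
  refine ⟨E M, ⟨(E.isCoatom_iff M).2 hM, E.monotone hAM⟩, fun N ⟨hN, hAN⟩ => ?_⟩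
  have h1 : IsCoatom (E.symm N) := (E.isCoatom_iff _).1 (by rwa [E.apply_symm_apply])
  have h2 : A ≤ E.symm N := E.le_symm_apply.2 hAN
  rw [← hu _ ⟨h1, h2⟩, E.apply_symm_apply]

theorem existsUnique_iff (hι : Function.Injective ι) (hA : alternatingGroup α ≤ ι.range)
    (hco : ∀ s : Set α, s.Nonempty → sᶜ.Nonempty → Nat.card α ≠ 2 * s.ncard →
      IsCoatom (stab ι s))
    (h5 : 5 ≤ Fintype.card α) (R : Sylow 2 Γ) :
    (∃! M : Subgroup Γ, IsCoatom M ∧ (R : Subgroup Γ) ≤ M) ↔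
      ∃ k, 2 ≤ k ∧ Fintype.card α = 2 ^ k + 1 := by
  refine ⟨exists_pow_of_existsUnique hι hA hco h5 R, ?_⟩
  rintro ⟨k, hk, hn⟩
  have : Fact (Nat.Prime 2) := ⟨Nat.prime_two⟩
  obtain ⟨j, rfl⟩ : ∃ j, k = j + 1 := ⟨k - 1, by omega⟩
  obtain ⟨R₀, h₀⟩ := existsUnique_of_pow hι hA hco (by omega : 1 ≤ j) hn
  obtain ⟨g, rfl⟩ := MulAction.exists_smul_eq Γ R₀ R
  exact existsUnique_map (MulAut.conj g) h₀

end Cfsg.Agent.Involutions.AltUniqueMax
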