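import Mathlib
import Cfsg.Agent.Lib.Involutions.WreathedAut
import Cfsg.Agent.Lib.Involutions.QuasiDihedral
import Cfsg.Agent.Lib.Transfer.NormalPComplement

/-!
# Sylow `2`-subgroups of type `Z/2^m × Z/2^m`
-/

set_option linter.style.haveILetI false
set_option linter.unusedSectionVars false

namespace Cfsg.Agent.Involutions.Homocyclic

universe u v

variable {X : Type v} [Group X]

/-- The three involutions. -/
theorem card_involutions {m : ℕ} (hm : 1 ≤ m) (e : X ≃* Multiplicative (ZMod (2 ^ m) × ZMod (2 ^ m))) :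
    Nat.card {g : X // g * g = 1 ∧ g ≠ 1} = 3 := by
  classical
  set h : ZMod (2 ^ m) := 2 ^ (m - 1)
  have h0 : h ≠ 0 := QuasiDihedral.half_ne_zero hm
  rw [Nat.card_congr (e.toEquiv.subtypeEquiv
    (q := fun g : Multiplicative (ZMod (2 ^ m) × ZMod (2 ^ m)) => g * g = 1 ∧ g ≠ 1) fun g => by
      show (g * g = 1 ∧ g ≠ 1) ↔ (e g * e g = 1 ∧ e g ≠ 1)
      rw [← map_mul, map_eq_one_iff _ e.injective, Ne, Ne, map_eq_one_iff _ e.injective]),
    Nat.card_congr (Multiplicative.toAdd.subtypeEquiv
    (q := fun a : ZMod (2 ^ m) × ZMod (2 ^ m) => a ∈ ({(0, h), (h, 0), (h, h)} : Finset _)) fun g => ?_),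
    Nat.card_eq_fintype_card, Fintype.card_coe]
  · rw [Finset.card_insert_of_notMem, Finset.card_pair]
    · exact fun h' => h0 (Prod.ext_iff.1 h').2.symm
    · simp [Ne.symm h0]
  · obtain ⟨⟨a, b⟩, rfl⟩ := Multiplicative.ofAdd.surjective g
    simp only [← ofAdd_add, ofAdd_eq_one, ne_eq, Prod.mk_add_mk, Prod.mk_eq_zero,
      toAdd_ofAdd, Finset.mem_insert, Finset.mem_singleton, Prod.mk.injEq,
      QuasiDihedral.add_self_eq_zero_iff hm, h]
    constructor
    · rintro ⟨⟨ha | ha, hb | hb⟩, hne⟩ <;> simp_all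
    · rintro (⟨ha, hb⟩ | ⟨ha, hb⟩ | ⟨ha, hb⟩) <;> subst ha hb <;>
        simp [QuasiDihedral.half_ne_zero hm]

/-- An automorphism of odd order fixing all involutions of an abelian `2`-group is trivial. -/
theorem aut_eq_one (hX : IsPGroup 2 X) (hab : ∀ a b : X, a * b = b * a) {σ : MulAut X}
    (ho : Odd (orderOf σ)) (hfix : ∀ g : X, g * g = 1 → σ g = g) : σ = 1 := by
  suffices h : ∀ (k : ℕ) (g : X), g ^ 2 ^ k = 1 → σ g = g by
    refine MulEquiv.ext fun g => ?_
    obtain ⟨k, hk⟩ := hX g
    exact h k g hk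
  intro k
  induction k with
  | zero => intro g hg; rw [pow_zero, pow_one] at hg; rw [hg, map_one]
  | succ k ih =>
    intro g hg
    refine Wreathed.eq_of_delta hX ho (hfix _ ?_)
    have hsq : σ (g * g) = g * g := ih (g * g) (by rwa [← sq, ← pow_mul, ← pow_succ'])
    rw [(show Commute (σ g) g⁻¹ from hab _ _).mul_mul_mul_comm, ← map_mul, hsq]
    group

theorem perm_three_pow_two {Ω : Type v} [Finite Ω] (hΩ : Nat.card Ω = 3) (f : Equiv.Perm Ω) {x : Ω}
    (hx : f x = x) : f ^ 2 = 1 := by
  have key : ∀ g : Equiv.Perm (Fin 3), ∀ y, g y = y → g ^ 2 = 1 := by decide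
  set e : Ω ≃ Fin 3 := (Finite.equivFinOfCardEq hΩ)
  have h := key (e.permCongr f) (e x) (by simp [hx])
  refine e.permCongr.injective ?_
  rw [sq] at h ⊢
  ext y
  simpa [Equiv.permCongr_apply] using congrArg Fin.val (congrFun (congrArg (fun t : Equiv.Perm (Fin 3) => (t : Fin 3 → Fin 3)) h) y)

variable {G : Type u} [Group G] [Finite G] (P : Sylow 2 G)

/-- The permutations induced by the normaliser on the involutions of the Sylow subgroup. -/
noncomputable def involHom : Subgroup.normalizer ((P : Subgroup G) : Set G) →*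
    Equiv.Perm {g : (P : Subgroup G) // g * g = 1 ∧ g ≠ 1} where
  toFun n :=
    { toFun := fun g => ⟨⟨(n : G) * g.1 * (n : G)⁻¹, (Subgroup.mem_normalizer_iff.1 n.2 _).1 g.1.2⟩,
        Subtype.ext (by
          show (n : G) * g.1 * (n : G)⁻¹ * ((n : G) * g.1 * (n : G)⁻¹) = 1
          have hg : (g.1 : G) * g.1 = 1 := congrArg Subtype.val g.2.1
          rw [show (n : G) * g.1 * (n : G)⁻¹ * ((n : G) * g.1 * (n : G)⁻¹) =
            (n : G) * ((g.1 : G) * g.1) * (n : G)⁻¹ by group, hg, mul_one, mul_inv_cancel]),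
        fun h => g.2.2 (Subtype.ext (conj_eq_one_iff.1 (congrArg Subtype.val h)))⟩
      invFun := fun g => ⟨⟨(n : G)⁻¹ * g.1 * (n : G), by
          refine (Subgroup.mem_normalizer_iff.1 n.2 _).2 ?_
          simpa [mul_assoc] using g.1.2⟩,
        Subtype.ext (by
          show (n : G)⁻¹ * g.1 * n * ((n : G)⁻¹ * g.1 * n) = 1
          have hg : (g.1 : G) * g.1 = 1 := congrArg Subtype.val g.2.1
          rw [show (n : G)⁻¹ * g.1 * n * ((n : G)⁻¹ * g.1 * n) =
            (n : G)⁻¹ * ((g.1 : G) * g.1) * n by group, hg, mul_one, inv_mul_cancel]),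
        fun h => g.2.2 (Subtype.ext (by
          have h' : (n : G)⁻¹ * g.1 * n = 1 := congrArg Subtype.val h
          calc (g.1 : G) = (n : G) * ((n : G)⁻¹ * g.1 * n) * (n : G)⁻¹ := by group
            _ = 1 := by rw [h', mul_one, mul_inv_cancel]))⟩
      left_inv := fun g => Subtype.ext (Subtype.ext (by simp [mul_assoc]))
      right_inv := fun g => Subtype.ext (Subtype.ext (by simp [mul_assoc])) }
  map_one' := Equiv.ext fun g => Subtype.ext (Subtype.ext (by simp))
  map_mul' a b := Equiv.ext fun g => Subtype.ext (Subtype.ext (by simp [mul_assoc]))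

theorem involHom_apply (n : Subgroup.normalizer ((P : Subgroup G) : Set G))
    (g : {g : (P : Subgroup G) // g * g = 1 ∧ g ≠ 1}) :
    ((involHom P n g).1 : G) = (n : G) * g.1 * (n : G)⁻¹ := rfl

variable {P} {m : ℕ} (hm : 1 ≤ m)
  (e : (P : Subgroup G) ≃* Multiplicative (ZMod (2 ^ m) × ZMod (2 ^ m)))

include e in
theorem comm_of_equiv (a b : (P : Subgroup G)) : a * b = b * a :=
  e.injective (by rw [map_mul, map_mul, mul_comm])

include e in
theorem le_centralizer_self :
    (P : Subgroup G) ≤ Subgroup.centralizer ((P : Subgroup G) : Set G) := fun x hx =>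
  Subgroup.mem_centralizer_iff.2 fun y hy =>
    congrArg Subtype.val (comm_of_equiv e ⟨y, hy⟩ ⟨x, hx⟩)

include e in
theorem odd_relIndex :
    Odd ((Subgroup.centralizer ((P : Subgroup G) : Set G)).relIndex
      (Subgroup.normalizer ((P : Subgroup G) : Set G))) := by
  refine Nat.not_even_iff_odd.1 fun he => P.not_dvd_index (he.two_dvd.trans ?_)
  exact (Subgroup.relIndex_dvd_of_le_left _ (le_centralizer_self e)).trans
    (Dvd.intro _ (Subgroup.relIndex_mul_index Subgroup.le_normalizer))

include e in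
/-- The kernel is the centraliser. -/
theorem ker_involHom : (involHom P).ker =
    (Subgroup.centralizer ((P : Subgroup G) : Set G)).subgroupOf
      (Subgroup.normalizer ((P : Subgroup G) : Set G)) := by
  set N := Subgroup.normalizer ((P : Subgroup G) : Set G)
  set C := Subgroup.centralizer ((P : Subgroup G) : Set G)
  refine le_antisymm ?_ fun n hn => Equiv.ext fun g => Subtype.ext (Subtype.ext ?_)
  swap
  · have hn' : (n : G) ∈ C := hn
    rw [involHom_apply, ← Subgroup.mem_centralizer_iff.1 hn' _ g.1.2, mul_inv_cancel_right]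
    rfl
  · intro n hn
    -- the automorphism induced by `n` has odd order
    let ψ : N →* MulAut (P : Subgroup G) := Subgroup.normalizerMonoidHom _
    have hψ : ψ.ker = C.subgroupOf N := Subgroup.normalizerMonoidHom_ker _
    have hodd : Odd (orderOf (ψ n)) := by
      have h1 : Nat.card ψ.range = C.relIndex N := by
        rw [← Subgroup.index_ker, hψ]; rfl
      refine Odd.of_dvd_nat (h1 ▸ odd_relIndex e) ?_
      rw [show orderOf (ψ n) = orderOf (⟨ψ n, n, rfl⟩ : ψ.range) from (Subgroup.orderOf_mk _ _).symm]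
      exact orderOf_dvd_natCard _
    have hone : ψ n = 1 := aut_eq_one P.isPGroup' (comm_of_equiv e) hodd fun g hg => by
      by_cases hg1 : g = 1
      · rw [hg1, map_one]
      · have h := congrArg (fun f : Equiv.Perm {g : (P : Subgroup G) // g * g = 1 ∧ g ≠ 1} =>
          ((f ⟨g, hg, hg1⟩).1 : G)) (MonoidHom.mem_ker.1 hn)
        exact Subtype.ext h
    rw [← hψ]
    exact hone

include hm e in
theorem relIndex_dvd_three :
    (Subgroup.centralizer ((P : Subgroup G) : Set G)).relIndex
      (Subgroup.normalizer ((P : Subgroup G) : Set G)) ∣ 3 := by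
  have hc : (Subgroup.centralizer ((P : Subgroup G) : Set G)).relIndex
      (Subgroup.normalizer ((P : Subgroup G) : Set G)) = Nat.card (involHom P).range := by
    rw [← Subgroup.index_ker, ker_involHom e]; rfl
  have h6 : Nat.card (involHom P).range ∣ 6 := by
    refine (Subgroup.card_subgroup_dvd_card _).trans ?_
    rw [Nat.card_perm, card_involutions hm e]; rfl
  rw [hc]
  have hodd : Odd (Nat.card (involHom P).range) := hc ▸ odd_relIndex e
  exact (Nat.coprime_two_right.2 hodd).dvd_of_dvd_mul_left (show _ ∣ 2 * 3 from h6)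

include hm e in
/-- A normalising element fixing an involution centralises the Sylow subgroup. -/
theorem mem_centralizer_of_fixes {n : Subgroup.normalizer ((P : Subgroup G) : Set G)}
    {g : {g : (P : Subgroup G) // g * g = 1 ∧ g ≠ 1}} (hg : involHom P n g = g) :
    (n : G) ∈ Subgroup.centralizer ((P : Subgroup G) : Set G) := by
  have hsq := perm_three_pow_two (card_involutions hm e) (involHom P n) hg
  have hodd : Odd (orderOf (involHom P n)) := by
    refine Odd.of_dvd_nat (n := Nat.card (involHom P).range) ?_ ?_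
    · rw [show Nat.card (involHom P).range =
        (Subgroup.centralizer ((P : Subgroup G) : Set G)).relIndex
          (Subgroup.normalizer ((P : Subgroup G) : Set G)) by rw [← Subgroup.index_ker, ker_involHom e]; rfl]
      exact odd_relIndex e
    · rw [← Subgroup.orderOf_mk (H := (involHom P).range) (involHom P n) ⟨n, rfl⟩]
      exact orderOf_dvd_natCard _
  have hone : involHom P n = 1 := orderOf_eq_one_iff.1 (Nat.eq_one_of_dvd_coprimes
    (Nat.coprime_two_left.2 hodd) (orderOf_dvd_of_pow_eq_one hsq) dvd_rfl)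
  exact (ker_involHom e).le hone

include hm e in
theorem inf_eq_of_ne_one {z : G} (hz : z ∈ (P : Subgroup G)) (hz1 : z ≠ 1) :
    Subgroup.centralizer ({z} : Set G) ⊓ Subgroup.normalizer ((P : Subgroup G) : Set G) =
      Subgroup.centralizer ((P : Subgroup G) : Set G) := by
  refine le_antisymm ?_ (le_inf (fun c hc => Subgroup.mem_centralizer_singleton_iff.2
    (Subgroup.mem_centralizer_iff.1 hc z hz).symm) (Subgroup.centralizer_le_normalizer _))
  rintro n ⟨hnz, hnN⟩
  obtain ⟨k, hk⟩ := IsPGroup.iff_orderOf.1 P.isPGroup' ⟨z, hz⟩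
  rw [Subgroup.orderOf_mk] at hk
  have hk0 : k ≠ 0 := fun e => hz1 (orderOf_eq_one_iff.1 (by rw [hk, e, pow_zero]))
  set w : (P : Subgroup G) := ⟨z, hz⟩ ^ 2 ^ (k - 1) with hw
  have hw1 : w * w = 1 := by
    apply Subtype.ext
    rw [hw, ← pow_add, ← two_mul, ← pow_succ', Nat.sub_one_add_one hk0, SubgroupClass.coe_pow,
      ← hk, pow_orderOf_eq_one]
    rfl
  have hw2 : w ≠ 1 := fun h => by
    have h' : z ^ 2 ^ (k - 1) = 1 := congrArg Subtype.val h
    have := orderOf_dvd_of_pow_eq_one h'
    rw [hk, Nat.pow_dvd_pow_iff_le_right (by norm_num)] at this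
    omega
  refine mem_centralizer_of_fixes hm e (n := ⟨n, hnN⟩) (g := ⟨w, hw1, hw2⟩)
    (Subtype.ext (Subtype.ext ?_))
  rw [involHom_apply]
  show n * (z ^ 2 ^ (k - 1)) * n⁻¹ = z ^ 2 ^ (k - 1)
  have hc : Commute n z := Subgroup.mem_centralizer_singleton_iff.1 hnz
  rw [(hc.pow_right _).eq, mul_inv_cancel_right]

include hm e in
theorem complement_or_conj :
    (∃ N : Subgroup G, N.Normal ∧ Subgroup.IsComplement' N (P : Subgroup G)) ∨
      ∀ s t : G, orderOf s = 2 → orderOf t = 2 → IsConj s t := by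
  rcases eq_or_ne ((Subgroup.centralizer ((P : Subgroup G) : Set G)).relIndex
      (Subgroup.normalizer ((P : Subgroup G) : Set G))) 1 with h1 | h1
  · left
    exact (Transfer.NormalPComplement.hasNormalPComplement_iff_sylow P).1
      (Transfer.NormalPComplement.hasNormalPComplement_of_normalizer_le_centralizer P
        (Subgroup.relIndex_eq_one.1 h1))
  right
  obtain ⟨n, hnN, hnC⟩ := SetLike.not_le_iff_exists.1 fun h => h1 (Subgroup.relIndex_eq_one.2 h)
  set n' : Subgroup.normalizer ((P : Subgroup G) : Set G) := ⟨n, hnN⟩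
  set f := involHom P n'
  have hfree : ∀ g, f g ≠ g := fun g hg => hnC (mem_centralizer_of_fixes hm e hg)
  have hP : ∀ s : G, orderOf s = 2 → ∃ g : {g : (P : Subgroup G) // g * g = 1 ∧ g ≠ 1},
      IsConj s (g.1 : G) := by
    intro s hs
    have hsp : IsPGroup 2 (Subgroup.zpowers s) :=
      IsPGroup.of_card (n := 1) (by rw [Nat.card_zpowers, hs, pow_one])
    obtain ⟨S, hS⟩ := hsp.exists_le_sylow
    obtain ⟨x, hx⟩ := MulAction.exists_smul_eq G S P
    have hxs : x * s * x⁻¹ ∈ (P : Subgroup G) := by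
      rw [← hx, Sylow.coe_subgroup_smul]
      exact ⟨s, hS (Subgroup.mem_zpowers s), rfl⟩
    refine ⟨⟨⟨_, hxs⟩, Subtype.ext ?_, fun h => ?_⟩, isConj_iff.2 ⟨x, rfl⟩⟩
    · show x * s * x⁻¹ * (x * s * x⁻¹) = 1
      rw [show x * s * x⁻¹ * (x * s * x⁻¹) = x * (s * s) * x⁻¹ by group, ← sq, ← hs,
        pow_orderOf_eq_one, mul_one, mul_inv_cancel]
    · rw [conj_eq_one_iff.1 (congrArg Subtype.val h), orderOf_one] at hs
      omega
  have hone : ∀ g, IsConj (g : {g : (P : Subgroup G) // g * g = 1 ∧ g ≠ 1}).1.1 ((f g).1 : G) :=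
    fun g => isConj_iff.2 ⟨n, (involHom_apply P n' g).symm⟩
  have hall : ∀ a b : {g : (P : Subgroup G) // g * g = 1 ∧ g ≠ 1}, IsConj (a.1 : G) (b.1 : G) := by
    intro a b
    rcases eq_or_ne b a with rfl | h2
    · exact IsConj.refl _
    rcases eq_or_ne b (f a) with rfl | h3
    · exact hone a
    rcases eq_or_ne b (f (f a)) with rfl | h4
    · exact (hone a).trans (hone _)
    exfalso
    -- four distinct elements in a set of three
    have hff : f (f a) ≠ a := fun h => by
      rcases eq_or_ne (f b) b with hb | hb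
      · exact hfree b hb
      have hcard := card_involutions hm e
      classical
      haveI := Fintype.ofFinite {g : (P : Subgroup G) // g * g = 1 ∧ g ≠ 1}
      have hle := Finset.card_le_univ ({a, f a, b, f b} : Finset {g : (P : Subgroup G) // g * g = 1 ∧ g ≠ 1})
      rw [← Nat.card_eq_fintype_card, hcard, Finset.card_insert_of_notMem, Finset.card_insert_of_notMem,
        Finset.card_pair (Ne.symm hb)] at hle
      · omega
      · simp only [Finset.mem_insert, Finset.mem_singleton, not_or]
        exact ⟨Ne.symm h3, fun h' => h2 (f.injective h').symm⟩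
      · simp only [Finset.mem_insert, Finset.mem_singleton, not_or]
        exact ⟨Ne.symm (hfree a), Ne.symm h2, fun h' => h3 (f.injective (h'.symm.trans h.symm))⟩
    have hcard := card_involutions hm e
    classical
    haveI := Fintype.ofFinite {g : (P : Subgroup G) // g * g = 1 ∧ g ≠ 1}
    have hle := Finset.card_le_univ ({a, f a, f (f a), b} : Finset {g : (P : Subgroup G) // g * g = 1 ∧ g ≠ 1})
    rw [← Nat.card_eq_fintype_card, hcard, Finset.card_insert_of_notMem, Finset.card_insert_of_notMem,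
      Finset.card_pair (Ne.symm h4)] at hle
    · omega
    · simp only [Finset.mem_insert, Finset.mem_singleton, not_or]
      exact ⟨Ne.symm (hfree (f a)), Ne.symm h3⟩
    · simp only [Finset.mem_insert, Finset.mem_singleton, not_or]
      exact ⟨Ne.symm (hfree a), Ne.symm hff, Ne.symm h2⟩
  intro s t hs ht
  obtain ⟨a, ha⟩ := hP s hs
  obtain ⟨b, hb⟩ := hP t ht
  exact ha.trans ((hall a b).trans hb.symm)

end Cfsg.Agent.Involutions.Homocyclic
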