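import Mathlib
import Cfsg.Prelude.Def_TwoFusion
import Cfsg.Agent.Lib.Involutions.Isolated
import Cfsg.Agent.Lib.Involutions.TransferControl

/-!
# The centraliser of an isolated involution controls the 2-residual
-/

namespace Cfsg.Agent.Involutions.IsolatedResidual

variable {G : Type*} [Group G] [Finite G]

theorem odd_index {z : G} (hz : Cfsg.IsIsolatedInvolution z) :
    Nat.Coprime 2 (Subgroup.centralizer ({z} : Set G)).index := by
  have hp : IsPGroup 2 (Subgroup.zpowers z) :=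
    IsPGroup.of_card (n := 1) (by rw [Nat.card_zpowers, hz.1, pow_one])
  obtain ⟨P, hP⟩ := hp.exists_le_sylow
  have hzP : z ∈ P := hP (Subgroup.mem_zpowers z)
  have huniq := (Isolated.iff_unique_in_sylow P hz.1 hzP).1 hz
  have hPC : (P : Subgroup G) ≤ Subgroup.centralizer ({z} : Set G) := fun s hs => by
    rw [Subgroup.mem_centralizer_singleton_iff]
    exact mul_inv_eq_iff_eq_mul.1 (huniq s (mul_mem (mul_mem hs hzP) (inv_mem hs)))
  exact Nat.prime_two.coprime_iff_not_dvd.2 fun h =>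
    P.not_dvd_index (h.trans (Subgroup.index_dvd_of_le hPC))

omit [Finite G] in
theorem eq_top_of_sup_commutator [Finite G] {p : ℕ} [Fact p.Prime]
    (h : Cfsg.pResidual p G ⊔ commutator G = ⊤) : Cfsg.pResidual p G = ⊤ := by
  by_contra hne
  set R := Cfsg.pResidual p G
  have hn : Group.IsNilpotent (G ⧸ R) :=
    (Transfer.NormalPComplement.isPGroup_quotient_pResidual (p := p) (G := G)).isNilpotent
  have hnt : Nontrivial (G ⧸ R) := QuotientGroup.nontrivial_iff.2 hne
  have hlt := IsSolvable.commutator_lt_top_of_nontrivial (G ⧸ R)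
  refine hlt.ne ?_
  have h1 := congrArg (Subgroup.map (QuotientGroup.mk' R)) h
  rw [Subgroup.map_sup, QuotientGroup.map_mk'_self, bot_sup_eq,
    Subgroup.map_top_of_surjective _ (QuotientGroup.mk'_surjective R), commutator_def,
    Subgroup.map_commutator, Subgroup.map_top_of_surjective _ (QuotientGroup.mk'_surjective R)] at h1
  rw [commutator_def]
  exact h1

theorem pResidual_eq_top_iff {z : G} (hz : Cfsg.IsIsolatedInvolution z) :
    Cfsg.pResidual 2 G = ⊤ ↔
      Cfsg.pResidual 2 ↥(Subgroup.centralizer ({z} : Set G)) = ⊤ := by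
  have : Fact (Nat.Prime 2) := ⟨Nat.prime_two⟩
  set C := Subgroup.centralizer ({z} : Set G)
  have hidx : Nat.Coprime 2 C.index := odd_index hz
  have h := TransferControl.inf_le_of_fusion (p := 2) hidx fun g hg _ a ha => by
    obtain ⟨c, -, hcz, hc⟩ := Isolated.controls_fusion hz ⊤ (Subgroup.le_normalizer (Subgroup.mem_top z))
      (x := g) (y := a * g * a⁻¹) (Subgroup.mem_centralizer_singleton_iff.1 hg)
      (Subgroup.mem_centralizer_singleton_iff.1 ha) (Subgroup.mem_top a) rfl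
    exact ⟨c, Subgroup.mem_centralizer_singleton_iff.2 hcz.eq, hc⟩
  constructor
  · intro hG
    rw [hG, top_sup_eq, top_inf_eq] at h
    refine eq_top_of_sup_commutator (eq_top_iff.2 fun c _ => ?_)
    obtain ⟨d, hd, e⟩ := h c.2
    rwa [Subtype.ext e] at hd
  · intro hC
    refine eq_top_of_sup_commutator ?_
    have hle : C ≤ Cfsg.pResidual 2 G ⊔ commutator G := by
      have h1 := TransferControl.map_le_inf (p := 2) (H := C)
      rw [hC, top_sup_eq, ← MonoidHom.range_eq_map, Subgroup.range_subtype] at h1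
      exact h1.trans inf_le_left
    rw [← Subgroup.index_eq_one]
    obtain ⟨k, hk⟩ := Transfer.NormalPComplement.index_pResidual (p := 2) (G := G)
    exact Nat.eq_one_of_dvd_coprimes (hidx.pow_left k)
      (hk ▸ Subgroup.index_dvd_of_le le_sup_left) (Subgroup.index_dvd_of_le hle)

theorem card_formula {z s : G} (hz : Cfsg.IsIsolatedInvolution z) (hs : orderOf s = 2)
    (hsz : Commute s z) :
    Nat.card G = Nat.card (Subgroup.centralizer ({z} : Set G)) *
      Nat.card {k : G // Odd (orderOf k) ∧ z * k * z⁻¹ = k⁻¹ ∧ Commute k (s * z)} *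
      Nat.card {k : G // Odd (orderOf k) ∧ z * k * z⁻¹ = k⁻¹ ∧ Commute k s} := by
  set C := Subgroup.centralizer ({z} : Set G)
  have hz2 := hz.1
  have hzi := Involutions.Basic.inv_eq hz2
  have hsi := Involutions.Basic.inv_eq hs
  -- inverted by `z` and fixed by `s * z` is inverted by both
  have hB : ∀ m : G, z * m * z⁻¹ = m⁻¹ → (Commute m (s * z) ↔ s * m * s⁻¹ = m⁻¹) := by
    intro m hm
    rw [show Commute m (s * z) ↔ s * z * m * (s * z)⁻¹ = m from
      ⟨fun h => mul_inv_eq_iff_eq_mul.2 h.symm.eq, fun h => (mul_inv_eq_iff_eq_mul.1 h).symm⟩,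
      show s * z * m * (s * z)⁻¹ = s * (z * m * z⁻¹) * s⁻¹ by group, hm]
    constructor
    · intro h
      rw [← inv_inj, inv_inv]
      simpa [mul_assoc] using h
    · intro h
      rw [← inv_inj]
      simpa [mul_assoc] using h
  let A := {k : G // Odd (orderOf k) ∧ z * k * z⁻¹ = k⁻¹ ∧ Commute k s}
  let B := {k : G // Odd (orderOf k) ∧ z * k * z⁻¹ = k⁻¹ ∧ Commute k (s * z)}
  let f : A × B → G ⧸ C := fun p =>
    -- the point `k * z * m⁻¹ * k⁻¹`, as a coset
    ((p.1 : G) * ((p.2 : G) ^ ((orderOf (p.2 : G) + 1) / 2)) : G)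
  -- the conjugate attached to a coset
  have hcoset : ∀ g g' : G, (g : G ⧸ C) = g' ↔ g * z * g⁻¹ = g' * z * g'⁻¹ := by
    intro g g'
    rw [QuotientGroup.eq, Subgroup.mem_centralizer_singleton_iff]
    constructor
    · intro h
      calc g * z * g⁻¹ = g * (z * (g⁻¹ * g')) * g'⁻¹ := by group
        _ = g * (g⁻¹ * g' * z) * g'⁻¹ := by rw [h]
        _ = g' * z * g'⁻¹ := by group
    · intro h
      calc g⁻¹ * g' * z = g⁻¹ * (g' * z * g'⁻¹) * g' := by group
        _ = g⁻¹ * (g * z * g⁻¹) * g' := by rw [h]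
        _ = z * (g⁻¹ * g') := by group
  have hroot : ∀ m : G, Odd (orderOf m) → (m ^ ((orderOf m + 1) / 2)) ^ 2 = m := fun m hm => by
    obtain ⟨j, hj⟩ := hm
    rw [← pow_mul, show (orderOf m + 1) / 2 * 2 = orderOf m + 1 by omega, pow_succ,
      pow_orderOf_eq_one, one_mul]
  have hfz : ∀ p : A × B, ((p.1 : G) * ((p.2 : G) ^ ((orderOf (p.2 : G) + 1) / 2))) * z *
      ((p.1 : G) * ((p.2 : G) ^ ((orderOf (p.2 : G) + 1) / 2)))⁻¹ =
        (p.1 : G) * ((p.2 : G) * z) * (p.1 : G)⁻¹ := by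
    rintro ⟨⟨k, hk⟩, ⟨m, hm⟩⟩
    simp only
    rw [show k * m ^ ((orderOf m + 1) / 2) * z * (k * m ^ ((orderOf m + 1) / 2))⁻¹ =
      k * (m ^ ((orderOf m + 1) / 2) * z * (m ^ ((orderOf m + 1) / 2))⁻¹) * k⁻¹ by group,
      Isolated.conj_eq_sq_mul hz2 (Isolated.pow_inverted hm.2.1 _), hroot m hm.1]
  have hf : Function.Bijective f := by
    refine ⟨?_, fun x => ?_⟩
    · rintro ⟨⟨k, hk⟩, ⟨m, hm⟩⟩ ⟨⟨k', hk'⟩, ⟨m', hm'⟩⟩ he
      have h1 := (hcoset _ _).1 he
      rw [hfz, hfz] at h1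
      simp only at h1
      -- apply `s`
      have hflip : ∀ k m : G, Commute k s → s * m * s⁻¹ = m⁻¹ →
          s * (k * (m * z) * k⁻¹) * s⁻¹ = k * (m⁻¹ * z) * k⁻¹ := by
        intro k m hk hm
        rw [show s * (k * (m * z) * k⁻¹) * s⁻¹ =
          (s * k * s⁻¹) * ((s * m * s⁻¹) * (s * z * s⁻¹)) * (s * k * s⁻¹)⁻¹ by group, hm,
          mul_inv_eq_iff_eq_mul.2 hk.symm.eq, mul_inv_eq_iff_eq_mul.2 hsz.eq]
      have h2 := congrArg (s * · * s⁻¹) h1
      rw [hflip k m hk.2.2 ((hB m hm.2.1).1 hm.2.2),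
        hflip k' m' hk'.2.2 ((hB m' hm'.2.1).1 hm'.2.2)] at h2
      have hzz : z * z = 1 := Involutions.Basic.inv_sq_one hz2
      have hprod : ∀ k m : G, z * m * z⁻¹ = m⁻¹ →
          k * (m * z) * k⁻¹ * (k * (m⁻¹ * z) * k⁻¹) = (k * m * k⁻¹) ^ 2 := by
        intro k m hm
        have h6 : m⁻¹ * z = z * m := by
          rw [← hm, mul_assoc, inv_mul_cancel, mul_one]
        rw [h6, conj_mul, conj_pow, sq,
          show m * z * (z * m) = m * (z * z) * m by group, hzz, mul_one]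
      have h3 : (k * m * k⁻¹) ^ 2 = (k' * m' * k'⁻¹) ^ 2 := by
        rw [← hprod k m hm.2.1, ← hprod k' m' hm'.2.1, h1, h2]
      have h4 : k * m * k⁻¹ = k' * m' * k'⁻¹ := Isolated.sq_injective
        (by rw [Involutions.Basic.orderOf_conj]; exact hm.1)
        (by rw [Involutions.Basic.orderOf_conj]; exact hm'.1) h3
      have h5 : k * z * k⁻¹ = k' * z * k'⁻¹ := by
        rw [show k * (m * z) * k⁻¹ = (k * m * k⁻¹) * (k * z * k⁻¹) by group,
          show k' * (m' * z) * k'⁻¹ = (k' * m' * k'⁻¹) * (k' * z * k'⁻¹) by group, h4] at h1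
        exact mul_left_cancel h1
      rw [Isolated.conj_eq_sq_mul hz2 hk.2.1, Isolated.conj_eq_sq_mul hz2 hk'.2.1] at h5
      obtain rfl : k = k' := Isolated.sq_injective hk.1 hk'.1 (mul_right_cancel h5)
      obtain rfl : m = m' := mul_left_cancel (mul_right_cancel h4)
      rfl
    · induction x using QuotientGroup.induction_on with | _ g =>
      obtain ⟨d, hddef⟩ : ∃ d, d = g * z * g⁻¹ := ⟨_, rfl⟩
      have hdc : IsConj z d := isConj_iff.2 ⟨g, hddef.symm⟩
      have hd2 : orderOf d = 2 := by rw [hddef, Involutions.Basic.orderOf_conj, hz2]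
      have hdd : d * d = 1 := Involutions.Basic.inv_sq_one hd2
      have hdi := Involutions.Basic.inv_eq hd2
      obtain ⟨u, hu⟩ : ∃ u, u = d * (s * d * s⁻¹) := ⟨_, rfl⟩
      have hdc' : IsConj z (s * d * s⁻¹) := hdc.trans (isConj_iff.2 ⟨s, rfl⟩)
      obtain ⟨j, hj2, hjodd⟩ := Isolated.exists_sqrt (Isolated.odd_orderOf_mul hz hdc hdc')
      have hdu : d * u * d⁻¹ = u⁻¹ := by
        rw [hu, hdi, mul_inv_rev, mul_inv_rev, mul_inv_rev, inv_inv, hdi, hsi]
        calc d * (d * (s * d * s)) * d = (d * d) * (s * d * s) * d := by group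
          _ = _ := by rw [hdd]; group
      have hsu : s * u * s⁻¹ = u⁻¹ := by
        have hss : s * s = 1 := Involutions.Basic.inv_sq_one hs
        rw [hu, mul_inv_rev, mul_inv_rev, mul_inv_rev, inv_inv, hdi, hsi]
        calc s * (d * (s * d * s)) * s = s * d * s * d * (s * s) := by group
          _ = _ := by rw [hss]; group
      rw [← hu] at hj2 hjodd
      obtain ⟨r, hr⟩ : ∃ r, r = u ^ j := ⟨_, rfl⟩
      have hdr := Isolated.pow_inverted hdu j
      have hsr := Isolated.pow_inverted hsu j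
      rw [← hr] at hdr hsr hj2 hjodd
      obtain ⟨e, he⟩ : ∃ e, e = d * r := ⟨_, rfl⟩
      have hse : Commute e s := by
        have h1 : s * e * s⁻¹ = e := by
          rw [he, show s * (d * r) * s⁻¹ = (s * d * s⁻¹) * (s * r * s⁻¹) by group, hsr,
            show s * d * s⁻¹ = d * u by rw [hu, ← mul_assoc d d, hdd, one_mul], ← hj2, sq]
          group
        exact (mul_inv_eq_iff_eq_mul.1 h1).symm
      have hec : IsConj z e := by
        obtain ⟨i, hi2, hiodd⟩ := Isolated.exists_sqrt (k := r⁻¹) (by rwa [orderOf_inv])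
        refine hdc.trans (isConj_iff.2 ⟨r⁻¹ ^ i, ?_⟩)
        have hri : d * r⁻¹ * d⁻¹ = (r⁻¹)⁻¹ := by rw [← conj_inv, hdr]
        rw [Isolated.conj_eq_sq_mul hd2 (Isolated.pow_inverted hri i), hi2, he]
        rw [← hdr, hdi, mul_assoc (d * r), hdd, mul_one]
      have he2 : orderOf e = 2 := by
        obtain ⟨y, hy⟩ := isConj_iff.1 hec
        rw [← hy, Involutions.Basic.orderOf_conj, hz2]
      obtain ⟨k, hkmem, hkodd, hkz, hke⟩ := Isolated.exists_transporter hz2 he2
        (Isolated.odd_orderOf_mul hz hec (IsConj.refl z))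
      have hks : Commute k s := by
        obtain ⟨i, rfl⟩ := Subgroup.mem_zpowers_iff.1 hkmem
        exact (hse.mul_left hsz.symm).zpow_left i
      have her : e * r⁻¹ * e⁻¹ = r := by
        rw [he, show d * r * r⁻¹ * (d * r)⁻¹ = d * r⁻¹ * d⁻¹ by group, ← conj_inv, hdr, inv_inv]
      set m := k⁻¹ * r * k with hm
      have hmz : z * m * z⁻¹ = m⁻¹ := by
        have h1 : e = k * z * k⁻¹ := hke.symm
        rw [hm, show z * (k⁻¹ * r * k) * z⁻¹ = k⁻¹ * ((k * z * k⁻¹) * r * (k * z * k⁻¹)⁻¹) * k by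
          group, ← h1, show e * r * e⁻¹ = r⁻¹ by rw [← inv_inj, inv_inv, show (e * r * e⁻¹)⁻¹ = e * r⁻¹ * e⁻¹ by group, her]]
        group
      have hms : Commute m (s * z) := (hB m hmz).2 (by
        have h1 : s * k * s⁻¹ = k := mul_inv_eq_iff_eq_mul.2 hks.symm.eq
        rw [hm, show s * (k⁻¹ * r * k) * s⁻¹ = (s * k * s⁻¹)⁻¹ * (s * r * s⁻¹) * (s * k * s⁻¹) by
          group, h1, hsr]
        group)
      have hmodd : Odd (orderOf m) := by
        rw [hm, show k⁻¹ * r * k = k⁻¹ * r * k⁻¹⁻¹ by group, Involutions.Basic.orderOf_conj]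
        exact hjodd
      refine ⟨(⟨k, hkodd, hkz, hks⟩, ⟨m, hmodd, hmz, hms⟩), (hcoset _ _).2 ?_⟩
      rw [hfz]
      simp only
      rw [hm, show k * (k⁻¹ * r * k * z) * k⁻¹ = r * (k * z * k⁻¹) by group, hke, he, ← mul_assoc,
        ← hddef]
      have h2 : r * d = d * r⁻¹ := by
        rw [← hdr]
        rw [hdi, ← mul_assoc, ← mul_assoc, hdd, one_mul]
      rw [h2, inv_mul_cancel_right]
  have hAB := Nat.card_eq_of_bijective f hf
  rw [← Subgroup.index_eq_card, Nat.card_prod] at hAB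
  rw [← C.card_mul_index, ← hAB, mul_assoc, mul_comm (Nat.card A)]

end Cfsg.Agent.Involutions.IsolatedResidual
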