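import Mathlib
import Cfsg.Agent.Lib.Involutions.WreathedAut
import Cfsg.Agent.Lib.Transfer.Frobenius

/-!
# Fusion of the subgroups of order four of a quaternion Sylow subgroup
-/

set_option linter.style.haveILetI false

namespace Cfsg.Agent.Involutions.QuaternionSylow

open Cfsg.Agent.Transfer

theorem q8_facts :
    (∀ a b : QuaternionGroup 2, a * a = 1 → b * b = 1 → a ≠ 1 → b ≠ 1 → a = b) ∧
      (∀ a : QuaternionGroup 2, a * a ≠ 1 → a * a * (a * a) = 1) ∧
      (∀ a b c d : QuaternionGroup 2, a * a ≠ 1 → b * b ≠ 1 → c * c ≠ 1 → d * d ≠ 1 →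
        ¬ (a ≠ b ∧ a ≠ b⁻¹ ∧ a ≠ c ∧ a ≠ c⁻¹ ∧ a ≠ d ∧ a ≠ d⁻¹ ∧ b ≠ c ∧ b ≠ c⁻¹ ∧ b ≠ d ∧
          b ≠ d⁻¹ ∧ c ≠ d ∧ c ≠ d⁻¹)) ∧
      (∀ a b g : QuaternionGroup 2, a * a ≠ 1 → b * b ≠ 1 → b ≠ a → b ≠ a⁻¹ →
        g * g ≠ 1 → g ≠ a → g ≠ a⁻¹ → g ≠ b → g ≠ b⁻¹ → g = a * b ∨ g = b * a) := by
  refine ⟨?_, ?_, ?_, ?_⟩ <;> decide

universe u

variable {X : Type*} [Group X] (e : X ≃* QuaternionGroup 2)

include e

theorem involution_unique {a b : X} (ha : a * a = 1) (hb : b * b = 1) (ha1 : a ≠ 1) (hb1 : b ≠ 1) :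
    a = b :=
  e.injective (q8_facts.1 _ _ (by rw [← map_mul, ha, map_one]) (by rw [← map_mul, hb, map_one])
    (by rwa [Ne, map_eq_one_iff _ e.injective]) (by rwa [Ne, map_eq_one_iff _ e.injective]))

theorem pow_four {a : X} (ha : a * a ≠ 1) : orderOf a = 4 := by
  have h4 : a ^ 4 = 1 := e.injective (by
    rw [map_pow, map_one, show e a ^ 4 = e a * e a * (e a * e a) by simp only [pow_succ, pow_zero, one_mul, mul_assoc]]
    exact q8_facts.2.1 _ (by rwa [← map_mul, Ne, map_eq_one_iff _ e.injective]))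
  exact orderOf_eq_prime_pow (p := 2) (n := 1) (by rwa [pow_one, sq]) h4

/-- A subgroup of order four is generated by an element of order four. -/
theorem exists_generator {A : Subgroup X} (hA : Nat.card A = 4) :
    ∃ a, a * a ≠ 1 ∧ A = Subgroup.zpowers a := by
  haveI := Finite.of_equiv _ e.symm.toEquiv
  by_contra hcon
  push Not at hcon
  have hsq : ∀ a ∈ A, a * a = 1 := fun a ha => by
    by_contra hne
    refine hcon a hne (Subgroup.eq_of_le_of_card_ge (Subgroup.zpowers_le.2 ha) ?_).symm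
    rw [hA, Nat.card_zpowers, pow_four e hne]
  classical
  haveI := Fintype.ofFinite A
  obtain ⟨x, y, z, hxy, hxz, hyz⟩ := (Fintype.two_lt_card_iff (α := A)).1
    (by rw [← Nat.card_eq_fintype_card, hA]; norm_num)
  have hne : ∀ u v : A, (u : X) ≠ 1 → (v : X) ≠ 1 → u = v := fun u v hu hv =>
    Subtype.ext (involution_unique e (hsq _ u.2) (hsq _ v.2) hu hv)
  by_cases hx : (x : X) = 1
  · exact hyz (hne y z (fun h => hxy (Subtype.ext (hx.trans h.symm)))
      (fun h => hxz (Subtype.ext (hx.trans h.symm))))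
  · by_cases hy : (y : X) = 1
    · exact hxz (hne x z hx (fun h => hyz (Subtype.ext (hy.trans h.symm))))
    · exact hxy (hne x y hx hy)

theorem isCyclic_of_ne_top {A : Subgroup X} (hA : A ≠ ⊤) : IsCyclic A := by
  haveI := Finite.of_equiv _ e.symm.toEquiv
  have h8 : Nat.card X = 2 ^ 3 := by
    rw [Nat.card_congr e.toEquiv, Nat.card_eq_fintype_card, QuaternionGroup.card]
    norm_num
  obtain ⟨k, hk, hAk⟩ := (Nat.dvd_prime_pow Nat.prime_two).1 (h8 ▸ A.card_subgroup_dvd_card)
  interval_cases k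
  · exact isCyclic_of_card_dvd_prime (p := 2) (by rw [hAk]; norm_num)
  · haveI := Fact.mk Nat.prime_two
    exact isCyclic_of_prime_card (p := 2) (by rw [hAk, pow_one])
  · obtain ⟨a, -, rfl⟩ := exists_generator e (by rw [hAk]; norm_num)
    infer_instance
  · exact absurd (Subgroup.eq_top_of_card_eq A (by rw [hAk, h8])) hA

/-- An automorphism of odd order other than the identity permutes the cyclic subgroups of order
four transitively. -/
theorem exists_pow_map {σ : MulAut X} (ho : Odd (orderOf σ)) (hσ : σ ≠ 1) {a b : X}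
    (ha : a * a ≠ 1) (hb : b * b ≠ 1) :
    ∃ k : ℕ, (σ ^ k) a = b ∨ (σ ^ k) a = b⁻¹ := by
  haveI := Finite.of_equiv _ e.symm.toEquiv
  have hX : IsPGroup 2 X := IsPGroup.of_card (n := 3) (by
    rw [Nat.card_congr e.toEquiv, Nat.card_eq_fintype_card, QuaternionGroup.card]; norm_num)
  have hsq : ∀ g : X, g * g ≠ 1 → e g * e g ≠ 1 := fun g hg => by
    rwa [← map_mul, Ne, map_eq_one_iff _ e.injective]
  have hm : ∀ g (τ : MulAut X), g * g ≠ 1 → τ g * τ g ≠ 1 := fun g τ hg => by
    rwa [← map_mul, Ne, map_eq_one_iff _ τ.injective]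
  have hz : ∀ g, σ g = g⁻¹ → σ g = g := fun g hg =>
    Wreathed.fix_of_mem_zpowers hX ho (hg ▸ inv_mem (Subgroup.mem_zpowers g))
  have ho2 : Odd (orderOf (σ ^ 2)) := ho.of_dvd_nat (orderOf_pow_dvd 2)
  have hz2 : ∀ g, (σ ^ 2) g = g⁻¹ → (σ ^ 2) g = g := fun g hg =>
    Wreathed.fix_of_mem_zpowers hX ho2 (hg ▸ inv_mem (Subgroup.mem_zpowers g))
  have hhalf : ∀ g, (σ ^ 2) g = g → σ g = g := fun g hg => by
    obtain ⟨j, hj⟩ := ho
    have h1 : ∀ i, ((σ ^ 2) ^ i) g = g := fun i => by
      induction i with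
      | zero => rfl
      | succ i ih => rw [pow_succ', MulAut.mul_apply, ih, hg]
    have h2 := h1 (j + 1)
    rwa [← pow_mul, show 2 * (j + 1) = orderOf σ + 1 by omega, pow_succ', pow_orderOf_eq_one,
      mul_one] at h2
  -- no element of order four is fixed
  have hfree : ∀ g, g * g ≠ 1 → σ g ≠ g := by
    intro g hg hfix
    refine hσ (MulEquiv.ext fun x => ?_)
    show σ x = x
    have hall : ∀ x, x * x ≠ 1 → σ x = x := by
      intro x hx
      by_cases h1 : x = g
      · rw [h1, hfix]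
      by_cases h2 : x = g⁻¹
      · rw [h2, map_inv, hfix]
      refine hhalf x ?_
      by_cases h3 : σ x = x ∨ σ x = x⁻¹
      · have h := h3.elim id (hz x)
        rw [sq, MulAut.mul_apply, h, h]
      push Not at h3
      have h4 : σ x ≠ g := fun h => h1 (σ.injective (h.trans hfix.symm))
      have h5 : σ x ≠ g⁻¹ := fun h => h2 (σ.injective (by rw [h, map_inv, hfix]))
      have := q8_facts.2.2.2 (e g) (e x) (e (σ x)) (hsq g hg) (hsq x hx) (e.injective.ne h1)
        (by rw [← map_inv]; exact e.injective.ne h2) (hsq _ (hm x σ hx)) (e.injective.ne h4)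
        (by rw [← map_inv]; exact e.injective.ne h5) (e.injective.ne h3.1)
        (by rw [← map_inv]; exact e.injective.ne h3.2)
      rw [← map_mul, ← map_mul, e.injective.eq_iff, e.injective.eq_iff] at this
      by_cases h6 : (σ ^ 2) x = x ∨ (σ ^ 2) x = x⁻¹
      · exact h6.elim id (hz2 x)
      exfalso
      push Not at h6
      have e6 : (σ ^ 2) x = g * (g * x) ∨ (σ ^ 2) x = x * g * g := by
        rw [sq, MulAut.mul_apply]
        rcases this with h | h
        · left; rw [h, map_mul, hfix, h]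
        · right; rw [h, map_mul, hfix, h]
      have hgg : (g * g) * (g * g) = 1 := by
        have := q8_facts.2.1 (e g) (hsq g hg)
        rwa [← map_mul, ← map_mul, map_eq_one_iff _ e.injective] at this
      have hxx : (x * x) * (x * x) = 1 := by
        have := q8_facts.2.1 (e x) (hsq x hx)
        rwa [← map_mul, ← map_mul, map_eq_one_iff _ e.injective] at this
      have heq : g * g = x * x := involution_unique e hgg hxx hg hx
      rcases e6 with h | h
      · refine h6.2 (h.trans (eq_inv_of_mul_eq_one_left ?_))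
        rw [← mul_assoc g g x, heq, mul_assoc, hxx]
      · refine h6.2 (h.trans (eq_inv_of_mul_eq_one_left ?_))
        rw [mul_assoc x g g, heq, mul_assoc x (x * x) x, mul_assoc x x x, ← mul_assoc x x (x * x),
          hxx]
    by_cases hx : x * x = 1
    · by_cases hx1 : x = 1
      · rw [hx1, map_one]
      · have hgg : (g * g) * (g * g) = 1 := by
          have := q8_facts.2.1 (e g) (hsq g hg)
          rwa [← map_mul, ← map_mul, map_eq_one_iff _ e.injective] at this
        rw [involution_unique e hx hgg hx1 hg, map_mul, hfix]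
    · exact hall x hx
  have hno : ∀ g, g * g ≠ 1 → σ g ≠ g⁻¹ := fun g hg h => hfree g hg (hz g h)
  have hno2 : ∀ g, g * g ≠ 1 → (σ ^ 2) g ≠ g ∧ (σ ^ 2) g ≠ g⁻¹ := fun g hg =>
    ⟨fun h => hfree g hg (hhalf g h), fun h => hfree g hg (hhalf g (hz2 g h))⟩
  by_contra hcon
  push Not at hcon
  have c0 := hcon 0
  have c1 := hcon 1
  have c2 := hcon 2
  rw [pow_zero, MulAut.one_apply] at c0
  rw [pow_one] at c1
  have hne : ∀ u v : X, u ≠ v → e u ≠ e v := fun u v h => e.injective.ne h
  have hni : ∀ u v : X, u ≠ v⁻¹ → e u ≠ (e v)⁻¹ := fun u v h => by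
    rw [← map_inv]; exact e.injective.ne h
  refine q8_facts.2.2.1 (e a) (e (σ a)) (e ((σ ^ 2) a)) (e b) (hsq a ha) (hsq _ (hm a σ ha))
    (hsq _ (hm a _ ha)) (hsq b hb)
    ⟨hne _ _ (hfree a ha).symm, hni _ _ fun h => hno a ha ?_, hne _ _ (hno2 a ha).1.symm,
      hni _ _ fun h => (hno2 a ha).2 ?_, hne _ _ c0.1, hni _ _ c0.2, hne _ _ fun h => ?_,
      hni _ _ fun h => ?_, hne _ _ c1.1, hni _ _ c1.2, hne _ _ c2.1, hni _ _ c2.2⟩
  · rw [eq_comm, inv_eq_iff_eq_inv]; exact h
  · rw [eq_comm, inv_eq_iff_eq_inv]; exact h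
  · rw [sq, MulAut.mul_apply, σ.injective.eq_iff] at h
    exact hfree a ha h.symm
  · rw [sq, MulAut.mul_apply, ← map_inv, σ.injective.eq_iff] at h
    exact hno a ha (by rw [eq_comm, inv_eq_iff_eq_inv]; exact h)

omit e

variable {G : Type u} [Group G] [Finite G]

/-- Without a normal `2`-complement the normaliser of a quaternion Sylow subgroup permutes its
subgroups of order four transitively. -/
theorem exists_normalizer_map (S : Sylow 2 G) (e : (S : Subgroup G) ≃* QuaternionGroup 2)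
    (hnc : ∀ N : Subgroup G, N.Normal → ¬ Subgroup.IsComplement' N (S : Subgroup G))
    (A B : Subgroup G) (hA : A ≤ S) (hB : B ≤ S) (hA4 : Nat.card A = 4) (hB4 : Nat.card B = 4) :
    ∃ n ∈ Subgroup.normalizer ((S : Subgroup G) : Set G),
      B = A.map (MulAut.conj n).toMonoidHom := by
  classical
  obtain ⟨g, hgN, hgo, hgC⟩ : ∃ g ∈ Subgroup.normalizer ((S : Subgroup G) : Set G),
      (orderOf g).Coprime 2 ∧ g ∉ Subgroup.centralizer ((S : Subgroup G) : Set G) := by
    by_contra hcon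
    push Not at hcon
    have hc : Frobenius.Condition 2 G := Frobenius.Condition.of_sylow S fun Q hQ g hg ho => by
      rcases eq_or_ne Q (S : Subgroup G) with rfl | hne
      · exact hcon g hg ho
      have hcyc : IsCyclic (Q.subgroupOf (S : Subgroup G)) := isCyclic_of_ne_top e fun h =>
        hne (le_antisymm hQ (Subgroup.subgroupOf_eq_top.1 h))
      haveI : IsCyclic Q :=
        (Subgroup.subgroupOfEquivOfLe hQ).isCyclic.1 hcyc
      set σ := Subgroup.normalizerMonoidHom Q ⟨g, hg⟩ with hσdef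
      have ho' : Odd (orderOf σ) := (Nat.coprime_two_right.1 ho).of_dvd_nat (by
        refine (orderOf_map_dvd _ _).trans ?_
        rw [Subgroup.orderOf_mk])
      have hQp : IsPGroup 2 Q := S.isPGroup'.to_le hQ
      haveI : IsCyclic (⊤ : Subgroup Q) := Subgroup.topEquiv.isCyclic.2 ‹_›
      have h1 : σ = 1 := MulEquiv.ext fun x =>
        Wreathed.fix_of_cyclic hQp ho' (H := ⊤) ‹_› (fun _ _ => Subgroup.mem_top _)
          (Subgroup.mem_top x)
      have h2 : (⟨g, hg⟩ : Subgroup.normalizer (Q : Set G)) ∈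
          (Subgroup.normalizerMonoidHom Q).ker := h1
      rw [Subgroup.normalizerMonoidHom_ker] at h2
      exact h2
    obtain ⟨N, hN, hN'⟩ := (NormalPComplement.hasNormalPComplement_iff_sylow S).1
      (Frobenius.hasNormalPComplement_of_condition hc)
    exact hnc N hN hN'
  set σ := Subgroup.normalizerMonoidHom (S : Subgroup G) ⟨g, hgN⟩ with hσdef
  have ho : Odd (orderOf σ) := (Nat.coprime_two_right.1 hgo).of_dvd_nat (by
    refine (orderOf_map_dvd _ _).trans ?_
    rw [Subgroup.orderOf_mk])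
  have hσ1 : σ ≠ 1 := fun h => hgC (by
    have h2 : (⟨g, hgN⟩ : Subgroup.normalizer ((S : Subgroup G) : Set G)) ∈
        (Subgroup.normalizerMonoidHom (S : Subgroup G)).ker := h
    rw [Subgroup.normalizerMonoidHom_ker] at h2
    exact h2)
  have hcard : ∀ C : Subgroup G, C ≤ (S : Subgroup G) →
      Nat.card (C.subgroupOf (S : Subgroup G)) = Nat.card C := fun C hC =>
    Nat.card_congr (Subgroup.subgroupOfEquivOfLe hC).toEquiv
  obtain ⟨a, ha, hAa⟩ := exists_generator e ((hcard A hA).trans hA4)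
  obtain ⟨b, hb, hBb⟩ := exists_generator e ((hcard B hB).trans hB4)
  obtain ⟨k, hk⟩ := exists_pow_map e ho hσ1 ha hb
  refine ⟨g ^ k, Subgroup.pow_mem _ hgN k, ?_⟩
  have hco : ∀ C : Subgroup G, C ≤ (S : Subgroup G) → ∀ c : (S : Subgroup G),
      C.subgroupOf (S : Subgroup G) = Subgroup.zpowers c → C = Subgroup.zpowers (c : G) := by
    intro C hC c h
    have h2 := congrArg (Subgroup.map (S : Subgroup G).subtype) h
    rwa [Subgroup.subgroupOf_map_subtype, inf_eq_left.2 hC, MonoidHom.map_zpowers] at h2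
  rw [hco A hA a hAa, hco B hB b hBb, MonoidHom.map_zpowers]
  have hval : (((σ ^ k) a : (S : Subgroup G)) : G) = g ^ k * a * (g ^ k)⁻¹ := by
    rw [hσdef, ← map_pow]
    rfl
  show Subgroup.zpowers (b : G) = Subgroup.zpowers (g ^ k * (a : G) * (g ^ k)⁻¹)
  rw [← hval]
  rcases hk with h | h <;> rw [h]
  rw [InvMemClass.coe_inv, Subgroup.zpowers_inv]

end Cfsg.Agent.Involutions.QuaternionSylow
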