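import Cfsg.Agent.Lib.Involutions.CentralizerInvolution
import Cfsg.Agent.Lib.Involutions.ThompsonTransfer
import Cfsg.Agent.Lib.Perm.CharSimple
import Cfsg.Agent.Lib.Cores.Basic

/-!
# A simple normal subgroup of odd index from a single class of involutions
-/

set_option autoImplicit false

namespace Cfsg.Agent.Involutions.SimpleOddIndex

open Cfsg.Agent.Perm.CharSimple

variable {X : Type*} [Group X] [Finite X]

/-- An involution lies in every group of even order. -/
theorem exists_involution {A : Type*} [Group A] (K : Subgroup A) [Finite K]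
    (hK : Even (Nat.card K)) : ∃ t ∈ K, orderOf t = 2 := by
  haveI : Fact (Nat.Prime 2) := ⟨Nat.prime_two⟩
  obtain ⟨⟨t, ht⟩, h⟩ := exists_prime_orderOf_dvd_card' (G := K) 2 (even_iff_two_dvd.1 hK)
  exact ⟨t, ht, (orderOf_injective K.subtype K.subtype_injective ⟨t, ht⟩).trans h⟩

theorem exists_simple_normal (hO : Cfsg.oddCore X = ⊥) (hX : ∀ H : Subgroup X, H.index ≠ 2)
    (hcl : ∀ s t : X, orderOf s = 2 → orderOf t = 2 → IsConj s t) (S : Sylow 2 X)
    {a b : X} (ha : orderOf a = 2) (hb : orderOf b = 2) (hab : ¬ Commute a b) (u : X)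
    (hgen : (S : Subgroup X) ≤ Subgroup.closure {s : X | orderOf s = 2} ⊔ Subgroup.zpowers u) :
    ∃ L : Subgroup X, L.Normal ∧ Odd L.index ∧ IsSimpleGroup L ∧ ¬ IsMulCommutative L := by
  haveI : Fact (Nat.Prime 2) := ⟨Nat.prime_two⟩
  haveI : Nontrivial X := ⟨⟨a, 1, fun h => by simp [h] at ha⟩⟩
  obtain ⟨N, hNn, hN0, hmin⟩ := exists_isMinNormal (X := X)
  haveI := hNn
  -- `N` has even order, hence contains every involution
  have heven : Even (Nat.card N) := by
    by_contra h
    have := Cores.le_oddCore (Nat.not_even_iff_odd.1 h)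
    rw [hO, le_bot_iff] at this
    exact hN0 this
  obtain ⟨t, htN, ht⟩ := exists_involution N heven
  have hinv : ∀ s : X, orderOf s = 2 → s ∈ N := fun s hs => by
    obtain ⟨g, rfl⟩ := isConj_iff.1 (hcl t s ht hs)
    exact hNn.conj_mem t htN g
  have hna : ¬ IsMulCommutative N := fun h => hab
    (congrArg Subtype.val (h.is_comm.comm ⟨a, hinv a ha⟩ ⟨b, hinv b hb⟩))
  -- `N` is simple
  obtain ⟨m, V, hm, hV, hinj, hind, hsup, hsimple, hconj⟩ :=
    exists_decomposition_minimal_normal N hN0 hmin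
  have hsN : IsSimpleGroup N := by
    by_cases hm1 : m = 1
    · subst hm1
      have h1 : (⨆ i, V i) = V 0 := ciSup_unique
      haveI := hsimple 0
      exact ((MulEquiv.subgroupCongr (h1.symm.trans hsup)).trans
        Subgroup.topEquiv).symm.isSimpleGroup
    exfalso
    let i₀ : Fin m := ⟨0, hm⟩
    let i₁ : Fin m := ⟨1, by omega⟩
    have hne : i₀ ≠ i₁ := by simp [i₀, i₁, Fin.ext_iff]
    -- each factor is non-abelian
    have hnc : ∀ i, ¬ IsMulCommutative (V i) := by
      intro i hi
      refine hna ⟨⟨fun x y => ?_⟩⟩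
      obtain ⟨E⟩ := nonempty_mulEquiv_pi (T := V i) V hV hinj hind hsup fun j => by
        obtain ⟨g, hg⟩ := hconj j i
        exact ⟨(Subgroup.equivMapOfInjective (V j) (MulAut.conjNormal g : MulAut N).toMonoidHom
          (MulAut.conjNormal g : MulAut N).injective).trans (MulEquiv.subgroupCongr hg)⟩
      apply E.injective
      rw [map_mul, map_mul]
      funext j
      exact hi.is_comm.comm _ _
    -- each factor has even order
    have hev : ∀ i, Even (Nat.card (V i)) := by
      intro i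
      obtain ⟨E⟩ := nonempty_mulEquiv_pi (T := V i) V hV hinj hind hsup fun j => by
        obtain ⟨g, hg⟩ := hconj j i
        exact ⟨(Subgroup.equivMapOfInjective (V j) (MulAut.conjNormal g : MulAut N).toMonoidHom
          (MulAut.conjNormal g : MulAut N).injective).trans (MulEquiv.subgroupCongr hg)⟩
      have h := heven
      rw [Nat.card_congr E.toEquiv, Nat.card_pi] at h
      simp only [Finset.prod_const] at h
      exact (Nat.even_pow.1 h).1
    obtain ⟨t₀, ht₀V, ht₀⟩ := exists_involution (V i₀) (hev i₀)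
    obtain ⟨t₁, ht₁V, ht₁⟩ := exists_involution (V i₁) (hev i₁)
    have hVne : V i₀ ≠ V i₁ := fun h => hne (hinj h)
    have hdisj : ∀ x, x ∈ V i₀ → x ∈ V i₁ → x = 1 := fun x h0 h1 => by
      rcases (hV i₀).2.2 (V i₀ ⊓ V i₁) (by
        haveI := (hV i₀).1; haveI := (hV i₁).1; infer_instance) inf_le_left with h | h
      · exact (Subgroup.eq_bot_iff_forall _).1 h x ⟨h0, h1⟩
      · rcases (hV i₁).2.2 (V i₀) (hV i₀).1 (inf_eq_left.1 h) with h' | h'
        · exact ((hV i₀).2.1 h').elim
        · exact (hVne h').elim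
    have hc01 : Commute t₀ t₁ := (hV i₀).commute (hV i₁) hVne t₀ t₁ ht₀V ht₁V
    have h2 : ∀ x : N, orderOf x = 2 → x * x = 1 := fun x hx => by
      rw [← sq, ← hx, pow_orderOf_eq_one]
    have hp : orderOf (t₀ * t₁) = 2 := by
      refine orderOf_eq_prime ?_ fun h => ?_
      · rw [hc01.mul_pow, sq, sq, h2 _ ht₀, h2 _ ht₁, one_mul]
      · have e : t₀ = 1 := hdisj t₀ ht₀V (by
          rw [eq_inv_of_mul_eq_one_left h]; exact inv_mem ht₁V)
        simp [e] at ht₀
    have hval : ∀ x : N, orderOf (x : X) = orderOf x := fun x =>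
      orderOf_injective N.subtype N.subtype_injective x
    obtain ⟨g, hg⟩ := isConj_iff.1
      (hcl (t₀ : X) ((t₀ * t₁ : N) : X) ((hval _).trans ht₀) ((hval _).trans hp))
    have hW := (hV i₀).map (MulAut.conjNormal g : MulAut N)
    have hmemW : t₀ * t₁ ∈ (V i₀).map (MulAut.conjNormal g : MulAut N).toMonoidHom :=
      ⟨t₀, ht₀V, Subtype.ext ((MulAut.conjNormal_apply g t₀).trans hg)⟩
    have hWne : (V i₀).map (MulAut.conjNormal g : MulAut N).toMonoidHom ≠ V i₀ := by
      intro h
      rw [h] at hmemW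
      have e : t₁ = 1 := hdisj t₁ (by
        simpa [mul_assoc] using mul_mem (inv_mem ht₀V) hmemW) ht₁V
      simp [e] at ht₁
    -- `t₀` is central in `V i₀`
    have hcen : (⟨t₀, ht₀V⟩ : V i₀) ∈ Subgroup.center (V i₀) := by
      refine Subgroup.mem_center_iff.2 fun v => Subtype.ext ?_
      show (v : N) * t₀ = t₀ * v
      have e1 : Commute (t₀ * t₁) (v : N) := hW.commute (hV i₀) hWne _ _ hmemW v.2
      have e2 : Commute t₁⁻¹ (v : N) := ((hV i₁).commute (hV i₀) hVne.symm _ _ ht₁V v.2).inv_left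
      have e3 := (e1.mul_left e2).eq
      rw [mul_inv_cancel_right] at e3
      exact e3.symm
    haveI := hsimple i₀
    rcases (inferInstance : (Subgroup.center (V i₀)).Normal).eq_bot_or_eq_top with h | h
    · rw [h, Subgroup.mem_bot] at hcen
      have e : t₀ = 1 := congrArg Subtype.val hcen
      simp [e] at ht₀
    · exact hnc i₀ ⟨⟨fun x y =>
        (Subgroup.mem_center_iff.1 (h ▸ Subgroup.mem_top x : x ∈ Subgroup.center (V i₀)) y).symm⟩⟩
  -- the quotient has cyclic Sylow 2-subgroup
  refine ⟨N, hNn, ?_, hsN, hna⟩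
  by_contra hodd
  have hq : Function.Surjective (QuotientGroup.mk' N) := QuotientGroup.mk'_surjective N
  let T : Sylow 2 (X ⧸ N) := S.mapSurjective hq
  have hT : IsCyclic (T : Subgroup (X ⧸ N)) := by
    refine Subgroup.isCyclic_of_le (H' := Subgroup.zpowers (QuotientGroup.mk' N u)) ?_
    rintro _ ⟨s, hs, rfl⟩
    have hle : (S : Subgroup X) ≤
        (Subgroup.zpowers (QuotientGroup.mk' N u)).comap (QuotientGroup.mk' N) := by
      refine hgen.trans (sup_le ((Subgroup.closure_le _).2 fun s hs => ?_) ?_)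
      · show QuotientGroup.mk' N s ∈ Subgroup.zpowers (QuotientGroup.mk' N u)
        have h1 : QuotientGroup.mk' N s = 1 := (QuotientGroup.eq_one_iff s).2 (hinv s hs)
        rw [h1]
        exact one_mem _
      · rw [Subgroup.zpowers_le]
        exact Subgroup.mem_zpowers _
    exact hle hs
  obtain ⟨H, hH⟩ := ThompsonTransfer.exists_index_two_of_isCyclic_sylow
    (by rw [← Subgroup.index_eq_card]; exact Nat.not_odd_iff_even.1 hodd) T hT
  exact hX _ ((Subgroup.index_comap_of_surjective H hq).trans hH)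

variable {G : Type*} [Group G] [Finite G]

theorem inf_oddCore (S : Sylow 2 G) {s : G} (hs : s ∈ (S : Subgroup G))
    (hs' : s ∈ Cfsg.oddCore G) : s = 1 := by
  haveI : Fact (Nat.Prime 2) := ⟨Nat.prime_two⟩
  obtain ⟨k, hk⟩ := IsPGroup.iff_card.1 S.isPGroup'
  have hd : Disjoint (S : Subgroup G) (Cfsg.oddCore G) :=
    Subgroup.disjoint_of_coprime_natCard (by
      rw [hk]; exact (Nat.coprime_two_left.2 Cores.oddCore_odd).pow_left k)
  exact Subgroup.disjoint_def.1 hd hs hs'

/-- The image of a Sylow 2-subgroup modulo the odd core. -/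
noncomputable def coreEquiv (S : Sylow 2 G) :
    (S : Subgroup G) ≃*
      ((S.mapSurjective (QuotientGroup.mk'_surjective (Cfsg.oddCore G)) :
        Sylow 2 (G ⧸ Cfsg.oddCore G)) : Subgroup (G ⧸ Cfsg.oddCore G)) :=
  MulEquiv.ofBijective ((QuotientGroup.mk' (Cfsg.oddCore G)).subgroupMap (S : Subgroup G))
    ⟨fun a b h => Subtype.ext (by
      have h' : ((a : G) : G ⧸ Cfsg.oddCore G) = ((b : G) : G ⧸ Cfsg.oddCore G) :=
        congrArg Subtype.val h
      exact inv_mul_eq_one.1 (inf_oddCore S (mul_mem (inv_mem a.2) b.2) (QuotientGroup.eq.1 h'))),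
      MonoidHom.subgroupMap_surjective _ _⟩

theorem no_index_two_quotient (hG : ∀ H : Subgroup G, H.index ≠ 2) :
    ∀ H : Subgroup (G ⧸ Cfsg.oddCore G), H.index ≠ 2 := fun H h =>
  hG _ ((Subgroup.index_comap_of_surjective H (QuotientGroup.mk'_surjective _)).trans h)

theorem qd_case {S : Sylow 2 X} (D : QuasiDihedral.Gens (S : Subgroup X))
    (hO : Cfsg.oddCore X = ⊥) (hX : ∀ H : Subgroup X, H.index ≠ 2) :
    ∃ L : Subgroup X, L.Normal ∧ Odd L.index ∧ IsSimpleGroup L ∧ ¬ IsMulCommutative L := by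
  have ho : ∀ s : (S : Subgroup X), orderOf (s : X) = orderOf s := fun s =>
    orderOf_injective (S : Subgroup X).subtype Subtype.coe_injective s
  refine exists_simple_normal hO hX (fun s t hs ht =>
    (CentralizerInvolution.qd_one_class D hX hs).trans
      (CentralizerInvolution.qd_one_class D hX ht).symm) S
    (a := (D.q 0 : X)) (b := (D.q 2 : X))
    ((ho _).trans (D.orderOf_q_even ⟨0, (add_zero 0).symm⟩))
    ((ho _).trans (D.orderOf_q_even ⟨1, one_add_one_eq_two.symm⟩)) ?_ (D.x : X) ?_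
  · intro h
    have h' : D.q 0 * D.q 2 = D.q 2 * D.q 0 := Subtype.ext h.eq
    rw [D.q_mul_q, D.q_mul_q, D.P_inj, zero_add, mul_zero, add_zero,
      D.r_mul_even ⟨1, one_add_one_eq_two.symm⟩] at h'
    have h4 : (2 : ℤ) ^ D.n ∣ 4 :=
      (QuasiDihedral.intCast_eq_zero 4).1 (by push_cast; linear_combination -h')
    have h5 := Int.le_of_dvd (by norm_num) h4
    have h6 : (2 : ℤ) ^ 3 ≤ 2 ^ D.n := pow_le_pow_right₀ (by norm_num) D.hn
    linarith [h5, h6]
  · intro s hs
    have hx : Subgroup.closure {v : (S : Subgroup X) | orderOf v = 2} ⊔ Subgroup.zpowers D.x = ⊤ := by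
      rw [D.closure_involutions]
      refine (D.isCoatom_half 0).2 _ (lt_of_le_of_ne le_sup_left fun e => ?_)
      have : D.x ∈ D.half 0 := e ▸ Subgroup.mem_sup_right (Subgroup.mem_zpowers _)
      rw [← D.P_one, D.P_mem_half] at this
      exact D.not_even_one this
    have hmap : Subgroup.map (S : Subgroup X).subtype
        (Subgroup.closure {v : (S : Subgroup X) | orderOf v = 2} ⊔ Subgroup.zpowers D.x) ≤
          Subgroup.closure {v : X | orderOf v = 2} ⊔ Subgroup.zpowers (D.x : X) := by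
      rw [Subgroup.map_sup, MonoidHom.map_closure, MonoidHom.map_zpowers]
      refine sup_le_sup (Subgroup.closure_mono ?_) le_rfl
      rintro _ ⟨v, hv, rfl⟩
      exact (ho v).trans hv
    exact hmap ⟨⟨s, hs⟩, hx ▸ Subgroup.mem_top _, rfl⟩

theorem w_case {S : Sylow 2 X} (D : Wreathed.Gens (S : Subgroup X))
    (hO : Cfsg.oddCore X = ⊥) (hX : ∀ H : Subgroup X, H.index ≠ 2) :
    ∃ L : Subgroup X, L.Normal ∧ Odd L.index ∧ IsSimpleGroup L ∧ ¬ IsMulCommutative L := by
  have ho : ∀ s : (S : Subgroup X), orderOf (s : X) = orderOf s := fun s =>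
    orderOf_injective (S : Subgroup X).subtype Subtype.coe_injective s
  obtain ⟨hU, hXm⟩ := CentralizerInvolution.w_moves D hX
  have hcl : ∀ s : X, orderOf s = 2 → IsConj s (WreathedClasses.eG D) := fun s hs => by
    rcases WreathedClasses.inv_cases D hs with h | h | h
    · exact h.trans (WreathedClasses.isConj_ι_e D hU)
    · exact h
    · exact h.trans (WreathedClasses.isConj_e_w D hXm).symm
  refine exists_simple_normal hO hX (fun s t hs ht => (hcl s hs).trans (hcl t ht).symm) S
    (a := (D.w 0 (-0) : X)) (b := (D.U 0 D.h : X)) ((ho _).trans (D.orderOf_w_neg 0))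
    ((ho _).trans (D.orderOf_U_two ⟨add_zero 0, D.h_add_h⟩ fun e => D.h_ne_zero e.2)) ?_
    (D.U 1 0 : X) ?_
  · intro h
    have h' : Commute (D.U 0 D.h) (D.w 0 (-0)) := Subtype.ext h.eq.symm
    exact D.h_ne_zero (D.commute_U_w.1 h').symm
  · intro s hs
    have hx : Subgroup.closure {v : (S : Subgroup X) | orderOf v = 2} ⊔
        Subgroup.zpowers (D.U 1 0) = ⊤ := by
      rw [D.closure_involutions]; exact D.sup_invSub
    have hmap : Subgroup.map (S : Subgroup X).subtype
        (Subgroup.closure {v : (S : Subgroup X) | orderOf v = 2} ⊔ Subgroup.zpowers (D.U 1 0)) ≤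
          Subgroup.closure {v : X | orderOf v = 2} ⊔ Subgroup.zpowers (D.U 1 0 : X) := by
      rw [Subgroup.map_sup, MonoidHom.map_closure, MonoidHom.map_zpowers]
      refine sup_le_sup (Subgroup.closure_mono ?_) le_rfl
      rintro _ ⟨v, hv, rfl⟩
      exact (ho v).trans hv
    exact hmap ⟨⟨s, hs⟩, hx ▸ Subgroup.mem_top _, rfl⟩

end Cfsg.Agent.Involutions.SimpleOddIndex
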